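import Cfsg.Agent.S0936
import Cfsg.Agent.S4492
import Cfsg.Agent.S4646
import Cfsg.Agent.S4691
import Cfsg.Agent.Lib.Blocks.StableOver
import Cfsg.Agent.Lib.BrouePuig.LocalRank
import Cfsg.Agent.Lib.BrauerPairs.Maximal
import Cfsg.Agent.Lib.BrauerPairs.Subpair
import Cfsg.Agent.Lib.Fusion.PSolvable
import Cfsg.Agent.Lib.Components.PComponents
import Mathlib.GroupTheory.FixedPointFree

/-!
# Blocks with `k(B) - l(B) = 1`

All nonidentity elements of a defect group of such a block are conjugate. For the principal block the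
centralizers of `p`-elements have normal `p`-complements and an inverting element of two-power order
makes the Sylow subgroup abelian; for `p`-solvable groups one reduces along Fong–Reynolds to a block
with Sylow defect group.
-/

set_option autoImplicit false
set_option maxHeartbeats 800000

namespace CfsgLib.DegreeTools.DeficiencyOne

open Cfsg CfsgLib.Blocks CfsgLib.BrauerPairs CfsgLib.BrouePuig
open scoped Classical ComplexConjugate

universe u

variable {p : ℕ} [Fact p.Prime] {M : Ideal AlgInt} {G : Type u} [Group G] [Fintype G]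
  {B : Set (IrrCharacter G)}

theorem one_le_blockRank (hM : IsPModular p M) (hB : IsPBlock M B) : 1 ≤ blockRank p B := by
  obtain ⟨χ, hχ⟩ := IsPBlock.nonempty hM hB
  rw [blockRank, Nat.one_le_iff_ne_zero, ← Nat.pos_iff_ne_zero, Module.finrank_pos_iff,
    Submodule.nontrivial_iff_ne_bot, Ne, Submodule.span_eq_bot]
  intro h
  have h1 := congrFun (h _ ⟨χ, hχ, rfl⟩) 1
  simp only at h1
  rw [pRegularPart_apply, if_pos (show IsPRegular p (1 : G) by
    rw [IsPRegular, orderOf_one]; exact hM.1.not_dvd_one)] at h1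
  exact irr_one_ne_zero χ h1

/-- The block itself is a subsection at the identity. -/
theorem exists_section_one (hM : IsPModular p M) (hB : IsPBlock M B) :
    ∃ b : Set (IrrCharacter (Subgroup.centralizer ({(1 : G)} : Set G))),
      IsInducedBlock M (Subgroup.centralizer ({(1 : G)} : Set G)) b B ∧
        blockRank p b = blockRank p B := by
  have htop : Subgroup.centralizer ({(1 : G)} : Set G) = ⊤ := eq_top_iff.2 fun x _ => by
    rw [Subgroup.mem_centralizer_singleton_iff, mul_one, one_mul]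
  let φ : Subgroup.centralizer ({(1 : G)} : Set G) ≃* G :=
    (MulEquiv.subgroupCongr htop).trans Subgroup.topEquiv
  refine ⟨irrEquiv φ '' B, ⟨isPBlock_image φ hB, hB, ?_⟩, blockRank_image φ B⟩
  rintro _ ⟨ξ, hξ, rfl⟩ χ hχ g
  have e : inducedCentralChar (Subgroup.centralizer ({(1 : G)} : Set G))
      ((irrEquiv φ ξ : IrrCharacter (Subgroup.centralizer ({(1 : G)} : Set G))) :
        Subgroup.centralizer ({(1 : G)} : Set G) → ℂ) g = centralChar (ξ : G → ℂ) g := by
    rw [inducedCentralChar_eq, ← omega_classInd]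
    simp only [omega, irrEquiv_apply, map_one]
    congr 1
    exact Fintype.sum_equiv φ.toEquiv _ _ fun x => rfl
  rw [e]
  exact IsPBlock.sameBlock hM hB hξ hχ g

/-- Brauer's count bounds the rank together with chosen subsections. -/
theorem rank_add_sum_le (hM : IsPModular p M) (hB : IsPBlock M B) (Y : Finset G) (w : G → ℕ)
    (h1 : (1 : G) ∉ Y) (hY : ∀ y ∈ Y, ∃ k : ℕ, orderOf y = p ^ k)
    (hnc : ∀ y ∈ Y, ∀ y' ∈ Y, IsConj y y' → y = y')
    (hw : ∀ y ∈ Y, ∃ b : Set (IrrCharacter (Subgroup.centralizer ({y} : Set G))),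
      IsInducedBlock M (Subgroup.centralizer ({y} : Set G)) b B ∧ w y ≤ blockRank p b) :
    blockRank p B + ∑ y ∈ Y, w y ≤ Nat.card B := by
  set Z : Finset G := insert 1 Y with hZ_def
  have hZ : ∀ z ∈ Z, ∃ k : ℕ, orderOf z = p ^ k := fun z hz => by
    rcases Finset.mem_insert.1 hz with rfl | h
    · exact ⟨0, by rw [orderOf_one, pow_zero]⟩
    · exact hY z h
  have hnc' : ∀ z ∈ Z, ∀ z' ∈ Z, IsConj z z' → z = z' := fun z hz z' hz' h => by
    rcases Finset.mem_insert.1 hz with rfl | h1'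
    · exact (isConj_one_right.1 h).symm
    · rcases Finset.mem_insert.1 hz' with rfl | h2'
      · exact isConj_one_left.1 h
      · exact hnc z h1' z' h2' h
  set C : Finset (ConjClasses G) := Finset.univ.filter fun c : ConjClasses G =>
    (∃ k : ℕ, orderOf c.out = p ^ k) ∧ ∀ z ∈ Z, ¬ IsConj z c.out
  set X : Finset G := Z ∪ C.image fun c => c.out
  have hout : ∀ g : G, IsConj (ConjClasses.mk g).out g := fun g =>
    ConjClasses.mk_eq_mk_iff_isConj.1 (Quotient.out_eq _)
  have hX : ∀ x ∈ X, ∃ k : ℕ, orderOf x = p ^ k := fun x hx => by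
    rcases Finset.mem_union.1 hx with h | h
    · exact hZ x h
    · obtain ⟨c, hc, rfl⟩ := Finset.mem_image.1 h
      exact (Finset.mem_filter.1 hc).2.1
  have huniq : ∀ x ∈ X, ∀ x' ∈ X, IsConj x x' → x = x' := by
    intro x hx x' hx' h
    rcases Finset.mem_union.1 hx with h1' | h1' <;> rcases Finset.mem_union.1 hx' with h2' | h2'
    · exact hnc' x h1' x' h2' h
    · obtain ⟨c, hc, rfl⟩ := Finset.mem_image.1 h2'
      exact absurd h ((Finset.mem_filter.1 hc).2.2 x h1')
    · obtain ⟨c, hc, rfl⟩ := Finset.mem_image.1 h1'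
      exact absurd h.symm ((Finset.mem_filter.1 hc).2.2 x' h2')
    · obtain ⟨c, hc, rfl⟩ := Finset.mem_image.1 h1'
      obtain ⟨c', hc', rfl⟩ := Finset.mem_image.1 h2'
      refine congrArg Quotient.out ?_
      rw [← Quotient.out_eq c, ← Quotient.out_eq c']
      exact ConjClasses.mk_eq_mk_iff_isConj.2 h
  have hrep : ∀ g : G, (∃ k : ℕ, orderOf g = p ^ k) → ∃! x, x ∈ X ∧ IsConj g x := by
    intro g hg
    obtain ⟨x, hx, hgx⟩ : ∃ x ∈ X, IsConj g x := by
      by_cases h : ∃ z ∈ Z, IsConj g z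
      · obtain ⟨z, hz, hgz⟩ := h
        exact ⟨z, Finset.mem_union_left _ hz, hgz⟩
      · push Not at h
        refine ⟨(ConjClasses.mk g).out, Finset.mem_union_right _ (Finset.mem_image_of_mem _
          (Finset.mem_filter.2 ⟨Finset.mem_univ _, ?_, fun z hz hzc => ?_⟩)), (hout g).symm⟩
        · obtain ⟨u, hu⟩ := isConj_iff.1 (hout g).symm
          rw [← hu]
          show ∃ k : ℕ, orderOf (MulAut.conj u g) = p ^ k
          rwa [MulEquiv.orderOf_eq]
        · exact h z hz ((hzc.trans (hout g)).symm)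
    exact ⟨x, ⟨hx, hgx⟩, fun x' hx' => huniq x' hx'.1 x hx (hx'.2.symm.trans hgx)⟩
  rw [card_eq_sum_blockRank hM hB hX hrep]
  refine le_trans ?_ (Finset.sum_le_sum_of_subset (Finset.subset_union_left (s₂ := C.image _)))
  rw [hZ_def, Finset.sum_insert h1]
  refine Nat.add_le_add ?_ (Finset.sum_le_sum fun y hy => ?_)
  · obtain ⟨b, hb, hr⟩ := exists_section_one hM hB
    rw [← hr, finsum_mem_eq_toFinset_sum]
    exact Finset.single_le_sum (f := fun b' => blockRank p b') (fun _ _ => Nat.zero_le _)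
      (Set.mem_toFinset.2 hb)
  · obtain ⟨b, hb, hr⟩ := hw y hy
    refine hr.trans ?_
    rw [finsum_mem_eq_toFinset_sum]
    exact Finset.single_le_sum (f := fun b' => blockRank p b') (fun _ _ => Nat.zero_le _)
      (Set.mem_toFinset.2 hb)

/-- Every element of a defect group gives a subsection. -/
theorem exists_section (hM : IsPModular p M) (hB : IsPBlock M B) {D : Subgroup G}
    (hD : IsDefectGroup p M B D) {x : G} (hx : x ∈ D) :
    ∃ b : Set (IrrCharacter (Subgroup.centralizer ({x} : Set G))),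
      IsInducedBlock M (Subgroup.centralizer ({x} : Set G)) b B ∧ 1 ≤ blockRank p b := by
  suffices h : ∃ b : Set (IrrCharacter (Subgroup.centralizer ({x} : Set G))),
      IsInducedBlock M (Subgroup.centralizer ({x} : Set G)) b B by
    obtain ⟨b, hb⟩ := h
    exact ⟨b, hb, one_le_blockRank hM hb.1⟩
  obtain ⟨g, hg⟩ := exists_pair_of_defectGroup hM hB hD
  obtain ⟨f, hf, -⟩ := existsUnique_below hM hg.1 (Subgroup.zpowers_le.2 hx)
  have h1 := isBrauerPairOf_down hM hf hg
  have h2 := (isBrauerPairOf_iff_induced hM h1.1.1 h1.1.2).1 h1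
  rw [← CfsgLib.Blocks.centralizer_zpowers]
  exact ⟨_, h2⟩

/-- All nonidentity elements of a defect group are conjugate. -/
theorem isConj_of_mem (hM : IsPModular p M) (hB : IsPBlock M B)
    (hk : Nat.card B ≤ blockRank p B + 1) {D : Subgroup G} (hD : IsDefectGroup p M B D)
    {x y : G} (hx : x ∈ D) (hy : y ∈ D) (hx1 : x ≠ 1) (hy1 : y ≠ 1) : IsConj x y := by
  by_contra h
  have hord : ∀ z ∈ D, ∃ k : ℕ, orderOf z = p ^ k := fun z hz => by
    obtain ⟨k, hk'⟩ := IsPGroup.iff_orderOf.1 (isPGroup_defectGroup hD) ⟨z, hz⟩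
    exact ⟨k, by rw [← hk', ← Subgroup.orderOf_coe]⟩
  have hne : x ≠ y := fun e => h (e ▸ IsConj.refl x)
  have hcount := rank_add_sum_le hM hB ({x, y} : Finset G) (fun _ => 1)
    (by simp only [Finset.mem_insert, Finset.mem_singleton]; rintro (h1 | h1)
        · exact hx1 h1.symm
        · exact hy1 h1.symm)
    (fun z hz => by
      rcases Finset.mem_insert.1 hz with rfl | h'
      · exact hord _ hx
      · rw [Finset.mem_singleton.1 h']; exact hord _ hy)
    (fun z hz z' hz' hc => by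
      rcases Finset.mem_insert.1 hz with rfl | h1 <;> rcases Finset.mem_insert.1 hz' with rfl | h2
      · rfl
      · rw [Finset.mem_singleton.1 h2] at hc; exact absurd hc h
      · rw [Finset.mem_singleton.1 h1] at hc; exact absurd hc.symm h
      · rw [Finset.mem_singleton.1 h1, Finset.mem_singleton.1 h2])
    (fun z hz => by
      rcases Finset.mem_insert.1 hz with rfl | h'
      · exact exists_section hM hB hD hx
      · rw [Finset.mem_singleton.1 h']; exact exists_section hM hB hD hy)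
  rw [Finset.sum_pair hne] at hcount
  omega

omit [Fintype G] in
/-- Conjugate elements generate exponent `p`. -/
theorem pow_eq_one_of_conj [Finite G] {D : Subgroup G} (hD : IsPGroup p D)
    (hconj : ∀ x ∈ D, ∀ y ∈ D, x ≠ 1 → y ≠ 1 → IsConj x y) {a : G} (ha : a ∈ D) :
    a ^ p = 1 := by
  by_cases ha1 : a = 1
  · rw [ha1, one_pow]
  haveI : Nontrivial D := ⟨⟨⟨a, ha⟩, 1, fun h => ha1 (congrArg Subtype.val h)⟩⟩
  obtain ⟨n, hn, hcard⟩ := hD.nontrivial_iff_card.1 inferInstance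
  haveI := Fintype.ofFinite D
  obtain ⟨z, hz⟩ := exists_prime_orderOf_dvd_card p (G := D)
    (by rw [← Nat.card_eq_fintype_card, hcard]; exact dvd_pow_self p hn.ne')
  have hzG : orderOf (z : G) = p := by rw [Subgroup.orderOf_coe, hz]
  have hz1 : (z : G) ≠ 1 := fun h => by
    rw [h, orderOf_one] at hzG; exact (Fact.out : p.Prime).ne_one hzG.symm
  obtain ⟨g, hg⟩ := isConj_iff.1 (hconj _ z.2 _ ha hz1 ha1)
  rw [← hg, conj_pow, ← hzG, pow_orderOf_eq_one, mul_one, mul_inv_cancel]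

omit [Fintype G] in
/-- In a group with a normal `p`-complement `p`-regular elements centralize the `p`-subgroups they
normalize. -/
theorem commute_of_npc [Finite G] (h : HasNormalPComplement p G) {R : Subgroup G}
    (hR : IsPGroup p R) {t : G} (ht : ¬ p ∣ orderOf t) (hnorm : ∀ r ∈ R, t * r * t⁻¹ ∈ R)
    {r : G} (hr : r ∈ R) : t * r = r * t := by
  obtain ⟨P, N, hN, hC⟩ := h
  obtain ⟨k, hk⟩ := P.2.exists_card_eq
  have hidx : N.index = p ^ k := hC.symm.index_eq_card.trans hk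
  have hNp : ¬ p ∣ Nat.card N := hC.index_eq_card ▸ P.not_dvd_index
  have htN : t ∈ N := by
    rw [← QuotientGroup.eq_one_iff (N := N), ← orderOf_eq_one_iff]
    refine Nat.dvd_one.1 ?_
    rw [← (((Fact.out : p.Prime).coprime_iff_not_dvd.2 ht).pow_left k).gcd_eq_one]
    refine Nat.dvd_gcd ?_ (orderOf_map_dvd (QuotientGroup.mk' N) t)
    rw [← hidx, Subgroup.index_eq_card]
    exact orderOf_dvd_natCard _
  have hc : t * r * t⁻¹ * r⁻¹ = 1 := by
    have h1 : t * r * t⁻¹ * r⁻¹ ∈ R := R.mul_mem (hnorm r hr) (R.inv_mem hr)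
    have h2 : t * r * t⁻¹ * r⁻¹ ∈ N := by
      rw [show t * r * t⁻¹ * r⁻¹ = t * (r * t⁻¹ * r⁻¹) by simp [mul_assoc]]
      exact N.mul_mem htN (hN.conj_mem _ (N.inv_mem htN) r)
    obtain ⟨j, hj⟩ := IsPGroup.iff_orderOf.1 hR ⟨_, h1⟩
    rw [← Subgroup.orderOf_coe] at hj
    have hd : orderOf (t * r * t⁻¹ * r⁻¹) ∣ Nat.card N := by
      rw [show orderOf (t * r * t⁻¹ * r⁻¹) = orderOf (⟨_, h2⟩ : N) from Subgroup.orderOf_coe ⟨_, h2⟩]
      exact orderOf_dvd_natCard _
    rw [← orderOf_eq_one_iff, hj]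
    rcases Nat.eq_zero_or_pos j with h0 | h0
    · rw [h0, pow_zero]
    · exact absurd ((dvd_pow_self p h0.ne').trans (hj ▸ hd)) hNp
  exact mul_inv_eq_iff_eq_mul.1 (mul_inv_eq_one.1 hc)

omit [Fintype G] in
/-- Conjugate Sylow elements with `p`-nilpotent centralizers force an abelian Sylow subgroup. -/
theorem sylow_abelian_of_centralizers [Finite G] (S : Sylow p G)
    (hconj : ∀ x ∈ (S : Subgroup G), ∀ y ∈ (S : Subgroup G), x ≠ 1 → y ≠ 1 → IsConj x y)
    (hcen : ∀ x ∈ (S : Subgroup G), x ≠ 1 →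
      HasNormalPComplement p (Subgroup.centralizer ({x} : Set G))) :
    ∀ a ∈ (S : Subgroup G), ∀ b ∈ (S : Subgroup G), a * b = b * a := by
  have hexp : ∀ a ∈ (S : Subgroup G), a ^ p = 1 := fun a ha => pow_eq_one_of_conj S.2 hconj ha
  rcases (Fact.out : p.Prime).eq_two_or_odd' with rfl | hodd
  · intro a ha b hb
    have hinv : ∀ c ∈ (S : Subgroup G), c⁻¹ = c := fun c hc =>
      inv_eq_of_mul_eq_one_left (by rw [← pow_two]; exact hexp c hc)
    calc a * b = (a * b)⁻¹ := (hinv _ (Subgroup.mul_mem _ ha hb)).symm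
      _ = b * a := by rw [mul_inv_rev, hinv a ha, hinv b hb]
  by_cases hbot : ∀ a ∈ (S : Subgroup G), a = 1
  · intro a ha b hb; rw [hbot a ha, hbot b hb]
  push Not at hbot
  obtain ⟨a₀, ha₀, ha₀1⟩ := hbot
  haveI : Nontrivial (S : Subgroup G) :=
    ⟨⟨⟨a₀, ha₀⟩, 1, fun h => ha₀1 (congrArg Subtype.val h)⟩⟩
  haveI := S.2.center_nontrivial
  obtain ⟨⟨⟨z, hzS⟩, hzc⟩, hzne⟩ := exists_ne (1 : Subgroup.center (S : Subgroup G))
  have hz1 : z ≠ 1 := fun h => hzne (Subtype.ext (Subtype.ext h))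
  have hzcomm : ∀ a ∈ (S : Subgroup G), a * z = z * a := fun a ha =>
    congrArg Subtype.val (Subgroup.mem_center_iff.1 hzc ⟨a, ha⟩)
  have hzC : z ∈ Subgroup.centralizer ((S : Subgroup G) : Set G) :=
    Subgroup.mem_centralizer_iff.2 hzcomm
  obtain ⟨g, hg⟩ := isConj_iff.1
    (hconj z hzS z⁻¹ (Subgroup.inv_mem _ hzS) hz1 (inv_ne_one.2 hz1))
  obtain ⟨n, hn, hnz⟩ := Sylow.conj_eq_normalizer_conj_of_mem_centralizer S z g⁻¹ hzC (by
    rw [inv_inv, hg]; exact Subgroup.inv_mem _ hzC)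
  rw [inv_inv, hg] at hnz
  -- an element of two-power order normalizing `S` and inverting `z`
  obtain ⟨a, m, hm, hord⟩ := Nat.exists_eq_two_pow_mul_odd (orderOf_pos n⁻¹).ne'
  set t := n⁻¹ ^ m with ht_def
  have htN : t ∈ Subgroup.normalizer ((S : Subgroup G) : Set G) :=
    Subgroup.pow_mem _ (Subgroup.inv_mem _ hn) m
  have htz : t * z * t⁻¹ = z⁻¹ := by
    have h1 : n⁻¹ * z * n⁻¹⁻¹ = z⁻¹ := by rw [inv_inv]; exact hnz.symm
    have h2 : Commute (n⁻¹ ^ 2) z := by
      refine mul_inv_eq_iff_eq_mul.1 ?_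
      rw [pow_two, show n⁻¹ * n⁻¹ * z * (n⁻¹ * n⁻¹)⁻¹ = n⁻¹ * (n⁻¹ * z * n⁻¹⁻¹) * n⁻¹⁻¹ by
        simp [mul_assoc], h1, show n⁻¹ * z⁻¹ * n⁻¹⁻¹ = (n⁻¹ * z * n⁻¹⁻¹)⁻¹ by simp [mul_assoc],
        h1, inv_inv]
    obtain ⟨i, rfl⟩ := hm
    have h3 : Commute ((n⁻¹ ^ 2) ^ i) z := h2.pow_left i
    rw [ht_def, pow_succ', pow_mul, show n⁻¹ * (n⁻¹ ^ 2) ^ i * z * (n⁻¹ * (n⁻¹ ^ 2) ^ i)⁻¹
      = n⁻¹ * ((n⁻¹ ^ 2) ^ i * z * ((n⁻¹ ^ 2) ^ i)⁻¹) * n⁻¹⁻¹ by simp [mul_assoc],
      h3.eq, mul_inv_cancel_right, h1]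
  have htp : ∀ j : ℕ, ¬ p ∣ orderOf (t ^ j) := by
    intro j hdvd
    have h1 : t ^ (2 ^ a) = 1 := by
      rw [ht_def, ← pow_mul, mul_comm, ← hord, pow_orderOf_eq_one]
    have h2 : p ∣ 2 ^ a := hdvd.trans ((orderOf_pow_dvd j).trans (orderOf_dvd_of_pow_eq_one h1))
    have h3 := (Nat.prime_dvd_prime_iff_eq Fact.out Nat.prime_two).1
      ((Fact.out : p.Prime).dvd_of_dvd_pow h2)
    rw [h3] at hodd
    exact Nat.not_odd_iff_even.2 even_two hodd
  have hmem : ∀ {s : G}, s ∈ Subgroup.normalizer ((S : Subgroup G) : Set G) →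
      ∀ r ∈ (S : Subgroup G), s * r * s⁻¹ ∈ (S : Subgroup G) := fun hs r hr =>
    (Subgroup.mem_normalizer_iff.1 hs r).1 hr
  -- a regular element of `N(S)` fixing `u` centralizes the elements of `S` commuting with `u`
  have key : ∀ u ∈ (S : Subgroup G), u ≠ 1 → ∀ j : ℕ, t ^ j * u = u * t ^ j →
      ∀ r ∈ (S : Subgroup G), r * u = u * r → t ^ j * r = r * t ^ j := by
    intro u hu hu1 j hju r hr hru
    set C := Subgroup.centralizer ({u} : Set G)
    have htC : t ^ j ∈ C := Subgroup.mem_centralizer_singleton_iff.2 hju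
    have hrC : r ∈ C := Subgroup.mem_centralizer_singleton_iff.2 hru
    have h := commute_of_npc (hcen u hu hu1) (R := (S : Subgroup G).subgroupOf C)
      S.2.comap_subtype (t := ⟨t ^ j, htC⟩) (by rw [← Subgroup.orderOf_coe]; exact htp j)
      (fun s hs => hmem (Subgroup.pow_mem _ htN j) _ hs) (r := ⟨r, hrC⟩) hr
    exact congrArg Subtype.val h
  have hsq : ∀ r ∈ (S : Subgroup G), t * (t * r * t⁻¹) * t⁻¹ = r := by
    intro r hr
    have h2 : t ^ 2 * z = z * t ^ 2 := by
      refine mul_inv_eq_iff_eq_mul.1 ?_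
      rw [pow_two, show t * t * z * (t * t)⁻¹ = t * (t * z * t⁻¹) * t⁻¹ by simp [mul_assoc], htz,
        show t * z⁻¹ * t⁻¹ = (t * z * t⁻¹)⁻¹ by simp [mul_assoc], htz, inv_inv]
    have h3 := key z hzS hz1 2 h2 r hr (hzcomm r hr)
    rw [show t * (t * r * t⁻¹) * t⁻¹ = t ^ 2 * r * (t ^ 2)⁻¹ by simp [pow_two, mul_assoc], h3,
      mul_inv_cancel_right]
  set α : (S : Subgroup G) →* (S : Subgroup G) :=
    { toFun := fun r => ⟨t * (r : G) * t⁻¹, hmem htN _ r.2⟩
      map_one' := Subtype.ext (by simp)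
      map_mul' := fun x y => Subtype.ext (by simp [mul_assoc]) } with hα
  have hfree : MonoidHom.FixedPointFree α := by
    intro u hu
    by_contra hu1
    have h1 : t ^ 1 * (u : G) = (u : G) * t ^ 1 := by
      rw [pow_one]; exact mul_inv_eq_iff_eq_mul.1 (congrArg Subtype.val hu)
    have h2 := key u u.2 (fun h => hu1 (Subtype.ext h)) 1 h1 z hzS (hzcomm u u.2).symm
    rw [pow_one] at h2
    have h4 : z = z⁻¹ := by rw [← htz, h2, mul_inv_cancel_right]
    have h5 : z ^ 2 = 1 := by rw [pow_two]; exact mul_eq_one_iff_eq_inv.2 h4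
    have h6 : orderOf z = p := orderOf_eq_prime (hexp z hzS) hz1
    have h7 := orderOf_dvd_of_pow_eq_one h5
    rw [h6, Nat.prime_dvd_prime_iff_eq Fact.out Nat.prime_two] at h7
    rw [h7] at hodd
    exact Nat.not_odd_iff_even.2 even_two hodd
  intro x hx y hy
  exact congrArg Subtype.val (hfree.commute_all_of_involutive
    (fun r => Subtype.ext (hsq r r.2)) ⟨x, hx⟩ ⟨y, hy⟩).eq

/-- The principal block. -/
theorem abelian_principal (hM : IsPModular p M)
    (hk : Nat.card (principalBlock M G) ≤ blockRank p (principalBlock M G) + 1) (S : Sylow p G) :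
    ∀ a ∈ (S : Subgroup G), ∀ b ∈ (S : Subgroup G), a * b = b * a := by
  have hB : IsPBlock M (principalBlock M G) := isPBlock_principalBlock
  have hD : IsDefectGroup p M (principalBlock M G) (S : Subgroup G) :=
    (isDefectGroup_principalBlock_iff hM _).2 ⟨S, rfl⟩
  refine sylow_abelian_of_centralizers S (fun x hx y hy => isConj_of_mem hM hB hk hD hx hy)
    fun x hx hx1 => ?_
  have hZp : IsPGroup p (Subgroup.zpowers x) := S.2.to_le (Subgroup.zpowers_le.2 hx)
  obtain ⟨B', hB'⟩ := exists_isInducedBlock_centralizer hM hZp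
    (K := Subgroup.centralizer ({x} : Set G)) (CfsgLib.Blocks.centralizer_zpowers x).symm
    (isPBlock_principalBlock (M := M) (G := Subgroup.centralizer ({x} : Set G)))
  have hind := (Cfsg.Agent.S0936.result p M hM _ _ ⟨B', hB'⟩).2 rfl
  have hord : ∃ k : ℕ, orderOf x = p ^ k := by
    obtain ⟨k, hk'⟩ := IsPGroup.iff_orderOf.1 S.2 ⟨x, hx⟩
    exact ⟨k, by rw [← hk', ← Subgroup.orderOf_coe]⟩
  have hcount := rank_add_sum_le hM hB ({x} : Finset G)
    (fun y => blockRank p (principalBlock M (Subgroup.centralizer ({y} : Set G))))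
    (by simp [Ne.symm hx1]) (fun y hy => Finset.mem_singleton.1 hy ▸ hord)
    (fun y hy y' hy' _ => (Finset.mem_singleton.1 hy).trans (Finset.mem_singleton.1 hy').symm)
    (fun y hy => by
      rw [Finset.mem_singleton.1 hy]
      exact ⟨_, hind, le_rfl⟩)
  rw [Finset.sum_singleton] at hcount
  have h1 := one_le_blockRank hM
    (isPBlock_principalBlock (M := M) (G := Subgroup.centralizer ({x} : Set G)))
  exact (Cfsg.Agent.S4691.result p M hM).2 ((Cfsg.Agent.S4646.result p M hM).2 (by omega))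

omit [Fintype G] in
/-- A `p`-solvable group with one class of nonidentity `p`-elements has abelian Sylow subgroups. -/
theorem sylow_abelian_pSolvable [Finite G] (hs : IsPSolvable p G) (S : Sylow p G)
    (hconj : ∀ x ∈ (S : Subgroup G), ∀ y ∈ (S : Subgroup G), x ≠ 1 → y ≠ 1 → IsConj x y) :
    ∀ a ∈ (S : Subgroup G), ∀ b ∈ (S : Subgroup G), a * b = b * a := by
  set N := pPrimeCore p G
  haveI : N.Normal := CfsgLib.Solvable.Cores.pPrimeCore_normal p
  set π := QuotientGroup.mk' N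
  have hinj : ∀ a ∈ (S : Subgroup G), π a = 1 → a = 1 := by
    intro a ha h
    obtain ⟨k, hk⟩ := IsPGroup.iff_orderOf.1 S.2 ⟨a, ha⟩
    rw [← Subgroup.orderOf_coe] at hk
    rw [← orderOf_eq_one_iff, hk]
    rcases Nat.eq_zero_or_pos k with h0 | h0
    · rw [h0, pow_zero]
    · exfalso
      have haN : a ∈ N := (QuotientGroup.eq_one_iff a).1 h
      have hd : orderOf a ∣ Nat.card N := by
        rw [show orderOf a = orderOf (⟨a, haN⟩ : N) from Subgroup.orderOf_coe ⟨a, haN⟩]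
        exact orderOf_dvd_natCard _
      exact (Fact.out : p.Prime).coprime_iff_not_dvd.1
        (CfsgLib.Solvable.Cores.coprime_card_pPrimeCore p).symm
        ((dvd_pow_self p h0.ne').trans (hk ▸ hd))
  by_cases hbot : ∀ a ∈ (S : Subgroup G), a = 1
  · intro a ha b hb; rw [hbot a ha, hbot b hb]
  push Not at hbot
  obtain ⟨a₀, ha₀, ha₀1⟩ := hbot
  haveI : Nontrivial (G ⧸ N) := ⟨⟨π a₀, 1, fun h => ha₀1 (hinj a₀ ha₀ h)⟩⟩
  set Q := pCore p (G ⧸ N)
  have hQ : Q ≠ ⊥ := (CfsgLib.Fusion.PSolvable.pCore_or_pPrimeCore_ne_bot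
    (CfsgLib.Fusion.PSolvable.psolvable_quotient hs N)).resolve_right fun h =>
      h CfsgLib.Components.pPrimeCore_quotient_eq_bot
  set S' : Sylow p (G ⧸ N) := S.mapSurjective (QuotientGroup.mk'_surjective N)
  have hS' : (S' : Subgroup (G ⧸ N)) = (S : Subgroup G).map π := rfl
  have hQS : Q ≤ (S' : Subgroup (G ⧸ N)) := by
    obtain ⟨T, hT⟩ := (CfsgLib.Solvable.Cores.isPGroup_pCore (G := G ⧸ N) p).exists_le_sylow
    obtain ⟨g, hg⟩ := MulAction.exists_smul_eq (G ⧸ N) T S'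
    intro x hx
    rw [← hg, Sylow.coe_subgroup_smul]
    exact ⟨g⁻¹ * x * g, hT (by simpa using
      (CfsgLib.Solvable.Cores.pCore_normal p).conj_mem x hx g⁻¹), by simp [mul_assoc]⟩
  obtain ⟨c, hcQ, hc1⟩ := Q.bot_or_exists_ne_one.resolve_left hQ
  obtain ⟨w, hw, hwc⟩ : ∃ w ∈ (S : Subgroup G), π w = c := by
    have := hQS hcQ
    rw [hS'] at this
    exact Subgroup.mem_map.1 this
  have hw1 : w ≠ 1 := fun h => hc1 (by rw [← hwc, h, map_one])
  have hall : ∀ a ∈ (S : Subgroup G), π a ∈ Q := by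
    intro a ha
    by_cases ha1 : a = 1
    · rw [ha1, map_one]; exact one_mem _
    obtain ⟨g, hg⟩ := isConj_iff.1 (hconj w hw a ha hw1 ha1)
    rw [← hg, map_mul, map_mul, map_inv, hwc]
    exact (CfsgLib.Solvable.Cores.pCore_normal p).conj_mem c hcQ _
  haveI : Nontrivial (S : Subgroup G) :=
    ⟨⟨⟨a₀, ha₀⟩, 1, fun h => ha₀1 (congrArg Subtype.val h)⟩⟩
  haveI := S.2.center_nontrivial
  obtain ⟨⟨⟨z, hzS⟩, hzc⟩, hzne⟩ := exists_ne (1 : Subgroup.center (S : Subgroup G))
  have hz1 : z ≠ 1 := fun h => hzne (Subtype.ext (Subtype.ext h))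
  have hzQ : ∀ x ∈ Q, x * π z = π z * x := by
    intro x hx
    have := hQS hx
    rw [hS'] at this
    obtain ⟨r, hr, rfl⟩ := Subgroup.mem_map.1 this
    rw [← map_mul, ← map_mul]
    exact congrArg π (congrArg Subtype.val (Subgroup.mem_center_iff.1 hzc ⟨r, hr⟩))
  intro a ha b hb
  by_cases ha1 : a = 1
  · rw [ha1, one_mul, mul_one]
  obtain ⟨g, hg⟩ := isConj_iff.1 (hconj z hzS a ha hz1 ha1)
  have hcomm : π a * π b = π b * π a := by
    have h1 := hzQ ((π g)⁻¹ * π b * π g) (by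
      simpa using (CfsgLib.Solvable.Cores.pCore_normal p).conj_mem (π b) (hall b hb) (π g)⁻¹)
    have h2 : π a = π g * π z * (π g)⁻¹ := by rw [← hg]; simp
    have h3 := congrArg (fun x => π g * x * (π g)⁻¹) h1
    rw [h2]
    simpa [mul_assoc] using h3.symm
  have h4 : π (a * b * a⁻¹ * b⁻¹) = 1 := by
    simp only [map_mul, map_inv]
    rw [hcomm, mul_inv_cancel_right, mul_inv_cancel]
  exact mul_inv_eq_iff_eq_mul.1 (mul_inv_eq_one.1 (hinj _ (Subgroup.mul_mem _
    (Subgroup.mul_mem _ (Subgroup.mul_mem _ ha hb) (Subgroup.inv_mem _ ha))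
    (Subgroup.inv_mem _ hb)) h4))

end CfsgLib.DegreeTools.DeficiencyOne
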