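import Mathlib.NumberTheory.Cyclotomic.PrimitiveRoots
import Mathlib.RingTheory.Norm.Transitivity
import Mathlib.RingTheory.RootsOfUnity.Complex
import Mathlib.Analysis.SpecialFunctions.Log.Basic
import Mathlib.Analysis.Complex.Basic
import Mathlib.Tactic
import Mathlib.Analysis.Complex.Polynomial.Basic

/-!
# The arithmetic-geometric mean argument for sums of roots of unity
-/

namespace CfsgLib.DegreeTools.Galois

open Finset

/-- The Galois conjugates of `(∑ k, m k * ω ^ k) / d`, when this number is a nonzero algebraic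
integer, have product of absolute values at least one. -/
theorem one_le_prod_norm {n : ℕ} (hn : n ≠ 0) {ω : ℂ} (hω : IsPrimitiveRoot ω n) (m : ℕ → ℕ)
    (d : ℕ) (hint : IsIntegral ℤ ((∑ k ∈ range n, (m k : ℂ) * ω ^ k) / d))
    (hne : (∑ k ∈ range n, (m k : ℂ) * ω ^ k) / d ≠ 0) :
    1 ≤ ∏ r ∈ primitiveRoots n ℂ, ‖(∑ k ∈ range n, (m k : ℂ) * r ^ k) / d‖ := by
  haveI : NeZero n := ⟨hn⟩
  haveI : IsCyclotomicExtension {n} ℚ (CyclotomicField n ℚ) :=
    CyclotomicField.isCyclotomicExtension n ℚ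
  have hz := IsCyclotomicExtension.zeta_spec n ℚ (CyclotomicField n ℚ)
  set z := IsCyclotomicExtension.zeta n ℚ (CyclotomicField n ℚ)
  haveI : FiniteDimensional ℚ (CyclotomicField n ℚ) := IsCyclotomicExtension.finiteDimensional {n} ℚ (CyclotomicField n ℚ)
  let e := hz.embeddingsEquivPrimitiveRoots (C := ℂ)
    (Polynomial.cyclotomic.irreducible_rat (Nat.pos_of_ne_zero hn))
  set x : (CyclotomicField n ℚ) := (∑ k ∈ range n, (m k : (CyclotomicField n ℚ)) * z ^ k) / d with hx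
  have hσ : ∀ σ : (CyclotomicField n ℚ) →ₐ[ℚ] ℂ, σ x = (∑ k ∈ range n, (m k : ℂ) * (σ z) ^ k) / d := fun σ => by
    simp [hx, map_sum, map_mul, map_pow]
  have he : ∀ σ : (CyclotomicField n ℚ) →ₐ[ℚ] ℂ, ((e σ : primitiveRoots n ℂ) : ℂ) = σ z := fun σ => rfl
  obtain ⟨σ₀, hσ₀⟩ := e.surjective ⟨ω, (mem_primitiveRoots (Nat.pos_of_ne_zero hn)).mpr hω⟩
  have hσ₀z : σ₀ z = ω := by rw [← he, hσ₀]
  have hxint : IsIntegral ℤ x := by
    rw [← isIntegral_algHom_iff (σ₀.restrictScalars ℤ) σ₀.toRingHom.injective]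
    simpa [hσ, hσ₀z] using hint
  have hx0 : x ≠ 0 := fun h => hne (by rw [← hσ₀z, ← hσ, h, map_zero])
  obtain ⟨r, hr⟩ := IsIntegrallyClosed.isIntegral_iff.mp (Algebra.isIntegral_norm ℚ hxint)
  have hr0 : r ≠ 0 := fun h => (Algebra.norm_ne_zero_iff.mpr hx0) (by rw [← hr, h, map_zero])
  have hprod := Algebra.norm_eq_prod_embeddings ℚ ℂ x
  rw [← hr] at hprod
  have h1 : (1 : ℝ) ≤ ‖∏ σ : (CyclotomicField n ℚ) →ₐ[ℚ] ℂ, σ x‖ := by
    rw [← hprod]
    simp only [eq_intCast, map_intCast, Complex.norm_intCast]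
    exact_mod_cast Int.one_le_abs hr0
  rw [norm_prod] at h1
  refine h1.trans_eq ?_
  rw [← Finset.prod_coe_sort (primitiveRoots n ℂ)]
  exact Fintype.prod_equiv e _ _ (fun σ => by rw [hσ, he])

/-- All Galois conjugates of a nonzero sum of roots of unity are nonzero. -/
theorem sum_ne_zero {n : ℕ} (hn : n ≠ 0) {ω : ℂ} (hω : IsPrimitiveRoot ω n) (m : ℕ → ℕ)
    (hne : ∑ k ∈ range n, (m k : ℂ) * ω ^ k ≠ 0) {r : ℂ} (hr : r ∈ primitiveRoots n ℂ) :
    ∑ k ∈ range n, (m k : ℂ) * r ^ k ≠ 0 := by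
  intro h0
  have h := one_le_prod_norm hn hω m 1 (by
    rw [Nat.cast_one, div_one]
    exact IsIntegral.sum _ fun k _ => (isIntegral_natCast (m k)).mul
      (IsIntegral.pow (hω.isIntegral (Nat.pos_of_ne_zero hn)) k))
    (by simpa using hne)
  rw [Finset.prod_eq_zero hr (by simp [h0])] at h
  linarith

/-- AM-GM: a nonzero sum of roots of unity has Galois conjugates of mean `e`-th power at least one. -/
theorem totient_le_sum_pow (e : ℕ) {n : ℕ} (hn : n ≠ 0) {ω : ℂ} (hω : IsPrimitiveRoot ω n) (m : ℕ → ℕ)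
    (hne : ∑ k ∈ range n, (m k : ℂ) * ω ^ k ≠ 0) :
    (n.totient : ℝ) ≤ ∑ r ∈ primitiveRoots n ℂ, ‖∑ k ∈ range n, (m k : ℂ) * r ^ k‖ ^ e := by
  have h := one_le_prod_norm hn hω m 1 (by
    rw [Nat.cast_one, div_one]
    exact IsIntegral.sum _ fun k _ =>
      (isIntegral_natCast (m k)).mul (IsIntegral.pow (hω.isIntegral (Nat.pos_of_ne_zero hn)) k))
    (by simpa using hne)
  simp only [Nat.cast_one, div_one] at h
  set f : ℂ → ℝ := fun r => ‖∑ k ∈ range n, (m k : ℂ) * r ^ k‖ with hf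
  have hpos : ∀ r ∈ primitiveRoots n ℂ, 0 < f r := fun r hr => by
    refine lt_of_le_of_ne (norm_nonneg _) fun h0 => ?_
    rw [Finset.prod_eq_zero hr h0.symm] at h
    linarith
  have hlog : 0 ≤ ∑ r ∈ primitiveRoots n ℂ, Real.log (f r ^ e) := by
    rw [← Real.log_prod (fun r hr => (pow_pos (hpos r hr) e).ne'), Finset.prod_pow]
    exact Real.log_nonneg (one_le_pow₀ h)
  have hle : ∑ r ∈ primitiveRoots n ℂ, Real.log (f r ^ e)
      ≤ ∑ r ∈ primitiveRoots n ℂ, (f r ^ e - 1) :=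
    Finset.sum_le_sum fun r hr => Real.log_le_sub_one_of_pos (pow_pos (hpos r hr) e)
  rw [Finset.sum_sub_distrib, Finset.sum_const, nsmul_eq_mul, mul_one,
    hω.card_primitiveRoots] at hle
  linarith


end CfsgLib.DegreeTools.Galois
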