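import Cfsg.Agent.Lib.DegreeTools.Eigen
import Cfsg.Agent.Lib.DegreeTools.Galois
import Mathlib.RepresentationTheory.Character

/-!
# Character values as sums of roots of unity: bounds, Burnside's lemma, Galois averaging
-/

namespace CfsgLib.DegreeTools.CharTools

open Finset Module

variable {G : Type*} [Group G] [Finite G] {V : Type*} [AddCommGroup V] [Module ℂ V]
  [FiniteDimensional ℂ V]

omit [Finite G] [FiniteDimensional ℂ V] in
theorem norm_pow_of_primitive {n : ℕ} (hn : n ≠ 0) {r : ℂ} (hr : r ^ n = 1) (k : ℕ) :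
    ‖r ^ k‖ = 1 := by
  rw [norm_pow, Complex.norm_eq_one_of_pow_eq_one hr hn, one_pow]

omit [Finite G] in
theorem norm_sum_le (ρ : Representation ℂ G V) (g : G) {n : ℕ} (hn : n ≠ 0) {ω r : ℂ}
    (hω : IsPrimitiveRoot ω n) (hg : g ^ n = 1) (hr : r ^ n = 1) :
    ‖∑ k ∈ range n, (Eigen.mult (ρ g) n (ω ^ k) : ℂ) * r ^ k‖ ≤ finrank ℂ V := by
  refine (_root_.norm_sum_le _ _).trans (le_of_eq ?_)
  rw [← Eigen.sum_mult hω (T := ρ g) (by rw [← map_pow, hg, map_one]) hn, Nat.cast_sum]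
  refine Finset.sum_congr rfl fun k _ => ?_
  rw [norm_mul, norm_pow_of_primitive hn hr, mul_one, Complex.norm_natCast]

omit [Finite G] in
/-- Equality in the triangle inequality: one eigenvalue only, the map is a scalar. -/
theorem exists_eq_smul_of_norm_eq (ρ : Representation ℂ G V) (g : G) {n : ℕ} (hn : n ≠ 0) {ω : ℂ}
    (hω : IsPrimitiveRoot ω n) (hg : g ^ n = 1)
    (h : ‖ρ.character g‖ = finrank ℂ V) : ∃ c : ℂ, ρ g = c • 1 := by
  have hT : ρ g ^ n = 1 := by rw [← map_pow, hg, map_one]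
  set m := fun k => Eigen.mult (ρ g) n (ω ^ k) with hm
  have hval : ρ.character g = ∑ k ∈ range n, (m k : ℂ) * ω ^ k := by
    simpa using Eigen.char_pow_eq_sum ρ g hω hn hg 1
  have hsum : ∑ k ∈ range n, m k = finrank ℂ V := Eigen.sum_mult hω hT hn
  rcases Nat.eq_zero_or_pos (finrank ℂ V) with hd | hd
  · exact ⟨1, LinearMap.ext fun v => by
      haveI := Module.finrank_zero_iff (R := ℂ) (M := V) |>.mp hd
      exact Subsingleton.elim _ _⟩
  obtain ⟨k₀, hk₀, hmk₀⟩ : ∃ k ∈ range n, m k ≠ 0 :=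
    Finset.exists_ne_zero_of_sum_ne_zero (by rw [hsum]; exact hd.ne')
  refine ⟨ω ^ k₀, Eigen.eq_smul_of_mult_eq_zero hω hT hn (Finset.mem_range.mp hk₀) ?_⟩
  intro k hk hne
  by_contra hmk
  -- two distinct eigenvalues give a strict inequality
  have hu : ∀ i, ‖ω ^ i‖ = 1 := norm_pow_of_primitive hn hω.pow_eq_one
  have hne' : ω ^ k₀ ≠ ω ^ k := fun h => hne (hω.pow_inj (Finset.mem_range.mp hk₀) hk h).symm
  have hstrict : ‖(m k₀ : ℂ) * ω ^ k₀ + (m k : ℂ) * ω ^ k‖ < (m k₀ : ℝ) + m k := by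
    have h1 : ‖(m k₀ : ℂ) * ω ^ k₀‖ = (m k₀ : ℝ) := by
      rw [norm_mul, hu, mul_one, Complex.norm_natCast]
    have h2 : ‖(m k : ℂ) * ω ^ k‖ = (m k : ℝ) := by
      rw [norm_mul, hu, mul_one, Complex.norm_natCast]
    refine lt_of_le_of_ne ((norm_add_le _ _).trans_eq (by rw [h1, h2])) fun heq => hne' ?_
    have hray : SameRay ℝ ((m k₀ : ℂ) * ω ^ k₀) ((m k : ℂ) * ω ^ k) :=
      sameRay_iff_norm_add.mpr (by rw [heq, h1, h2])
    rw [sameRay_iff_norm_smul_eq, h1, h2] at hray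
    simp only [Complex.real_smul, Complex.ofReal_natCast] at hray
    have hm0 : ((m k₀ : ℂ) * (m k : ℂ)) ≠ 0 :=
      mul_ne_zero (Nat.cast_ne_zero.mpr hmk₀) (Nat.cast_ne_zero.mpr hmk)
    exact mul_left_cancel₀ hm0 (by linear_combination -hray)
  have hk' : k ∈ range n := Finset.mem_range.mpr hk
  have hpair : ({k₀, k} : Finset ℕ) ⊆ range n := by
    intro a ha
    simp only [Finset.mem_insert, Finset.mem_singleton] at ha
    rcases ha with rfl | rfl <;> assumption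
  rw [hval, ← Finset.sum_sdiff hpair, Finset.sum_pair (Ne.symm hne)] at h
  have hrest : ‖∑ i ∈ range n \ {k₀, k}, (m i : ℂ) * ω ^ i‖ ≤
      ∑ i ∈ range n \ {k₀, k}, (m i : ℝ) := by
    refine (_root_.norm_sum_le _ _).trans (le_of_eq (Finset.sum_congr rfl fun i _ => ?_))
    rw [norm_mul, hu, mul_one, Complex.norm_natCast]
  have htot : (∑ i ∈ range n \ {k₀, k}, (m i : ℝ)) + ((m k₀ : ℝ) + m k) = finrank ℂ V := by
    rw [← hsum, Nat.cast_sum, ← Finset.sum_sdiff hpair, Finset.sum_pair (Ne.symm hne)]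
  have := norm_add_le (∑ i ∈ range n \ {k₀, k}, (m i : ℂ) * ω ^ i)
    ((m k₀ : ℂ) * ω ^ k₀ + (m k : ℂ) * ω ^ k)
  linarith

/-- Burnside: if `χ g / χ 1` is an algebraic integer, `χ g = 0` or `g` acts as a scalar. -/
theorem eq_zero_or_scalar_of_isIntegral (ρ : Representation ℂ G V) (g : G)
    (h : IsIntegral ℤ (ρ.character g / (finrank ℂ V : ℂ))) :
    ρ.character g = 0 ∨ ∃ c : ℂ, ρ g = c • 1 := by
  have hn : Nat.card G ≠ 0 := Nat.card_pos.ne'
  set n := Nat.card G with hn'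
  have hg : g ^ n = 1 := pow_card_eq_one'
  obtain ⟨ω, hω⟩ : ∃ ω : ℂ, IsPrimitiveRoot ω n := ⟨_, Complex.isPrimitiveRoot_exp n hn⟩
  rcases eq_or_ne (finrank ℂ V) 0 with hd | hd
  · right
    haveI := Module.finrank_zero_iff (R := ℂ) (M := V) |>.mp hd
    exact ⟨1, LinearMap.ext fun v => Subsingleton.elim _ _⟩
  by_cases heq : ‖ρ.character g‖ = finrank ℂ V
  · exact Or.inr (exists_eq_smul_of_norm_eq ρ g hn hω hg heq)
  left
  by_contra hne
  have hval : ρ.character g =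
      ∑ k ∈ range n, (Eigen.mult (ρ g) n (ω ^ k) : ℂ) * ω ^ k := by
    simpa using Eigen.char_pow_eq_sum ρ g hω hn hg 1
  rw [hval] at h hne
  have h1 := Galois.one_le_prod_norm hn hω _ (finrank ℂ V) h
    (div_ne_zero hne (Nat.cast_ne_zero.mpr hd))
  have hdpos : (0 : ℝ) < finrank ℂ V := Nat.cast_pos.mpr (Nat.pos_of_ne_zero hd)
  have hle : ∀ r ∈ primitiveRoots n ℂ,
      ‖(∑ k ∈ range n, (Eigen.mult (ρ g) n (ω ^ k) : ℂ) * r ^ k) / (finrank ℂ V : ℂ)‖ ≤ 1 :=
    fun r hr => by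
      rw [norm_div, Complex.norm_natCast, div_le_one hdpos]
      exact norm_sum_le ρ g hn hω hg
        ((mem_primitiveRoots (Nat.pos_of_ne_zero hn)).mp hr).pow_eq_one
  rw [← Finset.mul_prod_erase _ _ ((mem_primitiveRoots (Nat.pos_of_ne_zero hn)).mpr hω)] at h1
  have hlt : ‖(∑ k ∈ range n, (Eigen.mult (ρ g) n (ω ^ k) : ℂ) * ω ^ k) / (finrank ℂ V : ℂ)‖
      < 1 := by
    rw [norm_div, Complex.norm_natCast, div_lt_one hdpos]
    exact lt_of_le_of_ne (norm_sum_le ρ g hn hω hg hω.pow_eq_one) (hval ▸ heq)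
  have hrest := Finset.prod_le_one
    (s := (primitiveRoots n ℂ).erase ω)
    (f := fun r => ‖(∑ k ∈ range n, (Eigen.mult (ρ g) n (ω ^ k) : ℂ) * r ^ k) / (finrank ℂ V : ℂ)‖)
    (fun r _ => norm_nonneg _) (fun r hr => hle r (Finset.mem_of_mem_erase hr))
  have := mul_le_mul_of_nonneg_left hrest (norm_nonneg
    ((∑ k ∈ range n, (Eigen.mult (ρ g) n (ω ^ k) : ℂ) * ω ^ k) / (finrank ℂ V : ℂ)))
  linarith

omit [FiniteDimensional ℂ V] in
theorem pow_card_eq (ρ : Representation ℂ G V) (g : G) : ρ g ^ Nat.card G = 1 := by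
  rw [← map_pow, pow_card_eq_one', map_one]

theorem char_inv (ρ : Representation ℂ G V) (g : G) :
    ρ.character g⁻¹ = (starRingEnd ℂ) (ρ.character g) := by
  have hn : Nat.card G ≠ 0 := Nat.card_pos.ne'
  set n := Nat.card G
  obtain ⟨ω, hω⟩ : ∃ ω : ℂ, IsPrimitiveRoot ω n := ⟨_, Complex.isPrimitiveRoot_exp n hn⟩
  have hg : g ^ n = 1 := pow_card_eq_one'
  have h1 : g⁻¹ = g ^ (n - 1) := by
    rw [inv_eq_iff_mul_eq_one, ← pow_succ', Nat.sub_add_cancel (Nat.pos_of_ne_zero hn), hg]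
  have h2 := Eigen.char_pow_eq_sum ρ g hω hn hg 1
  rw [pow_one] at h2
  rw [h1, Eigen.char_pow_eq_sum ρ g hω hn hg, h2, map_sum]
  refine Finset.sum_congr rfl fun k _ => ?_
  have hstar : (starRingEnd ℂ) ω = ω ^ (n - 1) := by
    rw [← Complex.inv_eq_conj (Complex.norm_eq_one_of_pow_eq_one hω.pow_eq_one hn),
      inv_eq_of_mul_eq_one_right (b := ω ^ (n - 1))
        (by rw [← pow_succ', Nat.sub_add_cancel (Nat.pos_of_ne_zero hn), hω.pow_eq_one])]
  rw [map_mul, map_natCast, map_pow, mul_one, hstar, ← pow_mul, mul_comm k]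

/-- The first orthogonality relation, diagonal case. -/
theorem sum_norm_sq [Fintype G] (ρ : Representation ℂ G V) [ρ.IsIrreducible] :
    ∑ g : G, ‖ρ.character g‖ ^ 2 = (Nat.card G : ℝ) := by
  haveI : Invertible (Nat.card G : ℂ) := invertibleOfNonzero (by simp [Nat.card_pos.ne'])
  have h := Representation.char_orthonormal ρ ρ
  rw [if_pos ⟨Representation.Equiv.refl ρ⟩, inv_mul_eq_iff_eq_mul₀
    (Nat.cast_ne_zero.mpr Nat.card_pos.ne'), mul_one] at h
  have hterm : ∀ g : G, ρ.character g * ρ.character g⁻¹ = ((‖ρ.character g‖ ^ 2 : ℝ) : ℂ) :=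
    fun g => by rw [char_inv, Complex.mul_conj, Complex.normSq_eq_norm_sq]
  simp_rw [hterm] at h
  exact_mod_cast h

theorem char_pow_ne_zero (ρ : Representation ℂ G V) {g : G} {j : ℕ}
    (hj : (Nat.card G).Coprime j) (h : ρ.character g ≠ 0) : ρ.character (g ^ j) ≠ 0 := by
  have hn : Nat.card G ≠ 0 := Nat.card_pos.ne'
  set n := Nat.card G
  obtain ⟨ω, hω⟩ : ∃ ω : ℂ, IsPrimitiveRoot ω n := ⟨_, Complex.isPrimitiveRoot_exp n hn⟩
  have hg : g ^ n = 1 := pow_card_eq_one'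
  have hval := Eigen.char_pow_eq_sum ρ g hω hn hg 1
  simp only [pow_one, mul_one] at hval
  have := Galois.sum_ne_zero hn hω _ (hval ▸ h) (r := ω ^ j)
    ((mem_primitiveRoots (Nat.pos_of_ne_zero hn)).mpr (hω.pow_of_coprime j hj.symm))
  rw [Eigen.char_pow_eq_sum ρ g hω hn hg j]
  convert this using 3 with k
  rw [← pow_mul, mul_comm j]

open scoped Classical in
/-- Galois averaging: on a set closed under powers prime to `|G|` on which the character does not
vanish, the mean of `‖χ g‖ ^ e` is at least one. -/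
theorem card_le_sum_pow (e : ℕ) (ρ : Representation ℂ G V) (S : Finset G)
    (hS : ∀ g ∈ S, ∀ j : ℕ, (Nat.card G).Coprime j → g ^ j ∈ S)
    (hne : ∀ g ∈ S, ρ.character g ≠ 0) :
    (S.card : ℝ) ≤ ∑ g ∈ S, ‖ρ.character g‖ ^ e := by
  have hn : Nat.card G ≠ 0 := Nat.card_pos.ne'
  set n := Nat.card G with hn'
  obtain ⟨ω, hω⟩ : ∃ ω : ℂ, IsPrimitiveRoot ω n := ⟨_, Complex.isPrimitiveRoot_exp n hn⟩
  set J := (range n).filter fun j => n.Coprime j with hJ
  have hJcard : J.card = n.totient := rfl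
  have hkey : ∀ g ∈ S, (n.totient : ℝ) ≤ ∑ j ∈ J, ‖ρ.character (g ^ j)‖ ^ e := by
    intro g hgS
    have hg : g ^ n = 1 := pow_card_eq_one'
    have hval : ρ.character g =
        ∑ k ∈ range n, (Eigen.mult (ρ g) n (ω ^ k) : ℂ) * ω ^ k := by
      simpa using Eigen.char_pow_eq_sum ρ g hω hn hg 1
    refine (Galois.totient_le_sum_pow e hn hω _ (hval ▸ hne g hgS)).trans (le_of_eq ?_)
    refine (Finset.sum_bij (fun j _ => ω ^ j) ?_ ?_ ?_ ?_).symm
    · intro j hj
      simp only [hJ, Finset.mem_filter] at hj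
      rw [mem_primitiveRoots (Nat.pos_of_ne_zero hn)]
      exact hω.pow_of_coprime j hj.2.symm
    · intro a ha b hb hab
      simp only [hJ, Finset.mem_filter, Finset.mem_range] at ha hb
      exact hω.pow_inj ha.1 hb.1 hab
    · intro r hr
      rw [mem_primitiveRoots (Nat.pos_of_ne_zero hn)] at hr
      haveI : NeZero n := ⟨hn⟩
      obtain ⟨i, hi, hco, rfl⟩ := (hω.isPrimitiveRoot_iff).mp hr
      exact ⟨i, Finset.mem_filter.mpr ⟨Finset.mem_range.mpr hi, hco.symm⟩, rfl⟩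
    · intro j _
      rw [Eigen.char_pow_eq_sum ρ g hω hn hg j]
      simp only [← pow_mul, mul_comm j]
  have hswap : ∀ j ∈ J, ∑ g ∈ S, ‖ρ.character (g ^ j)‖ ^ e = ∑ g ∈ S, ‖ρ.character g‖ ^ e := by
    intro j hj
    have hco : n.Coprime j := (Finset.mem_filter.mp hj).2
    have hinj : Set.InjOn (fun g : G => g ^ j) S := fun a _ b _ h => (powCoprime hco).injective h
    have himg : S.image (fun g => g ^ j) = S :=
      Finset.eq_of_subset_of_card_le
        (fun x hx => by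
          obtain ⟨g, hg, rfl⟩ := Finset.mem_image.mp hx
          exact hS g hg j hco)
        (le_of_eq (Finset.card_image_of_injOn hinj).symm)
    conv_rhs => rw [← himg, Finset.sum_image hinj]
  have htot := Finset.sum_le_sum hkey
  rw [Finset.sum_const, nsmul_eq_mul, Finset.sum_comm, Finset.sum_congr rfl hswap, Finset.sum_const,
    nsmul_eq_mul, hJcard, mul_comm] at htot
  exact le_of_mul_le_mul_left htot (Nat.cast_pos.mpr (Nat.totient_pos.mpr (Nat.pos_of_ne_zero hn)))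


end CfsgLib.DegreeTools.CharTools
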