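import Cfsg.Agent.Lib.Char.Orth
import Cfsg.Agent.Lib.Char.Integral
import Cfsg.Agent.Lib.Char.Linear
import Cfsg.Agent.Lib.DegreeTools.CharTools
import Cfsg.Prelude.Def_Blocks

/-!
# Degrees of irreducible characters: numerical form of the orthogonality relations
-/

namespace CfsgLib.DegreeTools

open CfsgLib.Char
open scoped ComplexConjugate

variable {G : Type*} [Group G]

theorem charDegree_cast {χ : G → ℂ} (hχ : Cfsg.IsCharacter G χ) :
    (Cfsg.charDegree χ : ℂ) = χ 1 := by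
  obtain ⟨n, hn⟩ := IsCharacter.apply_one_eq hχ
  rw [Cfsg.charDegree, hn, Complex.natCast_re, Nat.floor_natCast]

theorem deg_cast (χ : Cfsg.IrrCharacter G) :
    (Cfsg.charDegree (χ : G → ℂ) : ℂ) = (χ : G → ℂ) 1 :=
  charDegree_cast (isCharacter_irr χ)

theorem deg_pos (χ : Cfsg.IrrCharacter G) : 0 < Cfsg.charDegree (χ : G → ℂ) := by
  refine Nat.pos_of_ne_zero fun h => IsIrrCharacter.apply_one_ne_zero χ.2 ?_
  rw [← deg_cast, h, Nat.cast_zero]

theorem norm_apply_one (χ : Cfsg.IrrCharacter G) :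
    ‖(χ : G → ℂ) 1‖ = Cfsg.charDegree (χ : G → ℂ) := by
  rw [← deg_cast, Complex.norm_natCast]

theorem deg_eq_one_iff (χ : Cfsg.IrrCharacter G) :
    Cfsg.charDegree (χ : G → ℂ) = 1 ↔ (χ : G → ℂ) 1 = 1 := by
  rw [← deg_cast]; norm_cast

theorem deg_dvd_card [Finite G] (χ : Cfsg.IrrCharacter G) :
    Cfsg.charDegree (χ : G → ℂ) ∣ Nat.card G := by
  obtain ⟨n, hn, hdvd⟩ := IsIrrCharacter.apply_one_dvd_card χ.2
  rw [← deg_cast] at hn
  rwa [Nat.cast_injective hn]

/-- The principal character. -/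
def oneChar (G : Type*) [Group G] : Cfsg.IrrCharacter G := ⟨fun _ => 1, isIrrCharacter_one⟩

@[simp] theorem coe_oneChar (g : G) : (oneChar G : G → ℂ) g = 1 := rfl

theorem deg_oneChar : Cfsg.charDegree (oneChar G : G → ℂ) = 1 := by
  simp [Cfsg.charDegree]

theorem ne_oneChar_iff (χ : Cfsg.IrrCharacter G) :
    χ ≠ oneChar G ↔ (χ : G → ℂ) ≠ fun _ => 1 :=
  ⟨fun h h' => h (Subtype.ext h'), fun h h' => h (congrArg Subtype.val h')⟩

theorem norm_apply_le [Finite G] (χ : Cfsg.IrrCharacter G) (g : G) :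
    ‖(χ : G → ℂ) g‖ ≤ Cfsg.charDegree (χ : G → ℂ) := by
  obtain ⟨n, ρ, hirr, hρ⟩ := χ.2
  rw [← norm_apply_one, ← hρ]
  simpa using norm_char_le ρ g

section Finite

variable [Finite G]

theorem card_linear_deg :
    Nat.card {χ : Cfsg.IrrCharacter G // Cfsg.charDegree (χ : G → ℂ) = 1} =
      (commutator G).index := by
  rw [← card_linear]
  exact Nat.card_congr (Equiv.subtypeEquivRight fun χ => deg_eq_one_iff χ)

theorem sum_deg_sq :
    ∑ χ : Cfsg.IrrCharacter G, Cfsg.charDegree (χ : G → ℂ) ^ 2 = Nat.card G := by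
  cases nonempty_fintype G
  have h := sum_sq_apply_one (G := G)
  simp only [← deg_cast] at h
  exact_mod_cast h

/-- Second orthogonality, diagonal case. -/
theorem sum_norm_sq_col (g : G) :
    ∑ χ : Cfsg.IrrCharacter G, ‖(χ : G → ℂ) g‖ ^ 2 =
      (Nat.card (Subgroup.centralizer ({g} : Set G)) : ℝ) := by
  classical
  cases nonempty_fintype G
  have h := sum_irr_mul_conj g g
  rw [if_pos (IsConj.refl g)] at h
  simp only [Complex.mul_conj, Complex.normSq_eq_norm_sq] at h
  exact_mod_cast h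

/-- Second orthogonality against the identity. -/
theorem sum_deg_mul (g : G) (hg : g ≠ 1) :
    ∑ χ : Cfsg.IrrCharacter G, (Cfsg.charDegree (χ : G → ℂ) : ℂ) * (χ : G → ℂ) g = 0 := by
  classical
  cases nonempty_fintype G
  simp only [deg_cast]
  rw [regular_eq_sum_irr, if_neg hg]

/-- First orthogonality. -/
theorem sum_mul_conj [Fintype G] (χ ψ : Cfsg.IrrCharacter G) (h : χ ≠ ψ) :
    ∑ g, (χ : G → ℂ) g * conj ((ψ : G → ℂ) g) = 0 := by
  have := classInner_irr_ne χ.2 ψ.2 fun h' => h (Subtype.ext h')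
  rw [Cfsg.classInner, mul_eq_zero] at this
  exact this.resolve_left (inv_ne_zero card_ne_zero)

theorem sum_eq_zero [Fintype G] (χ : Cfsg.IrrCharacter G) (h : χ ≠ oneChar G) :
    ∑ g, (χ : G → ℂ) g = 0 := by
  simpa using sum_mul_conj χ (oneChar G) h

theorem sum_norm_sq [Fintype G] (χ : Cfsg.IrrCharacter G) :
    ∑ g, ‖(χ : G → ℂ) g‖ ^ 2 = (Nat.card G : ℝ) := by
  obtain ⟨n, ρ, hirr, hρ⟩ := χ.2
  haveI := hirr
  rw [← hρ]
  exact CharTools.sum_norm_sq ρ

/-- Burnside: coprimality of the class size and the degree. -/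
theorem eq_zero_or_norm_eq_of_coprime (χ : Cfsg.IrrCharacter G) (g : G)
    (h : ((Subgroup.centralizer ({g} : Set G)).index).Coprime (Cfsg.charDegree (χ : G → ℂ))) :
    (χ : G → ℂ) g = 0 ∨ ‖(χ : G → ℂ) g‖ = Cfsg.charDegree (χ : G → ℂ) := by
  obtain ⟨n, ρ, hirr, hρ⟩ := χ.2
  haveI := hirr
  have hd : Cfsg.charDegree (χ : G → ℂ) = Module.finrank ℂ (Fin n → ℂ) := by
    apply Nat.cast_injective (R := ℂ)
    rw [deg_cast, ← hρ, Representation.char_one]
  rw [hd] at h ⊢
  set e := (Subgroup.centralizer ({g} : Set G)).index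
  set d := Module.finrank ℂ (Fin n → ℂ)
  have hd0 : (d : ℂ) ≠ 0 := Nat.cast_ne_zero.mpr (irreducible_finrank_pos (ρ := ρ)).ne'
  obtain ⟨u, v, huv⟩ : IsCoprime (e : ℤ) (d : ℤ) :=
    Int.isCoprime_iff_gcd_eq_one.mpr (by rw [Int.gcd_natCast_natCast]; exact h)
  have hint : IsIntegral ℤ (ρ.character g / (d : ℂ)) := by
    have h1 := isIntegral_centralChar ρ g
    have heq : ρ.character g / (d : ℂ)
        = (u : ℂ) * ((e : ℂ) * ρ.character g / (d : ℂ)) + (v : ℂ) * ρ.character g := by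
      have huv' : (u : ℂ) * e + (v : ℂ) * d = 1 := by exact_mod_cast huv
      field_simp
      linear_combination -ρ.character g * huv'
    rw [heq]
    exact ((isIntegral_intCast u).mul h1).add ((isIntegral_intCast v).mul (char_isIntegral ρ g))
  rw [← hρ]
  rcases CharTools.eq_zero_or_scalar_of_isIntegral ρ g hint with h0 | ⟨c, hc⟩
  · exact Or.inl h0
  · right
    have hc1 : ‖c‖ = 1 := by
      haveI : Nontrivial (Fin n → ℂ) := Module.finrank_pos_iff.mp (irreducible_finrank_pos (ρ := ρ))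
      refine Complex.norm_eq_one_of_pow_eq_one (n := Nat.card G) ?_ Nat.card_pos.ne'
      have := CharTools.pow_card_eq ρ g
      rw [hc, smul_pow, one_pow] at this
      exact smul_left_injective ℂ (one_ne_zero (α := Module.End ℂ (Fin n → ℂ)))
        (this.trans (one_smul ℂ _).symm)
    rw [Representation.character, hc, map_smul, LinearMap.trace_one, smul_eq_mul, norm_mul, hc1,
      one_mul, Complex.norm_natCast]

/-- A faithful character: an element with `‖χ g‖ = χ 1` is central. -/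
theorem mem_center_of_norm_eq (χ : Cfsg.IrrCharacter G)
    (hf : ∀ g : G, (χ : G → ℂ) g = (χ : G → ℂ) 1 → g = 1) (g : G)
    (h : ‖(χ : G → ℂ) g‖ = Cfsg.charDegree (χ : G → ℂ)) : g ∈ Subgroup.center G := by
  obtain ⟨n, ρ, hirr, hρ⟩ := χ.2
  obtain ⟨ω, -, hω, -⟩ := exists_scalar_of_norm_char_eq ρ g (by
    rw [hρ, h, ← norm_apply_one, ← hρ, Representation.char_one, Complex.norm_natCast])
  rw [Subgroup.mem_center_iff]
  intro x
  have hcomm : ρ (x * g) = ρ (g * x) := by
    rw [map_mul, map_mul, hω]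
    ext v; simp
  have h1 : ρ ((g * x)⁻¹ * (x * g)) = 1 := by
    rw [map_mul, hcomm, ← map_mul, inv_mul_cancel, map_one]
  have := hf ((g * x)⁻¹ * (x * g)) (by rw [← hρ]; simp only [Representation.character, h1, map_one])
  exact (inv_mul_eq_one.mp this).symm

end Finite

end CfsgLib.DegreeTools
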