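import Cfsg.Agent.Lib.DegreeTools.Basic

/-!
# Normal subgroups seen by a character
-/

namespace CfsgLib.DegreeTools

open CfsgLib.Char

variable {G : Type*} [Group G] [Finite G]

/-- If the restriction of an irreducible character to a normal subgroup contains the principal
character, the subgroup lies in the kernel. -/
theorem le_ker_of_sum_ne_zero (χ : Cfsg.IrrCharacter G) (K : Subgroup G) [hK : K.Normal]
    [Fintype K] (h : ∑ k : K, (χ : G → ℂ) k ≠ 0) :
    ∀ k ∈ K, (χ : G → ℂ) k = (χ : G → ℂ) 1 := by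
  obtain ⟨n, ρ, hirr, hρ⟩ := χ.2
  haveI := hirr
  set A : Module.End ℂ (Fin n → ℂ) := ∑ k : K, ρ k with hA
  have hAc : ∀ g, A ∘ₗ ρ g = ρ g ∘ₗ A := by
    intro g
    rw [← Module.End.mul_eq_comp, ← Module.End.mul_eq_comp, hA, Finset.sum_mul, Finset.mul_sum]
    refine Fintype.sum_equiv (MulAut.conjNormal g⁻¹).toEquiv _ _ fun k => ?_
    rw [← map_mul, ← map_mul]
    congr 1
    simp only [MulEquiv.toEquiv_eq_coe, MulEquiv.coe_toEquiv, MulAut.conjNormal_apply]
    group
  obtain ⟨c, hc⟩ := exists_eq_smul_of_commute ρ A hAc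
  have hc0 : c ≠ 0 := by
    intro hc0
    apply h
    have h1 : LinearMap.trace ℂ _ A = 0 := by rw [hc, hc0, zero_smul, map_zero]
    rw [hA, map_sum] at h1
    rw [← hρ]
    exact h1
  intro k hk
  have hAk : ρ k * A = A := by
    rw [hA, Finset.mul_sum]
    refine Fintype.sum_equiv (Equiv.mulLeft (⟨k, hk⟩ : K)) _ _ fun j => ?_
    rw [← map_mul]; rfl
  have hk1 : ρ k = LinearMap.id := by
    rw [hc, mul_smul_comm] at hAk
    have := smul_right_injective _ hc0 hAk
    rwa [← Module.End.one_eq_id, mul_one] at this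
  rw [← hρ, Representation.char_one, char_eq_finrank_iff]
  exact hk1

/-- A normal subgroup on which a faithful irreducible character sums to a nonzero value is
trivial. -/
theorem eq_bot_of_sum_ne_zero (χ : Cfsg.IrrCharacter G)
    (hf : ∀ g : G, (χ : G → ℂ) g = (χ : G → ℂ) 1 → g = 1) (K : Subgroup G) [K.Normal] [Fintype K]
    (h : ∑ k : K, (χ : G → ℂ) k ≠ 0) : K = ⊥ :=
  (Subgroup.eq_bot_iff_forall K).mpr fun k hk => hf k (le_ker_of_sum_ne_zero χ K h k hk)

end CfsgLib.DegreeTools
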