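import Cfsg.Agent.Lib.DegreeTools.ValLattice
import Cfsg.Agent.Lib.Char.Orth
import Mathlib.GroupTheory.Sylow
import Mathlib.RingTheory.Nakayama
import Mathlib.LinearAlgebra.FreeModule.Basic

/-!
# Small characters and trivial-intersection Sylow subgroups

A character without trivial constituent, of degree below the order of a trivial-intersection
Sylow `p`-subgroup `P`, has no trivial constituent on any subgroup containing `N(P)`.
-/

set_option autoImplicit false

open scoped Pointwise ComplexConjugate

namespace CfsgLib.DegreeTools.TISum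

open Cfsg CfsgLib CfsgLib.Blocks ValLattice Matrix

theorem exists_pmodular {p : ℕ} (hp : p.Prime) : ∃ M : Ideal AlgInt, IsPModular p M := by
  have hne : Ideal.span ({(p : AlgInt)} : Set AlgInt) ≠ ⊤ := by
    rw [Ne, Ideal.span_singleton_eq_top, isUnit_iff_exists_inv]
    rintro ⟨y, hy⟩
    have h1 : (p : ℂ) * (y : ℂ) = 1 := by simpa using congrArg (fun w : AlgInt => (w : ℂ)) hy
    have hint : IsIntegral ℤ ((p : ℚ)⁻¹) := by
      rw [← isIntegral_algebraMap_iff (algebraMap ℚ ℂ).injective, map_inv₀, map_natCast,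
        inv_eq_of_mul_eq_one_right h1]
      exact y.2
    obtain ⟨z, hz⟩ := IsIntegrallyClosed.algebraMap_eq_of_integral hint
    have h2 : ((z * p : ℤ) : ℚ) = ((1 : ℤ) : ℚ) := by
      push_cast
      rw [show (z : ℚ) = (p : ℚ)⁻¹ by simpa using hz,
        inv_mul_cancel₀ (by exact_mod_cast hp.ne_zero)]
    have h3 : z * p = 1 := by exact_mod_cast h2
    exact hp.ne_one (by exact_mod_cast Int.eq_one_of_mul_eq_one_left (Int.natCast_nonneg p) h3)
  obtain ⟨M, hM, hle⟩ := Ideal.exists_le_maximal _ hne
  exact ⟨M, hp, hM, hle (Ideal.mem_span_singleton_self _)⟩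

variable {G : Type*} [Group G]

/-- Realisation of a representation by matrices over the algebraic numbers. -/
theorem exists_qbar_rep [Fintype G] {n : ℕ} (ρ : Representation ℂ G (Fin n → ℂ)) :
    ∃ A : G →* Matrix (Fin n) (Fin n) QBar,
      ∀ g, ρ.character g = ((A g).trace : ℂ) := by
  classical
  obtain ⟨σ, ⟨e⟩, hσ⟩ := Char.Realize.exists_adjoin_rep n ρ
  have hz : IsAlgebraic ℚ (Complex.exp (2 * Real.pi * Complex.I / (Monoid.exponent G : ℂ))) :=
    ((Complex.isPrimitiveRoot_exp _ Monoid.exponent_ne_zero_of_finite).isIntegral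
      (Monoid.exponent_pos.2 Monoid.ExponentExists.of_finite)).tower_top.isAlgebraic
  have hmem : ∀ g i j, LinearMap.toMatrix' (σ g) i j ∈ algebraicClosure ℚ ℂ := fun g i j => by
    have hle : Algebra.adjoin ℚ ({Complex.exp (2 * Real.pi * Complex.I / (Monoid.exponent G : ℂ))}
        : Set ℂ) ≤ (algebraicClosure ℚ ℂ).toSubalgebra :=
      Algebra.adjoin_le (Set.singleton_subset_iff.2 (mem_algebraicClosure_iff.2 hz))
    exact hle (hσ g i j)
  let A : G → Matrix (Fin n) (Fin n) QBar := fun g => Matrix.of fun i j =>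
    ⟨LinearMap.toMatrix' (σ g) i j, hmem g i j⟩
  have hA : ∀ g, (A g).map (algebraMap QBar ℂ) = LinearMap.toMatrix' (σ g) := fun g => rfl
  have hinj : Function.Injective fun X : Matrix (Fin n) (Fin n) QBar => X.map (algebraMap QBar ℂ) :=
    Matrix.map_injective (algebraMap QBar ℂ).injective
  refine ⟨{ toFun := A, map_one' := hinj ?_, map_mul' := fun g h => hinj ?_ }, fun g => ?_⟩
  · show (A 1).map _ = (1 : Matrix (Fin n) (Fin n) QBar).map _
    rw [hA, map_one, Matrix.map_one _ (map_zero _) (map_one _)]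
    exact LinearMap.toMatrix'_one
  · show (A (g * h)).map _ = (A g * A h).map _
    rw [hA, Matrix.map_mul, hA, hA, map_mul, LinearMap.toMatrix'_mul]
  · rw [Representation.char_iso e]
    show LinearMap.trace ℂ _ (σ g) = algebraMap QBar ℂ (A g).trace
    rw [LinearMap.trace_eq_matrix_trace ℂ (Pi.basisFun ℂ (Fin n)),
      AddMonoidHom.map_trace (algebraMap QBar ℂ)]
    congr 1

/-- An element fixing a coset off `N(P)` is trivial. -/
theorem eq_one_of_smul_coset [Finite G] {p : ℕ} [Fact p.Prime] (P : Sylow p G)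
    (hTI : ∀ g : G, g ∉ Subgroup.normalizer ((P : Subgroup G) : Set G) →
      (P : Subgroup G) ⊓ (MulAut.conj g • (P : Subgroup G)) = ⊥)
    {H : Subgroup G} (hH : Subgroup.normalizer ((P : Subgroup G) : Set G) ≤ H)
    {u : (P : Subgroup G)} {g : G} (hg : g ∉ H) (hfix : g⁻¹ * u * g ∈ H) : u = 1 := by
  have hPH : (P : Subgroup G) ≤ H := le_trans Subgroup.le_normalizer hH
  have hcyc : IsPGroup p (Subgroup.zpowers (⟨g⁻¹ * u * g, hfix⟩ : H)) := by
    rw [IsPGroup.iff_orderOf]
    intro x
    obtain ⟨k, hk⟩ := P.2.exists_orderOf_eq_pow u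
    have hx : orderOf x ∣ p ^ k := by
      have h1 : orderOf x ∣ orderOf (⟨g⁻¹ * u * g, hfix⟩ : H) := by
        rw [← Nat.card_zpowers (⟨g⁻¹ * u * g, hfix⟩ : H)]; exact orderOf_dvd_natCard x
      refine h1.trans ?_
      rw [← hk, ← Subgroup.orderOf_coe u, ← Subgroup.orderOf_coe]
      have : orderOf (g⁻¹ * (u : G) * g⁻¹⁻¹) = orderOf (u : G) :=
        MulEquiv.orderOf_eq (MulAut.conj g⁻¹) (u : G)
      rw [inv_inv] at this
      exact this ▸ dvd_rfl
    obtain ⟨i, -, hi⟩ := (Nat.dvd_prime_pow (Fact.out : p.Prime)).1 hx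
    exact ⟨i, hi⟩
  obtain ⟨Q, hQ⟩ := hcyc.exists_le_sylow
  obtain ⟨h, hh⟩ := MulAction.exists_smul_eq H Q (P.subtype hPH)
  have hm : (h : G) * (g⁻¹ * u * g) * (h : G)⁻¹ ∈ (P : Subgroup G) := by
    have h1 : MulAut.conj h (⟨g⁻¹ * u * g, hfix⟩ : H) ∈ ((h • Q : Sylow p H) : Subgroup H) :=
      ⟨_, hQ (Subgroup.mem_zpowers _), rfl⟩
    rw [hh] at h1
    exact h1
  by_contra hu
  have hgn : g * (h : G)⁻¹ ∉ Subgroup.normalizer ((P : Subgroup G) : Set G) := fun hmem =>
    hg (by simpa using H.mul_mem (hH hmem) h.2)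
  have hbot := hTI _ hgn
  have : (u : G) ∈ (⊥ : Subgroup G) := by
    rw [← hbot]
    refine ⟨u.2, ?_⟩
    exact ⟨_, hm, by simp [MulAut.conj_apply, mul_assoc]⟩
  exact hu (Subtype.ext (Subgroup.mem_bot.1 this))

/-- A sum over a free orbit-stable set is a norm. -/
theorem exists_sum_eq_norm {P X V : Type*} [Group P] [Fintype P] [MulAction P X] [DecidableEq X]
    [AddCommGroup V] (T : P → V →+ V) (f : X → V) (hf : ∀ u q, f (u • q) = T u (f q))
    (L : AddSubgroup V) (hL : ∀ q, f q ∈ L) :
    ∀ s : Finset X, (∀ u : P, ∀ q ∈ s, u • q ∈ s) → (∀ u : P, ∀ q ∈ s, u • q = q → u = 1) →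
      ∃ w ∈ L, ∑ q ∈ s, f q = ∑ u, T u w := by
  intro s
  induction s using Finset.strongInduction with
  | H s ih =>
    intro hstab hfree
    rcases s.eq_empty_or_nonempty with rfl | ⟨q, hq⟩
    · exact ⟨0, L.zero_mem, by simp⟩
    · set o := Finset.univ.image fun u : P => u • q with ho
      have hos : o ⊆ s := fun y hy => by
        obtain ⟨u, -, rfl⟩ := Finset.mem_image.1 hy
        exact hstab u q hq
      have hqo : q ∈ o := Finset.mem_image.2 ⟨1, Finset.mem_univ _, one_smul _ _⟩
      obtain ⟨w, hw, hsum⟩ := ih (s \ o) (Finset.sdiff_ssubset hos ⟨q, hqo⟩)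
        (fun u y hy => by
          rw [Finset.mem_sdiff] at hy ⊢
          refine ⟨hstab u y hy.1, fun hyo => hy.2 ?_⟩
          obtain ⟨v, -, hv⟩ := Finset.mem_image.1 hyo
          exact Finset.mem_image.2 ⟨u⁻¹ * v, Finset.mem_univ _, by
            rw [mul_smul, hv, inv_smul_smul]⟩)
        (fun u y hy => hfree u y (Finset.mem_sdiff.1 hy).1)
      refine ⟨w + f q, L.add_mem hw (hL q), ?_⟩
      rw [← Finset.sum_sdiff hos, hsum, Finset.sum_image ?_]
      · simp [Finset.sum_add_distrib, hf]
      · intro u _ v _ huv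
        have hfix : (v⁻¹ * u) • q = q := by
          rw [mul_smul]; exact inv_smul_eq_iff.2 huv
        exact (inv_mul_eq_one.1 (hfree _ q hq hfix)).symm

/-- A `p`-group larger than the rank carries a lattice into its multiples by the maximal
ideal. -/
theorem norm_mem_maximal {p : ℕ} [Fact p.Prime] {R L P : Type*} [CommRing R] [IsLocalRing R]
    [AddCommGroup L] [Module R L] {ι : Type*} [Fintype ι] (b : Module.Basis ι R L) [Group P]
    [Fintype P] (hP : IsPGroup p P) (hp : (p : R) ∈ IsLocalRing.maximalIdeal R)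
    (hd : Fintype.card ι < Nat.card P) (ρ : Representation R P L) (x : L) :
    ∑ u : P, ρ u x ∈ IsLocalRing.maximalIdeal R • (⊤ : Submodule R L) := by
  classical
  haveI : CharP (IsLocalRing.ResidueField R) p :=
    (CharP.charP_iff_prime_eq_zero Fact.out).2 (by
      rw [← map_natCast (IsLocalRing.residue R), IsLocalRing.residue_eq_zero_iff]
      exact hp)
  let res : Matrix ι ι R →* Matrix ι ι (IsLocalRing.ResidueField R) :=
    (IsLocalRing.residue R).mapMatrix.toMonoidHom
  let A : P →* Matrix ι ι R :=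
    { toFun := fun u => LinearMap.toMatrix b b (ρ u)
      map_one' := by rw [map_one]; exact LinearMap.toMatrix_one b
      map_mul' := fun u v => by rw [map_mul]; exact LinearMap.toMatrix_mul b _ _ }
  let ρk : Representation (IsLocalRing.ResidueField R) P (ι → IsLocalRing.ResidueField R) :=
    (Matrix.toLinAlgEquiv' : Matrix ι ι (IsLocalRing.ResidueField R) ≃ₐ[IsLocalRing.ResidueField R] _)
      |>.toAlgHom.toMonoidHom.comp (res.comp A)
  have hzero := norm_eq_zero_of_finrank_lt (p := p) hP ρk (by rwa [Module.finrank_pi])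
    (fun i => IsLocalRing.residue R (b.repr x i))
  rw [← b.sum_repr (∑ u : P, ρ u x)]
  refine Submodule.sum_mem _ fun i _ => Submodule.smul_mem_smul ?_ Submodule.mem_top
  rw [← IsLocalRing.residue_eq_zero_iff]
  have h := congrFun hzero i
  rw [Finset.sum_apply, Pi.zero_apply] at h
  rw [← h, map_sum, Finsupp.finsetSum_apply, map_sum]
  refine Finset.sum_congr rfl fun u _ => ?_
  show _ = ((A u).map (IsLocalRing.residue R) *ᵥ fun j => IsLocalRing.residue R (b.repr x j)) i
  rw [← congrFun (LinearMap.toMatrix_mulVec_repr b b (ρ u) x) i]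
  simp [A, Matrix.mulVec, dotProduct]

/-- The main step, for matrices over the algebraic numbers. -/
theorem sum_eq_zero [Fintype G] {p : ℕ} [Fact p.Prime] (P : Sylow p G)
    (hTI : ∀ g : G, g ∉ Subgroup.normalizer ((P : Subgroup G) : Set G) →
      (P : Subgroup G) ⊓ (MulAut.conj g • (P : Subgroup G)) = ⊥)
    (H : Subgroup G) [Fintype H] (hH : Subgroup.normalizer ((P : Subgroup G) : Set G) ≤ H)
    {n : ℕ} (hn : n < Nat.card ↥(P : Subgroup G)) (A : G →* Matrix (Fin n) (Fin n) QBar)
    (hA : ∑ g, A g = 0) : ∑ h : H, A h = 0 := by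
  classical
  by_contra hne
  obtain ⟨i₀, j₀, hij⟩ : ∃ i j, (∑ h : H, A h) i j ≠ 0 := by
    by_contra hall
    push Not at hall
    exact hne (Matrix.ext hall)
  set v : Fin n → QBar := fun i => (∑ h : H, A h) i j₀ with hv
  have hvne : v ≠ 0 := fun h => hij (congrFun h i₀)
  have hvcol : v = (∑ h : H, A h) *ᵥ Pi.single j₀ 1 := by
    ext i; simp [hv]
  have hfix : ∀ k : H, A k *ᵥ v = v := fun k => by
    rw [hvcol, Matrix.mulVec_mulVec, Finset.mul_sum]
    congr 1
    exact Fintype.sum_equiv (Equiv.mulLeft k) _ _ fun h => by simp [← map_mul]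
  let f : G ⧸ H → (Fin n → QBar) := fun q => Quotient.liftOn' q (fun g => A g *ᵥ v) fun a b hab => by
    have := hfix ⟨a⁻¹ * b, QuotientGroup.leftRel_apply.1 hab⟩
    calc A a *ᵥ v = A a *ᵥ (A (a⁻¹ * b) *ᵥ v) := by rw [this]
      _ = A b *ᵥ v := by rw [Matrix.mulVec_mulVec, ← map_mul, mul_inv_cancel_left]
  have hf : ∀ (g : G) (q : G ⧸ H), f (g • q) = A g *ᵥ f q := fun g q => by
    induction q using QuotientGroup.induction_on with
    | H a => show A (g * a) *ᵥ v = A g *ᵥ (A a *ᵥ v); rw [map_mul, Matrix.mulVec_mulVec]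
  obtain ⟨M, hM⟩ := exists_pmodular (Fact.out : p.Prime)
  let R := valSub hM
  let L : Submodule R (Fin n → QBar) := Submodule.span R (Set.range f)
  haveI : Module.Finite R L := Module.Finite.span_of_finite R (Set.finite_range f)
  haveI : Module.IsTorsionFree R L := inferInstance
  haveI : Module.Flat R L := Module.Flat.flat_iff_torsion_eq_bot_of_isBezout.2 (by
    rw [← Submodule.isTorsionFree_iff_torsion_eq_bot]; infer_instance)
  haveI : Module.Free R L := Module.free_of_flat_of_isLocalRing
  let b := Module.Free.chooseBasis R L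
  haveI : Fintype (Module.Free.ChooseBasisIndex R L) := Module.Free.ChooseBasisIndex.fintype R L
  have hrank : Fintype.card (Module.Free.ChooseBasisIndex R L) < Nat.card ↥(P : Subgroup G) := by
    have h1 : LinearIndependent R fun i => (b i : Fin n → QBar) :=
      b.linearIndependent.map' L.subtype (Submodule.ker_subtype _)
    have h2 := ((LinearIndependent.iff_fractionRing R QBar).1 h1).fintype_card_le_finrank
    rw [Module.finrank_fin_fun] at h2
    omega
  have hstab : ∀ (g : G), ∀ x ∈ L, A g *ᵥ x ∈ L := fun g x hx => by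
    induction hx using Submodule.span_induction with
    | mem x hx =>
      obtain ⟨q, rfl⟩ := hx
      exact hf g q ▸ Submodule.subset_span ⟨_, rfl⟩
    | zero => simp
    | add x y _ _ hx hy => rw [Matrix.mulVec_add]; exact L.add_mem hx hy
    | smul c x _ hx => rw [Matrix.mulVec_smul]; exact L.smul_mem c hx
  let σ : Representation R G L :=
    { toFun := fun g =>
        { toFun := fun x => ⟨A g *ᵥ x, hstab g x x.2⟩
          map_add' := fun x y => Subtype.ext (by simp [Matrix.mulVec_add])
          map_smul' := fun c x => Subtype.ext (by simp [Matrix.mulVec_smul]) }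
      map_one' := LinearMap.ext fun x => Subtype.ext (by simp)
      map_mul' := fun g h => LinearMap.ext fun x => Subtype.ext (by
        simp [map_mul, Matrix.mulVec_mulVec]) }
  -- the sum over all cosets vanishes
  have htot : ∑ q : G ⧸ H, f q = 0 := by
    have h0 : ∑ g, A g *ᵥ v = 0 := by rw [← Matrix.sum_mulVec, hA, Matrix.zero_mulVec]
    have h1 : ∑ g, A g *ᵥ v = (Nat.card H) • ∑ q : G ⧸ H, f q := by
      rw [Finset.smul_sum, ← Finset.sum_fiberwise (g := (QuotientGroup.mk : G → G ⧸ H))]
      refine Finset.sum_congr rfl fun q _ => ?_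
      rw [Finset.sum_congr rfl (g := fun _ => f q) fun g hg => by
        rw [← (Finset.mem_filter.1 hg).2]; rfl, Finset.sum_const]
      congr 1
      induction q using QuotientGroup.induction_on with
      | H a =>
        rw [Nat.card_eq_fintype_card, ← Finset.card_univ]
        refine (Finset.card_bij (fun (h : H) _ => a * h) (fun h _ => by simp [QuotientGroup.eq])
          (fun x _ y _ hxy => Subtype.ext (mul_left_cancel hxy)) fun g hg => ?_).symm
        have : a⁻¹ * g ∈ H := QuotientGroup.eq.1 (Finset.mem_filter.1 hg).2.symm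
        exact ⟨⟨a⁻¹ * g, this⟩, Finset.mem_univ _, by simp⟩
    rw [h0, eq_comm, ← Nat.cast_smul_eq_nsmul QBar, smul_eq_zero] at h1
    exact h1.resolve_left (by exact_mod_cast Nat.card_pos.ne')
  -- the base coset is a norm from `P`
  have hPH : (P : Subgroup G) ≤ H := le_trans Subgroup.le_normalizer hH
  obtain ⟨w, hw, hsum⟩ := exists_sum_eq_norm (P := ↥(P : Subgroup G))
    (fun u => (Matrix.mulVecLin (A u)).toAddMonoidHom) f
    (fun u q => hf u q) L.toAddSubgroup (fun q => Submodule.subset_span ⟨q, rfl⟩)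
    (Finset.univ.erase ((1 : G) : G ⧸ H))
    (fun u q hq => by
      simp only [Finset.mem_erase, Finset.mem_univ, and_true] at hq ⊢
      intro h
      refine hq ?_
      rw [← inv_smul_smul u q, h]
      show (((u : G)⁻¹ * 1 : G) : G ⧸ H) = _
      rw [QuotientGroup.eq]
      simpa using hPH u.2)
    (fun u q hq hq' => by
      simp only [Finset.mem_erase, Finset.mem_univ, and_true] at hq
      induction q using QuotientGroup.induction_on with
      | H a =>
        refine eq_one_of_smul_coset P hTI hH (g := a) (fun ha => hq ?_) ?_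
        · rw [QuotientGroup.eq]; simpa using H.inv_mem ha
        · have h' : ((u * a : G) : G ⧸ H) = (a : G ⧸ H) := hq'
          have := QuotientGroup.eq.1 h'.symm
          simpa [mul_assoc] using this)
  let x : L := ⟨f ((1 : G) : G ⧸ H), Submodule.subset_span ⟨_, rfl⟩⟩
  have hx : x ∈ IsLocalRing.maximalIdeal R • (⊤ : Submodule R L) := by
    have hxv : x = -∑ u : (P : Subgroup G), (σ.comp (P : Subgroup G).subtype) u ⟨w, hw⟩ := by
      refine Subtype.ext ?_
      rw [← Finset.sum_erase_add _ _ (Finset.mem_univ ((1 : G) : G ⧸ H)), hsum] at htot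
      simpa [x, σ] using eq_neg_of_add_eq_zero_right htot
    rw [hxv]
    exact Submodule.neg_mem _ (norm_mem_maximal b P.2 (natCast_mem_maximal hM) hrank _ _)
  have htop : (⊤ : Submodule R L) ≤ IsLocalRing.maximalIdeal R • (⊤ : Submodule R L) := by
    rintro ⟨y, hy⟩ -
    induction hy using Submodule.span_induction with
    | mem y hy =>
      obtain ⟨q, rfl⟩ := hy
      induction q using QuotientGroup.induction_on with
      | H a =>
        have h1 : (⟨f (a : G ⧸ H), Submodule.subset_span ⟨_, rfl⟩⟩ : L) = σ a x :=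
          Subtype.ext (by
            show f (a : G ⧸ H) = A a *ᵥ f ((1 : G) : G ⧸ H)
            rw [← hf a ((1 : G) : G ⧸ H)]
            show f (a : G ⧸ H) = f ((a * 1 : G) : G ⧸ H)
            rw [mul_one])
        rw [h1]
        have h2 : Submodule.map (σ a) (IsLocalRing.maximalIdeal R • (⊤ : Submodule R L)) ≤
            IsLocalRing.maximalIdeal R • (⊤ : Submodule R L) := by
          rw [Submodule.map_smul'']
          exact Submodule.smul_mono le_rfl le_top
        exact h2 ⟨x, hx, rfl⟩
    | zero => exact Submodule.zero_mem _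
    | add y z _ _ hy hz => exact Submodule.add_mem _ hy hz
    | smul c y _ hy => exact Submodule.smul_mem _ c hy
  have hbot : (⊤ : Submodule R L) = ⊥ :=
    Submodule.eq_bot_of_le_smul_of_le_jacobson_bot _ _ Module.Finite.fg_top htop
      (IsLocalRing.maximalIdeal_le_jacobson _)
  have hx0 : x = 0 := (Submodule.mem_bot R).1 (hbot ▸ Submodule.mem_top)
  exact hvne (by simpa [x, f] using congrArg Subtype.val hx0)

/-- A character with no trivial constituent and degree below `|P|` has none on `H`. -/
theorem classInner_one_restrict [Fintype G] {p : ℕ} [Fact p.Prime] (P : Sylow p G)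
    (hTI : ∀ g : G, g ∉ Subgroup.normalizer ((P : Subgroup G) : Set G) →
      (P : Subgroup G) ⊓ (MulAut.conj g • (P : Subgroup G)) = ⊥)
    (H : Subgroup G) [Fintype H] (hH : Subgroup.normalizer ((P : Subgroup G) : Set G) ≤ H)
    {η : G → ℂ} (hη : IsCharacter G η) (hdeg : ∀ n : ℕ, η 1 = n → n < Nat.card ↥(P : Subgroup G))
    (h0 : ∑ g, η g = 0) : ∑ h : H, η h = 0 := by
  classical
  obtain ⟨n, ρ, rfl⟩ := hη
  obtain ⟨A, hA⟩ := exists_qbar_rep ρ
  have hn : n < Nat.card ↥(P : Subgroup G) := hdeg n (by simp)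
  have hG : ∑ g, A g = 0 := by
    set E := ∑ g, A g with hE
    have hidem : E * E = (Nat.card G : QBar) • E := by
      rw [hE, Finset.sum_mul, Nat.cast_smul_eq_nsmul, Nat.card_eq_fintype_card, ← Finset.card_univ]
      refine (Finset.sum_congr rfl fun g _ => ?_).trans (Finset.sum_const _)
      rw [Finset.mul_sum]
      exact Fintype.sum_equiv (Equiv.mulLeft g) _ _ fun h => by simp
    have htr : E.trace = 0 := by
      apply (algebraMap QBar ℂ).injective
      rw [map_zero, hE, Matrix.trace_sum, map_sum, ← h0]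
      exact Finset.sum_congr rfl fun g _ => (hA g).symm
    have hN : (Nat.card G : QBar) ≠ 0 := by exact_mod_cast Nat.card_pos.ne'
    set e := (Nat.card G : QBar)⁻¹ • E with he
    have hee : IsIdempotentElem e := by
      show e * e = e
      rw [he, smul_mul_smul_comm, hidem, smul_smul, mul_assoc, inv_mul_cancel₀ hN, mul_one]
    have he0 : Matrix.toLin' e = 0 := by
      set t := Matrix.toLin' e
      have ht : IsIdempotentElem t := by
        show Matrix.toLin' e ∘ₗ Matrix.toLin' e = Matrix.toLin' e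
        rw [← Matrix.toLin'_mul e e, hee.eq]
      have hpr := LinearMap.IsIdempotentElem.isProj_range _ ht
      have := hpr.trace
      rw [Matrix.trace_toLin'_eq, he, Matrix.trace_smul, htr, smul_zero, eq_comm, Nat.cast_eq_zero,
        Submodule.finrank_eq_zero, LinearMap.range_eq_bot] at this
      exact this
    have : e = 0 := Matrix.toLin'.injective (by rw [he0, map_zero])
    rw [he, smul_eq_zero] at this
    exact this.resolve_left (inv_ne_zero hN)
  have h := sum_eq_zero P hTI H hH hn A hG
  calc ∑ h : H, ρ.character h = algebraMap QBar ℂ (∑ h : H, A h).trace := by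
        rw [Matrix.trace_sum, map_sum]
        exact Finset.sum_congr rfl fun h _ => hA h
    _ = 0 := by rw [h, Matrix.trace_zero, map_zero]

end CfsgLib.DegreeTools.TISum
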