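import Cfsg.Agent.Lib.DegreeTools.Basic
import Cfsg.Agent.Lib.Char.Quotient
import Cfsg.Agent.Lib.CharDeep.CentralTrick
import Mathlib.RingTheory.IntegralDomain
import Mathlib.GroupTheory.Commutator.Basic

/-!
# Characters and the centre: scalars, degree bound, support
-/

namespace CfsgLib.DegreeTools

open CfsgLib CfsgLib.Char
open scoped commutatorElement

variable {G : Type*} [Group G] [Finite G]

/-- Multiplicativity of the central character. -/
theorem apply_mul_center (χ : Cfsg.IrrCharacter G) {z : G} (hz : z ∈ Subgroup.center G) (g : G) :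
    (χ : G → ℂ) (g * z) = (χ : G → ℂ) z / (χ : G → ℂ) 1 * (χ : G → ℂ) g := by
  obtain ⟨c, hc, -⟩ := CharDeep.CentralTrick.exists_scalar_center χ.2 hz
  have h1 := hc 1
  rw [one_mul] at h1
  rw [hc g, h1, mul_div_cancel_right₀ _ (IsIrrCharacter.apply_one_ne_zero χ.2)]

/-- The central character as a homomorphism. -/
noncomputable def centralHom (χ : Cfsg.IrrCharacter G) : Subgroup.center G →* ℂ where
  toFun z := (χ : G → ℂ) z / (χ : G → ℂ) 1
  map_one' := by simp [IsIrrCharacter.apply_one_ne_zero χ.2]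
  map_mul' a b := by
    rw [Subgroup.coe_mul, apply_mul_center χ b.2]
    ring

theorem apply_center_eq (χ : Cfsg.IrrCharacter G) (z : Subgroup.center G) :
    (χ : G → ℂ) z = centralHom χ z * (χ : G → ℂ) 1 :=
  (div_mul_cancel₀ _ (IsIrrCharacter.apply_one_ne_zero χ.2)).symm

theorem centralHom_pow_card (χ : Cfsg.IrrCharacter G) (z : Subgroup.center G) :
    centralHom χ z ^ Nat.card (Subgroup.center G) = 1 := by
  rw [← map_pow, pow_card_eq_one', map_one]

theorem norm_apply_center (χ : Cfsg.IrrCharacter G) {z : G} (hz : z ∈ Subgroup.center G) :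
    ‖(χ : G → ℂ) z‖ = Cfsg.charDegree (χ : G → ℂ) := by
  rw [show (χ : G → ℂ) z = _ from apply_center_eq χ ⟨z, hz⟩, norm_mul,
    Complex.norm_eq_one_of_pow_eq_one (centralHom_pow_card χ _) Nat.card_pos.ne', one_mul,
    norm_apply_one]

/-- `χ(1)² |Z(G)| ≤ |G|`. -/
theorem deg_sq_mul_card_center_le (χ : Cfsg.IrrCharacter G) :
    Cfsg.charDegree (χ : G → ℂ) ^ 2 * Nat.card (Subgroup.center G) ≤ Nat.card G := by
  classical
  cases nonempty_fintype G
  have h := sum_norm_sq χ
  have hle : ∑ g ∈ Finset.univ.filter (fun g => g ∈ Subgroup.center G), ‖(χ : G → ℂ) g‖ ^ 2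
      ≤ ∑ g, ‖(χ : G → ℂ) g‖ ^ 2 :=
    Finset.sum_le_sum_of_subset_of_nonneg (Finset.filter_subset _ _) fun _ _ _ => sq_nonneg _
  rw [h, Finset.sum_congr rfl fun g hg => by
    rw [norm_apply_center χ (Finset.mem_filter.mp hg).2], Finset.sum_const, nsmul_eq_mul] at hle
  rw [← Fintype.card_subtype, ← Nat.card_eq_fintype_card] at hle
  exact_mod_cast (mul_comm _ _).trans_le hle

/-- A character supported on the centre has `χ(1)² |Z(G)| = |G|`. -/
theorem deg_sq_mul_card_center_eq (χ : Cfsg.IrrCharacter G)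
    (hv : ∀ g, g ∉ Subgroup.center G → (χ : G → ℂ) g = 0) :
    Cfsg.charDegree (χ : G → ℂ) ^ 2 * Nat.card (Subgroup.center G) = Nat.card G := by
  classical
  cases nonempty_fintype G
  have h := sum_norm_sq χ
  rw [← Finset.sum_subset (Finset.subset_univ (Finset.univ.filter (· ∈ Subgroup.center G)))
    fun g _ hg => by rw [hv g fun hz => hg (Finset.mem_filter.mpr ⟨Finset.mem_univ _, hz⟩)]; simp,
    Finset.sum_congr rfl fun g hg => by
    rw [norm_apply_center χ (Finset.mem_filter.mp hg).2], Finset.sum_const, nsmul_eq_mul,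
    ← Fintype.card_subtype, ← Nat.card_eq_fintype_card] at h
  exact_mod_cast (mul_comm _ _).trans h

/-- A character of degree other than one is nontrivial on some commutator. -/
theorem exists_commutator_apply_ne (χ : Cfsg.IrrCharacter G)
    (h1 : Cfsg.charDegree (χ : G → ℂ) ≠ 1) :
    ∃ a b : G, (χ : G → ℂ) ⁅a, b⁆ ≠ (χ : G → ℂ) 1 := by
  by_contra h
  push Not at h
  apply h1
  haveI := charKer_normal (isCharacter_irr χ)
  have hle : commutator G ≤ charKer (isCharacter_irr χ) := by
    rw [commutator_def, Subgroup.commutator_le]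
    exact fun a _ b _ => (mem_charKer _).mpr (h a b)
  obtain ⟨ψ, hψ, he⟩ := IsIrrCharacter.exists_deflate χ.2 (commutator G)
    fun n hn => (mem_charKer _).mp (hle hn)
  rw [deg_eq_one_iff, he, Function.comp_apply, map_one]
  refine apply_one_eq_one_of_comm (fun a b => ?_) hψ
  obtain ⟨x, rfl⟩ := QuotientGroup.mk'_surjective _ a
  obtain ⟨y, rfl⟩ := QuotientGroup.mk'_surjective _ b
  rw [← commutatorElement_eq_one_iff_mul_comm, ← map_commutatorElement, QuotientGroup.mk'_apply,
    QuotientGroup.eq_one_iff, commutator_def]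
  exact Subgroup.commutator_mem_commutator (Subgroup.mem_top x) (Subgroup.mem_top y)

/-- A character of degree one is trivial on the commutator subgroup. -/
theorem deg_ne_one_of_apply_ne (χ : Cfsg.IrrCharacter G) {c : G} (hc : c ∈ commutator G)
    (hχ : (χ : G → ℂ) c ≠ (χ : G → ℂ) 1) : Cfsg.charDegree (χ : G → ℂ) ≠ 1 := by
  intro h
  rw [deg_eq_one_iff] at h
  obtain ⟨φ, hφ⟩ := exists_hom_of_apply_one_eq_one (isCharacter_irr χ) h
  apply hχ
  rw [h, hφ]
  simp [MonoidHom.mem_ker.mp (Abelianization.commutator_subset_ker φ hc)]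

/-- Vanishing at an element moved to a central translate outside the kernel. -/
theorem vanish_of_commutator (χ : Cfsg.IrrCharacter G) {g h : G}
    (hc : ⁅h, g⁆ ∈ Subgroup.center G) (hne : (χ : G → ℂ) ⁅h, g⁆ ≠ (χ : G → ℂ) 1) :
    (χ : G → ℂ) g = 0 := by
  obtain ⟨c, hc1, hc2⟩ := CharDeep.CentralTrick.exists_scalar_center χ.2 hc
  refine CharDeep.CentralTrick.eq_zero_of_conj_translate
    (IsIrrCharacter.isClassFunction χ.2) (y := h) (z := ⁅h, g⁆) ?_ (hc1 g) fun e => hne (hc2 e)
  rw [Subgroup.mem_center_iff.mp hc g, commutatorElement_def]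
  group

/-- Some character is nontrivial on a given nontrivial normal subgroup and at a given
nonidentity element. -/
theorem exists_nontrivial_on (K : Subgroup G) [K.Normal] (hK : K ≠ ⊥) {z : G} (hz : z ≠ 1) :
    ∃ χ : Cfsg.IrrCharacter G, (χ : G → ℂ) z ≠ (χ : G → ℂ) 1 ∧
      ∃ k ∈ K, (χ : G → ℂ) k ≠ (χ : G → ℂ) 1 := by
  classical
  cases nonempty_fintype G
  by_cases hzK : z ∈ K
  · by_contra h
    push Not at h
    refine hz (eq_one_of_forall_irr fun χ => ?_)
    by_contra hne
    exact hne (h χ hne z hzK)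
  obtain ⟨k, hk, hk1⟩ := K.bot_or_exists_ne_one.resolve_left hK
  by_contra h
  push Not at h
  have key : ∀ χ : Cfsg.IrrCharacter G, (χ : G → ℂ) (z * k) =
      (χ : G → ℂ) z + (χ : G → ℂ) k - (χ : G → ℂ) 1 := by
    intro χ
    by_cases hχ : (χ : G → ℂ) z = (χ : G → ℂ) 1
    · rw [IsCharacter.apply_mul_of_mem_ker (isCharacter_irr χ) hχ, hχ]; ring
    · rw [IsClassFunction.mul_comm (IsIrrCharacter.isClassFunction χ.2),
        IsCharacter.apply_mul_of_mem_ker (isCharacter_irr χ) (h χ hχ k hk), h χ hχ k hk]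
      ring
  have hzk : z * k ≠ 1 := fun e => hzK (eq_inv_of_mul_eq_one_left e ▸ K.inv_mem hk)
  have h0 := sum_deg_mul (z * k) hzk
  simp only [key, mul_sub, mul_add, Finset.sum_sub_distrib, Finset.sum_add_distrib,
    sum_deg_mul z hz, sum_deg_mul k hk1, zero_add, zero_sub, neg_eq_zero] at h0
  have h2 : ((∑ χ : Cfsg.IrrCharacter G, Cfsg.charDegree (χ : G → ℂ) ^ 2 : ℕ) : ℂ) = 0 := by
    rw [← h0]
    push_cast
    exact Finset.sum_congr rfl fun χ _ => by rw [sq, deg_cast]
  rw [sum_deg_sq] at h2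
  exact Nat.card_pos.ne' (Nat.cast_eq_zero.mp h2)

/-- A faithful irreducible character forces a cyclic centre. -/
theorem isCyclic_center_of_faithful (χ : Cfsg.IrrCharacter G)
    (hf : ∀ g : G, (χ : G → ℂ) g = (χ : G → ℂ) 1 → g = 1) : IsCyclic (Subgroup.center G) := by
  refine isCyclic_of_injective_ringHom (centralHom χ) fun a b hab => ?_
  have h1 : centralHom χ (a⁻¹ * b) = 1 := by
    rw [map_mul, ← hab, ← map_mul, inv_mul_cancel, map_one]
  have h2 := apply_center_eq χ (a⁻¹ * b)
  rw [h1, one_mul] at h2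
  exact inv_mul_eq_one.mp (Subtype.ext (hf _ h2))

end CfsgLib.DegreeTools
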