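import Cfsg.Agent.Lib.DegreeTools.Basic
import Cfsg.Agent.Lib.CharDeep.Clifford
import Cfsg.Agent.S0887

/-!
# Degrees over abelian normal subgroups; values of `p'`-degree characters at `p`-elements
-/

namespace CfsgLib.DegreeTools

open CfsgLib CfsgLib.Char

variable {G : Type*} [Group G] [Finite G]

/-- Itô: degrees divide the index of an abelian normal subgroup. -/
theorem deg_dvd_index (N : Subgroup G) [N.Normal] (hab : ∀ a b : N, a * b = b * a)
    (χ : Cfsg.IrrCharacter G) : Cfsg.charDegree (χ : G → ℂ) ∣ N.index := by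
  classical
  cases nonempty_fintype G
  have hres := IsCharacter.restrict (isCharacter_irr χ) N
  obtain ⟨θ, hθ, -⟩ := CharDeep.Clifford.exists_constituent (IsCharacter.isClassFunction hres)
    (ψ := fun n : N => (χ : G → ℂ) n) (by
      rw [ne_eq, classInner_self_eq_zero]
      intro e
      exact IsIrrCharacter.apply_one_ne_zero χ.2 (by simpa using congrFun e 1))
  have h1 : (θ : N → ℂ) 1 = 1 := apply_one_eq_one_of_comm hab θ.2
  have := Cfsg.Agent.S0887.result N (χ : G → ℂ) χ.2 (θ : N → ℂ) θ.2 hθ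
    (Cfsg.charDegree (χ : G → ℂ)) 1 (deg_cast χ).symm (by rw [h1, Nat.cast_one])
  simpa using this.2

omit [Finite G] in
theorem sum_pow_prime_pow {ι : Type*} (p : ℕ) [hp : Fact p.Prime] (k : ℕ) (s : Finset ι)
    (f : ι → integralClosure ℤ ℂ) :
    ∃ r : integralClosure ℤ ℂ, (∑ i ∈ s, f i) ^ p ^ k = ∑ i ∈ s, f i ^ p ^ k + p * r := by
  classical
  induction s using Finset.induction with
  | empty => exact ⟨0, by simp [zero_pow (pow_ne_zero k hp.out.ne_zero)]⟩
  | insert i s hi ih =>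
    obtain ⟨r, hr⟩ := ih
    obtain ⟨r', hr'⟩ := exists_add_pow_prime_pow_eq hp.out (f i) (∑ j ∈ s, f j) k
    refine ⟨r + f i * (∑ j ∈ s, f j) * r', ?_⟩
    rw [Finset.sum_insert hi, Finset.sum_insert hi, hr', hr]
    ring

/-- A character of degree prime to `p` does not vanish at a `p`-element. -/
theorem apply_ne_zero_of_not_dvd (p : ℕ) [hp : Fact p.Prime] (χ : Cfsg.IrrCharacter G)
    (hd : ¬ p ∣ Cfsg.charDegree (χ : G → ℂ)) (g : G) (hg : ∃ k : ℕ, orderOf g = p ^ k) :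
    (χ : G → ℂ) g ≠ 0 := by
  intro h0
  obtain ⟨k, hk⟩ := hg
  obtain ⟨n, ρ, hirr, hρ⟩ := χ.2
  obtain ⟨μ, hμ, hpow⟩ := exists_eigenvalues ρ g
  let f : _ → integralClosure ℤ ℂ := fun i =>
    ⟨μ i, isIntegral_of_pow_eq_one (orderOf_pos g).ne' (hμ i)⟩
  obtain ⟨r, hr⟩ := sum_pow_prime_pow p k Finset.univ f
  have h1 := congrArg (Subtype.val : integralClosure ℤ ℂ → ℂ) hr
  simp only [AddMemClass.coe_add, SubmonoidClass.coe_pow, AddSubmonoidClass.coe_finsetSum,
    MulMemClass.coe_mul, f] at h1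
  have hs : ∑ i, μ i = 0 := by rw [← h0, ← hρ]; simpa using (hpow 1).symm
  have hd' : ∑ i, μ i ^ p ^ k = (Cfsg.charDegree (χ : G → ℂ) : ℂ) := by
    rw [← hpow, ← hk, pow_orderOf_eq_one, deg_cast, ← hρ]
  rw [hs, zero_pow (pow_ne_zero k hp.out.ne_zero), hd'] at h1
  apply hd
  refine dvd_of_isIntegral_div hp.out.ne_zero ?_
  have hp0 : (p : ℂ) ≠ 0 := Nat.cast_ne_zero.mpr hp.out.ne_zero
  have h2 : (Cfsg.charDegree (χ : G → ℂ) : ℂ) / (p : ℂ) = -(r : ℂ) := by
    rw [div_eq_iff hp0]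
    push_cast at h1
    linear_combination -h1
  rw [h2]
  exact r.2.neg

end CfsgLib.DegreeTools
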