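import Cfsg.Agent.Lib.CharDeep.Galois.ComplexAut
import Cfsg.Agent.Lib.CharDeep.Galois.CharAut
import Cfsg.Agent.Lib.Blocks.Height
import Cfsg.Agent.Lib.Blocks.Defect2
import Mathlib.RingTheory.IntegralClosure.IntegrallyClosed
import Mathlib.FieldTheory.PrimitiveElement
import Mathlib.RingTheory.Int.Basic

/-!
# Rational integers from Galois invariance; the principal block is Galois stable
-/

set_option autoImplicit false

namespace CfsgLib.DegreeTools.Rationality

open Cfsg CfsgLib.Blocks Cardinal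
open scoped Classical IntermediateField

/-- An algebraic integer fixed by every automorphism of `ℂ` is a rational integer. -/
theorem exists_int_of_fixed {z : ℂ} (hz : IsIntegral ℤ z) (h : ∀ σ : ℂ ≃+* ℂ, σ z = z) :
    ∃ n : ℤ, z = n := by
  have hq : IsIntegral ℚ z := hz.tower_top
  have : FiniteDimensional ℚ ℚ⟮z⟯ := IntermediateField.adjoin.finiteDimensional hq
  have hF : #ℚ⟮z⟯ ≤ ℵ₀ := (Algebra.IsAlgebraic.cardinalMk_le_max ℚ ℚ⟮z⟯).trans (by simp)
  have huniq : ∀ g : ℚ⟮z⟯ →ₐ[ℚ] ℂ, g = IntermediateField.val ℚ⟮z⟯ := by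
    intro g
    obtain ⟨σ, hσ⟩ := CfsgLib.CharDeep.Galois.exists_extend hF
      (IntermediateField.val ℚ⟮z⟯).toRingHom g.toRingHom
    refine (IntermediateField.adjoin.powerBasis hq).algHom_ext ?_
    exact (hσ _).symm.trans (h σ)
  have h1 : Module.finrank ℚ ℚ⟮z⟯ = 1 := by
    rw [← AlgHom.card ℚ ℚ⟮z⟯ ℂ, Fintype.card_eq_one_iff]
    exact ⟨_, huniq⟩
  obtain ⟨q, hq'⟩ := IntermediateField.mem_bot.1
    (IntermediateField.finrank_adjoin_simple_eq_one_iff.1 h1)
  have hqi : IsIntegral ℤ q :=
    (isIntegral_algebraMap_iff (algebraMap ℚ ℂ).injective).1 (hq'.symm ▸ hz)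
  obtain ⟨n, hn⟩ := IsIntegrallyClosed.isIntegral_iff.1 hqi
  exact ⟨n, by rw [← hq', ← hn]; simp⟩

variable {G : Type*} [Group G] [Fintype G] {p : ℕ} {M : Ideal AlgInt}

/-- The image of a character under a field automorphism. -/
noncomputable def galIrr (σ : ℂ ≃+* ℂ) (χ : IrrCharacter G) : IrrCharacter G :=
  ⟨_, CfsgLib.CharDeep.Galois.isIrrCharacter_map σ.toRingHom χ.2⟩

theorem galIrr_apply (σ : ℂ ≃+* ℂ) (χ : IrrCharacter G) (g : G) :
    (galIrr σ χ : G → ℂ) g = σ ((χ : G → ℂ) g) := rfl

theorem galIrr_injective (σ : ℂ ≃+* ℂ) : Function.Injective (galIrr (G := G) σ) :=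
  fun _ _ h => Subtype.ext (funext fun g =>
    σ.injective (congrFun (congrArg Subtype.val h) g))

theorem mem_principalBlock_iff (hM : IsPModular p M) (χ : IrrCharacter G) :
    χ ∈ principalBlock M G ↔ regInner p (trivChar G : G → ℂ) (χ : G → ℂ) ≠ 0 := by
  have ht := trivChar_mem_principalBlock (G := G) hM
  constructor
  · intro h
    rw [← cast_regInt hM.1]
    exact_mod_cast regInt_ne_zero_of_min hM isPBlock_principalBlock ht (by
      have := minDegVal_le (p := p) ht
      have h0 : degVal p (trivChar G) = 0 := by simp [degVal, charDegree]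
      omega) h
  · intro h
    by_contra hn
    exact h (IsPBlock.regInner_eq_zero hM isPBlock_principalBlock ht hn)

theorem galIrr_mem_principalBlock (hM : IsPModular p M) (σ : ℂ ≃+* ℂ) {χ : IrrCharacter G}
    (h : χ ∈ principalBlock M G) : galIrr σ χ ∈ principalBlock M G := by
  rw [mem_principalBlock_iff hM] at h ⊢
  intro h0
  apply h
  apply σ.injective
  rw [map_zero, ← h0]
  simp only [regInner, map_mul, map_inv₀, map_natCast, map_sum, trivChar_apply, galIrr_apply,
    one_mul]

/-- Squared absolute values summed over the principal block give a rational integer. -/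
theorem exists_int_sum_principal (hM : IsPModular p M) (x : G) :
    ∃ n : ℤ, ∑ χ ∈ (principalBlock M G).toFinset, (χ : G → ℂ) x * (χ : G → ℂ) x⁻¹ = (n : ℂ) := by
  refine exists_int_of_fixed (IsIntegral.sum _ fun χ _ =>
    (CfsgLib.Char.IsCharacter.isIntegral (CfsgLib.Char.isCharacter_irr χ) x).mul
      (CfsgLib.Char.IsCharacter.isIntegral (CfsgLib.Char.isCharacter_irr χ) x⁻¹)) fun σ => ?_
  have himg : (principalBlock M G).toFinset.image (galIrr σ) = (principalBlock M G).toFinset := by
    refine Finset.eq_of_subset_of_card_le (fun ψ hψ => ?_) ?_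
    · obtain ⟨χ, hχ, rfl⟩ := Finset.mem_image.1 hψ
      exact Set.mem_toFinset.2 (galIrr_mem_principalBlock hM σ (Set.mem_toFinset.1 hχ))
    · rw [Finset.card_image_of_injective _ (galIrr_injective σ)]
  conv_rhs => rw [← himg]
  rw [Finset.sum_image fun a _ b _ h => galIrr_injective σ h, map_sum]
  exact Finset.sum_congr rfl fun χ _ => by rw [map_mul, galIrr_apply, galIrr_apply]

end CfsgLib.DegreeTools.Rationality
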