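import Cfsg.Agent.Lib.Char.CliffordCorr
import Cfsg.Agent.Lib.Char.CliffordAbelian
import Cfsg.Agent.Lib.DegreeTools.Basic

/-!
# Twisting an extended character by linear characters and inducing
-/

set_option autoImplicit false

namespace CfsgLib.DegreeTools.ExtendTwist

open Cfsg CfsgLib.Char
open scoped Classical ComplexConjugate commutatorElement

variable {G : Type*} [Group G] [Fintype G]

/-- A character restricting irreducibly is irreducible. -/
theorem isIrrCharacter_of_comp {L K : Type*} [Group L] [Fintype L] [Group K] [Fintype K]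
    (f : L →* K) {ψ : K → ℂ} (hψ : IsCharacter K ψ) (h : IsIrrCharacter L (ψ ∘ f)) :
    IsIrrCharacter K ψ := by
  refine IsCharacter.isIrrCharacter_of_norm_one hψ ?_
  obtain ⟨m, hm, hexp⟩ := IsCharacter.exists_multiplicity hψ
  have hres : ∀ φ : IrrCharacter K, IsCharacter L ((φ : K → ℂ) ∘ f) := fun φ =>
    IsCharacter.comp (isCharacter_irr φ) f
  choose b hb using fun φ : IrrCharacter K =>
    IsCharacter.classInner_nat (hres φ) (IsIrrCharacter.isCharacter h)
  have h1 : ∑ φ : IrrCharacter K, m φ * b φ = 1 := by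
    have e : (ψ ∘ f) = ∑ φ : IrrCharacter K, (m φ : ℂ) • ((φ : K → ℂ) ∘ f) := by
      funext x
      simp [Finset.sum_apply, hexp (f x)]
    have := classInner_irr_self h
    nth_rw 1 [e] at this
    rw [classInner_sum_left] at this
    simp only [classInner_smul_left, hb] at this
    exact_mod_cast this
  obtain ⟨φ, hφ⟩ : ∃ φ, m φ * b φ ≠ 0 := by
    by_contra hc
    push Not at hc
    simp [hc] at h1
  have hle : ψ = (φ : K → ℂ) := by
    obtain ⟨a, c, ha, hc, hac, heq⟩ := IsCharacter.constituent_degree_le hψ φ.2 (by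
      rw [hm]; exact_mod_cast (Nat.mul_ne_zero_iff.1 hφ).1)
    obtain ⟨a', c', ha', hc', hac', -⟩ := IsCharacter.constituent_degree_le (hres φ) h (by
      rw [hb]; exact_mod_cast (Nat.mul_ne_zero_iff.1 hφ).2)
    rw [Function.comp_apply, map_one] at ha' hc'
    rw [hc, Nat.cast_inj] at ha'
    rw [ha, Nat.cast_inj] at hc'
    exact heq (by omega)
  rw [hle]
  exact classInner_irr_self φ.2

variable {N I : Subgroup G}

/-- A twist fixing a character with irreducible restriction is trivial. -/
theorem hom_eq_one_of_mul_eq (hNI : N ≤ I) {ψ : I → ℂ} (hψ : IsIrrCharacter I ψ)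
    (hres : IsIrrCharacter N (resLe hNI ψ)) (α : I →* ℂˣ)
    (hα : ∀ n : N, α (Subgroup.inclusion hNI n) = 1)
    (heq : (ψ * fun i => (α i : ℂ)) = ψ) : α = 1 := by
  set K := α.ker
  have hK : IsIrrCharacter K (fun k : K => ψ k) := by
    let f : N →* K := (Subgroup.inclusion hNI).codRestrict K fun n => hα n
    exact isIrrCharacter_of_comp f (IsCharacter.restrict (IsIrrCharacter.isCharacter hψ) K)
      (show IsIrrCharacter N (resLe hNI ψ) from hres)
  have hvan : ∀ i : I, i ∉ K → ψ i = 0 := by
    intro i hi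
    by_contra h0
    have h := congrFun heq i
    rw [Pi.mul_apply] at h
    exact hi (Units.ext ((mul_eq_left₀ h0).1 h))
  have hsum : ∑ i : I, ψ i * conj (ψ i) = ∑ k : K, ψ k * conj (ψ k) := by
    rw [← Finset.sum_subset (Finset.subset_univ (Finset.univ.filter (· ∈ K)))
      (fun i _ hi => by rw [hvan i (by simpa using hi), zero_mul])]
    exact Finset.sum_subtype _ (fun i => by simp) _
  have hI := classInner_irr_self hψ
  have hK' := classInner_irr_self hK
  simp only [Cfsg.classInner] at hI hK'
  rw [inv_mul_eq_iff_eq_mul₀ card_ne_zero, mul_one] at hI hK'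
  rw [hsum, hK'] at hI
  have hcard : Nat.card K = Nat.card I := by exact_mod_cast hI
  refine MonoidHom.ext fun i => ?_
  have : i ∈ K := (Subgroup.eq_top_of_card_eq K hcard) ▸ Subgroup.mem_top i
  exact this

variable [N.Normal]

set_option linter.unusedSectionVars false

/-- A nonabelian minimal normal subgroup lies in the derived group. -/
theorem le_commutator_of_minimal (hmin : ∀ M : Subgroup G, M.Normal → M ≤ N → M = ⊥ ∨ M = N)
    (hna : ¬ IsMulCommutative N) : N ≤ commutator G := by
  rcases hmin ⁅N, N⁆ (Subgroup.commutator_normal N N) (Subgroup.commutator_le_left N N) with h | h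
  · refine absurd ⟨⟨fun a b => ?_⟩⟩ hna
    apply Subtype.ext
    have := Subgroup.commutator_mem_commutator a.2 b.2
    rw [h, Subgroup.mem_bot, commutatorElement_eq_one_iff_mul_comm] at this
    exact this
  · rw [← h]
    exact Subgroup.commutator_mono le_top le_top

/-- Linear characters of `G` inject up to index `[G : I]` into characters induced from twists. -/
theorem card_le (hNG : N ≤ commutator G) (hNI : N ≤ I) {φ : N → ℂ} (hφ : IsIrrCharacter N φ)
    (hT : IsInertia φ I) {ψ : I → ℂ} (hψ : IsIrrCharacter I ψ) (hres : resLe hNI ψ = φ)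
    (P : IrrCharacter G → Prop) (S : Finset (IrrCharacter G))
    (hlin : ∀ χ ∈ S, (χ : G → ℂ) 1 = 1)
    (hP : ∀ χ : IrrCharacter G, ∀ lam : IrrCharacter G, lam ∈ S →
      (χ : G → ℂ) = Cfsg.indFun I (ψ * fun i : I => (lam : G → ℂ) i) → P χ) :
    S.card ≤ I.index *
      Nat.card {χ : IrrCharacter G // (χ : G → ℂ) 1 = (I.index : ℂ) * φ 1 ∧ P χ} := by
  choose f hf using fun lam : S => exists_hom_of_apply_one_eq_one
    (isCharacter_irr lam.1) (hlin lam.1 lam.2)
  let tw : S → I → ℂ := fun lam => ψ * fun i => (((f lam).comp I.subtype) i : ℂ)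
  have htw : ∀ lam : S, tw lam = ψ * fun i : I => (lam.1 : G → ℂ) i := fun lam => by
    funext i
    show ψ i * _ = ψ i * _
    rw [hf lam]
    rfl
  have hone : ∀ (lam : S) (n : N), f lam (n : G) = 1 := fun lam n =>
    Abelianization.commutator_subset_ker (f lam) (hNG n.2)
  have hcov : ∀ lam : S, resLe hNI (tw lam) = φ := fun lam => by
    funext n
    show ψ _ * ((f lam (n : G) : ℂ)) = φ n
    rw [hone lam n, Units.val_one, mul_one]
    exact congrFun hres n
  have hirr : ∀ lam : S, IsIrrCharacter I (tw lam) := fun lam => IsIrrCharacter.mul_hom hψ _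
  have hc : ∀ lam : S, Cfsg.classInner (resLe hNI (tw lam)) φ ≠ 0 := fun lam => by
    rw [hcov lam, classInner_irr_self hφ]
    exact one_ne_zero
  let Φ : S → {χ : IrrCharacter G // (χ : G → ℂ) 1 = (I.index : ℂ) * φ 1 ∧ P χ} := fun lam =>
    ⟨⟨_, (indFun_inertia hNI hφ hT (hirr lam) (hc lam)).1⟩, by
      show Cfsg.indFun I (tw lam) 1 = _
      rw [indFun_one]
      congr 1
      have := congrFun (hcov lam) 1
      rw [← this]
      rfl, hP _ lam.1 lam.2 (by show Cfsg.indFun I (tw lam) = _; rw [htw lam])⟩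
  have : Finite {χ : IrrCharacter G // (χ : G → ℂ) 1 = (I.index : ℂ) * φ 1 ∧ P χ} := inferInstance
  have := Fintype.ofFinite {χ : IrrCharacter G // (χ : G → ℂ) 1 = (I.index : ℂ) * φ 1 ∧ P χ}
  rw [Nat.card_eq_fintype_card, ← Fintype.card_coe S]
  refine (Finset.card_le_mul_card_image (s := (Finset.univ : Finset S)) (f := Φ) I.index
    fun χ hχ => ?_).trans (Nat.mul_le_mul_left _ (Finset.card_le_univ _))
  obtain ⟨lam₀, -, rfl⟩ := Finset.mem_image.1 hχ
  -- the fibre restricts to one linear character of I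
  set F := Finset.univ.filter fun lam : S => Φ lam = Φ lam₀
  have hres0 : ∀ lam ∈ F, ∀ i : I, f lam (i : G) = f lam₀ (i : G) := by
    intro lam hlam i
    have he : tw lam = tw lam₀ := indFun_inertia_inj hNI hφ hT (hirr lam) (hc lam) (hirr lam₀)
      (hc lam₀) (congrArg (fun z => (z.1 : G → ℂ)) (Finset.mem_filter.1 hlam).2)
    have hα := hom_eq_one_of_mul_eq hNI hψ (by rw [hres]; exact hφ)
      ((((f lam₀)⁻¹ * f lam)).comp I.subtype) (fun n => by
        show (f lam₀ (n : G))⁻¹ * f lam (n : G) = 1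
        rw [hone, hone, inv_one, one_mul]) (by
        funext j
        have hj := congrFun he j
        show ψ j * ((((f lam₀ (j : G))⁻¹ * f lam (j : G) : ℂˣ)) : ℂ) = ψ j
        have hj' : ψ j * (f lam (j : G) : ℂ) = ψ j * (f lam₀ (j : G) : ℂ) := hj
        rw [Units.val_mul, mul_left_comm, hj', mul_left_comm, ← Units.val_mul, inv_mul_cancel,
          Units.val_one, mul_one])
    have := DFunLike.congr_fun hα i
    exact (inv_mul_eq_one.1 this).symm
  set K := I ⊔ commutator G
  have hKn : K.Normal := Subgroup.Normal.of_commutator_le G le_sup_right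
  have hcomm : IsMulCommutative (G ⧸ K) :=
    Subgroup.Normal.quotient_commutative_iff_commutator_le.2 le_sup_right
  let : CommGroup (G ⧸ K) := { (inferInstance : Group (G ⧸ K)) with mul_comm := hcomm.1.1 }
  have : NeZero (Monoid.exponent (G ⧸ K) : ℂ) :=
    ⟨by exact_mod_cast Monoid.exponent_ne_zero_of_finite⟩
  have hK : ∀ lam : F, K ≤ ((f lam₀)⁻¹ * f lam.1).ker := fun lam => by
    refine sup_le (fun i hi => ?_) (Abelianization.commutator_subset_ker _)
    show (f lam₀ i)⁻¹ * f lam.1 i = 1
    rw [hres0 lam.1 lam.2 ⟨i, hi⟩, inv_mul_cancel]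
  have hcardhom : Nat.card (G ⧸ K →* ℂˣ) = K.index :=
    CommGroup.card_monoidHom_of_hasEnoughRootsOfUnity (G ⧸ K) ℂ
  have hinj : Function.Injective fun lam : F => QuotientGroup.lift K _ (hK lam) := by
    intro a b hab
    apply Subtype.ext
    apply Subtype.ext
    apply Subtype.ext
    rw [hf a.1, hf b.1]
    funext g
    have h := DFunLike.congr_fun hab (QuotientGroup.mk' K g)
    have h' : (f lam₀ g)⁻¹ * f a.1 g = (f lam₀ g)⁻¹ * f b.1 g := h
    rw [mul_left_cancel h']
  have : Finite (G ⧸ K →* ℂˣ) := Nat.finite_of_card_ne_zero (by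
    rw [hcardhom]; exact Subgroup.index_ne_zero_of_finite)
  calc F.card = Nat.card F := by rw [Nat.card_eq_fintype_card, Fintype.card_coe]
    _ ≤ K.index := hcardhom ▸ Nat.card_le_card_of_injective _ hinj
    _ ≤ I.index := Nat.le_of_dvd (Nat.pos_of_ne_zero Subgroup.index_ne_zero_of_finite)
        (Subgroup.index_dvd_of_le le_sup_left)

end CfsgLib.DegreeTools.ExtendTwist
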