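import Cfsg.Agent.S4776
import Cfsg.Agent.Lib.Char.Quotient
import Cfsg.Agent.Lib.Char.Linear

/-!
The character degree graph and the relative common-divisor graph over the derived subgroup.
-/

set_option autoImplicit false

namespace CfsgLib.DegreeTools.SolvableGraph

open CfsgLib CfsgLib.Char
open scoped commutatorElement

universe u

variable {G : Type u} [Group G] [Finite G]

theorem charDegree_eq_one_of_trivial {χ : G → ℂ} (hχ : Cfsg.IsIrrCharacter G χ)
    (h : ∀ n ∈ commutator G, χ n = χ 1) : Cfsg.charDegree χ = 1 := by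
  obtain ⟨ψ, hψ, he⟩ := IsIrrCharacter.exists_deflate hχ (commutator G) h
  have hc : ∀ a b : G ⧸ commutator G, a * b = b * a := fun a b => by
    induction a using QuotientGroup.induction_on with | H a => ?_
    induction b using QuotientGroup.induction_on with | H b => ?_
    rw [← QuotientGroup.mk_mul, ← QuotientGroup.mk_mul, QuotientGroup.eq]
    have := Subgroup.commutator_mem_commutator (Subgroup.mem_top b⁻¹) (Subgroup.mem_top a⁻¹)
    rw [commutatorElement_def] at this
    rw [commutator_def, show (a * b)⁻¹ * (b * a) = b⁻¹ * a⁻¹ * b⁻¹⁻¹ * a⁻¹⁻¹ by group]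
    exact this
  have h1 := apply_one_eq_one_of_comm hc hψ
  simp [Cfsg.charDegree, he, h1]

theorem exists_rel_of_prime {p : ℕ} (hp : p ∈ Cfsg.degreePrimes G) :
    ∃ d ∈ Cfsg.relCharDegrees (commutator G), p ∣ d := by
  obtain ⟨hp', d, ⟨χ, rfl⟩, hpd⟩ := hp
  refine ⟨_, ⟨χ, ?_, rfl⟩, hpd⟩
  by_contra h
  push Not at h
  rw [charDegree_eq_one_of_trivial χ.2 h] at hpd
  exact hp'.ne_one (Nat.dvd_one.1 hpd)

theorem reachable_of_dvd {a p q : ℕ} (hp : p ∈ Cfsg.degreePrimes G) (hq : q ∈ Cfsg.degreePrimes G)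
    (ha : a ∈ Cfsg.relCharDegrees (commutator G)) (hpa : p ∣ a) (hqa : q ∣ a) :
    ((Cfsg.degreeGraph G).induce (Cfsg.degreePrimes G)).Reachable ⟨p, hp⟩ ⟨q, hq⟩ := by
  by_cases h : p = q
  · subst h; rfl
  · obtain ⟨χ, -, rfl⟩ := ha
    exact SimpleGraph.Adj.reachable (show (Cfsg.degreeGraph G).Adj p q from ⟨h, hp.1, hq.1, _, ⟨χ, rfl⟩,
      ((Nat.coprime_primes hp.1 hq.1).2 h).mul_dvd_of_dvd_of_dvd hpa hqa⟩)

theorem reachable_of_walk {a b : Cfsg.relCharDegrees (commutator G)}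
    (w : (Cfsg.commonDivisorGraph.induce (Cfsg.relCharDegrees (commutator G))).Walk a b) :
    ∀ (p q : ℕ) (hp : p ∈ Cfsg.degreePrimes G) (hq : q ∈ Cfsg.degreePrimes G), p ∣ a.1 → q ∣ b.1 →
      ((Cfsg.degreeGraph G).induce (Cfsg.degreePrimes G)).Reachable ⟨p, hp⟩ ⟨q, hq⟩ := by
  induction w with
  | @nil u => exact fun p q hp hq hpa hqa => reachable_of_dvd hp hq u.2 hpa hqa
  | @cons u v _ hadj _ ih =>
    intro p q hp hq hpa hqb
    change u.1 ≠ v.1 ∧ 1 < Nat.gcd u.1 v.1 at hadj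
    obtain ⟨r, hr, hrd⟩ := Nat.exists_prime_and_dvd (show Nat.gcd u.1 v.1 ≠ 1 by omega)
    have hr' : r ∈ Cfsg.degreePrimes G := by
      obtain ⟨χ, -, hχ⟩ := u.2
      exact ⟨hr, _, ⟨χ, rfl⟩, hχ ▸ hrd.trans (Nat.gcd_dvd_left _ _)⟩
    exact (reachable_of_dvd hp hr' u.2 hpa (hrd.trans (Nat.gcd_dvd_left _ _))).trans
      (ih r q hr' hq (hrd.trans (Nat.gcd_dvd_right _ _)) hqb)

theorem card_components_le_two [Group.IsSolvable G] :
    Nat.card ((Cfsg.degreeGraph G).induce (Cfsg.degreePrimes G)).ConnectedComponent ≤ 2 := by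
  classical
  rcases eq_or_ne (commutator G) ⊥ with h | h
  · have : IsEmpty (Cfsg.degreePrimes G) := ⟨fun p => by
      obtain ⟨d, ⟨χ, ⟨x, hx, hne⟩, -⟩, -⟩ := exists_rel_of_prime p.2
      rw [h, Subgroup.mem_bot] at hx
      exact hne (by rw [hx])⟩
    have : IsEmpty ((Cfsg.degreeGraph G).induce (Cfsg.degreePrimes G)).ConnectedComponent :=
      ⟨fun C => isEmptyElim C.out⟩
    simp
  · have hres := (Cfsg.Agent.S4776.result (commutator G) (Group.IsSolvable.commutator_lt_of_ne_bot h) le_rfl).1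
    let R := Cfsg.commonDivisorGraph.induce (Cfsg.relCharDegrees (commutator G))
    have hfin : Finite (Cfsg.relCharDegrees (commutator G)) := by
      haveI : Fintype G := Fintype.ofFinite G
      refine (Set.Finite.subset (Set.finite_range fun χ : Cfsg.IrrCharacter G => Cfsg.charDegree (χ : G → ℂ)) ?_).to_subtype
      rintro d ⟨χ, -, rfl⟩
      exact ⟨χ, rfl⟩
    choose d hd hpd using fun p : Cfsg.degreePrimes G => exists_rel_of_prime p.2
    let f : ((Cfsg.degreeGraph G).induce (Cfsg.degreePrimes G)).ConnectedComponent → R.ConnectedComponent :=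
      fun C => R.connectedComponentMk ⟨d C.out, hd C.out⟩
    refine (Nat.card_le_card_of_injective f ?_).trans hres
    intro C D hCD
    rw [← C.out_eq, ← D.out_eq]
    refine SimpleGraph.ConnectedComponent.sound ?_
    obtain ⟨w⟩ := SimpleGraph.ConnectedComponent.exact hCD
    exact reachable_of_walk w _ _ C.out.2 D.out.2 (hpd _) (hpd _)

end CfsgLib.DegreeTools.SolvableGraph
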