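import Cfsg.Agent.Lib.DegreeTools.Basic

/-!
# Linear characters: norms, commutators, columns
-/

namespace CfsgLib.DegreeTools

open CfsgLib.Char

variable {G : Type*} [Group G] [Finite G]

theorem norm_apply_linear (χ : Cfsg.IrrCharacter G) (h : (χ : G → ℂ) 1 = 1) (g : G) :
    ‖(χ : G → ℂ) g‖ = 1 := by
  obtain ⟨φ, hφ⟩ := exists_hom_of_apply_one_eq_one (isCharacter_irr χ) h
  rw [hφ]
  refine Complex.norm_eq_one_of_pow_eq_one ?_ (orderOf_pos g).ne'
  rw [← Units.val_pow_eq_pow_val, ← map_pow, pow_orderOf_eq_one, map_one, Units.val_one]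

theorem linear_apply_mul (χ : Cfsg.IrrCharacter G) (h : (χ : G → ℂ) 1 = 1) (g k : G) :
    (χ : G → ℂ) (g * k) = (χ : G → ℂ) g * (χ : G → ℂ) k := by
  obtain ⟨φ, hφ⟩ := exists_hom_of_apply_one_eq_one (isCharacter_irr χ) h
  simp [hφ]

theorem linear_apply_commutator (χ : Cfsg.IrrCharacter G) (h : (χ : G → ℂ) 1 = 1) {g : G}
    (hg : g ∈ commutator G) : (χ : G → ℂ) g = 1 := by
  obtain ⟨φ, hφ⟩ := exists_hom_of_apply_one_eq_one (isCharacter_irr χ) h
  rw [hφ]
  simp [MonoidHom.mem_ker.mp (Abelianization.commutator_subset_ker φ hg)]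

/-- The product of two linear characters. -/
theorem exists_linear_mul (χ ψ : Cfsg.IrrCharacter G) (hχ : (χ : G → ℂ) 1 = 1)
    (hψ : (ψ : G → ℂ) 1 = 1) :
    ∃ θ : Cfsg.IrrCharacter G, (θ : G → ℂ) 1 = 1 ∧
      ∀ g, (θ : G → ℂ) g = (χ : G → ℂ) g * (ψ : G → ℂ) g := by
  obtain ⟨φ, hφ⟩ := exists_hom_of_apply_one_eq_one (isCharacter_irr χ) hχ
  obtain ⟨φ', hφ'⟩ := exists_hom_of_apply_one_eq_one (isCharacter_irr ψ) hψ
  exact ⟨⟨_, isIrrCharacter_hom (φ * φ')⟩, by simp, fun g => by simp [hφ, hφ']⟩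

theorem exists_linear_ne_one_iff :
    (∃ χ : Cfsg.IrrCharacter G, χ ≠ oneChar G ∧ (χ : G → ℂ) 1 = 1) ↔ commutator G ≠ ⊤ := by
  rw [ne_eq (commutator G), ← Subgroup.index_eq_one, ← card_linear]
  constructor
  · rintro ⟨χ, hne, h1⟩ hc
    haveI := (Nat.card_eq_one_iff_unique.mp hc).1
    exact hne (congrArg Subtype.val (Subsingleton.elim
      (⟨χ, h1⟩ : {χ : Cfsg.IrrCharacter G // (χ : G → ℂ) 1 = 1}) ⟨oneChar G, rfl⟩))
  · intro hc
    by_contra hcon
    push Not at hcon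
    refine hc (Nat.card_eq_one_iff_exists.mpr ⟨⟨oneChar G, rfl⟩, fun y => Subtype.ext ?_⟩)
    by_contra hne
    exact hcon y.1 hne y.2

/-- An element where all nonlinear characters vanish has centraliser order `[G : G']`. -/
theorem card_centralizer_of_vanish (g : G)
    (h : ∀ χ : Cfsg.IrrCharacter G, (χ : G → ℂ) 1 ≠ 1 → (χ : G → ℂ) g = 0) :
    Nat.card (Subgroup.centralizer ({g} : Set G)) = (commutator G).index := by
  classical
  apply Nat.cast_injective (R := ℝ)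
  rw [← sum_norm_sq_col, ← card_linear, Nat.card_eq_fintype_card, Fintype.card_subtype,
    ← Finset.sum_boole]
  refine Finset.sum_congr rfl fun χ _ => ?_
  by_cases hχ : (χ : G → ℂ) 1 = 1
  · rw [if_pos hχ, norm_apply_linear χ hχ, one_pow]
  · rw [if_neg hχ, h χ hχ, norm_zero, zero_pow two_ne_zero]

end CfsgLib.DegreeTools
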