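import Mathlib.LinearAlgebra.Trace
import Mathlib.LinearAlgebra.Projection
import Mathlib.Analysis.Complex.Basic
import Mathlib.RingTheory.RootsOfUnity.Complex
import Mathlib.RepresentationTheory.Character
import Mathlib.RepresentationTheory.Irreducible
import Mathlib.Tactic
import Cfsg.Prelude.Def_Characters

/-!
# Eigenvalue decomposition of a linear map of finite order, with all its powers

`CfsgLib.DegreeTools.Eigen.exists_decomp`: for `T ^ n = 1` there are multiplicities `m k` with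
`trace (T ^ j) = ∑ k, m k * ω ^ (k * j)` for every `j`, obtained from the Fourier projectors.
-/

namespace CfsgLib.DegreeTools.Eigen

open Finset Module

variable {V : Type*} [AddCommGroup V] [Module ℂ V]

/-- The projector on the `c`-eigenspace of a map with `T ^ n = 1` (for `c ^ n = 1`). -/
noncomputable def proj (T : Module.End ℂ V) (n : ℕ) (c : ℂ) : Module.End ℂ V :=
  (n : ℂ)⁻¹ • ∑ i ∈ range n, c⁻¹ ^ i • T ^ i

theorem mul_proj {T : Module.End ℂ V} {n : ℕ} {c : ℂ} (hT : T ^ n = 1) (hc : c ^ n = 1)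
    (hn : n ≠ 0) : T * proj T n c = c • proj T n c := by
  have hc0 : c ≠ 0 := by rintro rfl; simp [zero_pow hn] at hc
  have key : ∑ i ∈ range n, c⁻¹ ^ (i + 1) • T ^ (i + 1) = ∑ i ∈ range n, c⁻¹ ^ i • T ^ i := by
    have h1 := Finset.sum_range_succ' (fun i => c⁻¹ ^ i • T ^ i) n
    have h2 := Finset.sum_range_succ (fun i => c⁻¹ ^ i • T ^ i) n
    rw [h2] at h1
    simp only [hT, inv_pow, hc, inv_one, pow_zero] at h1 ⊢
    exact (add_right_cancel h1).symm
  rw [proj, mul_smul_comm, smul_comm c, Finset.mul_sum]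
  congr 1
  conv_rhs => rw [← key, Finset.smul_sum]
  refine Finset.sum_congr rfl fun i _ => ?_
  rw [smul_smul, pow_succ' c⁻¹, ← mul_assoc, mul_inv_cancel₀ hc0, one_mul, mul_smul_comm,
    pow_succ']

theorem pow_mul_proj {T : Module.End ℂ V} {n : ℕ} {c : ℂ} (hT : T ^ n = 1) (hc : c ^ n = 1)
    (hn : n ≠ 0) (j : ℕ) : T ^ j * proj T n c = c ^ j • proj T n c := by
  induction j with
  | zero => simp
  | succ j ih =>
    rw [pow_succ', mul_assoc, ih, mul_smul_comm, mul_proj hT hc hn, smul_smul, ← pow_succ]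

theorem isIdempotentElem_proj {T : Module.End ℂ V} {n : ℕ} {c : ℂ} (hT : T ^ n = 1)
    (hc : c ^ n = 1) (hn : n ≠ 0) : IsIdempotentElem (proj T n c) := by
  have hc0 : c ≠ 0 := by rintro rfl; simp [zero_pow hn] at hc
  show _ * _ = _
  nth_rewrite 1 [proj]
  rw [smul_mul_assoc, Finset.sum_mul]
  have : ∀ i ∈ range n, (c⁻¹ ^ i • T ^ i) * proj T n c = proj T n c := fun i _ => by
    rw [smul_mul_assoc, pow_mul_proj hT hc hn, smul_smul, ← mul_pow, inv_mul_cancel₀ hc0,
      one_pow, one_smul]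
  rw [Finset.sum_congr rfl this, Finset.sum_const, Finset.card_range, ← Nat.cast_smul_eq_nsmul ℂ,
    smul_smul, inv_mul_cancel₀ (by exact_mod_cast hn), one_smul]

theorem sum_pow_smul_proj {T : Module.End ℂ V} {n : ℕ} {ω : ℂ} (hω : IsPrimitiveRoot ω n)
    (hT : T ^ n = 1) (hn : n ≠ 0) (j : ℕ) :
    ∑ k ∈ range n, ω ^ (k * j) • proj T n (ω ^ k) = T ^ j := by
  have h0 : ω ≠ 0 := hω.ne_zero hn
  have hsum : ∀ k ∈ range n, ω ^ (k * j) • proj T n (ω ^ k) =
      ∑ i ∈ range n, ((n : ℂ)⁻¹ * (ω ^ j / ω ^ i) ^ k) • T ^ i := by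
    intro k _
    rw [proj, smul_smul, Finset.smul_sum]
    refine Finset.sum_congr rfl fun i _ => ?_
    rw [smul_smul]
    congr 1
    rw [div_pow, inv_pow, ← pow_mul, ← pow_mul, ← pow_mul, mul_comm i k, mul_comm j k]
    field_simp
  rw [Finset.sum_congr rfl hsum, Finset.sum_comm]
  rw [Finset.sum_eq_single (j % n)]
  · have hjT : T ^ j = T ^ (j % n) := by
      conv_lhs => rw [← Nat.mod_add_div j n, pow_add, pow_mul, hT, one_pow, mul_one]
    have hjω : ω ^ j = ω ^ (j % n) := by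
      conv_lhs => rw [← Nat.mod_add_div j n, pow_add, pow_mul, hω.pow_eq_one, one_pow, mul_one]
    rw [← Finset.sum_smul, hjω, div_self (pow_ne_zero _ h0), hjT]
    simp [hn]
  · intro i hi hij
    have hi' : i < n := Finset.mem_range.mp hi
    rw [← Finset.sum_smul, ← Finset.mul_sum, geom_sum_eq, div_pow]
    · rw [← pow_mul, ← pow_mul, mul_comm j, mul_comm i, pow_mul, pow_mul, hω.pow_eq_one]
      simp
    · rw [Ne, div_eq_one_iff_eq (pow_ne_zero _ h0)]
      intro h
      apply hij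
      have hjω : ω ^ j = ω ^ (j % n) := by
        conv_lhs => rw [← Nat.mod_add_div j n, pow_add, pow_mul, hω.pow_eq_one, one_pow, mul_one]
      rw [hjω] at h
      exact (hω.pow_inj (Nat.mod_lt _ (Nat.pos_of_ne_zero hn)) hi' h).symm
  · intro h
    exact absurd (Finset.mem_range.mpr (Nat.mod_lt _ (Nat.pos_of_ne_zero hn))) h

theorem nontrivial_of_isIrreducible {G : Type*} [Group G] {ρ : Representation ℂ G V}
    (h : ρ.IsIrreducible) : Nontrivial V := by
  by_contra hn
  rw [not_nontrivial_iff_subsingleton] at hn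
  obtain ⟨a, b, hab⟩ := (@IsSimpleOrder.toNontrivial _ _ _ h)
  exact hab (Subrepresentation.toSubmodule_injective (Subsingleton.elim _ _))

variable [FiniteDimensional ℂ V]

/-- Multiplicity of `c` as an eigenvalue of `T` (with `T ^ n = 1`). -/
noncomputable def mult (T : Module.End ℂ V) (n : ℕ) (c : ℂ) : ℕ :=
  finrank ℂ (LinearMap.range (proj T n c))

theorem trace_proj {T : Module.End ℂ V} {n : ℕ} {c : ℂ} (hT : T ^ n = 1) (hc : c ^ n = 1)
    (hn : n ≠ 0) : LinearMap.trace ℂ V (proj T n c) = (mult T n c : ℂ) :=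
  (LinearMap.IsProj.trace (f := proj T n c)
    (LinearMap.IsProj.mk (fun x => LinearMap.mem_range_self _ x) (by
      rintro x ⟨y, rfl⟩
      exact LinearMap.congr_fun (isIdempotentElem_proj hT hc hn).eq y)))

theorem trace_pow_eq_sum {T : Module.End ℂ V} {n : ℕ} {ω : ℂ} (hω : IsPrimitiveRoot ω n)
    (hT : T ^ n = 1) (hn : n ≠ 0) (j : ℕ) :
    LinearMap.trace ℂ V (T ^ j) = ∑ k ∈ range n, (mult T n (ω ^ k) : ℂ) * ω ^ (k * j) := by
  rw [← sum_pow_smul_proj hω hT hn j, map_sum]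
  refine Finset.sum_congr rfl fun k _ => ?_
  rw [map_smul, trace_proj hT (by rw [← pow_mul, mul_comm, pow_mul, hω.pow_eq_one, one_pow]) hn,
    smul_eq_mul, mul_comm]

theorem sum_mult {T : Module.End ℂ V} {n : ℕ} {ω : ℂ} (hω : IsPrimitiveRoot ω n)
    (hT : T ^ n = 1) (hn : n ≠ 0) : ∑ k ∈ range n, mult T n (ω ^ k) = finrank ℂ V := by
  have := trace_pow_eq_sum hω hT hn 0
  simp only [pow_zero, LinearMap.trace_one, mul_zero, mul_one] at this
  exact_mod_cast this.symm

theorem eq_smul_of_mult_eq_zero {T : Module.End ℂ V} {n : ℕ} {ω : ℂ} (hω : IsPrimitiveRoot ω n)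
    (hT : T ^ n = 1) (hn : n ≠ 0) {k₀ : ℕ} (hk₀ : k₀ < n)
    (h : ∀ k < n, k ≠ k₀ → mult T n (ω ^ k) = 0) : T = ω ^ k₀ • 1 := by
  have hp : ∀ k ∈ range n, k ≠ k₀ → proj T n (ω ^ k) = 0 := fun k hk hne => by
    rw [← LinearMap.range_eq_bot]
    exact Submodule.finrank_eq_zero.mp (h k (Finset.mem_range.mp hk) hne)
  have h1 := sum_pow_smul_proj hω hT hn 1
  have h0 := sum_pow_smul_proj hω hT hn 0
  rw [Finset.sum_eq_single k₀ (fun k hk hne => by simp [hp k hk hne])
    (fun h => absurd (Finset.mem_range.mpr hk₀) h)] at h1 h0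
  simp only [mul_zero, pow_zero, one_smul, mul_one, pow_one] at h0 h1
  rw [← h1, h0]

/-- Character values on all powers of an element, through multiplicities of roots of unity. -/
theorem char_pow_eq_sum {G : Type*} [Group G] (ρ : Representation ℂ G V) (g : G) {ω : ℂ}
    {n : ℕ} (hω : IsPrimitiveRoot ω n) (hn : n ≠ 0) (hg : g ^ n = 1) (j : ℕ) :
    ρ.character (g ^ j) = ∑ k ∈ range n, (mult (ρ g) n (ω ^ k) : ℂ) * ω ^ (k * j) := by
  rw [← trace_pow_eq_sum hω (by rw [← map_pow, hg, map_one]) hn j, ← map_pow]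
  rfl

end CfsgLib.DegreeTools.Eigen
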