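import Cfsg.Agent.Lib.DegreeTools.Basic
import Cfsg.Agent.Lib.Char.ClassSum

/-!
# Class constants in a group without characters of `p`-defect zero
-/

set_option autoImplicit false

namespace CfsgLib.DegreeTools.ClassConstant

open CfsgLib.Char

variable {G : Type*} [Group G] [Finite G]

/-- The elements conjugating `a` to `u` are a coset of the centraliser of `a`. -/
theorem card_conjugators {a u : G} (h : IsConj a u) :
    Nat.card {c : G // c * a * c⁻¹ = u} = Nat.card (Subgroup.centralizer ({a} : Set G)) := by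
  obtain ⟨c₀, rfl⟩ := isConj_iff.mp h
  refine Nat.card_congr ((Equiv.mulLeft c₀⁻¹).subtypeEquiv fun c => ?_)
  rw [Equiv.coe_mulLeft, Subgroup.mem_centralizer_singleton_iff]
  constructor
  · intro e
    have := congrArg (fun x => c₀⁻¹ * x * c) e
    simpa [mul_assoc] using this
  · intro e
    have := congrArg (fun x => c₀ * x * c⁻¹) e
    simpa [mul_assoc] using this

/-- Pairs of conjugators against factorisations `y = u v`. -/
theorem card_pairs (a b y : G) :
    Nat.card {cd : G × G // cd.1 * a * cd.1⁻¹ * (cd.2 * b * cd.2⁻¹) = y} =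
      Nat.card {u : G // IsConj a u ∧ IsConj b (u⁻¹ * y)} *
        (Nat.card (Subgroup.centralizer ({a} : Set G)) *
          Nat.card (Subgroup.centralizer ({b} : Set G))) := by
  classical
  cases nonempty_fintype G
  let K := {u : G // IsConj a u ∧ IsConj b (u⁻¹ * y)}
  let e : {cd : G × G // cd.1 * a * cd.1⁻¹ * (cd.2 * b * cd.2⁻¹) = y} ≃
      Σ u : K, {c : G // c * a * c⁻¹ = u.1} × {d : G // d * b * d⁻¹ = u.1⁻¹ * y} :=
    { toFun := fun x => ⟨⟨x.1.1 * a * x.1.1⁻¹, isConj_iff.mpr ⟨_, rfl⟩,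
          isConj_iff.mpr ⟨x.1.2, by rw [eq_inv_mul_iff_mul_eq]; exact x.2⟩⟩,
        ⟨x.1.1, rfl⟩, ⟨x.1.2, by rw [eq_inv_mul_iff_mul_eq]; exact x.2⟩⟩
      invFun := fun s => ⟨(s.2.1.1, s.2.2.1), by
        show s.2.1.1 * a * s.2.1.1⁻¹ * (s.2.2.1 * b * s.2.2.1⁻¹) = y
        rw [s.2.1.2, s.2.2.2, mul_inv_cancel_left]⟩
      left_inv := fun x => rfl
      right_inv := fun s => by
        obtain ⟨⟨u, hu⟩, ⟨c, hc⟩, d, hd⟩ := s
        simp only at hc
        subst hc
        rfl }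
  rw [Nat.card_congr e, Nat.card_sigma,
    Finset.sum_congr rfl (fun u _ => (by
      rw [Nat.card_prod, card_conjugators u.2.1, card_conjugators u.2.2] :
      Nat.card ({c : G // c * a * c⁻¹ = u.1} × {d : G // d * b * d⁻¹ = u.1⁻¹ * y}) =
        Nat.card (Subgroup.centralizer ({a} : Set G)) *
          Nat.card (Subgroup.centralizer ({b} : Set G))))]
  rw [Finset.sum_const, Finset.card_univ, smul_eq_mul, Nat.card_eq_fintype_card (α := K)]

/-- The class constant by characters. -/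
theorem card_pairs_eq_sum [Fintype G] (a b y : G) :
    (Nat.card {cd : G × G // cd.1 * a * cd.1⁻¹ * (cd.2 * b * cd.2⁻¹) = y} : ℂ) =
      (Nat.card G : ℂ) * ∑ χ : Cfsg.IrrCharacter G,
        (χ : G → ℂ) y⁻¹ * (χ : G → ℂ) a * (χ : G → ℂ) b / (χ : G → ℂ) 1 := by
  classical
  have hG : (Nat.card G : ℂ) ≠ 0 := card_ne_zero
  have h0 : (Nat.card {cd : G × G // cd.1 * a * cd.1⁻¹ * (cd.2 * b * cd.2⁻¹) = y} : ℂ) =
      ∑ c : G, ∑ d : G, (if y⁻¹ * (c * a * c⁻¹) * (d * b * d⁻¹) = 1 then (1 : ℂ) else 0) := by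
    rw [← Fintype.sum_prod_type', Finset.sum_boole, Nat.cast_inj, Nat.card_eq_fintype_card,
      Fintype.card_subtype]
    refine congrArg _ (Finset.filter_congr fun cd _ => ?_)
    rw [mul_assoc y⁻¹, inv_mul_eq_one, eq_comm]
  have h1 : ∀ z : G, (if z = 1 then (1 : ℂ) else 0) =
      (Nat.card G : ℂ)⁻¹ * ∑ χ : Cfsg.IrrCharacter G, (χ : G → ℂ) 1 * (χ : G → ℂ) z := by
    intro z
    rw [regular_eq_sum_irr z]
    split_ifs <;> simp [hG]
  have h2 : ∀ χ : Cfsg.IrrCharacter G,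
      ∑ c : G, ∑ d : G, (χ : G → ℂ) (y⁻¹ * (c * a * c⁻¹) * (d * b * d⁻¹)) =
        (Nat.card G : ℂ) ^ 2 * ((χ : G → ℂ) y⁻¹ * (χ : G → ℂ) a * (χ : G → ℂ) b) /
          (χ : G → ℂ) 1 ^ 2 := by
    intro χ
    rw [Finset.sum_congr rfl fun c _ => IsIrrCharacter.sum_mul_conjugate χ.2 _ b, ← Finset.sum_div,
      ← Finset.sum_mul, ← Finset.mul_sum, IsIrrCharacter.sum_mul_conjugate χ.2]
    ring
  rw [h0]
  simp only [h1, ← Finset.mul_sum]
  rw [Finset.sum_congr rfl fun c _ => Finset.sum_comm, Finset.sum_comm, Finset.mul_sum,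
    Finset.mul_sum]
  refine Finset.sum_congr rfl fun χ _ => ?_
  rw [Finset.sum_congr rfl fun c _ => (Finset.mul_sum _ _ _).symm, ← Finset.mul_sum, h2]
  have := IsIrrCharacter.apply_one_ne_zero χ.2
  field_simp

/-- Without characters of `p`-defect zero, class constants of elements whose centralisers have
order prime to `p` are divisible by `p`. -/
theorem dvd_card_factorisations {p : ℕ} [Fact p.Prime] (hpG : p ∣ Nat.card G)
    (hdz : ¬ ∃ χ : Cfsg.IrrCharacter G,
      (Cfsg.charDegree (χ : G → ℂ)).factorization p = (Nat.card G).factorization p)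
    (a b y : G) (ha : ¬ p ∣ Nat.card (Subgroup.centralizer ({a} : Set G)))
    (hb : ¬ p ∣ Nat.card (Subgroup.centralizer ({b} : Set G))) :
    p ∣ Nat.card {u : G // IsConj a u ∧ IsConj b (u⁻¹ * y)} := by
  classical
  cases nonempty_fintype G
  have hp : p.Prime := Fact.out
  set r := (Nat.card G).factorization p
  set N := Nat.card {cd : G × G // cd.1 * a * cd.1⁻¹ * (cd.2 * b * cd.2⁻¹) = y} with hN
  have hr : 1 ≤ r := Nat.Prime.factorization_pos_of_dvd hp Nat.card_pos.ne' hpG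
  set L := p ^ (r - 1) * (Nat.card G / p ^ r) with hL
  have hdL : ∀ χ : Cfsg.IrrCharacter G, Cfsg.charDegree (χ : G → ℂ) ∣ L := by
    intro χ
    have hle : (Cfsg.charDegree (χ : G → ℂ)).factorization p ≤ r :=
      (Nat.factorization_le_iff_dvd (deg_pos χ).ne' Nat.card_pos.ne').mpr (deg_dvd_card χ) p
    have hne : (Cfsg.charDegree (χ : G → ℂ)).factorization p ≠ r := fun h => hdz ⟨χ, h⟩
    rw [← Nat.ordProj_mul_ordCompl_eq_self (Cfsg.charDegree (χ : G → ℂ)) p]
    exact Nat.mul_dvd_mul (pow_dvd_pow p (by omega))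
      (Nat.ordCompl_dvd_ordCompl_of_dvd (deg_dvd_card χ) p)
  have hint : IsIntegral ℤ (((L * N : ℕ) : ℂ) / ((Nat.card G : ℕ) : ℂ)) := by
    rw [Nat.cast_mul, hN, card_pairs_eq_sum, mul_left_comm,
      mul_div_cancel_left₀ _ card_ne_zero, Finset.mul_sum]
    refine IsIntegral.sum _ fun χ _ => ?_
    obtain ⟨t, ht⟩ := hdL χ
    rw [ht, Nat.cast_mul, deg_cast]
    have h0 := IsIrrCharacter.apply_one_ne_zero χ.2
    rw [show (χ : G → ℂ) 1 * (t : ℂ) *
        ((χ : G → ℂ) y⁻¹ * (χ : G → ℂ) a * (χ : G → ℂ) b / (χ : G → ℂ) 1) =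
        (χ : G → ℂ) y⁻¹ * (χ : G → ℂ) a * (χ : G → ℂ) b * ((t : ℤ) : ℂ) by
      push_cast; field_simp]
    exact (((IsCharacter.isIntegral (isCharacter_irr χ) _).mul
      (IsCharacter.isIntegral (isCharacter_irr χ) _)).mul
        (IsCharacter.isIntegral (isCharacter_irr χ) _)).mul
          (isIntegral_algebraMap (R := ℤ) (A := ℂ))
  have hd : p ^ r ∣ L * N :=
    (Nat.ordProj_dvd _ _).trans (dvd_of_isIntegral_div Nat.card_pos.ne' hint)
  rw [hL, mul_assoc] at hd
  nth_rewrite 1 [show r = r - 1 + 1 by omega] at hd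
  rw [pow_succ] at hd
  have hd' := Nat.dvd_of_mul_dvd_mul_left (pow_pos hp.pos _) hd
  rcases hp.dvd_mul.mp hd' with h | h
  · exact absurd h (Nat.not_dvd_ordCompl hp Nat.card_pos.ne')
  · rw [hN, card_pairs] at h
    exact (hp.dvd_mul.mp h).resolve_right fun h' => (hp.dvd_mul.mp h').elim ha hb

end CfsgLib.DegreeTools.ClassConstant
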