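import Cfsg.Agent.Lib.DegreeTools.Basic
import Cfsg.Agent.Lib.Char.ClassSum

/-!
# Pairs of conjugates with quotient in a given subgroup
-/

namespace CfsgLib.DegreeTools

open CfsgLib.Char

variable {G : Type*} [Group G] [Finite G]

/-- If distinct conjugates of `z` never have their quotient in `P`, then `|C(z)|` is a weighted sum
of the multiplicities of the principal character of `P`. -/
theorem card_centralizer_eq_sum_pairs [Fintype G] (z : G) (P : Subgroup G) [Fintype P]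
    (h : ∀ g k : G, IsConj z g → IsConj z k → g * k⁻¹ ∈ P → g = k) :
    (Nat.card (Subgroup.centralizer ({z} : Set G)) : ℂ) =
      ∑ χ : Cfsg.IrrCharacter G, (χ : G → ℂ) z * (χ : G → ℂ) z⁻¹ / (χ : G → ℂ) 1 *
        ∑ w : P, (χ : G → ℂ) (w⁻¹ : P) := by
  classical
  have hG : (Nat.card G : ℂ) ≠ 0 := card_ne_zero
  -- count the pairs in two ways
  have h1 : ∀ a b : G, (if a * z * a⁻¹ = b * z * b⁻¹ then (1 : ℂ) else 0) =
      ∑ w : P, (Nat.card G : ℂ)⁻¹ * ∑ χ : Cfsg.IrrCharacter G,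
        (χ : G → ℂ) 1 * (χ : G → ℂ) ((w⁻¹ : P) * ((a * z * a⁻¹) * (b * z⁻¹ * b⁻¹))) := by
    intro a b
    rw [← Finset.mul_sum, Finset.sum_congr rfl fun w _ => regular_eq_sum_irr _]
    have hv : (a * z * a⁻¹) * (b * z⁻¹ * b⁻¹) = (a * z * a⁻¹) * (b * z * b⁻¹)⁻¹ := by
      simp [mul_assoc]
    by_cases he : a * z * a⁻¹ = b * z * b⁻¹
    · rw [if_pos he, Finset.sum_eq_single (1 : P)]
      · rw [hv, he]; simp [hG]
      · intro w _ hw
        rw [if_neg]
        rw [hv, he, mul_inv_cancel, mul_one]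
        simpa using hw
      · intro hn; exact absurd (Finset.mem_univ _) hn
    · rw [if_neg he, Finset.sum_eq_zero, mul_zero]
      intro w _
      rw [if_neg]
      intro h'
      refine he (h _ _ (isConj_iff.mpr ⟨a, rfl⟩) (isConj_iff.mpr ⟨b, rfl⟩) ?_)
      have h2 := eq_inv_of_mul_eq_one_right h'
      rw [hv] at h2
      rw [h2]
      simp
  have h2 : ∑ a : G, ∑ b : G, (if a * z * a⁻¹ = b * z * b⁻¹ then (1 : ℂ) else 0) =
      (Nat.card G : ℂ) * Nat.card (Subgroup.centralizer ({z} : Set G)) := by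
    rw [Nat.card_eq_fintype_card (α := G), ← Finset.card_univ, ← nsmul_eq_mul, ← Finset.sum_const]
    refine Finset.sum_congr rfl fun a _ => ?_
    rw [Finset.sum_boole, Nat.cast_inj, Nat.card_eq_fintype_card, Fintype.card_subtype]
    refine Finset.card_equiv (Equiv.mulLeft a⁻¹) fun b => ?_
    simp only [Finset.mem_filter, Finset.mem_univ, true_and, Equiv.coe_mulLeft,
      Subgroup.mem_centralizer_singleton_iff]
    constructor
    · intro e
      have := congrArg (fun x => a⁻¹ * x * b) e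
      simpa [mul_assoc] using this.symm
    · intro e
      have := congrArg (fun x => a * x * b⁻¹) e
      simpa [mul_assoc] using this.symm
  have h3 : ∀ (χ : Cfsg.IrrCharacter G) (w : P),
      ∑ a : G, ∑ b : G, (χ : G → ℂ) ((w⁻¹ : P) * ((a * z * a⁻¹) * (b * z⁻¹ * b⁻¹))) =
        (Nat.card G : ℂ) ^ 2 * (χ : G → ℂ) (w⁻¹ : P) * (χ : G → ℂ) z * (χ : G → ℂ) z⁻¹ /
          (χ : G → ℂ) 1 ^ 2 := by
    intro χ w
    have hb : ∀ a : G, ∑ b : G, (χ : G → ℂ) ((w⁻¹ : P) * ((a * z * a⁻¹) * (b * z⁻¹ * b⁻¹))) =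
        (Nat.card G : ℂ) * ((χ : G → ℂ) ((w⁻¹ : P) * (a * z * a⁻¹)) * (χ : G → ℂ) z⁻¹) /
          (χ : G → ℂ) 1 := by
      intro a
      rw [← mul_assoc (Nat.card G : ℂ), ← IsIrrCharacter.sum_mul_conjugate χ.2]
      simp only [mul_assoc]
    rw [Finset.sum_congr rfl fun a _ => hb a, ← Finset.sum_div, ← Finset.mul_sum, ← Finset.sum_mul,
      IsIrrCharacter.sum_mul_conjugate χ.2]
    ring
  have h4 : ∑ a : G, ∑ b : G, (if a * z * a⁻¹ = b * z * b⁻¹ then (1 : ℂ) else 0) =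
      ∑ χ : Cfsg.IrrCharacter G, ∑ w : P, (Nat.card G : ℂ)⁻¹ * ((χ : G → ℂ) 1 *
        ∑ a : G, ∑ b : G, (χ : G → ℂ) ((w⁻¹ : P) * ((a * z * a⁻¹) * (b * z⁻¹ * b⁻¹)))) := by
    simp only [h1, Finset.mul_sum]
    rw [Finset.sum_congr rfl fun a _ => Finset.sum_comm, Finset.sum_comm,
      Finset.sum_congr rfl fun w _ => (Finset.sum_congr rfl fun a _ => Finset.sum_comm).trans
        Finset.sum_comm, Finset.sum_comm]
  rw [h2] at h4
  apply mul_left_cancel₀ hG
  rw [h4, Finset.mul_sum]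
  refine Finset.sum_congr rfl fun χ _ => ?_
  rw [Finset.mul_sum, Finset.mul_sum]
  refine Finset.sum_congr rfl fun w _ => ?_
  rw [h3]
  have h0 := IsIrrCharacter.apply_one_ne_zero χ.2
  field_simp

/-- If distinct conjugates of `z` never have their quotient in a subgroup of order `p ^ c`, then
some degree is divisible by `p ^ (c - a)`, where `p ^ a` is the `p`-part of `|C(z)|`. -/
theorem exists_pow_dvd_deg (p : ℕ) [Fact p.Prime] (z : G) (P : Subgroup G) (c : ℕ)
    (hP : Nat.card P = p ^ c)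
    (h : ∀ g k : G, IsConj z g → IsConj z k → g * k⁻¹ ∈ P → g = k) :
    ∃ χ : Cfsg.IrrCharacter G,
      p ^ (c - (Nat.card (Subgroup.centralizer ({z} : Set G))).factorization p) ∣
        Cfsg.charDegree (χ : G → ℂ) := by
  classical
  cases nonempty_fintype G
  have hp : p.Prime := Fact.out
  set a := (Nat.card (Subgroup.centralizer ({z} : Set G))).factorization p with ha
  by_contra hcon
  push Not at hcon
  have hlt : a < c := by
    by_contra hle
    exact hcon (oneChar G) (by rw [Nat.sub_eq_zero_of_le (not_lt.mp hle), pow_zero]; exact one_dvd _)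
  set L := p ^ (c - a - 1) * (Nat.card G / p ^ (Nat.card G).factorization p) with hL
  have hdL : ∀ χ : Cfsg.IrrCharacter G, Cfsg.charDegree (χ : G → ℂ) ∣ L := by
    intro χ
    have hv : (Cfsg.charDegree (χ : G → ℂ)).factorization p ≤ c - a - 1 := by
      by_contra hv
      exact hcon χ ((hp.pow_dvd_iff_le_factorization (deg_pos χ).ne').mpr (by omega))
    rw [← Nat.ordProj_mul_ordCompl_eq_self (Cfsg.charDegree (χ : G → ℂ)) p]
    exact Nat.mul_dvd_mul (pow_dvd_pow p hv) (Nat.ordCompl_dvd_ordCompl_of_dvd (deg_dvd_card χ) p)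
  have hint : IsIntegral ℤ
      (((L * Nat.card (Subgroup.centralizer ({z} : Set G)) : ℕ) : ℂ) / ((p ^ c : ℕ) : ℂ)) := by
    rw [Nat.cast_mul, card_centralizer_eq_sum_pairs z P h, Finset.mul_sum, Finset.sum_div]
    refine IsIntegral.sum _ fun χ _ => ?_
    obtain ⟨m, hm⟩ := IsCharacter.classInner_nat (IsCharacter.restrict (isCharacter_irr χ) P)
      (isCharacter_one (G := P))
    rw [classInner_fun_one_right, inv_mul_eq_iff_eq_mul₀ card_ne_zero, hP] at hm
    obtain ⟨t, ht⟩ := hdL χ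
    have hsum : ∑ w : P, (χ : G → ℂ) (w⁻¹ : P) = ∑ w : P, (χ : G → ℂ) w :=
      Fintype.sum_equiv (Equiv.inv P) _ _ fun w => rfl
    rw [hsum, hm, ht, Nat.cast_mul, deg_cast]
    have h0 := IsIrrCharacter.apply_one_ne_zero χ.2
    have hpc : ((p ^ c : ℕ) : ℂ) ≠ 0 := Nat.cast_ne_zero.mpr (pow_ne_zero _ hp.ne_zero)
    rw [show (χ : G → ℂ) 1 * (t : ℂ) * ((χ : G → ℂ) z * (χ : G → ℂ) z⁻¹ / (χ : G → ℂ) 1 *
      (((p ^ c : ℕ) : ℂ) * (m : ℂ))) / ((p ^ c : ℕ) : ℂ) =
        (χ : G → ℂ) z * (χ : G → ℂ) z⁻¹ * ((t * m : ℕ) : ℂ) by rw [div_eq_iff hpc]; push_cast; field_simp]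
    exact ((IsCharacter.isIntegral (isCharacter_irr χ) z).mul
      (IsCharacter.isIntegral (isCharacter_irr χ) z⁻¹)).mul (by simpa using isIntegral_algebraMap (R := ℤ) (A := ℂ) (x := ((t * m : ℕ) : ℤ)))
  have hC0 : Nat.card (Subgroup.centralizer ({z} : Set G)) ≠ 0 := Nat.card_pos.ne'
  have hm0 : Nat.card G / p ^ (Nat.card G).factorization p ≠ 0 :=
    (Nat.ordCompl_pos p Nat.card_pos.ne').ne'
  have hL0 : L ≠ 0 := mul_ne_zero (pow_ne_zero _ hp.ne_zero) hm0
  have hd := (hp.pow_dvd_iff_le_factorization (mul_ne_zero hL0 hC0)).mp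
    (dvd_of_isIntegral_div (pow_ne_zero _ hp.ne_zero) hint)
  rw [hL, Nat.factorization_mul (mul_ne_zero (pow_ne_zero _ hp.ne_zero) hm0) hC0,
    Nat.factorization_mul (pow_ne_zero _ hp.ne_zero) hm0, Finsupp.add_apply, Finsupp.add_apply,
    hp.factorization_pow, Finsupp.single_eq_same,
    Nat.factorization_eq_zero_of_not_dvd (Nat.not_dvd_ordCompl hp Nat.card_pos.ne')] at hd
  omega

end CfsgLib.DegreeTools
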