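import Cfsg.Agent.Lib.DegreeTools.ClassPairs

/-!
# The pair formula for two classes
-/

namespace CfsgLib.DegreeTools

open CfsgLib.Char

variable {G : Type*} [Group G] [Finite G]

/-- If conjugates `g` of `z` and `k` of `z'` have their quotient in `P` only when equal, the
weighted column product of `z` and `z'` is `|C(z)|` or `0`. -/
theorem sum_pairs_two [Fintype G] (z z' : G) [Decidable (IsConj z z')] (P : Subgroup G) [Fintype P]
    (h : ∀ g k : G, IsConj z g → IsConj z' k → g * k⁻¹ ∈ P → g = k) :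
    ∑ χ : Cfsg.IrrCharacter G, (χ : G → ℂ) z * (χ : G → ℂ) z'⁻¹ / (χ : G → ℂ) 1 *
        ∑ w : P, (χ : G → ℂ) (w⁻¹ : P) =
      if IsConj z z' then (Nat.card (Subgroup.centralizer ({z} : Set G)) : ℂ) else 0 := by
  classical
  have hG : (Nat.card G : ℂ) ≠ 0 := card_ne_zero
  have h1 : ∀ a b : G, (if a * z * a⁻¹ = b * z' * b⁻¹ then (1 : ℂ) else 0) =
      ∑ w : P, (Nat.card G : ℂ)⁻¹ * ∑ χ : Cfsg.IrrCharacter G,
        (χ : G → ℂ) 1 * (χ : G → ℂ) ((w⁻¹ : P) * ((a * z * a⁻¹) * (b * z'⁻¹ * b⁻¹))) := by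
    intro a b
    rw [← Finset.mul_sum, Finset.sum_congr rfl fun w _ => regular_eq_sum_irr _]
    have hv : (a * z * a⁻¹) * (b * z'⁻¹ * b⁻¹) = (a * z * a⁻¹) * (b * z' * b⁻¹)⁻¹ := by
      simp [mul_assoc]
    by_cases he : a * z * a⁻¹ = b * z' * b⁻¹
    · rw [if_pos he, Finset.sum_eq_single (1 : P)]
      · rw [hv, he]; simp [hG]
      · intro w _ hw
        rw [if_neg]
        rw [hv, he, mul_inv_cancel, mul_one]
        simpa using hw
      · intro hn; exact absurd (Finset.mem_univ _) hn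
    · rw [if_neg he, Finset.sum_eq_zero, mul_zero]
      intro w _
      rw [if_neg]
      intro h'
      refine he (h _ _ (isConj_iff.mpr ⟨a, rfl⟩) (isConj_iff.mpr ⟨b, rfl⟩) ?_)
      have h2 := eq_inv_of_mul_eq_one_right h'
      rw [hv] at h2
      rw [h2]
      simp
  have h2 : ∑ a : G, ∑ b : G, (if a * z * a⁻¹ = b * z' * b⁻¹ then (1 : ℂ) else 0) =
      (Nat.card G : ℂ) *
        if IsConj z z' then (Nat.card (Subgroup.centralizer ({z} : Set G)) : ℂ) else 0 := by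
    split_ifs with hc
    · obtain ⟨d, rfl⟩ := isConj_iff.mp hc
      rw [Nat.card_eq_fintype_card (α := G), ← Finset.card_univ, ← nsmul_eq_mul, ← Finset.sum_const]
      refine Finset.sum_congr rfl fun a _ => ?_
      rw [Finset.sum_boole, Nat.cast_inj, Nat.card_eq_fintype_card, Fintype.card_subtype]
      refine Finset.card_equiv ((Equiv.mulRight d).trans (Equiv.mulLeft a⁻¹)) fun b => ?_
      simp only [Finset.mem_filter, Finset.mem_univ, true_and, Equiv.trans_apply,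
        Equiv.coe_mulLeft, Equiv.coe_mulRight, Subgroup.mem_centralizer_singleton_iff]
      constructor
      · intro e
        have := congrArg (fun x => a⁻¹ * x * b * d) e
        simpa [mul_assoc] using this.symm
      · intro e
        have := congrArg (fun x => a * x * d⁻¹ * b⁻¹) e
        simpa [mul_assoc] using this.symm
    · rw [mul_zero]
      refine Finset.sum_eq_zero fun a _ => Finset.sum_eq_zero fun b _ => if_neg fun e => hc ?_
      exact isConj_iff.mpr ⟨b⁻¹ * a, by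
        have := congrArg (fun x => b⁻¹ * x * b) e
        simpa [mul_assoc] using this⟩
  have h3 : ∀ (χ : Cfsg.IrrCharacter G) (w : P),
      ∑ a : G, ∑ b : G, (χ : G → ℂ) ((w⁻¹ : P) * ((a * z * a⁻¹) * (b * z'⁻¹ * b⁻¹))) =
        (Nat.card G : ℂ) ^ 2 * (χ : G → ℂ) (w⁻¹ : P) * (χ : G → ℂ) z * (χ : G → ℂ) z'⁻¹ /
          (χ : G → ℂ) 1 ^ 2 := by
    intro χ w
    have hb : ∀ a : G, ∑ b : G, (χ : G → ℂ) ((w⁻¹ : P) * ((a * z * a⁻¹) * (b * z'⁻¹ * b⁻¹))) =
        (Nat.card G : ℂ) * ((χ : G → ℂ) ((w⁻¹ : P) * (a * z * a⁻¹)) * (χ : G → ℂ) z'⁻¹) /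
          (χ : G → ℂ) 1 := by
      intro a
      rw [← mul_assoc (Nat.card G : ℂ), ← IsIrrCharacter.sum_mul_conjugate χ.2]
      simp only [mul_assoc]
    rw [Finset.sum_congr rfl fun a _ => hb a, ← Finset.sum_div, ← Finset.mul_sum, ← Finset.sum_mul,
      IsIrrCharacter.sum_mul_conjugate χ.2]
    ring
  have h4 : ∑ a : G, ∑ b : G, (if a * z * a⁻¹ = b * z' * b⁻¹ then (1 : ℂ) else 0) =
      ∑ χ : Cfsg.IrrCharacter G, ∑ w : P, (Nat.card G : ℂ)⁻¹ * ((χ : G → ℂ) 1 *
        ∑ a : G, ∑ b : G, (χ : G → ℂ) ((w⁻¹ : P) * ((a * z * a⁻¹) * (b * z'⁻¹ * b⁻¹)))) := by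
    simp only [h1, Finset.mul_sum]
    rw [Finset.sum_congr rfl fun a _ => Finset.sum_comm, Finset.sum_comm,
      Finset.sum_congr rfl fun w _ => (Finset.sum_congr rfl fun a _ => Finset.sum_comm).trans
        Finset.sum_comm, Finset.sum_comm]
  rw [h2] at h4
  apply mul_left_cancel₀ hG
  rw [h4, Finset.mul_sum]
  refine Finset.sum_congr rfl fun χ _ => ?_
  rw [Finset.mul_sum, Finset.mul_sum]
  refine Finset.sum_congr rfl fun w _ => ?_
  rw [h3]
  have h0 := IsIrrCharacter.apply_one_ne_zero χ.2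
  field_simp

/-- If conjugates `g` of `z` and `k` of `z'` have their quotient in the set `P` only when equal, the
weighted column product of `z` and `z'` is `|C(z)|` or `0`. -/
theorem sum_pairs_set [Fintype G] (z z' : G) [Decidable (IsConj z z')] (P : Finset G) (hP1 : (1 : G) ∈ P)
    (h : ∀ g k : G, IsConj z g → IsConj z' k → g * k⁻¹ ∈ P → g = k) :
    ∑ χ : Cfsg.IrrCharacter G, (χ : G → ℂ) z * (χ : G → ℂ) z'⁻¹ / (χ : G → ℂ) 1 *
        ∑ w : P, (χ : G → ℂ) (w : G)⁻¹ =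
      if IsConj z z' then (Nat.card (Subgroup.centralizer ({z} : Set G)) : ℂ) else 0 := by
  classical
  have hG : (Nat.card G : ℂ) ≠ 0 := card_ne_zero
  have h1 : ∀ a b : G, (if a * z * a⁻¹ = b * z' * b⁻¹ then (1 : ℂ) else 0) =
      ∑ w : P, (Nat.card G : ℂ)⁻¹ * ∑ χ : Cfsg.IrrCharacter G,
        (χ : G → ℂ) 1 * (χ : G → ℂ) ((w : G)⁻¹ * ((a * z * a⁻¹) * (b * z'⁻¹ * b⁻¹))) := by
    intro a b
    rw [← Finset.mul_sum, Finset.sum_congr rfl fun w _ => regular_eq_sum_irr _]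
    have hv : (a * z * a⁻¹) * (b * z'⁻¹ * b⁻¹) = (a * z * a⁻¹) * (b * z' * b⁻¹)⁻¹ := by
      simp [mul_assoc]
    by_cases he : a * z * a⁻¹ = b * z' * b⁻¹
    · rw [if_pos he, Finset.sum_eq_single (⟨1, hP1⟩ : P)]
      · rw [hv, he]; simp [hG]
      · intro w _ hw
        rw [if_neg]
        rw [hv, he, mul_inv_cancel, mul_one]
        rw [inv_eq_one]
        exact fun e => hw (Subtype.ext e)
      · intro hn; exact absurd (Finset.mem_univ _) hn
    · rw [if_neg he, Finset.sum_eq_zero, mul_zero]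
      intro w _
      rw [if_neg]
      intro h'
      refine he (h _ _ (isConj_iff.mpr ⟨a, rfl⟩) (isConj_iff.mpr ⟨b, rfl⟩) ?_)
      have h2 := eq_inv_of_mul_eq_one_right h'
      rw [hv] at h2
      rw [h2]
      simp
  have h2 : ∑ a : G, ∑ b : G, (if a * z * a⁻¹ = b * z' * b⁻¹ then (1 : ℂ) else 0) =
      (Nat.card G : ℂ) *
        if IsConj z z' then (Nat.card (Subgroup.centralizer ({z} : Set G)) : ℂ) else 0 := by
    split_ifs with hc
    · obtain ⟨d, rfl⟩ := isConj_iff.mp hc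
      rw [Nat.card_eq_fintype_card (α := G), ← Finset.card_univ, ← nsmul_eq_mul, ← Finset.sum_const]
      refine Finset.sum_congr rfl fun a _ => ?_
      rw [Finset.sum_boole, Nat.cast_inj, Nat.card_eq_fintype_card, Fintype.card_subtype]
      refine Finset.card_equiv ((Equiv.mulRight d).trans (Equiv.mulLeft a⁻¹)) fun b => ?_
      simp only [Finset.mem_filter, Finset.mem_univ, true_and, Equiv.trans_apply,
        Equiv.coe_mulLeft, Equiv.coe_mulRight, Subgroup.mem_centralizer_singleton_iff]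
      constructor
      · intro e
        have := congrArg (fun x => a⁻¹ * x * b * d) e
        simpa [mul_assoc] using this.symm
      · intro e
        have := congrArg (fun x => a * x * d⁻¹ * b⁻¹) e
        simpa [mul_assoc] using this.symm
    · rw [mul_zero]
      refine Finset.sum_eq_zero fun a _ => Finset.sum_eq_zero fun b _ => if_neg fun e => hc ?_
      exact isConj_iff.mpr ⟨b⁻¹ * a, by
        have := congrArg (fun x => b⁻¹ * x * b) e
        simpa [mul_assoc] using this⟩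
  have h3 : ∀ (χ : Cfsg.IrrCharacter G) (w : P),
      ∑ a : G, ∑ b : G, (χ : G → ℂ) ((w : G)⁻¹ * ((a * z * a⁻¹) * (b * z'⁻¹ * b⁻¹))) =
        (Nat.card G : ℂ) ^ 2 * (χ : G → ℂ) (w : G)⁻¹ * (χ : G → ℂ) z * (χ : G → ℂ) z'⁻¹ /
          (χ : G → ℂ) 1 ^ 2 := by
    intro χ w
    have hb : ∀ a : G, ∑ b : G, (χ : G → ℂ) ((w : G)⁻¹ * ((a * z * a⁻¹) * (b * z'⁻¹ * b⁻¹))) =
        (Nat.card G : ℂ) * ((χ : G → ℂ) ((w : G)⁻¹ * (a * z * a⁻¹)) * (χ : G → ℂ) z'⁻¹) /
          (χ : G → ℂ) 1 := by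
      intro a
      rw [← mul_assoc (Nat.card G : ℂ), ← IsIrrCharacter.sum_mul_conjugate χ.2]
      simp only [mul_assoc]
    rw [Finset.sum_congr rfl fun a _ => hb a, ← Finset.sum_div, ← Finset.mul_sum, ← Finset.sum_mul,
      IsIrrCharacter.sum_mul_conjugate χ.2]
    ring
  have h4 : ∑ a : G, ∑ b : G, (if a * z * a⁻¹ = b * z' * b⁻¹ then (1 : ℂ) else 0) =
      ∑ χ : Cfsg.IrrCharacter G, ∑ w : P, (Nat.card G : ℂ)⁻¹ * ((χ : G → ℂ) 1 *
        ∑ a : G, ∑ b : G, (χ : G → ℂ) ((w : G)⁻¹ * ((a * z * a⁻¹) * (b * z'⁻¹ * b⁻¹)))) := by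
    simp only [h1, Finset.mul_sum]
    rw [Finset.sum_congr rfl fun a _ => Finset.sum_comm, Finset.sum_comm,
      Finset.sum_congr rfl fun w _ => (Finset.sum_congr rfl fun a _ => Finset.sum_comm).trans
        Finset.sum_comm, Finset.sum_comm]
  rw [h2] at h4
  apply mul_left_cancel₀ hG
  rw [h4, Finset.mul_sum]
  refine Finset.sum_congr rfl fun χ _ => ?_
  rw [Finset.mul_sum, Finset.mul_sum]
  refine Finset.sum_congr rfl fun w _ => ?_
  rw [h3]
  have h0 := IsIrrCharacter.apply_one_ne_zero χ.2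
  field_simp

end CfsgLib.DegreeTools
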