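import Cfsg.Agent.Lib.DegreeTools.Basic
import Cfsg.Agent.Lib.Char.Quotient

/-!
# Codegrees
-/

namespace CfsgLib.DegreeTools

open CfsgLib.Char

variable {G : Type*} [Group G] [Finite G]

theorem card_ker_eq (χ : Cfsg.IrrCharacter G) :
    Nat.card {g : G // (χ : G → ℂ) g = (χ : G → ℂ) 1} = Nat.card (charKer (isCharacter_irr χ)) :=
  Nat.card_congr (Equiv.subtypeEquivRight fun _ => (mem_charKer _).symm)

theorem deg_dvd_index_ker (χ : Cfsg.IrrCharacter G) :
    Cfsg.charDegree (χ : G → ℂ) ∣ (charKer (isCharacter_irr χ)).index := by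
  haveI := charKer_normal (isCharacter_irr χ)
  obtain ⟨ψ, hψ, he⟩ := IsIrrCharacter.exists_deflate χ.2 (charKer (isCharacter_irr χ))
    fun n hn => (mem_charKer _).mp hn
  have h1 : Cfsg.charDegree (χ : G → ℂ) = Cfsg.charDegree ψ := by
    simp only [Cfsg.charDegree, he, Function.comp_apply, map_one]
  rw [h1]
  exact deg_dvd_card ⟨ψ, hψ⟩

theorem card_ker_mul_deg_dvd (χ : Cfsg.IrrCharacter G) :
    Nat.card {g : G // (χ : G → ℂ) g = (χ : G → ℂ) 1} * Cfsg.charDegree (χ : G → ℂ) ∣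
      Nat.card G := by
  rw [card_ker_eq, ← Subgroup.card_mul_index (charKer (isCharacter_irr χ))]
  exact Nat.mul_dvd_mul_left _ (deg_dvd_index_ker χ)

theorem codegree_dvd_card (χ : Cfsg.IrrCharacter G) :
    Nat.card G / (Nat.card {g : G // (χ : G → ℂ) g = (χ : G → ℂ) 1} *
      Cfsg.charDegree (χ : G → ℂ)) ∣ Nat.card G :=
  Nat.div_dvd_of_dvd (card_ker_mul_deg_dvd χ)

/-- Some nonprincipal irreducible character has degree prime to a given prime divisor of `|G|`. -/
theorem exists_ne_one_not_dvd_deg {p : ℕ} (hp : p.Prime) (hdvd : p ∣ Nat.card G) :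
    ∃ χ : Cfsg.IrrCharacter G, χ ≠ oneChar G ∧ ¬ p ∣ Cfsg.charDegree (χ : G → ℂ) := by
  classical
  by_contra hcon
  push Not at hcon
  have h := sum_deg_sq (G := G)
  rw [← Finset.add_sum_erase _ _ (Finset.mem_univ (oneChar G)), deg_oneChar, one_pow] at h
  have h2 : p ∣ ∑ χ ∈ Finset.univ.erase (oneChar G), Cfsg.charDegree (χ : G → ℂ) ^ 2 :=
    Finset.dvd_sum fun χ hχ => dvd_pow (hcon χ (Finset.ne_of_mem_erase hχ)) two_ne_zero
  rw [← h, Nat.dvd_add_left h2] at hdvd
  exact hp.not_dvd_one hdvd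

theorem charKer_eq_top_iff (χ : Cfsg.IrrCharacter G) :
    charKer (isCharacter_irr χ) = ⊤ ↔ χ = oneChar G := by
  classical
  cases nonempty_fintype G
  constructor
  · intro h
    by_contra hne
    have hconst : ∀ g : G, (χ : G → ℂ) g = (χ : G → ℂ) 1 := fun g =>
      (mem_charKer (isCharacter_irr χ)).mp (h ▸ Subgroup.mem_top g)
    have := sum_eq_zero χ hne
    rw [Finset.sum_congr rfl fun g _ => hconst g, Finset.sum_const, nsmul_eq_mul, mul_eq_zero]
      at this
    rcases this with h0 | h0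
    · exact Nat.cast_ne_zero.mpr (Finset.card_pos.mpr ⟨1, Finset.mem_univ _⟩).ne' h0
    · exact IsIrrCharacter.apply_one_ne_zero χ.2 h0
  · rintro rfl
    ext g
    simp [mem_charKer]

end CfsgLib.DegreeTools
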