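import Mathlib.LinearAlgebra.PID
import Cfsg.Agent.Lib.DegreeTools.CharTools
import Cfsg.Agent.Lib.CharDeep.IrrTools

/-!
# The conjugation action of `G` on the commutant of a normal subgroup

For a representation `ρ` of `G` and a normal subgroup `N`, the character of `G` on `End_N V` at `x`
is the average of `‖χ (n x)‖ ^ 2` over `n ∈ N`.
-/

namespace CfsgLib.DegreeTools.Commutant

open Module

variable {G : Type*} [Group G] {V : Type*} [AddCommGroup V] [Module ℂ V]

/-- `End_N V`. -/
noncomputable def space (ρ : Representation ℂ G V) (N : Subgroup G) : Submodule ℂ (V →ₗ[ℂ] V) :=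
  Representation.invariants ((Representation.linHom ρ ρ).comp N.subtype)

theorem mem_space (ρ : Representation ℂ G V) (N : Subgroup G) (f : V →ₗ[ℂ] V) :
    f ∈ space ρ N ↔ ∀ n : N, ρ n ∘ₗ f ∘ₗ ρ (n : G)⁻¹ = f := Iff.rfl

theorem mem_space_iff_comm (ρ : Representation ℂ G V) (N : Subgroup G) (f : V →ₗ[ℂ] V) :
    f ∈ space ρ N ↔ ∀ n : N, (f : Module.End ℂ V) * ρ n = ρ n * f := by
  rw [mem_space]
  refine forall_congr' fun n => ?_
  show (ρ n : Module.End ℂ V) * (f * ρ (n : G)⁻¹) = f ↔ _
  constructor
  · intro h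
    conv_lhs => rw [← h, mul_assoc, mul_assoc, ← map_mul, inv_mul_cancel, map_one, mul_one]
  · intro h
    rw [← mul_assoc, ← h, mul_assoc, ← map_mul, mul_inv_cancel, map_one, mul_one]

/-- The action of `G` on `End_N V`. -/
noncomputable def rep (ρ : Representation ℂ G V) (N : Subgroup G) [hN : N.Normal] :
    Representation ℂ G (space ρ N) :=
  Subrepresentation.toRepresentation (ρ := Representation.linHom ρ ρ)
    ⟨space ρ N, fun x f hf n => by
      have hn : x⁻¹ * (n : G) * x ∈ N := by
        simpa using hN.conj_mem (n : G) n.2 x⁻¹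
      have hf' := hf ⟨_, hn⟩
      change Representation.linHom ρ ρ (n : G) (Representation.linHom ρ ρ x f) = _
      change Representation.linHom ρ ρ (x⁻¹ * (n : G) * x) f = f at hf'
      conv_rhs => rw [← hf']
      rw [← Module.End.mul_apply, ← map_mul, ← Module.End.mul_apply, ← map_mul]
      group⟩

variable [FiniteDimensional ℂ V] [Finite G]

theorem character_rep (ρ : Representation ℂ G V) (N : Subgroup G) [N.Normal] [Fintype N] (x : G) :
    (rep ρ N).character x =
      ((Nat.card N : ℝ)⁻¹ * ∑ n : N, ‖ρ.character ((n : G) * x)‖ ^ 2 : ℝ) := by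
  haveI : Invertible (Nat.card N : ℂ) := invertibleOfNonzero (by simp [Nat.card_pos.ne'])
  haveI : Invertible (Fintype.card N : ℂ) := invertibleOfNonzero (by simp)
  set π : Representation ℂ N (V →ₗ[ℂ] V) := (Representation.linHom ρ ρ).comp N.subtype with hπ
  set L := Representation.linHom ρ ρ with hL
  set P := π.averageMap with hP
  have hPmem : ∀ v, P v ∈ space ρ N := π.averageMap_invariant
  have hPid : ∀ v ∈ space ρ N, P v = v := π.averageMap_id
  have hmaps : ∀ v, (P ∘ₗ L x) v ∈ space ρ N := fun v => hPmem _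
  have h1 := LinearMap.trace_restrict_eq_of_forall_mem (space ρ N) (P ∘ₗ L x) hmaps
  have h2 : (P ∘ₗ L x).restrict (fun v (_ : v ∈ space ρ N) => hmaps v) = rep ρ N x := by
    refine LinearMap.ext fun v => Subtype.ext ?_
    simp only [LinearMap.coe_restrict_apply, LinearMap.comp_apply, rep,
      Subrepresentation.toRepresentation, MonoidHom.coe_mk, OneHom.coe_mk]
    refine hPid _ ?_
    exact (rep ρ N x v).2
  rw [h2] at h1
  show LinearMap.trace ℂ _ (rep ρ N x) = _
  rw [h1]
  have h3 : P ∘ₗ L x = (Nat.card N : ℂ)⁻¹ • ∑ n : N, L ((n : G) * x) := by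
    apply LinearMap.ext
    intro f
    simp only [hP, Representation.averageMap, GroupAlgebra.average, map_smul, map_sum,
      Representation.asAlgebraHom_single_one, LinearMap.comp_apply, LinearMap.smul_apply,
      LinearMap.sum_apply, invOf_eq_inv, MonoidAlgebra.of_apply,
      Nat.card_eq_fintype_card]
    congr 1
    refine Finset.sum_congr rfl fun n _ => ?_
    rw [hπ, MonoidHom.comp_apply, Subgroup.subtype_apply, map_mul]
    rfl
  rw [h3, map_smul, map_sum]
  push_cast
  rw [smul_eq_mul]
  congr 1
  refine Finset.sum_congr rfl fun n _ => ?_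
  show (L).character ((n : G) * x) = _
  rw [hL, Representation.char_linHom, CharTools.char_inv, mul_comm, Complex.mul_conj,
    Complex.normSq_eq_norm_sq]
  push_cast
  rfl

end CfsgLib.DegreeTools.Commutant
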