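import Cfsg.Agent.Lib.DegreeTools.Basic
import Mathlib.GroupTheory.Complement

/-!
# Small characters of `Q ⋊ P` with `P` acting with constant fixed points
-/

namespace CfsgLib.DegreeTools

open CfsgLib CfsgLib.Char

open scoped Classical in
/-- If `P` acts on `Q` coprimely and every `x ∈ P ∖ {1}` has the same fixed points as `P`, then in
an irreducible character of degree at most `√|P|` every central `z ∈ P` commutes with `Q` modulo
the kernel. -/
theorem apply_comm_eq_deg {X : Type*} [Group X] [Finite X] (Q P : Subgroup X) [Q.Normal]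
    (hQP : Subgroup.IsComplement' Q P) (hcop : (Nat.card Q).Coprime (Nat.card P))
    (hC : ∀ x ∈ P, x ≠ 1 → ∀ c ∈ Q, c * x = x * c → ∀ y ∈ P, c * y = y * c)
    (z : X) (hz : z ∈ P) (hzc : ∀ y ∈ P, z * y = y * z)
    (ψ : Cfsg.IrrCharacter X) (hd : Cfsg.charDegree (ψ : X → ℂ) ^ 2 ≤ Nat.card P) :
    ∀ q ∈ Q, (ψ : X → ℂ) (z * q * z⁻¹ * q⁻¹) = (ψ : X → ℂ) 1 := by
  cases nonempty_fintype X
  set C := Q ⊓ Subgroup.centralizer (P : Set X) with hCdef
  have hCP : ∀ c ∈ C, ∀ y ∈ P, c * y = y * c := fun c hc y hy =>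
    (Subgroup.mem_centralizer_iff.mp hc.2 y hy).symm
  let f : C × P →* X := MonoidHom.noncommCoprod C.subtype P.subtype fun c y => hCP c c.2 y y.2
  have hf : ∀ a : C × P, f a = (a.1 : X) * a.2 := fun a => rfl
  set F : X → ℂ := fun g => (ψ : X → ℂ) g * starRingEnd ℂ ((ψ : X → ℂ) g) with hF
  have hFconj : ∀ u g : X, F (u * g * u⁻¹) = F g := fun u g => by
    have : (ψ : X → ℂ) (u * g * u⁻¹) = (ψ : X → ℂ) g :=
      IsClassFunction.apply_eq_of_isConj (IsIrrCharacter.isClassFunction ψ.2)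
        (isConj_iff.mpr ⟨u⁻¹, by simp [mul_assoc]⟩)
    simp only [hF, this]
  -- the coset `Qx` is covered by the conjugates of `Cx`, each element `|C|` times
  have hcoset : ∀ x : P, x ≠ 1 →
      (Nat.card Q : ℂ) * ∑ c : C, F ((c : X) * x) = (Nat.card C : ℂ) * ∑ q : Q, F ((q : X) * x) := by
    intro x hx
    let φ : Q × C → Q := fun a => ⟨(a.1 : X) * (a.2 : X) * ((x : X) * (a.1 : X)⁻¹ * (x : X)⁻¹),
      Q.mul_mem (Q.mul_mem a.1.2 a.2.2.1) (‹Q.Normal›.conj_mem _ (Q.inv_mem a.1.2) x)⟩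
    have hφx : ∀ a : Q × C, ((φ a : Q) : X) * x = a.1 * (a.2 * x) * (a.1 : X)⁻¹ := fun a => by
      show (a.1 : X) * (a.2 : X) * ((x : X) * (a.1 : X)⁻¹ * (x : X)⁻¹) * x = _
      group
    have hx1 : (x : X) ≠ 1 := fun e => hx (Subtype.ext e)
    have hinj : ∀ a b : Q × C, φ a = φ b → (b.1 : X)⁻¹ * a.1 ∈ C ∧
        ((b.1 : X)⁻¹ * a.1) * a.2 * ((b.1 : X)⁻¹ * a.1)⁻¹ = b.2 := by
      intro a b hab
      set w := (b.1 : X)⁻¹ * a.1 with hw
      have h1 : w * ((a.2 : X) * x) * w⁻¹ = (b.2 : X) * x := by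
        have h := congrArg (fun q : Q => (b.1 : X)⁻¹ * ((q : X) * x) * b.1) hab
        simp only [hφx] at h
        calc w * ((a.2 : X) * x) * w⁻¹ = (b.1 : X)⁻¹ * (a.1 * (a.2 * x) * (a.1 : X)⁻¹) * b.1 := by
              rw [hw]; group
          _ = (b.1 : X)⁻¹ * (b.1 * (b.2 * x) * (b.1 : X)⁻¹) * b.1 := h
          _ = _ := by group
      obtain ⟨m, hm1, hm0⟩ := Nat.chineseRemainder hcop.symm 1 0
      have hp : ∀ c : C, ((c : X) * x) ^ m = x := by
        intro c
        have e1 : (x : X) ^ m = (x : X) ^ 1 := pow_eq_pow_iff_modEq.mpr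
          (Nat.ModEq.of_dvd (Subgroup.orderOf_dvd_natCard P x.2) hm1)
        have e2 : (c : X) ^ m = (c : X) ^ 0 := pow_eq_pow_iff_modEq.mpr
          (Nat.ModEq.of_dvd (Subgroup.orderOf_dvd_natCard Q c.2.1) hm0)
        rw [(show Commute (c : X) (x : X) from hCP c c.2 x x.2).mul_pow, e1, e2, pow_zero,
          pow_one, one_mul]
      have h2 := congrArg (· ^ m) h1
      simp only [conj_pow, hp] at h2
      have hwQ : w ∈ Q := Q.mul_mem (Q.inv_mem b.1.2) a.1.2
      have hwx : w * x = (x : X) * w := mul_inv_eq_iff_eq_mul.mp h2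
      refine ⟨⟨hwQ, Subgroup.mem_centralizer_iff.mpr fun y hy =>
        (hC x x.2 hx1 w hwQ hwx y hy).symm⟩, ?_⟩
      apply mul_right_cancel (b := (x : X))
      rw [← h1]
      calc w * a.2 * w⁻¹ * x = w * a.2 * w⁻¹ * (w * x * w⁻¹) := by rw [h2]
        _ = _ := by group
    have hfib : ∀ a : Q × C,
        (Finset.univ.filter fun b => φ b = φ a).card = Nat.card C := by
      intro a
      rw [Nat.card_eq_fintype_card, ← Finset.card_univ]
      symm
      refine Finset.card_bij (fun w _ => (a.1 * ⟨w, w.2.1⟩⁻¹,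
        (⟨w * a.2 * (w : X)⁻¹, C.mul_mem (C.mul_mem w.2 a.2.2) (C.inv_mem w.2)⟩ : C))) ?_ ?_ ?_
      · intro w _
        refine Finset.mem_filter.mpr ⟨Finset.mem_univ _, Subtype.ext ?_⟩
        apply mul_right_cancel (b := (x : X))
        rw [hφx, hφx]
        have hwx : (w : X) * x = x * w := hCP w w.2 x x.2
        calc ((a.1 : X) * (w : X)⁻¹) * ((w * a.2 * (w : X)⁻¹) * x) * ((a.1 : X) * (w : X)⁻¹)⁻¹
            = (a.1 : X) * a.2 * ((w : X)⁻¹ * (x * w)) * (a.1 : X)⁻¹ := by group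
          _ = _ := by rw [← hwx]; group
      · intro w _ w' _ he
        exact Subtype.ext (by simpa using congrArg (fun b : Q × C => ((b.1 : Q) : X)) he)
      · intro b hb
        obtain ⟨hw, hw'⟩ := hinj a b (Finset.mem_filter.mp hb).2.symm
        refine ⟨⟨_, hw⟩, Finset.mem_univ _, Prod.ext (Subtype.ext ?_) (Subtype.ext hw')⟩
        show (a.1 : X) * ((b.1 : X)⁻¹ * a.1)⁻¹ = b.1
        group
    have hcardim : (Finset.univ.image φ) = (Finset.univ : Finset Q) := by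
      refine Finset.eq_univ_of_card _ (Nat.eq_of_mul_eq_mul_left
        (show 0 < Nat.card C from Nat.card_pos) ?_)
      rw [← Nat.card_eq_fintype_card, mul_comm _ (Nat.card Q), ← Nat.card_prod]
      rw [Nat.card_eq_fintype_card (α := Q × C), ← Finset.card_univ (α := Q × C),
        Finset.card_eq_sum_card_image φ Finset.univ, Finset.sum_const_nat (m := Nat.card C)]
      · rw [mul_comm]
      · intro q hq
        obtain ⟨a, -, rfl⟩ := Finset.mem_image.mp hq
        exact hfib a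
    have hsum : ∑ a : Q × C, F ((φ a : X) * x) = (Nat.card C : ℂ) * ∑ q : Q, F ((q : X) * x) := by
      rw [← Finset.sum_fiberwise_of_maps_to (g := φ) (t := Finset.univ)
        (fun a _ => Finset.mem_univ _), Finset.mul_sum]
      refine Finset.sum_congr rfl fun q _ => ?_
      rw [Finset.sum_congr rfl (fun a ha => by rw [(Finset.mem_filter.mp ha).2]), Finset.sum_const,
        nsmul_eq_mul]
      obtain ⟨a, -, rfl⟩ := Finset.mem_image.mp (hcardim.symm ▸ Finset.mem_univ q)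
      rw [hfib]
    rw [← hsum, Fintype.sum_prod_type]
    simp only [hφx, hFconj]
    rw [Finset.sum_const, Finset.card_univ, nsmul_eq_mul, Nat.card_eq_fintype_card]
  -- norms
  obtain ⟨A, hA⟩ := IsCharacter.classInner_nat (IsCharacter.restrict (isCharacter_irr ψ) Q)
    (IsCharacter.restrict (isCharacter_irr ψ) Q)
  obtain ⟨E, hE⟩ := IsCharacter.classInner_nat (IsCharacter.restrict (isCharacter_irr ψ) C)
    (IsCharacter.restrict (isCharacter_irr ψ) C)
  obtain ⟨N0, hN0⟩ := IsCharacter.classInner_nat (IsCharacter.comp (isCharacter_irr ψ) f)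
    (IsCharacter.comp (isCharacter_irr ψ) f)
  have hpos : ∀ {H : Type _} [Group H] [Fintype H] (θ : H → ℂ), θ 1 ≠ 0 →
      ∀ n : ℕ, Cfsg.classInner θ θ = (n : ℂ) → n ≠ 0 := by
    intro H _ _ θ h1 n hn h0
    rw [h0, Nat.cast_zero, classInner_self_eq_zero] at hn
    exact h1 (by rw [hn]; rfl)
  have hψ1 : (ψ : X → ℂ) 1 ≠ 0 := IsIrrCharacter.apply_one_ne_zero ψ.2
  have hA0 : A ≠ 0 := hpos _ (by simpa using hψ1) A hA
  have hE0 : E ≠ 0 := hpos _ (by simpa using hψ1) E hE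
  have hN00 : N0 ≠ 0 := hpos _ (by simpa using hψ1) N0 hN0
  have hbound : ∀ {H : Type _} [Group H] [Fintype H] (g : H → X) (n : ℕ),
      Cfsg.classInner (fun h => (ψ : X → ℂ) (g h)) (fun h => (ψ : X → ℂ) (g h)) = (n : ℂ) →
      n ≤ Nat.card P := by
    intro H _ _ g n hn
    refine le_trans ?_ hd
    have h1 : (n : ℝ) = (Nat.card H : ℝ)⁻¹ * ∑ h : H, ‖(ψ : X → ℂ) (g h)‖ ^ 2 := by
      apply Complex.ofReal_injective
      push_cast
      rw [← hn, Cfsg.classInner]
      simp only [Complex.mul_conj', Nat.card_eq_fintype_card]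
    have h2 : ∑ h : H, ‖(ψ : X → ℂ) (g h)‖ ^ 2 ≤
        (Nat.card H : ℝ) * (Cfsg.charDegree (ψ : X → ℂ) : ℝ) ^ 2 := by
      refine (Finset.sum_le_sum fun h _ =>
        pow_le_pow_left₀ (norm_nonneg _) (norm_apply_le ψ (g h)) 2).trans (le_of_eq ?_)
      rw [Finset.sum_const, Finset.card_univ, nsmul_eq_mul, Nat.card_eq_fintype_card]
    have h3 : (n : ℝ) ≤ (Cfsg.charDegree (ψ : X → ℂ) : ℝ) ^ 2 := by
      rw [h1, inv_mul_le_iff₀ (Nat.cast_pos.mpr Nat.card_pos)]
      exact h2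
    exact_mod_cast h3
  have hAb := hbound (fun q : Q => (q : X)) A hA
  have hEb := hbound (fun c : C => (c : X)) E hE
  -- the sums
  have hnorm1 := classInner_irr_self ψ.2
  rw [Cfsg.classInner, inv_mul_eq_iff_eq_mul₀ card_ne_zero] at hA hE hN0 hnorm1
  rw [Fintype.sum_prod_type, Finset.sum_comm] at hN0
  have hX : ∑ g : X, F g = ∑ y : P, ∑ q : Q, F ((q : X) * y) := by
    rw [Finset.sum_comm, ← Fintype.sum_prod_type']
    exact (Fintype.sum_equiv (Equiv.ofBijective _ hQP) _ _ fun a => rfl).symm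
  have hP1 : ∑ y : P, ∑ q : Q, F ((q : X) * y) =
      ∑ q : Q, F (q : X) + ∑ y ∈ Finset.univ.erase (1 : P), ∑ q : Q, F ((q : X) * y) := by
    rw [← Finset.add_sum_erase _ _ (Finset.mem_univ (1 : P))]
    simp
  have hP2 : ∑ y : P, ∑ c : C, F ((c : X) * y) =
      ∑ c : C, F (c : X) + ∑ y ∈ Finset.univ.erase (1 : P), ∑ c : C, F ((c : X) * y) := by
    rw [← Finset.add_sum_erase _ _ (Finset.mem_univ (1 : P))]
    simp
  have hkey : (Nat.card Q : ℂ) * ∑ y ∈ Finset.univ.erase (1 : P), ∑ c : C, F ((c : X) * y) =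
      (Nat.card C : ℂ) * ∑ y ∈ Finset.univ.erase (1 : P), ∑ q : Q, F ((q : X) * y) := by
    rw [Finset.mul_sum, Finset.mul_sum]
    exact Finset.sum_congr rfl fun y hy => hcoset y (Finset.ne_of_mem_erase hy)
  change ∑ g : X, F g = _ at hnorm1
  change ∑ q : Q, F (q : X) = _ at hA
  change ∑ c : C, F (c : X) = _ at hE
  change ∑ y : P, ∑ c : C, F ((c : X) * y) = _ at hN0
  rw [Nat.card_prod, Nat.cast_mul] at hN0
  have hcardX : (Nat.card X : ℂ) = (Nat.card Q : ℂ) * Nat.card P := by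
    rw [← Nat.cast_mul, hQP.card_mul_card]
  have hQ0 : (Nat.card Q : ℂ) ≠ 0 := Nat.cast_ne_zero.mpr Nat.card_pos.ne'
  have hC0 : (Nat.card C : ℂ) ≠ 0 := Nat.cast_ne_zero.mpr Nat.card_pos.ne'
  have hmain : Nat.card P + E = A + Nat.card P * N0 := by
    apply Nat.cast_injective (R := ℂ)
    push_cast
    apply mul_left_cancel₀ (mul_ne_zero hQ0 hC0)
    rw [hX, hP1, hA, hcardX, mul_one] at hnorm1
    rw [hP2, hE] at hN0
    linear_combination (-(Nat.card C : ℂ)) * hnorm1 + (Nat.card Q : ℂ) * hN0 - hkey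
  have hN1 : N0 = 1 := by
    by_contra hne
    have h2 : 2 * Nat.card P ≤ Nat.card P * N0 := by
      rw [mul_comm 2]; exact Nat.mul_le_mul_left _ (by omega)
    omega
  -- `z` is central in `C × P`, hence a scalar
  have hθ : Cfsg.IsIrrCharacter (C × P) ((ψ : X → ℂ) ∘ f) := by
    refine IsCharacter.isIrrCharacter_of_norm_one (IsCharacter.comp (isCharacter_irr ψ) f) ?_
    rw [Cfsg.classInner, inv_mul_eq_iff_eq_mul₀ card_ne_zero, Fintype.sum_prod_type,
      Finset.sum_comm]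
    change ∑ y : P, ∑ c : C, F ((c : X) * y) = _
    rw [hN0, hN1, Nat.card_prod]
    push_cast
    ring
  obtain ⟨n', σ, hσ, hσe⟩ := hθ
  have hzc' : ∀ a : C × P, σ ((1, ⟨z, hz⟩) : C × P) * σ a = σ a * σ (1, ⟨z, hz⟩) := by
    intro a
    rw [← map_mul, ← map_mul]
    congr 1
    exact Prod.ext (by simp) (Subtype.ext (by simpa using hzc _ a.2.2))
  obtain ⟨ω, hω⟩ := exists_eq_smul_of_commute σ (σ (1, ⟨z, hz⟩)) fun a => by
    rw [← Module.End.mul_eq_comp, ← Module.End.mul_eq_comp]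
    first | exact hzc' a | exact (hzc' a).symm
  obtain ⟨n, ρ, hρ, hρe⟩ := ψ.2
  have hdim : (Module.finrank ℂ (Fin n' → ℂ) : ℂ) = (Module.finrank ℂ (Fin n → ℂ) : ℂ) := by
    have := congrFun hσe 1
    rw [Representation.char_one] at this
    rw [this]
    simp [← hρe, hf]
  have hchar : σ.character (1, ⟨z, hz⟩) = ρ.character z := by
    rw [hσe]; simp [hρe, hf]
  have hnω : ‖σ.character (1, ⟨z, hz⟩)‖ = Module.finrank ℂ (Fin n' → ℂ) := by
    have hn' : ((Module.finrank ℂ (Fin n' → ℂ)) : ℂ) ≠ 0 := by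
      rw [← Representation.char_one σ]
      exact IsIrrCharacter.apply_one_ne_zero ⟨n', σ, hσ, rfl⟩
    have hc : σ.character (1, ⟨z, hz⟩) = ω * Module.finrank ℂ (Fin n' → ℂ) := by
      show LinearMap.trace ℂ _ (σ _) = _
      rw [hω, map_smul, LinearMap.trace_id, smul_eq_mul]
    have hpow : σ ((1, ⟨z, hz⟩) : C × P) ^ orderOf ((1, ⟨z, hz⟩) : C × P) = 1 := by
      rw [← map_pow, pow_orderOf_eq_one, map_one]
    have h1 : ω ^ orderOf ((1, ⟨z, hz⟩) : C × P) = 1 := by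
      rw [hω, ← Module.End.one_eq_id, smul_pow, one_pow] at hpow
      have h2 := congrArg (LinearMap.trace ℂ (Fin n' → ℂ)) hpow
      rw [map_smul, LinearMap.trace_one, smul_eq_mul] at h2
      exact mul_right_cancel₀ hn' (h2.trans (one_mul _).symm)
    rw [hc, norm_mul, Complex.norm_eq_one_of_pow_eq_one h1 (orderOf_pos _).ne', one_mul,
      Complex.norm_natCast]
  obtain ⟨ν, hνn, hν, -⟩ := exists_scalar_of_norm_char_eq ρ z (by
    rw [← hchar, hnω]; exact_mod_cast hdim)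
  intro q _
  have hcomm : ρ (z * q) = ρ (q * z) := by
    rw [map_mul, map_mul, hν, ← Module.End.one_eq_id, smul_one_mul, mul_smul_one]
  have h1 : ρ (z * q * z⁻¹ * q⁻¹) = ρ 1 := by
    rw [mul_assoc (z * q), map_mul, hcomm, ← map_mul,
      show q * z * (z⁻¹ * q⁻¹) = 1 by group]
  rw [← hρe]
  show LinearMap.trace ℂ _ (ρ (z * q * z⁻¹ * q⁻¹)) = LinearMap.trace ℂ _ (ρ 1)
  rw [h1]

end CfsgLib.DegreeTools
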