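import Mathlib.GroupTheory.Nilpotent
import Mathlib.GroupTheory.Index
import Mathlib.GroupTheory.Perm.Cycle.Type
import Mathlib.Tactic
import Cfsg.Agent.Lib.Solvable.FrattiniFitting

/-!
# A coprime nilpotent action without fixed points has an element fixing at most the square root
-/

set_option autoImplicit false
set_option linter.style.haveILetI false

namespace CfsgLib.DegreeTools.CoprimeFixedHalf

open Finset

variable {V : Type*} [CommGroup V] [Finite V] {H : Type*} [Group H] [Finite H]
  (φ : H →* MulAut V)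

/-- The fixed points of one element inside a subgroup. -/
def fixIn (U : Subgroup V) (h : H) : Subgroup V where
  carrier := {v | v ∈ U ∧ φ h v = v}
  one_mem' := ⟨one_mem _, map_one _⟩
  mul_mem' := fun {a b} ha hb => ⟨mul_mem ha.1 hb.1, by rw [map_mul, ha.2, hb.2]⟩
  inv_mem' := fun {a} ha => ⟨inv_mem ha.1, by rw [map_inv, ha.2]⟩

omit [Finite V] [Finite H] in
theorem mem_fixIn {U : Subgroup V} {h : H} {v : V} : v ∈ fixIn φ U h ↔ v ∈ U ∧ φ h v = v := Iff.rfl

omit [Finite H] in
/-- The order of a subgroup is the order of its image times that of its part in the kernel. -/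
theorem card_eq_map_mul (U : Subgroup V) (f : V →* V) :
    Nat.card U = Nat.card (U.map f) * Nat.card (U ⊓ f.ker : Subgroup V) := by
  rw [← Subgroup.relIndex_ker, ← Subgroup.inf_relIndex_right, inf_comm U f.ker,
    ← Subgroup.card_mul_index ((f.ker ⊓ U).subgroupOf U), mul_comm, Subgroup.relIndex,
    Nat.card_congr (Subgroup.subgroupOfEquivOfLe (inf_le_right : f.ker ⊓ U ≤ U)).toEquiv]

omit [Finite V] [Finite H] in
theorem map_zpow_apply {h : H} {v : V} (hv : φ h v = v) (i : ℕ) : φ (h ^ i) v = v := by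
  induction i with
  | zero => simp
  | succ i ih => rw [pow_succ, map_mul, MulAut.mul_apply, hv, ih]

theorem exists_half [Group.IsNilpotent H] : ∀ (U : Subgroup V),
    (∀ h : H, ∀ v ∈ U, φ h v ∈ U) → (Nat.card U).Coprime (Nat.card H) →
    (∀ v ∈ U, (∀ h, φ h v = v) → v = 1) →
    ∃ h : H, Nat.card (fixIn φ U h) ^ 2 ≤ Nat.card U := by
  classical
  intro U
  induction hn : Nat.card U using Nat.strong_induction_on generalizing U with
  | _ n ih =>
  subst hn
  intro hinv hcop hfix
  -- the kernel of the action on `U`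
  let K : Subgroup H :=
    { carrier := {h | ∀ v ∈ U, φ h v = v}
      one_mem' := fun v _ => by simp
      mul_mem' := fun {a b} ha hb v hv => by rw [map_mul, MulAut.mul_apply, hb v hv, ha v hv]
      inv_mem' := fun {a} ha v hv => by
        conv_lhs => rw [← ha v hv]
        rw [← MulAut.mul_apply, ← map_mul, inv_mul_cancel, map_one, MulAut.one_apply] }
  haveI hKn : K.Normal := ⟨fun a ha g v hv => by
    rw [map_mul, map_mul, MulAut.mul_apply, MulAut.mul_apply, ha _ (hinv g⁻¹ v hv),
      ← MulAut.mul_apply, ← map_mul, mul_inv_cancel, map_one, MulAut.one_apply]⟩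
  by_cases hKtop : K = ⊤
  · refine ⟨1, ?_⟩
    have : U = ⊥ := (Subgroup.eq_bot_iff_forall U).2 fun v hv =>
      hfix v hv fun h => (hKtop ▸ Subgroup.mem_top h : h ∈ K) v hv
    have h1 : fixIn φ U 1 = ⊥ := (Subgroup.eq_bot_iff_forall _).2 fun v hv =>
      Subgroup.mem_bot.1 (this ▸ hv.1)
    rw [h1, this]; simp
  · -- an element central modulo `K` of prime order modulo `K`
    obtain ⟨zb, hzc, hzq⟩ : ∃ zb : H ⧸ K, zb ∈ Subgroup.center (H ⧸ K) ∧ (orderOf zb).Prime := by
      haveI : Nontrivial (H ⧸ K) := by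
        by_contra hnt
        rw [not_nontrivial_iff_subsingleton] at hnt
        exact hKtop ((Subgroup.eq_top_iff' K).2 fun h => (QuotientGroup.eq_one_iff h).1 (Subsingleton.elim _ _))
      have hZ : (⊤ : Subgroup (H ⧸ K)) ⊓ Subgroup.center (H ⧸ K) ≠ ⊥ :=
        CfsgLib.Solvable.FrattiniFitting.inf_center_ne_bot _ top_ne_bot
      rw [top_inf_eq] at hZ
      set q := (Nat.card (Subgroup.center (H ⧸ K))).minFac
      haveI hq : Fact q.Prime := ⟨Nat.minFac_prime (fun h => hZ (Subgroup.card_eq_one.1 h))⟩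
      obtain ⟨c, hc⟩ := exists_prime_orderOf_dvd_card' (G := Subgroup.center (H ⧸ K)) q (Nat.minFac_dvd _)
      exact ⟨c, c.2, by rw [Subgroup.orderOf_coe, hc]; exact hq.out⟩
    obtain ⟨z, rfl⟩ := QuotientGroup.mk'_surjective K zb
    set q := orderOf (QuotientGroup.mk' K z) with hqdef
    have hzK : z ∉ K := fun h => hzq.ne_one (by
      rw [hqdef, QuotientGroup.mk'_apply, (QuotientGroup.eq_one_iff z).2 h, orderOf_one])
    have hzqK : z ^ q ∈ K := by
      rw [← QuotientGroup.eq_one_iff, QuotientGroup.mk_pow]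
      exact pow_orderOf_eq_one (QuotientGroup.mk' K z)
    have hact : ∀ h : H, ∀ v ∈ U, ∀ i : ℕ, φ h (φ (z ^ i) v) = φ (z ^ i) (φ h v) := by
      intro h v hv i
      have hc := Subgroup.mem_center_iff.1 (pow_mem hzc i) (QuotientGroup.mk' K h)
      rw [← map_pow, ← map_mul, ← map_mul] at hc
      have hk : (z ^ i * h)⁻¹ * (h * z ^ i) ∈ K := QuotientGroup.eq.1 hc.symm
      have := hk v hv
      rw [← MulAut.mul_apply, ← MulAut.mul_apply, ← map_mul, ← map_mul,
        show h * z ^ i = z ^ i * h * ((z ^ i * h)⁻¹ * (h * z ^ i)) by group, map_mul (f := φ),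
        MulAut.mul_apply, this]
    have hq0 : 0 < q := hzq.pos
    have hzperiod : ∀ v ∈ U, ∀ i, φ (z ^ i) v = φ (z ^ (i % q)) v := by
      intro v hv i
      conv_lhs => rw [← Nat.mod_add_div i q, pow_add, pow_mul, map_mul, MulAut.mul_apply,
        pow_mem hzqK (i / q) v hv]
    have hqH : q ∣ Nat.card H := (orderOf_map_dvd _ z).trans (orderOf_dvd_natCard z)
    set o := Nat.card H with ho
    -- the norm map of `z`
    let ν : V →* V := ∏ i ∈ range q, (φ (z ^ i)).toMonoidHom
    have hν : ∀ v, ν v = ∏ i ∈ range q, φ (z ^ i) v := fun v => by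
      simp [ν, MonoidHom.finsetProd_apply]
    let U0 := fixIn φ U z
    have hU0 : ∀ h : H, ∀ v ∈ U0, φ h v ∈ U0 := fun h v hv => ⟨hinv h v hv.1, by
      have := hact h v hv.1 1
      rw [pow_one, hv.2] at this
      exact this.symm⟩
    have hνz : ∀ v ∈ U, ν v ∈ U0 := by
      intro v hv
      refine ⟨by rw [hν]; exact prod_mem fun i _ => hinv _ _ hv, ?_⟩
      rw [hν, map_prod]
      have e : ∀ i, φ z (φ (z ^ i) v) = φ (z ^ (i + 1)) v := fun i => by
        rw [pow_succ', map_mul, MulAut.mul_apply]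
      simp only [e]
      obtain ⟨m, hm⟩ : ∃ m, q = m + 1 := ⟨q - 1, by omega⟩
      rw [hm, Finset.prod_range_succ, Finset.prod_range_succ' (fun i => φ (z ^ i) v) m]
      congr 1
      rw [← hm, hzperiod v hv q, Nat.mod_self]
    have hν0 : ∀ v ∈ U0, ν v = v ^ q := fun v hv => by
      rw [hν, Finset.prod_congr rfl fun i _ => map_zpow_apply φ hv.2 i, Finset.prod_const, card_range]
    have hcopU : ∀ v ∈ U, (orderOf v).Coprime o := fun v hv =>
      hcop.coprime_dvd_left (Subgroup.orderOf_dvd_natCard U hv)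
    have hpow1 : ∀ v ∈ U, ∀ m : ℕ, m ∣ o → v ^ m = 1 → v = 1 := fun v hv m hm h => by
      have h1 := Nat.eq_one_of_dvd_coprimes (hcopU v hv) dvd_rfl
        ((orderOf_dvd_of_pow_eq_one h).trans hm)
      exact orderOf_eq_one_iff.1 h1
    have hmap : U.map ν = U0 := by
      refine le_antisymm (by rintro _ ⟨v, hv, rfl⟩; exact hνz v hv) fun v hv => ?_
      obtain ⟨m, hm⟩ := exists_pow_eq_self_of_coprime
        (((hcopU v hv.1).coprime_dvd_right hqH).symm)
      exact ⟨v ^ m, pow_mem hv.1 m, by rw [map_pow, hν0 v hv, hm]⟩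
    have hcardU : Nat.card U = Nat.card U0 * Nat.card (U ⊓ ν.ker : Subgroup V) := by
      rw [card_eq_map_mul U ν, hmap]
    have hU0lt : Nat.card U0 < Nat.card U := by
      refine lt_of_le_of_ne (Subgroup.card_le_of_le fun v hv => hv.1) fun e => hzK fun v hv => ?_
      have : U0 = U := Subgroup.eq_of_le_of_card_ge (fun v hv => hv.1) e.ge
      exact (this ▸ hv : v ∈ U0).2
    obtain ⟨h0, hh0⟩ := ih _ hU0lt U0 rfl hU0
      (hcop.coprime_dvd_left (Subgroup.card_dvd_of_le fun v hv => hv.1))
      (fun v hv => hfix v hv.1)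
    -- the coset of `h0`
    let D : Fin q → Subgroup V := fun i => fixIn φ (U ⊓ ν.ker) (h0 * z ^ (i : ℕ))
    let T : Fin q → (V →* V) := fun w => ∏ j ∈ range o, (φ ((h0 * z ^ (w : ℕ)) ^ j)).toMonoidHom
    have hT : ∀ w v, T w v = ∏ j ∈ range o, φ ((h0 * z ^ (w : ℕ)) ^ j) v := fun w v => by
      simp [T, MonoidHom.finsetProd_apply]
    have hTself : ∀ w, ∀ v ∈ D w, T w v = v ^ o := fun w v hv => by
      rw [hT, Finset.prod_congr rfl fun i _ => map_zpow_apply φ hv.2 i, Finset.prod_const, card_range]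
    have hTne : ∀ w i, i ≠ w → ∀ v ∈ D i, T w v = 1 := by
      intro w i hne v hv
      have hvU : v ∈ U := hv.1.1
      -- the ratio is a non-trivial power of `z`
      set e := (w : ℕ) + (q - (i : ℕ)) with hedef
      have he : ¬ q ∣ e := by
        intro hd
        apply hne
        apply Fin.ext
        have h1 := i.2
        have h2 := w.2
        obtain ⟨c, hc⟩ := hd
        rcases c with _ | _ | c
        · omega
        · omega
        · have : q * 2 ≤ q * (c + 1 + 1) := Nat.mul_le_mul_left _ (by omega)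
          omega
      have hstep : ∀ j, φ ((h0 * z ^ (w : ℕ)) ^ j) v = φ (z ^ (e * j)) v := by
        intro j
        induction j with
        | zero => simp
        | succ j ih =>
          rw [pow_succ', map_mul, MulAut.mul_apply, ih, hact _ v hvU, Nat.mul_succ, pow_add,
            map_mul (f := φ) (z ^ (e * j)), MulAut.mul_apply]
          congr 1
          have h1 : φ (z ^ q) v = v := hzqK v hvU
          calc φ (h0 * z ^ (w : ℕ)) v = φ (h0 * z ^ (w : ℕ)) (φ (z ^ q) v) := by rw [h1]
            _ = φ (h0 * z ^ (i : ℕ) * z ^ e) v := by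
                rw [← MulAut.mul_apply, ← map_mul, mul_assoc, ← pow_add, mul_assoc, ← pow_add]
                congr 4
                have := i.2
                omega
            _ = φ (z ^ e) (φ (h0 * z ^ (i : ℕ)) v) := by
                rw [map_mul, MulAut.mul_apply, hact _ v hvU]
            _ = φ (z ^ e) v := by rw [hv.2]
      rw [hT, Finset.prod_congr rfl fun j _ => hstep j]
      obtain ⟨m, hm⟩ := hqH
      have hblock : ∀ m : ℕ, ∏ j ∈ range (q * m), φ (z ^ (e * j)) v =
          (∏ j ∈ range q, φ (z ^ (e * j)) v) ^ m := by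
        intro m
        induction m with
        | zero => simp
        | succ m ihm =>
          rw [Nat.mul_succ, Finset.prod_range_add, ihm, pow_succ]
          congr 1
          refine Finset.prod_congr rfl fun j _ => ?_
          rw [hzperiod v hvU, hzperiod v hvU (e * j), mul_add,
            show e * (q * m) = q * (e * m) by ring, Nat.mul_add_mod]
      rw [hm, hblock]
      have hperm : ∏ j ∈ range q, φ (z ^ (e * j)) v = ν v := by
        rw [hν]
        refine Finset.prod_nbij (fun j => e * j % q) (fun j _ => mem_range.2 (Nat.mod_lt _ hq0)) ?_ ?_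
          (fun j _ => hzperiod v hvU _)
        · intro a ha b hb hab
          simp only [coe_range, Set.mem_Iio] at ha hb
          have hco : Nat.Coprime q e := (hzq.coprime_iff_not_dvd).2 he
          have := Nat.ModEq.cancel_left_of_coprime hco hab
          exact Nat.ModEq.eq_of_lt_of_lt this ha hb
        · refine Finset.surjOn_of_injOn_of_card_le _ (fun j _ => mem_range.2 (Nat.mod_lt _ hq0)) ?_ le_rfl
          intro a ha b hb hab
          simp only [coe_range, Set.mem_Iio] at ha hb
          have hco : Nat.Coprime q e := (hzq.coprime_iff_not_dvd).2 he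
          have := Nat.ModEq.cancel_left_of_coprime hco hab
          exact Nat.ModEq.eq_of_lt_of_lt this ha hb
      rw [hperm, MonoidHom.mem_ker.1 hv.1.2, one_pow]
    have hprod : ∏ i, Nat.card (D i) ≤ Nat.card (U ⊓ ν.ker : Subgroup V) := by
      rw [← Nat.card_pi]
      refine Nat.card_le_card_of_injective
        (fun x => (⟨∏ i, ((x i : D i) : V), prod_mem fun i _ => (x i).2.1⟩ : (U ⊓ ν.ker : Subgroup V))) ?_
      intro x y hxy
      funext w
      apply Subtype.ext
      have h1 : ∀ x : (i : Fin q) → D i, T w (∏ i, ((x i : D i) : V)) = ((x w : D w) : V) ^ o := by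
        intro x
        rw [map_prod, Finset.prod_eq_single w (fun i _ hi => hTne w i hi _ (x i).2) (by simp),
          hTself w _ (x w).2]
      have h2 := congrArg (fun u : (U ⊓ ν.ker : Subgroup V) => T w (u : V)) hxy
      simp only [h1] at h2
      have hq' : (((x w : D w) : V) / ((y w : D w) : V)) ^ o = 1 := by rw [div_pow, h2, div_self']
      exact div_eq_one.1 (hpow1 _ (div_mem (x w).2.1.1 (y w).2.1.1) o dvd_rfl hq')
    obtain ⟨w, -, hw⟩ := Finset.exists_min_image (univ : Finset (Fin q))
      (fun i => Nat.card (D i)) ⟨⟨0, hq0⟩, mem_univ _⟩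
    have hD : Nat.card (D w) ^ 2 ≤ Nat.card (U ⊓ ν.ker : Subgroup V) := by
      refine le_trans ?_ hprod
      calc Nat.card (D w) ^ 2 ≤ Nat.card (D w) ^ q :=
            Nat.pow_le_pow_right Nat.card_pos hzq.two_le
        _ = ∏ _i : Fin q, Nat.card (D w) := by simp
        _ ≤ _ := Finset.prod_le_prod' fun i _ => hw i (mem_univ i)
    refine ⟨h0 * z ^ (w : ℕ), ?_⟩
    set C := fixIn φ U (h0 * z ^ (w : ℕ))
    have hC1 : Nat.card (C.map ν) ≤ Nat.card (fixIn φ U0 h0) := by
      refine Subgroup.card_le_of_le ?_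
      rintro _ ⟨v, hv, rfl⟩
      refine ⟨hνz v hv.1, ?_⟩
      have hzv : φ (z ^ (w : ℕ)) (ν v) = ν v := map_zpow_apply φ (hνz v hv.1).2 _
      calc φ h0 (ν v) = φ h0 (φ (z ^ (w : ℕ)) (ν v)) := by rw [hzv]
        _ = φ (h0 * z ^ (w : ℕ)) (ν v) := by rw [map_mul, MulAut.mul_apply]
        _ = ν v := by
          rw [hν, map_prod]
          exact Finset.prod_congr rfl fun i _ => by rw [hact _ v hv.1, hv.2]
    have hC2 : C ⊓ ν.ker ≤ D w := fun v hv => ⟨⟨hv.1.1, hv.2⟩, hv.1.2⟩
    rw [card_eq_map_mul C ν, mul_pow, hcardU]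
    exact Nat.mul_le_mul ((Nat.pow_le_pow_left hC1 2).trans hh0)
      ((Nat.pow_le_pow_left (Subgroup.card_le_of_le hC2) 2).trans hD)

end CfsgLib.DegreeTools.CoprimeFixedHalf
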