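import Cfsg.Agent.Lib.DegreeTools.CentralSupport
import Cfsg.Agent.Lib.DegreeTools.KerTools
import Cfsg.Agent.Lib.Char.Constituent
import Cfsg.Agent.Lib.Blocks.ExtTwist
import Cfsg.Agent.S0886

/-!
# The canonical extension of a defect zero character over a two-group

For an extension `η` of `φ` to `E` and a two-subgroup `P` supplementing `N`, the linear
constituents of `η` on `P` that are trivial on `P ∩ N` have odd total multiplicity; the product
of these constituents, with multiplicities, is trivial for exactly one extension.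
-/

set_option autoImplicit false

namespace CfsgLib.DegreeTools.DefectZeroExt

open Cfsg CfsgLib CfsgLib.Char
open scoped ComplexConjugate Classical

universe u

section TwoGroup

variable {P : Type u} [Group P] [Finite P] (Q : Subgroup P)

/-- Multiplicity of `β` in `f`. -/
noncomputable def mult (f : P → ℂ) (β : IrrCharacter P) : ℕ :=
  letI := Fintype.ofFinite P
  ⌊(classInner f (β : P → ℂ)).re⌋₊

omit Q in
theorem mult_cast [Fintype P] {f : P → ℂ} (hf : IsCharacter P f) (β : IrrCharacter P) :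
    (mult f β : ℂ) = classInner f (β : P → ℂ) := by
  obtain ⟨k, hk⟩ := IsCharacter.classInner_nat hf (isCharacter_irr β)
  have e : mult f β = ⌊(classInner f (β : P → ℂ)).re⌋₊ := by
    unfold mult
    congr! 4
  rw [e, hk, Complex.natCast_re, Nat.floor_natCast]

/-- The linear characters trivial on `Q`. -/
noncomputable def linOver : Finset (IrrCharacter P) :=
  letI := Fintype.ofFinite (IrrCharacter P)
  Finset.univ.filter fun β : IrrCharacter P =>
    (β : P → ℂ) 1 = 1 ∧ ∀ q ∈ Q, (β : P → ℂ) q = 1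

theorem mem_linOver {β : IrrCharacter P} :
    β ∈ linOver Q ↔ (β : P → ℂ) 1 = 1 ∧ ∀ q ∈ Q, (β : P → ℂ) q = 1 := by
  simp [linOver]

/-- A linear character as a homomorphism. -/
noncomputable def linHom (β : IrrCharacter P) : P →* ℂˣ :=
  if h : (β : P → ℂ) 1 = 1 then
    Classical.choose (exists_hom_of_apply_one_eq_one (isCharacter_irr β) h) else 1

omit Q in
theorem linHom_apply {β : IrrCharacter P} (h : (β : P → ℂ) 1 = 1) (x : P) :
    (linHom β x : ℂ) = (β : P → ℂ) x := by
  rw [linHom, dif_pos h]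
  exact (congrFun (Classical.choose_spec
    (exists_hom_of_apply_one_eq_one (isCharacter_irr β) h)) x).symm

/-- The product of the linear constituents trivial on `Q`, with multiplicities. -/
noncomputable def det (f : P → ℂ) : P →* ℂˣ := ∏ β ∈ linOver Q, linHom β ^ mult f β

theorem det_apply (f : P → ℂ) (x : P) :
    (det Q f x : ℂ) = ∏ β ∈ linOver Q, (β : P → ℂ) x ^ mult f β := by
  rw [det, MonoidHom.finsetProd_apply, Units.coe_prod]
  refine Finset.prod_congr rfl fun β hβ => ?_
  rw [MonoidHom.pow_apply, Units.val_pow_eq_pow_val, linHom_apply ((mem_linOver Q).mp hβ).1]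

theorem det_apply_of_mem (f : P → ℂ) {q : P} (hq : q ∈ Q) : det Q f q = 1 := by
  apply Units.ext
  rw [det_apply, Finset.prod_eq_one fun β hβ => by rw [((mem_linOver Q).mp hβ).2 q hq, one_pow],
    Units.val_one]

omit Q in
theorem norm_hom_apply (l : P →* ℂˣ) (x : P) : ‖(l x : ℂ)‖ = 1 := by
  refine Complex.norm_eq_one_of_pow_eq_one ?_ (orderOf_pos x).ne'
  rw [← Units.val_pow_eq_pow_val, ← map_pow, pow_orderOf_eq_one, map_one, Units.val_one]

omit Q in
theorem mult_hom_mul (l : P →* ℂˣ) {f : P → ℂ} (hf : IsCharacter P f) (β γ : IrrCharacter P)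
    (hγ : ∀ x, (γ : P → ℂ) x = (l x : ℂ) * (β : P → ℂ) x) :
    mult (fun x => (l x : ℂ) * f x) γ = mult f β := by
  letI := Fintype.ofFinite P
  apply Nat.cast_injective (R := ℂ)
  have hlf : IsCharacter P fun x => (l x : ℂ) * f x := IsCharacter.mul (isCharacter_hom l) hf
  rw [mult_cast hlf, mult_cast hf]
  simp only [classInner]
  refine congrArg _ (Finset.sum_congr rfl fun x _ => ?_)
  rw [hγ, map_mul]
  have h1 : (l x : ℂ) * conj (l x : ℂ) = 1 := by
    rw [Complex.mul_conj', norm_hom_apply l x]; norm_num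
  linear_combination (f x * conj ((β : P → ℂ) x)) * h1

theorem det_hom_mul (l : P →* ℂˣ) (hl : ∀ q ∈ Q, l q = 1) {f : P → ℂ} (hf : IsCharacter P f) :
    det Q (fun x => (l x : ℂ) * f x) = det Q f * l ^ (∑ β ∈ linOver Q, mult f β) := by
  letI := Fintype.ofFinite P
  let tw : (P →* ℂˣ) → IrrCharacter P → IrrCharacter P := fun l β =>
    ⟨_, Blocks.isIrrCharacter_hom_mul l β⟩
  have htw : ∀ (k : P →* ℂˣ), (∀ q ∈ Q, k q = 1) → ∀ β ∈ linOver Q, tw k β ∈ linOver Q := by
    intro k hk β hβ
    rw [mem_linOver] at hβ ⊢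
    exact ⟨by simp [tw, hβ.1], fun q hq => by simp [tw, hk q hq, hβ.2 q hq]⟩
  ext x
  rw [MonoidHom.mul_apply, Units.val_mul, det_apply, det_apply, MonoidHom.pow_apply,
    Units.val_pow_eq_pow_val, ← Finset.prod_pow_eq_pow_sum, ← Finset.prod_mul_distrib]
  refine (Finset.prod_nbij' (tw l) (tw l⁻¹) (htw l hl)
    (htw l⁻¹ fun q hq => by simp [hl q hq]) (fun β _ => Subtype.ext (funext fun y => ?_))
    (fun β _ => Subtype.ext (funext fun y => ?_)) fun β hβ => ?_).symm
  · simp [tw, ← mul_assoc]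
  · simp [tw, ← mul_assoc]
  · rw [mult_hom_mul l hf β (tw l β) fun y => rfl]
    simp only [tw]
    rw [mul_pow, mul_comm]

omit Q in
theorem mult_comp (e : P ≃* P) {f : P → ℂ} (hf : IsCharacter P f) (β γ : IrrCharacter P)
    (hγ : ∀ x, (γ : P → ℂ) x = (β : P → ℂ) (e x)) :
    mult (fun x => f (e x)) γ = mult f β := by
  letI := Fintype.ofFinite P
  apply Nat.cast_injective (R := ℂ)
  have hfe : IsCharacter P fun x => f (e x) := IsCharacter.comp hf e.toMonoidHom
  rw [mult_cast hfe, mult_cast hf,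
    show (γ : P → ℂ) = fun x => (β : P → ℂ) (e x) from funext hγ]
  exact classInner_reindex e f (β : P → ℂ)

omit Q in
theorem mult_conj {f : P → ℂ} (hf : IsCharacter P f) (β γ : IrrCharacter P)
    (hγ : ∀ x, (γ : P → ℂ) x = conj ((β : P → ℂ) x)) :
    mult (fun x => conj (f x)) γ = mult f β := by
  letI := Fintype.ofFinite P
  apply Nat.cast_injective (R := ℂ)
  obtain ⟨k, hk⟩ := IsCharacter.classInner_nat hf (isCharacter_irr β)
  have hcf : IsCharacter P fun x => conj (f x) := IsCharacter.conj' hf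
  rw [mult_cast hcf, mult_cast hf, hk, ← Complex.conj_natCast k, ← hk]
  simp only [classInner, map_mul, map_inv₀, map_sum, Complex.conj_natCast, hγ]

theorem det_comp (e : P ≃* P) (he : ∀ x, e x ∈ Q ↔ x ∈ Q) {f : P → ℂ} (hf : IsCharacter P f)
    (x : P) : det Q (fun y => f (e y)) x = det Q f (e x) := by
  apply Units.ext
  let tw : (P ≃* P) → IrrCharacter P → IrrCharacter P := fun e β =>
    ⟨_, IsIrrCharacter.comp_equiv β.2 e⟩
  have htw : ∀ (k : P ≃* P), (∀ y, y ∈ Q → k y ∈ Q) → ∀ β ∈ linOver Q, tw k β ∈ linOver Q := by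
    intro k hk β hβ
    rw [mem_linOver] at hβ ⊢
    exact ⟨by simp [tw, hβ.1], fun q hq => by simpa [tw] using hβ.2 _ (hk q hq)⟩
  rw [det_apply, det_apply]
  refine (Finset.prod_nbij' (tw e) (tw e.symm) (htw e fun y hy => (he y).mpr hy)
    (htw e.symm fun y hy => by
      have := he (e.symm y)
      rw [e.apply_symm_apply] at this
      exact this.mp hy)
    (fun β _ => Subtype.ext (funext fun y => by simp [tw]))
    (fun β _ => Subtype.ext (funext fun y => by simp [tw])) fun β _ => ?_).symm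
  rw [mult_comp e hf β (tw e β) fun y => rfl]
  rfl

/-- The conjugate of an irreducible character. -/
theorem isIrrCharacter_conj [Fintype P] (β : IrrCharacter P) :
    IsIrrCharacter P fun x => conj ((β : P → ℂ) x) := by
  refine IsCharacter.isIrrCharacter_of_norm_one (IsCharacter.conj' (isCharacter_irr β)) ?_
  have h := congrArg (starRingEnd ℂ) (classInner_irr_self β.2)
  simp only [classInner, map_mul, map_inv₀, map_sum, Complex.conj_natCast, map_one,
    RingHomCompTriple.comp_apply, Complex.conj_conj] at h ⊢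
  exact h

theorem det_conj {f : P → ℂ} (hf : IsCharacter P f) (x : P) :
    (det Q (fun y => conj (f y)) x : ℂ) = conj (det Q f x : ℂ) := by
  letI := Fintype.ofFinite P
  let tw : IrrCharacter P → IrrCharacter P := fun β => ⟨_, isIrrCharacter_conj β⟩
  have htw : ∀ β ∈ linOver Q, tw β ∈ linOver Q := by
    intro β hβ
    rw [mem_linOver] at hβ ⊢
    exact ⟨by simp [tw, hβ.1], fun q hq => by simp [tw, hβ.2 q hq]⟩
  rw [det_apply, det_apply, map_prod]
  refine (Finset.prod_nbij' tw tw htw htw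
    (fun β _ => Subtype.ext (funext fun y => by simp [tw]))
    (fun β _ => Subtype.ext (funext fun y => by simp [tw])) fun β _ => ?_).symm
  rw [mult_conj hf β (tw β) fun y => rfl, map_pow]

/-- The linear constituents trivial on `Q` have odd total multiplicity. -/
theorem odd_sum_mult [Q.Normal] (hP : IsPGroup 2 P) {f : P → ℂ} (hf : IsCharacter P f)
    (hv : ∀ q ∈ Q, q ≠ 1 → f q = 0) {m : ℕ} (hm : Odd m) (hf1 : f 1 = (Nat.card Q : ℂ) * m) :
    Odd (∑ β ∈ linOver Q, mult f β) := by
  letI := Fintype.ofFinite P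
  obtain ⟨k, hk, hexp⟩ := IsCharacter.exists_multiplicity hf
  have hkm : ∀ β, mult f β = k β := fun β => Nat.cast_injective (R := ℂ)
    ((mult_cast hf β).trans (hk β))
  set Triv := (Finset.univ : Finset (IrrCharacter P)).filter
    fun ψ : IrrCharacter P => ∀ q ∈ Q, (ψ : P → ℂ) q = (ψ : P → ℂ) 1
  have h1 : ∑ q : Q, f q = (Nat.card Q : ℂ) * m := by
    rw [Finset.sum_eq_single (1 : Q) (fun q _ hq => hv q q.2 fun e => hq (Subtype.ext e))
      (fun h => absurd (Finset.mem_univ _) h), Subgroup.coe_one, hf1]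
  have h2 : ∀ ψ : IrrCharacter P, ∑ q : Q, (ψ : P → ℂ) q =
      if ψ ∈ Triv then (Nat.card Q : ℂ) * charDegree (ψ : P → ℂ) else 0 := by
    intro ψ
    split_ifs with hψ
    · rw [Finset.sum_congr rfl fun (q : Q) _ => (Finset.mem_filter.mp hψ).2 q q.2, Finset.sum_const,
        nsmul_eq_mul, Finset.card_univ, ← Nat.card_eq_fintype_card, deg_cast]
    · by_contra h
      exact hψ (Finset.mem_filter.mpr ⟨Finset.mem_univ _, le_ker_of_sum_ne_zero ψ Q h⟩)
  simp only [hexp] at h1
  rw [Finset.sum_comm] at h1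
  simp only [← Finset.mul_sum, h2, mul_ite, mul_zero] at h1
  rw [Finset.sum_ite_mem, Finset.univ_inter] at h1
  have h3 : ((∑ ψ ∈ Triv, k ψ * charDegree (ψ : P → ℂ) : ℕ) : ℂ) = (m : ℂ) := by
    refine mul_left_cancel₀ (Nat.cast_ne_zero.mpr (Nat.card_pos (α := Q)).ne') ?_
    rw [← h1]
    push_cast
    rw [Finset.mul_sum]
    exact Finset.sum_congr rfl fun ψ _ => by ring
  have hm' : m = ∑ ψ ∈ Triv, k ψ * charDegree (ψ : P → ℂ) := (Nat.cast_injective h3).symm
  obtain ⟨n, hn⟩ := IsPGroup.iff_card.mp hP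
  have hsplit := Finset.sum_filter_add_sum_filter_not Triv
    (fun ψ : IrrCharacter P => (ψ : P → ℂ) 1 = 1) fun ψ => k ψ * charDegree (ψ : P → ℂ)
  have hL : Triv.filter (fun ψ : IrrCharacter P => (ψ : P → ℂ) 1 = 1) = linOver Q := by
    ext ψ
    simp only [Triv, Finset.mem_filter, Finset.mem_univ, true_and, mem_linOver]
    exact ⟨fun h => ⟨h.2, fun q hq => (h.1 q hq).trans h.2⟩,
      fun h => ⟨fun q hq => (h.2 q hq).trans h.1.symm, h.1⟩⟩
  have heven : Even (∑ ψ ∈ Triv.filter (fun ψ : IrrCharacter P => ¬ (ψ : P → ℂ) 1 = 1),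
      k ψ * charDegree (ψ : P → ℂ)) := by
    refine Finset.even_sum _ fun ψ hψ => Even.mul_left ?_ _
    obtain ⟨j, -, hj⟩ := (Nat.dvd_prime_pow Nat.prime_two).mp (hn ▸ deg_dvd_card ψ)
    rw [hj]
    refine (Nat.even_pow).mpr ⟨even_two, fun h0 => (Finset.mem_filter.mp hψ).2 ?_⟩
    rw [← deg_cast, hj, h0, pow_zero, Nat.cast_one]
  have hval : ∑ ψ ∈ linOver Q, k ψ * charDegree (ψ : P → ℂ) = ∑ β ∈ linOver Q, mult f β :=
    Finset.sum_congr rfl fun β hβ => by
      rw [(deg_eq_one_iff β).mpr ((mem_linOver Q).mp hβ).1, mul_one, hkm]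
  rw [hL, hval, ← hm'] at hsplit
  rcases Nat.even_or_odd (∑ β ∈ linOver Q, mult f β) with he | ho
  · exact absurd (hsplit ▸ he.add heven) (Nat.not_even_iff_odd.mpr hm)
  · exact ho

end TwoGroup

section Extension

variable {E : Type u} [Group E] [Finite E] (N : Subgroup E) [N.Normal] (P : Subgroup E)

/-- The hypotheses on a supplement `P` of `N` and a character `φ` of `N`. -/
structure Setup (φ : IrrCharacter N) : Prop where
  isPGroup : IsPGroup 2 P
  sup_eq : N ⊔ P = ⊤
  vanish : ∀ n : N, (n : E) ∈ P → n ≠ 1 → (φ : N → ℂ) n = 0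
  odd : ∃ m : ℕ, Odd m ∧ (φ : N → ℂ) 1 = (Nat.card (N.subgroupOf P) : ℂ) * m

/-- `η` extends `φ`. -/
def Extends (η : IrrCharacter E) (φ : IrrCharacter N) : Prop :=
  ∀ n : N, (η : E → ℂ) n = (φ : N → ℂ) n

/-- The canonical extensions. -/
def Canon (η : IrrCharacter E) : Prop :=
  det (N.subgroupOf P) (fun x : P => (η : E → ℂ) x) = 1

variable {N P}

omit [Finite E] [N.Normal] in
theorem res_isCharacter (η : IrrCharacter E) : IsCharacter P fun x : P => (η : E → ℂ) x :=
  IsCharacter.restrict (isCharacter_irr η) P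

theorem Setup.odd_sum {φ : IrrCharacter N} (S : Setup N P φ) {η : IrrCharacter E}
    (h : Extends N η φ) :
    Odd (∑ β ∈ linOver (N.subgroupOf P), mult (fun x : P => (η : E → ℂ) x) β) := by
  obtain ⟨m, hm, h1⟩ := S.odd
  refine odd_sum_mult _ S.isPGroup (res_isCharacter η) (fun q hq hq1 => ?_) hm ?_
  · show (η : E → ℂ) ((⟨q, Subgroup.mem_subgroupOf.mp hq⟩ : N) : E) = 0
    rw [h]
    exact S.vanish _ q.2 fun e => hq1 (Subtype.ext (congrArg (fun z : N => (z : E)) e))
  · rw [← h1, ← h]
    rfl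

theorem det_pow_card (f : P → ℂ) :
    det (N.subgroupOf P) f ^ Nat.card P = 1 := by
  ext x
  rw [MonoidHom.pow_apply, ← map_pow, pow_card_eq_one', map_one, MonoidHom.one_apply]

theorem Setup.coprime_sum {φ : IrrCharacter N} (S : Setup N P φ) {η : IrrCharacter E}
    (h : Extends N η φ) :
    Nat.Coprime (∑ β ∈ linOver (N.subgroupOf P), mult (fun x : P => (η : E → ℂ) x) β)
      (Nat.card P) := by
  obtain ⟨n, hn⟩ := IsPGroup.iff_card.mp S.isPGroup
  rw [hn]
  exact Nat.Coprime.pow_right n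
    (Nat.prime_two.coprime_iff_not_dvd.mpr fun hd =>
      Nat.not_even_iff_odd.mpr (S.odd_sum h) (even_iff_two_dvd.mpr hd)).symm

/-- There is a canonical extension as soon as there is an extension. -/
theorem Setup.exists_canon {φ : IrrCharacter N} (S : Setup N P φ) {η : IrrCharacter E}
    (h : Extends N η φ) : ∃ η' : IrrCharacter E, Extends N η' φ ∧ Canon N P η' := by
  cases nonempty_fintype E
  set Q := N.subgroupOf P
  set D := det Q (fun x : P => (η : E → ℂ) x) with hD
  set s := ∑ β ∈ linOver Q, mult (fun x : P => (η : E → ℂ) x) β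
  obtain ⟨a, ha⟩ := exists_pow_eq_self_of_coprime (x := D) (n := s) (Nat.Coprime.coprime_dvd_right
      (orderOf_dvd_of_pow_eq_one (det_pow_card _)) (S.coprime_sum h))
  set l₀ : P →* ℂˣ := (D ^ a)⁻¹ with hl₀
  have hl₀Q : ∀ q ∈ Q, l₀ q = 1 := fun q hq => by
    rw [hl₀, MonoidHom.inv_apply, MonoidHom.pow_apply, hD, det_apply_of_mem Q _ hq, one_pow,
      inv_one]
  let g : P →* E ⧸ N := (QuotientGroup.mk' N).comp P.subtype
  have hg : Function.Surjective g := by
    intro q
    obtain ⟨x, rfl⟩ := QuotientGroup.mk'_surjective N q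
    obtain ⟨n, hn, p, hp, rfl⟩ := Subgroup.mem_sup_of_normal_left.mp
      (show x ∈ N ⊔ P by rw [S.sup_eq]; exact Subgroup.mem_top x)
    exact ⟨⟨p, hp⟩, by simp [g, (QuotientGroup.eq_one_iff n).mpr hn]⟩
  have hker : g.ker ≤ l₀.ker := fun q hq => by
    rw [MonoidHom.mem_ker] at hq ⊢
    exact hl₀Q q (Subgroup.mem_subgroupOf.mpr ((QuotientGroup.eq_one_iff (q : E)).mp hq))
  let lQ : E ⧸ N →* ℂˣ := g.liftOfSurjective hg ⟨l₀, hker⟩
  let l : E →* ℂˣ := lQ.comp (QuotientGroup.mk' N)
  have hlP : ∀ x : P, l x = l₀ x := fun x =>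
    DFunLike.congr_fun (g.liftOfRightInverse_comp (Function.surjInv hg) (Function.rightInverse_surjInv hg) ⟨l₀, hker⟩) x
  refine ⟨⟨_, Blocks.isIrrCharacter_hom_mul l η⟩, fun n => ?_, ?_⟩
  · show (l n : ℂ) * (η : E → ℂ) n = _
    rw [h, show l n = 1 by simp [l, (QuotientGroup.eq_one_iff (n : E)).mpr n.2], Units.val_one,
      one_mul]
  · show det Q (fun x : P => (l x : ℂ) * (η : E → ℂ) x) = 1
    simp only [hlP]
    rw [det_hom_mul Q l₀ hl₀Q (res_isCharacter η), ← hD]
    refine MonoidHom.ext fun x => ?_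
    have hax : (D x ^ s) ^ a = D x := DFunLike.congr_fun ha x
    show D x * ((D x ^ a)⁻¹) ^ s = 1
    rw [inv_pow, ← pow_mul, mul_comm a, pow_mul, hax, mul_inv_cancel]

/-- Uniqueness of the canonical extension. -/
theorem Setup.canon_unique {φ : IrrCharacter N} (S : Setup N P φ) {η η' : IrrCharacter E}
    (h : Extends N η φ) (h' : Extends N η' φ) (hc : Canon N P η) (hc' : Canon N P η') :
    η' = η := by
  obtain ⟨b, hbN, hb⟩ := Blocks.exists_linear_of_extensions η η' φ h h'
  set l : P →* ℂˣ := b.comp P.subtype with hl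
  have hlQ : ∀ q ∈ N.subgroupOf P, l q = 1 := fun q hq =>
    hbN ⟨q, Subgroup.mem_subgroupOf.mp hq⟩
  have e1 := det_hom_mul (N.subgroupOf P) l hlQ (res_isCharacter (P := P) η)
  have e2 : (fun x : P => (l x : ℂ) * (η : E → ℂ) x) = fun x : P => (η' : E → ℂ) x :=
    funext fun x => (hb x).symm
  rw [e2, hc', hc] at e1
  have hl1 : l = 1 := by
    refine MonoidHom.ext fun x => ?_
    have hx1 : l x ^ (∑ β ∈ linOver (N.subgroupOf P),
        mult (fun x : P => (η : E → ℂ) x) β) = 1 :=
      ((DFunLike.congr_fun e1 x).trans (one_mul _)).symm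
    have hx2 : l x ^ Nat.card P = 1 := by rw [← map_pow, pow_card_eq_one', map_one]
    have := pow_gcd_eq_one.mpr ⟨hx1, hx2⟩
    rwa [(S.coprime_sum h).gcd_eq_one, pow_one] at this
  refine Subtype.ext (funext fun g => ?_)
  obtain ⟨n, hn, p, hp, rfl⟩ := Subgroup.mem_sup_of_normal_left.mp
    (show g ∈ N ⊔ P by rw [S.sup_eq]; exact Subgroup.mem_top g)
  have hbp : b p = 1 := DFunLike.congr_fun hl1 ⟨p, hp⟩
  rw [hb, map_mul, hbN ⟨n, hn⟩, hbp, one_mul, Units.val_one, one_mul]

/-- Canonicity is preserved by automorphisms fixing `N` and `P`. -/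
theorem Canon.comp {η η' : IrrCharacter E} (hc : Canon N P η) (α : E ≃* E)
    (hN : ∀ x, α x ∈ N ↔ x ∈ N) (hP : ∀ x, α x ∈ P ↔ x ∈ P)
    (h : ∀ x, (η' : E → ℂ) x = (η : E → ℂ) (α x)) : Canon N P η' := by
  let e : P ≃* P :=
    { toFun := fun x => ⟨α x, (hP x).mpr x.2⟩
      invFun := fun x => ⟨α.symm x, by
        have := hP (α.symm x)
        rw [α.apply_symm_apply] at this
        exact this.mp x.2⟩
      left_inv := fun x => Subtype.ext (α.symm_apply_apply _)
      right_inv := fun x => Subtype.ext (α.apply_symm_apply _)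
      map_mul' := fun x y => Subtype.ext (map_mul α (x : E) y) }
  show det _ _ = 1
  rw [show (fun x : P => (η' : E → ℂ) x) = fun x : P => (fun z : P => (η : E → ℂ) z) (e x) from
    funext fun x => h x]
  ext x
  rw [det_comp _ e (fun y => by
    rw [Subgroup.mem_subgroupOf, Subgroup.mem_subgroupOf]; exact hN y) (res_isCharacter η) x, hc]
  rfl

/-- Canonicity is preserved by conjugation. -/
theorem Canon.conj {η η' : IrrCharacter E} (hc : Canon N P η)
    (h : ∀ x, (η' : E → ℂ) x = starRingEnd ℂ ((η : E → ℂ) x)) : Canon N P η' := by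
  show det _ _ = 1
  ext x
  rw [show (fun x : P => (η' : E → ℂ) x) = fun x : P => starRingEnd ℂ ((η : E → ℂ) x) from
    funext fun x => h x, det_conj _ (res_isCharacter η) x, hc]
  simp

end Extension

/-- An invariant defect zero character extends over a two-group. -/
theorem exists_extension : ∀ (n : ℕ) (E : Type u) [Group E] [Finite E] (N : Subgroup E)
    [N.Normal] (P : Subgroup E) (φ : IrrCharacter N), Setup N P φ → N.index = 2 ^ n →
    (∀ (g : E) (x : N), (φ : N → ℂ) (MulAut.conjNormal g x) = (φ : N → ℂ) x) →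
    ∃ η : IrrCharacter E, Extends N η φ := by
  intro n
  induction n with
  | zero =>
    intro E _ _ N _ P φ _ hidx _
    rw [pow_zero, Subgroup.index_eq_one] at hidx
    subst hidx
    exact ⟨⟨_, IsIrrCharacter.comp_equiv φ.2 Subgroup.topEquiv.symm⟩, fun x =>
      congrArg (φ : (⊤ : Subgroup E) → ℂ) (Subtype.ext rfl)⟩
  | succ n ih =>
    intro E _ _ N _ P φ S hidx hinv
    haveI := Fact.mk Nat.prime_two
    have hcard : Nat.card (E ⧸ N) = 2 ^ (n + 1) := hidx
    obtain ⟨L', hL'⟩ := Sylow.exists_subgroup_card_pow_prime 2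
      (show 2 ^ n ∣ Nat.card (E ⧸ N) by rw [hcard]; exact pow_dvd_pow 2 n.le_succ)
    have hL'idx : L'.index = 2 := by
      have e := L'.card_mul_index
      rw [hL', hcard, pow_succ] at e
      exact Nat.eq_of_mul_eq_mul_left (pow_pos two_pos n) e
    haveI : L'.Normal := Subgroup.normal_of_index_eq_two hL'idx
    set L : Subgroup E := L'.comap (QuotientGroup.mk' N) with hL
    have hNL : N ≤ L := fun x hx => by
      rw [hL, Subgroup.mem_comap,
        show QuotientGroup.mk' N x = 1 from (QuotientGroup.eq_one_iff x).2 hx]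
      exact L'.one_mem
    have hLidx : L.index = 2 := by
      rw [hL, Subgroup.index_comap_of_surjective _ (QuotientGroup.mk'_surjective N), hL'idx]
    set N' : Subgroup L := N.subgroupOf L with hN'
    have hN'idx : N'.index = 2 ^ n := by
      have e := Subgroup.relIndex_mul_index hNL
      rw [hLidx, hidx, pow_succ] at e
      exact Nat.eq_of_mul_eq_mul_right two_pos e
    let e : N' ≃* N := Subgroup.subgroupOfEquivOfLe hNL
    let φ' : IrrCharacter N' := ⟨(φ : N → ℂ) ∘ e, IsIrrCharacter.comp_equiv φ.2 e⟩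
    set PL := P.subgroupOf L with hPL
    have S' : Setup N' PL φ' := by
      refine ⟨?_, ?_, fun x hx hx1 => ?_, ?_⟩
      · exact S.isPGroup.comap_of_injective L.subtype Subtype.val_injective
      · rw [eq_top_iff]
        rintro ⟨x, hx⟩ -
        obtain ⟨a, ha, b, hb, rfl⟩ := Subgroup.mem_sup_of_normal_left.mp
          (show x ∈ N ⊔ P by rw [S.sup_eq]; exact Subgroup.mem_top x)
        have hbL : b ∈ L := by
          have := L.mul_mem (L.inv_mem (hNL ha)) hx
          rwa [inv_mul_cancel_left] at this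
        rw [show (⟨a * b, hx⟩ : L) = ⟨a, hNL ha⟩ * ⟨b, hbL⟩ from rfl]
        exact mul_mem (Subgroup.mem_sup_left (Subgroup.mem_subgroupOf.mpr ha))
          (Subgroup.mem_sup_right (Subgroup.mem_subgroupOf.mpr hb))
      · refine S.vanish (e x) hx fun h => hx1 ?_
        rw [← map_one e] at h
        exact e.injective h
      · obtain ⟨m, hm, h1⟩ := S.odd
        refine ⟨m, hm, ?_⟩
        show (φ : N → ℂ) (e 1) = _
        rw [map_one, h1]
        congr 2
        exact Nat.card_congr
          { toFun := fun x => ⟨⟨⟨((x : P) : E), hNL x.2⟩, x.1.2⟩, x.2⟩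
            invFun := fun x => ⟨⟨((x : PL) : L), x.1.2⟩, x.2⟩
            left_inv := fun x => rfl
            right_inv := fun x => rfl }
    obtain ⟨η₁, hη₁⟩ := ih L N' PL φ' S' hN'idx fun g x => by
      show (φ : N → ℂ) (e _) = (φ : N → ℂ) (e x)
      rw [← hinv (g : E) (e x)]
      exact congrArg _ (Subtype.ext rfl)
    obtain ⟨ηL, hηL, hcL⟩ := S'.exists_canon hη₁
    haveI : L.Normal := Subgroup.normal_of_index_eq_two hLidx
    obtain ⟨x₀, hx₀P, hx₀L⟩ : ∃ x ∈ P, x ∉ L := by
      by_contra h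
      push Not at h
      have : L = ⊤ := by
        rw [eq_top_iff, ← S.sup_eq]
        exact sup_le hNL h
      rw [this, Subgroup.index_top] at hLidx
      exact absurd hLidx (by norm_num)
    let α : L ≃* L := MulAut.conjNormal x₀
    let ηx : IrrCharacter L := ⟨_, IsIrrCharacter.comp_equiv ηL.2 α⟩
    have hηx : ηx = ηL := by
      refine S'.canon_unique hηL (fun x => ?_) hcL (Canon.comp hcL α (fun y => ?_) (fun y => ?_)
        fun y => rfl)
      · have hm : α (x : L) ∈ N' := Subgroup.mem_subgroupOf.mpr (by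
          rw [MulAut.conjNormal_apply]
          exact Subgroup.Normal.conj_mem (inferInstance : N.Normal) _ x.2 x₀)
        show (ηL : L → ℂ) ((⟨α (x : L), hm⟩ : N') : L) = (φ' : N' → ℂ) x
        rw [hηL]
        show (φ : N → ℂ) (e ⟨α (x : L), hm⟩) = (φ : N → ℂ) (e x)
        rw [← hinv x₀ (e x)]
        exact congrArg _ (Subtype.ext rfl)
      · simp only [hN', Subgroup.mem_subgroupOf, α, MulAut.conjNormal_apply]
        constructor
        · intro h
          have := Subgroup.Normal.conj_mem (inferInstance : N.Normal) _ h x₀⁻¹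
          simpa [mul_assoc] using this
        · exact fun h => Subgroup.Normal.conj_mem (inferInstance : N.Normal) _ h x₀
      · simp only [hPL, Subgroup.mem_subgroupOf, α, MulAut.conjNormal_apply]
        rw [P.mul_mem_cancel_right (P.inv_mem hx₀P), P.mul_mem_cancel_left hx₀P]
    have hfix : ∀ x : L, (ηL : L → ℂ) (α x) = (ηL : L → ℂ) x := fun x =>
      congrFun (congrArg Subtype.val hηx) x
    have hinvL : ∀ (g : E) (x : L), (ηL : L → ℂ) (MulAut.conjNormal g x) = (ηL : L → ℂ) x := by
      intro g x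
      have hmem : ∀ (y : L) (z : L), (ηL : L → ℂ) (MulAut.conjNormal (y : E) z) =
          (ηL : L → ℂ) z := fun y z => by
        rw [show (MulAut.conjNormal (y : E) z : L) = y * z * y⁻¹ from
          Subtype.ext (MulAut.conjNormal_apply _ _)]
        exact IsIrrCharacter.isClassFunction ηL.2 z y
      by_cases hg : g ∈ L
      · exact hmem ⟨g, hg⟩ x
      · have hgx : g * x₀⁻¹ ∈ L := (L.mul_mem_iff_of_index_two hLidx).mpr
          (iff_of_false hg fun h => hx₀L (by simpa using L.inv_mem h))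
        have : g = (⟨g * x₀⁻¹, hgx⟩ : L) * x₀ := by simp
        rw [this, map_mul, MulAut.mul_apply, hmem]
        exact hfix x
    haveI : Fact (Nat.card (E ⧸ L)).Prime := ⟨by
      show L.index.Prime; rw [hLidx]; exact Nat.prime_two⟩
    obtain ⟨χ, hχ, hres⟩ := Cfsg.Agent.S0886.result L
      (isCyclic_of_prime_card (p := Nat.card (E ⧸ L)) rfl) (ηL : L → ℂ) ηL.2 fun g x => by
        rw [← hinvL g x]
        exact congrArg _ (Subtype.ext (MulAut.conjNormal_apply g x).symm)
    refine ⟨⟨χ, hχ⟩, fun x => ?_⟩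
    show χ ((⟨(x : E), hNL x.2⟩ : L) : E) = _
    rw [hres]
    exact (hηL ⟨⟨(x : E), hNL x.2⟩, x.2⟩).trans (congrArg (φ : N → ℂ) (Subtype.ext rfl))

/-- An invariant defect zero character has a unique canonical extension over a two-group. -/
theorem Setup.exists_canonical {E : Type u} [Group E] [Finite E] {N : Subgroup E} [N.Normal]
    {P : Subgroup E} {φ : IrrCharacter N} (S : Setup N P φ) (h2 : IsPGroup 2 (E ⧸ N))
    (hinv : ∀ (g : E) (x : N), (φ : N → ℂ) (MulAut.conjNormal g x) = (φ : N → ℂ) x) :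
    ∃ η : IrrCharacter E, Extends N η φ ∧ Canon N P η := by
  haveI := Fact.mk Nat.prime_two
  obtain ⟨n, hn⟩ := IsPGroup.iff_card.mp h2
  obtain ⟨η, hη⟩ := exists_extension n E N P φ S hn hinv
  exact S.exists_canon hη

end CfsgLib.DegreeTools.DefectZeroExt
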