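import Cfsg.Agent.Lib.DegreeTools.DefectZeroExt

/-!
# A real linear constituent of odd multiplicity

For a character `f` of a two-group with `f ∘ c = conj f`, odd linear multiplicity and trivial
product of its linear constituents, some `c`-twisted real linear constituent `β` with `β u = 1`
occurs with odd multiplicity together with its conjugate.
-/

set_option autoImplicit false

namespace CfsgLib.DegreeTools.DefectZeroExt

open Cfsg CfsgLib CfsgLib.Char
open scoped ComplexConjugate Classical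

universe u

variable {P : Type u} [Group P] [Finite P] (Q : Subgroup P)

theorem exists_odd_class {f : P → ℂ} (hf : IsCharacter P f) (c : P ≃* P)
    (hcQ : ∀ x, c x ∈ Q ↔ x ∈ Q) (hfc : ∀ x, f (c x) = conj (f x)) (u : P) (hu : c u = u)
    (hcc : ∀ x, c (c x) = u * x * u⁻¹) (hodd : Odd (∑ β ∈ linOver Q, mult f β))
    (hdet : det Q f = 1) :
    ∃ β ∈ linOver Q, (β : P → ℂ) u = 1 ∧ (∀ x, (β : P → ℂ) (c x) = conj ((β : P → ℂ) x)) ∧
      (((∀ x, conj ((β : P → ℂ) x) = (β : P → ℂ) x) ∧ Odd (mult f β)) ∨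
        (¬ (∀ x, conj ((β : P → ℂ) x) = (β : P → ℂ) x) ∧
          ∃ γ : IrrCharacter P, (∀ x, (γ : P → ℂ) x = conj ((β : P → ℂ) x)) ∧
            Odd (mult f β + mult f γ))) := by
  letI := Fintype.ofFinite P
  set L := linOver Q with hLdef
  -- conjugation
  let τ : IrrCharacter P → IrrCharacter P := fun β => ⟨_, isIrrCharacter_conj β⟩
  -- conjugation composed with `c`
  let σ : IrrCharacter P → IrrCharacter P := fun β =>
    ⟨_, IsIrrCharacter.comp_equiv (isIrrCharacter_conj β) c⟩
  have hτv : ∀ β x, (τ β : P → ℂ) x = conj ((β : P → ℂ) x) := fun _ _ => rfl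
  have hσv : ∀ β x, (σ β : P → ℂ) x = conj ((β : P → ℂ) (c x)) := fun _ _ => rfl
  have hτL : ∀ β ∈ L, τ β ∈ L := by
    intro β hβ
    rw [hLdef, mem_linOver] at hβ ⊢
    exact ⟨by rw [hτv, hβ.1, map_one], fun q hq => by rw [hτv, hβ.2 q hq, map_one]⟩
  have hσL : ∀ β ∈ L, σ β ∈ L := by
    intro β hβ
    rw [hLdef, mem_linOver] at hβ ⊢
    exact ⟨by rw [hσv, map_one c, hβ.1, map_one],
      fun q hq => by rw [hσv, hβ.2 _ ((hcQ q).mpr hq), map_one]⟩
  have hττ : ∀ β, τ (τ β) = β := fun β => Subtype.ext (funext fun x => by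
    rw [hτv, hτv, Complex.conj_conj])
  have hσσ : ∀ β, σ (σ β) = β := fun β => Subtype.ext (funext fun x => by
    rw [hσv, hσv, Complex.conj_conj, hcc]
    exact IsIrrCharacter.isClassFunction β.2 x u)
  have hconjf : IsCharacter P fun x => conj (f x) := IsCharacter.conj' hf
  have hmσ : ∀ β, mult f (σ β) = mult f β := by
    intro β
    have h1 := mult_conj hf β (τ β) fun x => rfl
    have h2 := mult_comp c hconjf (τ β) (σ β) fun x => rfl
    rw [h1] at h2
    simpa only [hfc, Complex.conj_conj] using h2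
  have hlin : ∀ β ∈ L, ∀ x, (β : P → ℂ) x = (linHom β x : ℂ) := fun β hβ x =>
    (linHom_apply ((mem_linOver Q).mp hβ).1 x).symm
  set F := L.filter fun β => σ β = β with hFdef
  -- parity over the fixed points
  have h2 : ∀ n : ℕ, (n : ZMod 2) + n = 0 := fun n => CharTwo.add_self_eq_zero _
  have hparity : ((∑ β ∈ F, mult f β : ℕ) : ZMod 2) = 1 := by
    have hsplit := Finset.sum_filter_add_sum_filter_not L (fun β => σ β = β) fun β => (mult f β : ZMod 2)
    have hzero : ∑ β ∈ L.filter (fun β => ¬ σ β = β), (mult f β : ZMod 2) = 0 := by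
      refine Finset.sum_involution (fun β _ => σ β) (fun β _ => by rw [hmσ]; exact h2 _)
        (fun β hβ _ => (Finset.mem_filter.mp hβ).2) (fun β hβ => ?_) (fun β _ => hσσ β)
      obtain ⟨h1, h3⟩ := Finset.mem_filter.mp hβ
      exact Finset.mem_filter.mpr ⟨hσL β h1, fun e => h3 (by rw [hσσ] at e; exact e.symm)⟩
    rw [hzero, add_zero, ← Nat.cast_sum, ← Nat.cast_sum,
      ((ZMod.natCast_eq_one_iff_odd).mpr hodd)] at hsplit
    exact hsplit
  -- the product over the fixed points
  have hval : ∀ β ∈ F, (β : P → ℂ) u = 1 ∨ (β : P → ℂ) u = -1 := by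
    intro β hβ
    obtain ⟨hβL, hβσ⟩ := Finset.mem_filter.mp hβ
    have h1 : (β : P → ℂ) u = conj ((β : P → ℂ) u) := by
      conv_lhs => rw [← hβσ]
      rw [hσv, hu]
    have h3 : (β : P → ℂ) u * (β : P → ℂ) u = 1 := by
      conv_lhs => arg 2; rw [h1]
      rw [hlin β hβL, Complex.mul_conj', norm_hom_apply]
      norm_num
    exact mul_self_eq_one_iff.mp h3
  have hprod : ∏ β ∈ F, (β : P → ℂ) u ^ mult f β = 1 := by
    have hall : ∏ β ∈ L, (β : P → ℂ) u ^ mult f β = 1 := by
      rw [hLdef, ← det_apply, hdet]; rfl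
    rw [← Finset.prod_filter_mul_prod_filter_not L (fun β => σ β = β)] at hall
    rw [Finset.prod_involution (s := L.filter fun β => ¬ σ β = β) (fun β _ => σ β) (fun β hβ => ?_)
      (fun β hβ _ => (Finset.mem_filter.mp hβ).2) (fun β hβ => ?_) (fun β _ => hσσ β),
      mul_one] at hall
    · exact hall
    · rw [hmσ, ← mul_pow, hσv, hu, hlin β (Finset.mem_filter.mp hβ).1, Complex.mul_conj',
        norm_hom_apply]
      norm_num
    · obtain ⟨h1, h3⟩ := Finset.mem_filter.mp hβ
      exact Finset.mem_filter.mpr ⟨hσL β h1, fun e => h3 (by rw [hσσ] at e; exact e.symm)⟩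
  set Fp := F.filter fun β : IrrCharacter P => (β : P → ℂ) u = 1 with hFp
  have hpar : (∑ β ∈ Fp, (mult f β : ZMod 2)) = 1 := by
    have hneg : ∑ β ∈ F.filter (fun β : IrrCharacter P => ¬ (β : P → ℂ) u = 1), (mult f β : ZMod 2) = 0 := by
      rw [← Nat.cast_sum, ZMod.natCast_eq_zero_iff_even]
      rw [← Finset.prod_filter_mul_prod_filter_not F (fun β : IrrCharacter P => (β : P → ℂ) u = 1),
        Finset.prod_eq_one (fun β hβ => by rw [(Finset.mem_filter.mp hβ).2, one_pow]), one_mul,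
        Finset.prod_congr rfl (fun β hβ => by
          rw [(hval β (Finset.mem_filter.mp hβ).1).resolve_left (Finset.mem_filter.mp hβ).2]),
        Finset.prod_pow_eq_pow_sum] at hprod
      rcases Nat.even_or_odd (∑ β ∈ F.filter (fun β : IrrCharacter P => ¬ (β : P → ℂ) u = 1),
        mult f β) with he | ho
      · exact he
      · rw [ho.neg_one_pow] at hprod
        norm_num at hprod
    rw [Nat.cast_sum, ← Finset.sum_filter_add_sum_filter_not F
      (fun β : IrrCharacter P => (β : P → ℂ) u = 1), hneg, add_zero] at hparity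
    exact hparity
  by_contra hcon
  push Not at hcon
  refine one_ne_zero (α := ZMod 2) (hpar.symm.trans ?_)
  have hFpτ : ∀ β ∈ Fp, τ β ∈ Fp := by
    intro β hβ
    obtain ⟨hβF, hβu⟩ := Finset.mem_filter.mp hβ
    obtain ⟨hβL, hβσ⟩ := Finset.mem_filter.mp hβF
    refine Finset.mem_filter.mpr ⟨Finset.mem_filter.mpr ⟨hτL β hβL, ?_⟩, by rw [hτv, hβu, map_one]⟩
    refine Subtype.ext (funext fun x => ?_)
    rw [hσv, hτv, hτv]
    conv_rhs => rw [← hβσ, hσv]
  have hfix : ∀ β ∈ Fp, ∀ x, (β : P → ℂ) (c x) = conj ((β : P → ℂ) x) := by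
    intro β hβ x
    conv_rhs => rw [← (Finset.mem_filter.mp (Finset.mem_filter.mp hβ).1).2, hσv, Complex.conj_conj]
  refine Finset.sum_involution (fun β _ => τ β) (fun β hβ => ?_) (fun β hβ hne => ?_)
    (fun β hβ => hFpτ β hβ) (fun β _ => hττ β)
  · obtain ⟨hβF, hβu⟩ := Finset.mem_filter.mp hβ
    have h := hcon β (Finset.mem_filter.mp hβF).1 hβu (hfix β hβ)
    by_cases hr : ∀ x, conj ((β : P → ℂ) x) = (β : P → ℂ) x
    · rw [show τ β = β from Subtype.ext (funext hr)]
      exact h2 _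
    · rw [← Nat.cast_add, ZMod.natCast_eq_zero_iff_even]
      exact Nat.not_odd_iff_even.mp
        (h.2 (by simpa using hr) (τ β) fun x => hτv β x)
  · intro e
    obtain ⟨hβF, hβu⟩ := Finset.mem_filter.mp hβ
    have h := hcon β (Finset.mem_filter.mp hβF).1 hβu (hfix β hβ)
    have hr : ∀ x, conj ((β : P → ℂ) x) = (β : P → ℂ) x := fun x => by rw [← hτv, e]
    exact hne ((ZMod.natCast_eq_zero_iff_even).mpr (Nat.not_odd_iff_even.mp (h.1 hr)))

end CfsgLib.DegreeTools.DefectZeroExt
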