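import Cfsg.Agent.Lib.CharDeep.BilinearForm
import Cfsg.Agent.Lib.CharDeep.IrrTools
import Cfsg.Agent.Lib.Char.Constituent
import Mathlib.LinearAlgebra.Matrix.NonsingularInverse
import Mathlib.LinearAlgebra.Matrix.BilinearForm

/-!
# The indicator of a real character with a real constituent of odd multiplicity
-/

set_option autoImplicit false

namespace CfsgLib.DegreeTools.OddMult

open Cfsg CfsgLib.Char CfsgLib.CharDeep CfsgLib.CharDeep.BilinearForm
open scoped Classical ComplexConjugate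
open Matrix

variable {G : Type*} [Group G] [Fintype G]

omit [Fintype G] in
/-- A nonzero invariant form of an irreducible matrix representation is nondegenerate. -/
theorem form_injective {n : ℕ} (ρ : Representation ℂ G (Fin n → ℂ)) [ρ.IsIrreducible]
    {X : Matrix (Fin n) (Fin n) ℂ} (hX0 : X ≠ 0)
    (hX : ∀ g, (matrixHom ρ g)ᵀ * X * matrixHom ρ g = X) :
    Function.Injective X.mulVec := by
  have hM : ∀ g v, ρ g v = (matrixHom ρ g).mulVec v := fun g v => by
    show _ = (LinearMap.toMatrix' (ρ g)).mulVec v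
    rw [LinearMap.toMatrix'_mulVec]
  rcases IrrTools.eq_bot_or_top_of_invariant ρ (LinearMap.ker (Matrix.toLin' X))
      (fun g u hu => by
    rw [LinearMap.mem_ker, Matrix.toLin'_apply] at hu ⊢
    have e : X * matrixHom ρ g = (matrixHom ρ g⁻¹)ᵀ * X := by
      calc X * matrixHom ρ g = (matrixHom ρ g⁻¹)ᵀ * ((matrixHom ρ g)ᵀ * X * matrixHom ρ g) := by
            rw [← Matrix.mul_assoc, ← Matrix.mul_assoc, ← Matrix.transpose_mul, ← map_mul,
              mul_inv_cancel, map_one, Matrix.transpose_one, Matrix.one_mul]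
        _ = _ := by rw [hX]
    rw [hM, Matrix.mulVec_mulVec, e, ← Matrix.mulVec_mulVec, hu, Matrix.mulVec_zero]) with h | h
  · exact LinearMap.ker_eq_bot.mp h
  · exact absurd (Matrix.toLin'.injective ((LinearMap.ker_eq_top.mp h).trans
      (map_zero Matrix.toLin').symm)) hX0

theorem isUnit_det_form {n : ℕ} (ρ : Representation ℂ G (Fin n → ℂ)) [ρ.IsIrreducible]
    {X : Matrix (Fin n) (Fin n) ℂ} (hX0 : X ≠ 0)
    (hX : ∀ g, (matrixHom ρ g)ᵀ * X * matrixHom ρ g = X) : IsUnit X.det :=
  (Matrix.isUnit_iff_isUnit_det X).mp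
    (Matrix.mulVec_injective_iff_isUnit.mp (form_injective ρ hX0 hX))

/-- A real character with a real constituent of odd multiplicity in its pullback has the same
indicator. -/
theorem indicator_eq_of_odd {H : Type*} [Group H] [Fintype H] (f : H →* G) {χ : G → ℂ}
    {θ : H → ℂ} (hχ : IsIrrCharacter G χ) (hθ : IsIrrCharacter H θ)
    (hχr : ∀ g, (χ g).im = 0) (hθr : ∀ h, (θ h).im = 0) {m : ℕ} (hm : Odd m)
    (h1 : classInner (fun h : H => χ (f h)) θ = m) :
    (Nat.card G : ℂ)⁻¹ * ∑ g, χ (g * g) = (Nat.card H : ℂ)⁻¹ * ∑ h, θ (h * h) := by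
  obtain ⟨n, ρ, hρ, hρχ⟩ := id hχ
  obtain ⟨d, σ, hσ, hσθ⟩ := id hθ
  haveI := hρ
  haveI := hσ
  set νG := (Nat.card G : ℂ)⁻¹ * ∑ g, χ (g * g)
  set νH := (Nat.card H : ℂ)⁻¹ * ∑ h, θ (h * h)
  set M := matrixHom ρ with hMdef
  set M' := matrixHom σ with hM'def
  have hM : ∀ g, (M g).trace = χ g := fun g => by rw [← hρχ]; exact trace_matrixHom ρ g
  have hM' : ∀ h, (M' h).trace = θ h := fun h => by rw [← hσθ]; exact trace_matrixHom σ h
  obtain ⟨⟨X, hX0, hX⟩, hsG⟩ := invariant_form M (by simp only [hM]; exact classInner_conj hχ hχr)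
  obtain ⟨⟨Z, hZ0, hZ⟩, hsH⟩ :=
    invariant_form M' (by simp only [hM']; exact classInner_conj hθ hθr)
  have hXt : Xᵀ = νG • X := by have := hsG X hX; simp only [hM] at this; exact this
  have hZt : Zᵀ = νH • Z := by have := hsH Z hZ; simp only [hM'] at this; exact this
  have hsq : ∀ {k : ℕ} {Y : Matrix (Fin k) (Fin k) ℂ} {ν : ℂ}, Y ≠ 0 → Yᵀ = ν • Y →
      ν * ν = 1 := by
    intro k Y ν hY hYt
    have h := congrArg Matrix.transpose hYt
    rw [Matrix.transpose_transpose, Matrix.transpose_smul, hYt, smul_smul] at h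
    by_contra hne
    apply hY
    have h' : (1 - ν * ν) • Y = 0 := by rw [sub_smul, one_smul, ← h, sub_self]
    exact (smul_eq_zero.mp h').resolve_left (sub_ne_zero.mpr (Ne.symm hne))
  have hG2 := hsq hX0 hXt
  have hH2 := hsq hZ0 hZt
  by_contra hne
  have hneg : νG = -νH := by
    have : (νG - νH) * (νG + νH) = 0 := by linear_combination hG2 - hH2
    rcases mul_eq_zero.mp this with h | h
    · exact absurd (sub_eq_zero.mp h) hne
    · exact eq_neg_of_add_eq_zero_left h
  have hZu := isUnit_det_form σ hZ0 hZ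
  have hXinj := form_injective ρ hX0 hX
  -- the invariant dual form
  have hZinv : ∀ h : H, M' h * Z⁻¹ * (M' h)ᵀ = Z⁻¹ := by
    intro h
    have e2 : M' h * M' h⁻¹ = 1 := by rw [← map_mul, mul_inv_cancel, map_one]
    have e1 : Z⁻¹ * (M' h)ᵀ * Z = M' h⁻¹ := by
      calc Z⁻¹ * (M' h)ᵀ * Z = Z⁻¹ * (M' h)ᵀ * Z * (M' h * M' h⁻¹) := by rw [e2, Matrix.mul_one]
        _ = Z⁻¹ * ((M' h)ᵀ * Z * M' h) * M' h⁻¹ := by simp only [Matrix.mul_assoc]
        _ = M' h⁻¹ := by rw [hZ, Matrix.nonsing_inv_mul _ hZu, Matrix.one_mul]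
    calc M' h * Z⁻¹ * (M' h)ᵀ = M' h * Z⁻¹ * (M' h)ᵀ * (Z * Z⁻¹) := by
          rw [Matrix.mul_nonsing_inv _ hZu, Matrix.mul_one]
      _ = M' h * (Z⁻¹ * (M' h)ᵀ * Z) * Z⁻¹ := by simp only [Matrix.mul_assoc]
      _ = Z⁻¹ := by rw [e1, e2, Matrix.one_mul]
  -- intertwiners
  let S : Submodule ℂ (Matrix (Fin n) (Fin d) ℂ) :=
    { carrier := {T | ∀ h : H, M (f h) * T = T * M' h}
      add_mem' := fun {a b} ha hb h => by rw [Matrix.mul_add, Matrix.add_mul, ha h, hb h]
      zero_mem' := fun h => by rw [Matrix.mul_zero, Matrix.zero_mul]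
      smul_mem' := fun c a ha h => by rw [Matrix.mul_smul, Matrix.smul_mul, ha h] }
  let ρH : Representation ℂ H (Fin n → ℂ) := MonoidHom.comp ρ f
  let e : Representation.IntertwiningMap σ ρH ≃ₗ[ℂ] S :=
    { toFun := fun F => ⟨LinearMap.toMatrix' F.toLinearMap, fun h => by
        show LinearMap.toMatrix' (ρH h) * _ = _ * LinearMap.toMatrix' (σ h)
        rw [← LinearMap.toMatrix'_comp, ← LinearMap.toMatrix'_comp, F.isIntertwining' h]⟩
      map_add' := fun F F' => Subtype.ext (map_add LinearMap.toMatrix' _ _)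
      map_smul' := fun c F => Subtype.ext (map_smul LinearMap.toMatrix' _ _)
      invFun := fun T => ⟨Matrix.toLin' T.1, fun h => by
        apply LinearMap.toMatrix'.injective
        rw [LinearMap.toMatrix'_comp, LinearMap.toMatrix'_comp, LinearMap.toMatrix'_toLin']
        exact (T.2 h).symm⟩
      left_inv := fun F => Representation.IntertwiningMap.ext (Matrix.toLin'_toMatrix' _)
      right_inv := fun T => Subtype.ext (LinearMap.toMatrix'_toLin' _) }
  have hdim : Module.finrank ℂ S = m := by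
    rw [← LinearEquiv.finrank_eq e]
    have h := IrrTools.classInner_eq_finrank σ ρH
    rw [show ρH.character = fun h : H => χ (f h) from funext fun h => by rw [← hρχ]; rfl, hσθ,
      h1] at h
    exact_mod_cast h.symm
  -- the pairing
  let B : S →ₗ[ℂ] S →ₗ[ℂ] ℂ := LinearMap.mk₂ ℂ
    (fun T T' => (Z⁻¹ * ((T.1)ᵀ * X * T'.1)).trace)
    (fun a b c => by simp [Matrix.transpose_add, Matrix.add_mul, Matrix.mul_add])
    (fun r a c => by simp [Matrix.transpose_smul, Matrix.smul_mul, Matrix.mul_smul])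
    (fun a b c => by simp [Matrix.mul_add])
    (fun r a c => by simp [Matrix.mul_smul])
  have hskew : ∀ T T' : S, B T T' = - B T' T := by
    intro T T'
    show (Z⁻¹ * ((T.1)ᵀ * X * T'.1)).trace = -(Z⁻¹ * ((T'.1)ᵀ * X * T.1)).trace
    rw [← Matrix.trace_transpose (Z⁻¹ * ((T.1)ᵀ * X * T'.1))]
    simp only [Matrix.transpose_mul, Matrix.transpose_transpose, hXt, Matrix.transpose_nonsing_inv,
      hZt]
    have hZ' : (νH • Z)⁻¹ = νH • Z⁻¹ := by
      refine Matrix.inv_eq_right_inv ?_
      rw [Matrix.smul_mul, Matrix.mul_smul, smul_smul, hH2, one_smul,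
        Matrix.mul_nonsing_inv _ hZu]
    rw [hZ', Matrix.mul_smul, Matrix.trace_smul, Matrix.trace_mul_comm]
    simp only [Matrix.smul_mul, Matrix.mul_smul, Matrix.trace_smul, smul_eq_mul,
      Matrix.mul_assoc, hneg]
    linear_combination (-(Z⁻¹ * ((T'.1)ᵀ * (X * T.1))).trace) * hH2
  have hnd : ∀ T : S, (∀ T' : S, B T' T = 0) → T = 0 := by
    intro T hT
    have hkey : ∀ R : Matrix (Fin n) (Fin d) ℂ, (Z⁻¹ * (Rᵀ * (X * T.1))).trace = 0 := by
      intro R
      set T' : Matrix (Fin n) (Fin d) ℂ := ∑ h : H, M (f h) * R * M' h⁻¹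
      have hT' : T' ∈ S := by
        intro h
        simp only [T', Matrix.mul_sum, Matrix.sum_mul]
        refine Fintype.sum_equiv (Equiv.mulLeft h) _ _ fun a => ?_
        simp only [Equiv.coe_mulLeft, map_mul, _root_.mul_inv_rev, Matrix.mul_assoc]
        rw [← map_mul M' h⁻¹ h, inv_mul_cancel, map_one, Matrix.mul_one]
      have h0 : (Z⁻¹ * ((T')ᵀ * X * T.1)).trace = 0 := hT ⟨T', hT'⟩
      have hterm : ∀ h : H, (Z⁻¹ * ((M (f h) * R * M' h⁻¹)ᵀ * X * T.1)).trace =
          (Z⁻¹ * (Rᵀ * (X * T.1))).trace := by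
        intro h
        have e1 : (M (f h))ᵀ * (X * T.1) = X * T.1 * M' h⁻¹ := by
          calc (M (f h))ᵀ * (X * T.1)
              = (M (f h))ᵀ * (X * (M (f h) * T.1 * M' h⁻¹)) := by
                rw [T.2 h, Matrix.mul_assoc T.1, ← map_mul, mul_inv_cancel, map_one, Matrix.mul_one]
            _ = (M (f h))ᵀ * X * M (f h) * T.1 * M' h⁻¹ := by simp only [Matrix.mul_assoc]
            _ = _ := by rw [hX]
        calc (Z⁻¹ * ((M (f h) * R * M' h⁻¹)ᵀ * X * T.1)).trace
            = (Z⁻¹ * (M' h⁻¹)ᵀ * (Rᵀ * (X * T.1) * M' h⁻¹)).trace := by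
              congr 1
              simp only [Matrix.transpose_mul, Matrix.mul_assoc]
              rw [e1]
              simp only [Matrix.mul_assoc]
          _ = ((M' h⁻¹ * Z⁻¹ * (M' h⁻¹)ᵀ) * (Rᵀ * (X * T.1))).trace := by
              rw [← Matrix.mul_assoc, Matrix.trace_mul_comm]
              simp only [Matrix.mul_assoc]
          _ = _ := by rw [hZinv]
      simp only [T', Matrix.transpose_sum, Matrix.sum_mul, Matrix.mul_sum, Matrix.trace_sum,
        hterm, Finset.sum_const, Finset.card_univ, nsmul_eq_mul, mul_eq_zero,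
        Nat.cast_eq_zero] at h0
      exact h0.resolve_left Fintype.card_ne_zero
    have hW : X * T.1 * Z⁻¹ = 0 := by
      ext i j
      have h := hkey (Matrix.single i j 1)
      rw [Matrix.trace_mul_comm, Matrix.transpose_single, Matrix.mul_assoc (Matrix.single j i 1),
        Matrix.trace_single_mul, smul_eq_mul, one_mul] at h
      rw [h]; rfl
    have hXT : X * T.1 = 0 := by
      have := congrArg (· * Z) hW
      simpa [Matrix.mul_assoc, Matrix.nonsing_inv_mul _ hZu] using this
    refine Subtype.ext ?_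
    refine Matrix.ext_of_mulVec_single fun i => ?_
    apply hXinj
    rw [Matrix.mulVec_mulVec, hXT]
    simp only [ZeroMemClass.coe_zero, Matrix.zero_mulVec, Matrix.mulVec_zero]
  -- a skew nondegenerate form on a space of odd dimension
  let b := Module.finBasisOfFinrankEq ℂ S hdim
  set A : Matrix (Fin m) (Fin m) ℂ := fun i j => B (b i) (b j)
  have hA : Aᵀ = -A := by
    ext i j
    exact hskew (b j) (b i)
  have hdet : A.det = 0 := by
    have h := congrArg Matrix.det hA
    rw [Matrix.det_transpose, Matrix.det_neg, Fintype.card_fin, hm.neg_one_pow, neg_one_mul] at h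
    exact CharZero.eq_neg_self_iff.mp h
  obtain ⟨v, hv0, hv⟩ := Matrix.exists_mulVec_eq_zero_iff.mpr hdet
  apply hv0
  have hT0 : ∑ j, v j • b j = 0 := by
    refine hnd _ fun T' => ?_
    have hflip : (B.flip (∑ j, v j • b j)) = 0 := by
      refine b.ext fun i => ?_
      rw [LinearMap.flip_apply, map_sum, LinearMap.zero_apply]
      have hi := congrFun hv i
      simp only [Matrix.mulVec, dotProduct, Pi.zero_apply, A] at hi
      rw [← hi]
      exact Finset.sum_congr rfl fun j _ => by rw [map_smul, smul_eq_mul, mul_comm]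
    exact LinearMap.congr_fun hflip T'
  funext j
  exact Fintype.linearIndependent_iff.mp b.linearIndependent v hT0 j

end CfsgLib.DegreeTools.OddMult
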