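import Cfsg.Agent.Lib.DegreeTools.DefectZeroParity
import Cfsg.Agent.Lib.DegreeTools.OddMult
import Cfsg.Agent.Lib.Char.CliffordCorr
import Cfsg.Agent.Lib.Char.Clifford
import Cfsg.Agent.Lib.CharDeep.Relative
import Mathlib.GroupTheory.Index

/-!
# A real character of indicator one over a defect zero character conjugate to its conjugate
-/

set_option autoImplicit false

namespace CfsgLib.DegreeTools.DefectZeroExt

open Cfsg CfsgLib CfsgLib.Char
open scoped ComplexConjugate Classical

universe u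

/-- The restriction of the data to a subgroup containing `N`. -/
theorem Setup.restrict {E : Type u} [Group E] [Finite E] {N : Subgroup E} [N.Normal]
    {P : Subgroup E} {φ : IrrCharacter N} (S : Setup N P φ) {L : Subgroup E} (hNL : N ≤ L)
    (φ' : IrrCharacter (N.subgroupOf L))
    (hφ' : ∀ x, (φ' : N.subgroupOf L → ℂ) x =
      (φ : N → ℂ) ⟨((x : L) : E), x.2⟩) :
    Setup (N.subgroupOf L) (P.subgroupOf L) φ' := by
  refine ⟨S.isPGroup.comap_of_injective L.subtype Subtype.val_injective, ?_,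
    fun x hx hx1 => ?_, ?_⟩
  · rw [eq_top_iff]
    rintro ⟨x, hx⟩ -
    obtain ⟨a, ha, b, hb, rfl⟩ := Subgroup.mem_sup_of_normal_left.mp
      (show x ∈ N ⊔ P by rw [S.sup_eq]; exact Subgroup.mem_top x)
    have hbL : b ∈ L := by
      have := L.mul_mem (L.inv_mem (hNL ha)) hx
      rwa [inv_mul_cancel_left] at this
    rw [show (⟨a * b, hx⟩ : L) = ⟨a, hNL ha⟩ * ⟨b, hbL⟩ from rfl]
    exact mul_mem (Subgroup.mem_sup_left (Subgroup.mem_subgroupOf.mpr ha))
      (Subgroup.mem_sup_right (Subgroup.mem_subgroupOf.mpr hb))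
  · rw [hφ']
    exact S.vanish _ hx fun h => hx1 (Subtype.ext (Subtype.ext
      (congrArg (fun z : N => (z : E)) h)))
  · obtain ⟨m, hm, h1⟩ := S.odd
    refine ⟨m, hm, ?_⟩
    rw [hφ']
    refine Eq.trans (congrArg (φ : N → ℂ) (Subtype.ext rfl)) (h1.trans ?_)
    congr 2
    exact Nat.card_congr
      { toFun := fun x => ⟨⟨⟨((x : P) : E), hNL x.2⟩, x.1.2⟩, x.2⟩
        invFun := fun x => ⟨⟨((x : P.subgroupOf L) : L), x.1.2⟩, x.2⟩
        left_inv := fun x => rfl
        right_inv := fun x => rfl }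

/-- The conjugate data. -/
theorem Setup.conj {E : Type u} [Group E] [Finite E] {N : Subgroup E} [N.Normal]
    {P : Subgroup E} {φ : IrrCharacter N} (S : Setup N P φ) (φ' : IrrCharacter N)
    (hφ' : ∀ x, (φ' : N → ℂ) x = starRingEnd ℂ ((φ : N → ℂ) x)) : Setup N P φ' := by
  refine ⟨S.isPGroup, S.sup_eq, fun x hx hx1 => by rw [hφ', S.vanish x hx hx1, map_zero], ?_⟩
  obtain ⟨m, hm, h1⟩ := S.odd
  exact ⟨m, hm, by rw [hφ', h1, map_mul, Complex.conj_natCast, Complex.conj_natCast]⟩

/-- A linear character with values `±1` has indicator one. -/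
theorem indicator_of_real_linear {P : Type u} [Group P] [Fintype P] (β : IrrCharacter P)
    (h1 : (β : P → ℂ) 1 = 1) (hr : ∀ x, conj ((β : P → ℂ) x) = (β : P → ℂ) x) :
    (Nat.card P : ℂ)⁻¹ * ∑ x, (β : P → ℂ) (x * x) = 1 := by
  have h : ∀ x, (β : P → ℂ) (x * x) = 1 := fun x => by
    rw [← linHom_apply h1, map_mul, Units.val_mul, linHom_apply h1]
    conv_lhs => arg 2; rw [← hr]
    rw [← linHom_apply h1, Complex.mul_conj', norm_hom_apply]
    norm_num
  rw [Finset.sum_congr rfl fun x _ => h x, Finset.sum_const, nsmul_eq_mul, mul_one,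
    Finset.card_univ, ← Nat.card_eq_fintype_card, inv_mul_cancel₀ card_ne_zero]

variable {E : Type u} [Group E] [Fintype E] {N : Subgroup E} [N.Normal] {P : Subgroup E}
  {φ : IrrCharacter N}

/-- The real case. -/
theorem exists_real_of_fixed (S : Setup N P φ) (h2 : IsPGroup 2 (E ⧸ N))
    (hinv : ∀ (g : E) (x : N), (φ : N → ℂ) (MulAut.conjNormal g x) = (φ : N → ℂ) x)
    (hreal : ∀ x, conj ((φ : N → ℂ) x) = (φ : N → ℂ) x) :
    ∃ θ : IrrCharacter E, (∀ g, ((θ : E → ℂ) g).im = 0) ∧
      (Nat.card E : ℂ)⁻¹ * ∑ g, (θ : E → ℂ) (g * g) = 1 ∧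
      classInner (fun n : N => (θ : E → ℂ) n) (φ : N → ℂ) = 1 := by
  obtain ⟨η, hη, hc⟩ := S.exists_canonical h2 hinv
  have hconj : (⟨_, isIrrCharacter_conj η⟩ : IrrCharacter E) = η :=
    S.canon_unique hη (fun x => by
      show conj ((η : E → ℂ) x) = _
      rw [hη, hreal]) hc (Canon.conj hc fun _ => rfl)
  have hηr : ∀ g, conj ((η : E → ℂ) g) = (η : E → ℂ) g := fun g =>
    congrFun (congrArg Subtype.val hconj) g
  set f : P → ℂ := fun x => (η : E → ℂ) x with hf
  obtain ⟨β, hβ, -, hfix, hcase⟩ := exists_odd_class (N.subgroupOf P) (f := f)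
    (res_isCharacter η) (MulEquiv.refl P) (fun _ => Iff.rfl) (fun x => (hηr x).symm) 1 rfl
    (fun x => by simp) (S.odd_sum hη) hc
  have hβr : ∀ x, conj ((β : P → ℂ) x) = (β : P → ℂ) x := fun x => (hfix x).symm
  rcases hcase with ⟨-, hodd⟩ | ⟨hnr, -⟩
  · refine ⟨η, fun g => Complex.conj_eq_iff_im.mp (hηr g), ?_, ?_⟩
    · rw [OddMult.indicator_eq_of_odd P.subtype η.2 β.2
        (fun g => Complex.conj_eq_iff_im.mp (hηr g)) (fun x => Complex.conj_eq_iff_im.mp (hβr x))
        hodd (mult_cast (res_isCharacter η) β).symm]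
      exact indicator_of_real_linear β ((mem_linOver _).mp hβ).1 hβr
    · rw [show (fun n : N => (η : E → ℂ) n) = (φ : N → ℂ) from funext hη, classInner_irr_self φ.2]
  · exact absurd hβr hnr

/-- A character of indicator one on a two-group from a twisted real linear character of an
index two subgroup. -/
theorem exists_real_over {P : Type u} [Group P] [Fintype P] (A : Subgroup P) [Fintype A]
    (hA : A.index = 2) {u : P} (hu : u ∉ A) (hu2 : u * u ∈ A) (β : IrrCharacter A)
    (hβ1 : (β : A → ℂ) 1 = 1) (hβu : (β : A → ℂ) ⟨u * u, hu2⟩ = 1)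
    (hfix : ∀ (x : A) (h : u * (x : P) * u⁻¹ ∈ A),
      (β : A → ℂ) ⟨u * x * u⁻¹, h⟩ = conj ((β : A → ℂ) x)) :
    ∃ ρ : IrrCharacter P, (∀ x, ((ρ : P → ℂ) x).im = 0) ∧
      (Nat.card P : ℂ)⁻¹ * ∑ x, (ρ : P → ℂ) (x * x) = 1 ∧
      ((∀ x, conj ((β : A → ℂ) x) = (β : A → ℂ) x) → ∀ x : A, (ρ : P → ℂ) x = (β : A → ℂ) x) ∧
      (¬ (∀ x, conj ((β : A → ℂ) x) = (β : A → ℂ) x) →
        ∀ x : A, (ρ : P → ℂ) x = (β : A → ℂ) x + conj ((β : A → ℂ) x)) := by
  haveI : A.Normal := Subgroup.normal_of_index_eq_two hA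
  have hsplit : ∀ g : P, g ∉ A → g * u⁻¹ ∈ A := fun g hg =>
    (A.mul_mem_iff_of_index_two hA).mpr
      (iff_of_false hg fun h => hu (by simpa using A.inv_mem h))
  have hlinA := linHom_apply (β := β) hβ1
  have hconjn : ∀ (g : P) (x : A), (β : A → ℂ) ⟨g * x * g⁻¹,
      Subgroup.Normal.conj_mem inferInstance _ x.2 g⟩ =
      if g ∈ A then (β : A → ℂ) x else conj ((β : A → ℂ) x) := by
    intro g x
    have hin : ∀ (a : A) (y : A), (β : A → ℂ) (a * y * a⁻¹) = (β : A → ℂ) y := fun a y =>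
      IsIrrCharacter.isClassFunction β.2 y a
    split_ifs with hg
    · exact hin ⟨g, hg⟩ x
    · have hm : u * (x : P) * u⁻¹ ∈ A := Subgroup.Normal.conj_mem inferInstance _ x.2 u
      rw [← hfix x hm, ← hin ⟨g * u⁻¹, hsplit g hg⟩ ⟨_, hm⟩]
      exact congrArg _ (Subtype.ext (by simp [mul_assoc]))
  by_cases hr : ∀ x, conj ((β : A → ℂ) x) = (β : A → ℂ) x
  · -- a real extension
    haveI : Fact (Nat.card (P ⧸ A)).Prime := ⟨by
      show A.index.Prime; rw [hA]; exact Nat.prime_two⟩
    obtain ⟨χ, hχ, hres⟩ := Cfsg.Agent.S0886.result A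
      (isCyclic_of_prime_card (p := Nat.card (P ⧸ A)) rfl) (β : A → ℂ) β.2 fun g x => by
        rw [hconjn g x]
        split_ifs
        · rfl
        · exact hr x
    let ρ : IrrCharacter P := ⟨χ, hχ⟩
    have hρ1 : (ρ : P → ℂ) 1 = 1 := by
      have := hres 1
      rw [Subgroup.coe_one, hβ1] at this
      exact this
    have hρr : ∀ x, conj ((ρ : P → ℂ) x) = (ρ : P → ℂ) x := by
      intro x
      have hA' : ∀ a : A, conj ((ρ : P → ℂ) a) = (ρ : P → ℂ) a := fun a => by
        show conj (χ a) = χ a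
        rw [hres, hr]
      by_cases hx : x ∈ A
      · exact hA' ⟨x, hx⟩
      · have hu' : conj ((ρ : P → ℂ) u) = (ρ : P → ℂ) u := by
          have h2 : (ρ : P → ℂ) u * (ρ : P → ℂ) u = 1 := by
            rw [← linHom_apply hρ1, ← Units.val_mul, ← map_mul, linHom_apply hρ1]
            show χ ((⟨u * u, hu2⟩ : A) : P) = 1
            rw [hres, hβu]
          rcases mul_self_eq_one_iff.mp h2 with h | h <;> simp [h]
        have e : (ρ : P → ℂ) x = (ρ : P → ℂ) (⟨x * u⁻¹, hsplit x hx⟩ : A) * (ρ : P → ℂ) u := by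
          simp only [← linHom_apply hρ1, ← Units.val_mul, ← map_mul]
          simp
        rw [e, map_mul, hA', hu']
    exact ⟨ρ, fun x => Complex.conj_eq_iff_im.mp (hρr x), indicator_of_real_linear ρ hρ1 hρr,
      fun _ x => hres x, fun h => absurd hr h⟩
  · -- induced
    set R := indFun A (β : A → ℂ) with hR
    have hcardP : (Nat.card P : ℂ) = 2 * (Nat.card A : ℂ) := by
      rw [← A.card_mul_index, hA]; push_cast; ring
    have hcA : (Nat.card A : ℂ) ≠ 0 := card_ne_zero
    have hcount : (((Finset.univ : Finset P).filter (· ∈ A)).card : ℂ) = Nat.card A := by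
      rw [← Fintype.card_subtype, Nat.card_eq_fintype_card]
    have hcount' : (((Finset.univ : Finset P).filter (fun g => g ∉ A)).card : ℂ) = Nat.card A := by
      have h := Finset.card_filter_add_card_filter_not (s := (Finset.univ : Finset P)) (· ∈ A)
      rw [Finset.card_univ, ← Nat.card_eq_fintype_card] at h
      have h' := congrArg (fun n : ℕ => (n : ℂ)) h
      simp only [Nat.cast_add, hcount, hcardP] at h'
      linear_combination h'
    have hRA : ∀ x : A, R x = (β : A → ℂ) x + conj ((β : A → ℂ) x) := by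
      intro x
      rw [hR, indFun_apply_of_normal, Finset.sum_congr rfl (fun g _ => hconjn g x),
        Finset.sum_ite, Finset.sum_const, Finset.sum_const, nsmul_eq_mul, nsmul_eq_mul, hcount,
        hcount']
      field_simp
    have hR0 : ∀ x, x ∉ A → R x = 0 := fun x hx => indFun_eq_zero_of_normal A _ hx
    have hRreal : ∀ x, conj (R x) = R x := by
      intro x
      by_cases hx : x ∈ A
      · rw [show R x = _ from hRA ⟨x, hx⟩, map_add, Complex.conj_conj, add_comm]
      · rw [hR0 x hx, map_zero]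
    let βc : IrrCharacter A := ⟨_, isIrrCharacter_conj β⟩
    have hne : (β : A → ℂ) ≠ (βc : A → ℂ) := fun e => hr fun x => (congrFun e x).symm
    have hirr : IsIrrCharacter P R := by
      refine IsCharacter.isIrrCharacter_of_norm_one (IsCharacter.indFun A (isCharacter_irr β)) ?_
      rw [hR, classInner_indFun A _ (indFun_isClassFunction A _),
        show (fun h : A => indFun A (β : A → ℂ) h) = (β : A → ℂ) + (βc : A → ℂ) from funext hRA,
        classInner_add_right, classInner_irr_self β.2, classInner_irr_ne β.2 βc.2 hne, add_zero]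
    refine ⟨⟨R, hirr⟩, fun x => Complex.conj_eq_iff_im.mp (hRreal x), ?_,
      fun h => absurd h hr, fun _ x => hRA x⟩
    -- the indicator
    have hsq : ∑ a : A, (β : A → ℂ) a * (β : A → ℂ) a = 0 := by
      have h := classInner_irr_ne β.2 βc.2 hne
      rw [classInner, mul_eq_zero] at h
      rw [← h.resolve_left (inv_ne_zero hcA)]
      exact Finset.sum_congr rfl fun a _ => by
        show _ = _ * conj (conj ((β : A → ℂ) a))
        rw [Complex.conj_conj]
    have hmul : ∀ a b : A, (β : A → ℂ) (a * b) = (β : A → ℂ) a * (β : A → ℂ) b := fun a b => by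
      rw [← hlinA, map_mul, Units.val_mul, hlinA, hlinA]
    have hterm : ∀ g : P, R (g * g) = if h : g ∈ A then
        (β : A → ℂ) ⟨g, h⟩ * (β : A → ℂ) ⟨g, h⟩ + conj ((β : A → ℂ) ⟨g, h⟩ * (β : A → ℂ) ⟨g, h⟩)
        else 2 := by
      intro g
      split_ifs with h
      · rw [show R (g * g) = _ from hRA (⟨g, h⟩ * ⟨g, h⟩), hmul]
      · set a : A := ⟨g * u⁻¹, hsplit g h⟩
        have hm : u * (a : P) * u⁻¹ ∈ A := Subgroup.Normal.conj_mem inferInstance _ a.2 u
        have e : g * g = ((a * (⟨_, hm⟩ * ⟨u * u, hu2⟩) : A) : P) := by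
          simp [a, mul_assoc]
        rw [e, hRA, hmul, hmul, hfix a hm, hβu, mul_one, ← hlinA, Complex.mul_conj',
          norm_hom_apply]
        norm_num
    show (Nat.card P : ℂ)⁻¹ * ∑ x, R (x * x) = 1
    rw [Finset.sum_congr rfl fun g _ => hterm g, ← Finset.sum_filter_add_sum_filter_not Finset.univ
      (· ∈ A), Finset.sum_subtype (Finset.univ.filter (· ∈ A)) (p := (· ∈ A)) (fun x => by simp),
      Finset.sum_congr rfl (fun x _ => dif_pos x.2),
      Finset.sum_congr (s₁ := Finset.univ.filter fun g => g ∉ A) rfl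
        (fun x hx => dif_neg (Finset.mem_filter.mp hx).2),
      Finset.sum_const, nsmul_eq_mul, hcount', Finset.sum_add_distrib, ← map_sum, hsq, map_zero,
      add_zero, zero_add, hcardP]
    field_simp

/-- The nonreal case. -/
theorem exists_real_of_swapped (S : Setup N P φ) (h2 : IsPGroup 2 (E ⧸ N)) {u : E} (huP : u ∈ P)
    (hu : conjG (φ : N → ℂ) u = fun x => conj ((φ : N → ℂ) x))
    (hor : ∀ g : E, g ∈ stab (φ : N → ℂ) ∨
      conjG (φ : N → ℂ) g = fun x => conj ((φ : N → ℂ) x))
    (hnr : ¬ ∀ x, conj ((φ : N → ℂ) x) = (φ : N → ℂ) x) :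
    ∃ θ : IrrCharacter E, (∀ g, ((θ : E → ℂ) g).im = 0) ∧
      (Nat.card E : ℂ)⁻¹ * ∑ g, (θ : E → ℂ) (g * g) = 1 ∧
      classInner (fun n : N => (θ : E → ℂ) n) (φ : N → ℂ) = 1 := by
  set T := stab (φ : N → ℂ) with hTdef
  have hNT : N ≤ T := le_stab (IsIrrCharacter.isClassFunction φ.2)
  have huT : u ∉ T := fun h => hnr fun x => by
    rw [hTdef, mem_stab, hu] at h
    exact congrFun h x
  have hconjG : ∀ g, conjG (fun x => conj ((φ : N → ℂ) x)) g =
      fun x => conj (conjG (φ : N → ℂ) g x) := fun g => rfl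
  have hmulmem : ∀ g, conjG (φ : N → ℂ) g = (fun x => conj ((φ : N → ℂ) x)) → g * u ∈ T := by
    intro g hg
    rw [hTdef, mem_stab, ← conjG_mul, hg, hconjG, hu]
    simp [Complex.conj_conj]
  have hTidx : T.index = 2 := Subgroup.index_eq_two_iff.mpr ⟨u, fun b => by
    rcases hor b with h | h
    · exact Or.inr ⟨h, fun h' => huT (by
        have := T.mul_mem (T.inv_mem h) h'
        rwa [inv_mul_cancel_left] at this)⟩
    · refine Or.inl ⟨hmulmem b h, fun h' => ?_⟩
      rw [hTdef, mem_stab, h] at h'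
      exact hnr fun x => congrFun h' x⟩
  haveI : T.Normal := Subgroup.normal_of_index_eq_two hTidx
  have hu2 : u * u ∈ T := hmulmem u hu
  set N' := N.subgroupOf T
  let e : N' ≃* N := Subgroup.subgroupOfEquivOfLe hNT
  let φ' : IrrCharacter N' := ⟨(φ : N → ℂ) ∘ e, IsIrrCharacter.comp_equiv φ.2 e⟩
  let φc : IrrCharacter N' := ⟨_, isIrrCharacter_conj φ'⟩
  have S' : Setup N' (P.subgroupOf T) φ' := S.restrict hNT φ' fun x => rfl
  have h2T : IsPGroup 2 (T ⧸ N') := by
    haveI := Fact.mk Nat.prime_two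
    obtain ⟨k, hk⟩ := IsPGroup.iff_card.mp h2
    have hd : N'.index ∣ 2 ^ k := by
      rw [← hk]
      exact Dvd.intro _ (Subgroup.relIndex_mul_index hNT)
    obtain ⟨j, -, hj⟩ := (Nat.dvd_prime_pow Nat.prime_two).mp hd
    exact IsPGroup.of_card hj
  obtain ⟨η, hη, hc⟩ := S'.exists_canonical h2T fun g x => by
    show (φ : N → ℂ) (e _) = (φ : N → ℂ) (e x)
    exact (congrArg _ (Subtype.ext rfl)).trans (congrFun (show conjG (φ : N → ℂ) (g : E) = _ from
      g.2) (e x))
  -- the conjugate of `η` by `u` is its complex conjugate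
  let α : T ≃* T := MulAut.conjNormal u
  have hαv : ∀ x : T, ((α x : T) : E) = u * x * u⁻¹ := fun x => MulAut.conjNormal_apply u x
  have hαu : (⟨_, IsIrrCharacter.comp_equiv η.2 α⟩ : IrrCharacter T) =
      ⟨_, isIrrCharacter_conj η⟩ := by
    refine (S'.conj φc fun x => rfl).canon_unique
      (fun x => ?_) (fun x => ?_) (Canon.conj hc fun _ => rfl)
      (Canon.comp hc α (fun y => ?_) (fun y => ?_) fun y => rfl)
    · show conj ((η : T → ℂ) x) = conj ((φ' : N' → ℂ) x)
      rw [hη]
    · have hm : α (x : T) ∈ N' := Subgroup.mem_subgroupOf.mpr (by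
        rw [hαv]
        exact Subgroup.Normal.conj_mem (inferInstance : N.Normal) _ x.2 u)
      show (η : T → ℂ) ((⟨α (x : T), hm⟩ : N') : T) = conj ((φ : N → ℂ) (e x))
      rw [hη, ← congrFun hu (e x)]
      show (φ : N → ℂ) (e ⟨α (x : T), hm⟩) = _
      rw [conjG_apply]
      exact congrArg _ (Subtype.ext (hαv x))
    · simp only [N', Subgroup.mem_subgroupOf, hαv]
      constructor
      · intro h
        have := Subgroup.Normal.conj_mem (inferInstance : N.Normal) _ h u⁻¹
        simpa [mul_assoc] using this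
      · exact fun h => Subgroup.Normal.conj_mem (inferInstance : N.Normal) _ h u
    · simp only [Subgroup.mem_subgroupOf, hαv]
      rw [P.mul_mem_cancel_right (P.inv_mem huP), P.mul_mem_cancel_left huP]
  have hηα : ∀ x, (η : T → ℂ) (α x) = conj ((η : T → ℂ) x) := fun x =>
    congrFun (congrArg Subtype.val hαu) x
  -- the induced character
  set θ := indFun T (η : T → ℂ) with hθdef
  have hresLe : resLe hNT (η : T → ℂ) = (φ : N → ℂ) := funext fun n =>
    (hη ⟨⟨(n : E), hNT n.2⟩, n.2⟩).trans (congrArg (φ : N → ℂ) (Subtype.ext rfl))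
  have hmult1 : classInner (resLe hNT (η : T → ℂ)) (φ : N → ℂ) = 1 := by
    rw [hresLe, classInner_irr_self φ.2]
  obtain ⟨hθirr, hθN⟩ := indFun_inertia hNT φ.2 (isInertia_stab (φ : N → ℂ)) η.2
    (by rw [hmult1]; exact one_ne_zero)
  rw [hmult1] at hθN
  have hsplit : ∀ g : E, g ∉ T → g * u⁻¹ ∈ T := fun g hg =>
    (T.mul_mem_iff_of_index_two hTidx).mpr
      (iff_of_false hg fun h => huT (by simpa using T.inv_mem h))
  have hθT : ∀ t : T, θ t = (η : T → ℂ) t + conj ((η : T → ℂ) t) := by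
    intro t
    have hval : ∀ g : E, (η : T → ℂ) ⟨g * t * g⁻¹, Subgroup.Normal.conj_mem inferInstance _ t.2 g⟩ =
        if g ∈ T then (η : T → ℂ) t else conj ((η : T → ℂ) t) := by
      intro g
      split_ifs with hg
      · exact (congrArg _ (Subtype.ext rfl)).trans
          (IsIrrCharacter.isClassFunction η.2 t ⟨g, hg⟩)
      · rw [← hηα, ← IsIrrCharacter.isClassFunction η.2 (α t) ⟨g * u⁻¹, hsplit g hg⟩]
        exact congrArg _ (Subtype.ext (by simp [hαv, mul_assoc]))
    have hcardE : (Nat.card E : ℂ) = 2 * (Nat.card T : ℂ) := by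
      rw [← T.card_mul_index, hTidx]; push_cast; ring
    have hcount : (((Finset.univ : Finset E).filter (· ∈ T)).card : ℂ) = Nat.card T := by
      rw [← Fintype.card_subtype, Nat.card_eq_fintype_card]
    have hcount' : (((Finset.univ : Finset E).filter (fun g => g ∉ T)).card : ℂ) = Nat.card T := by
      have h := Finset.card_filter_add_card_filter_not (s := (Finset.univ : Finset E)) (· ∈ T)
      rw [Finset.card_univ, ← Nat.card_eq_fintype_card] at h
      have h' := congrArg (fun n : ℕ => (n : ℂ)) h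
      simp only [Nat.cast_add, hcount, hcardE] at h'
      linear_combination h'
    rw [hθdef, indFun_apply_of_normal, Finset.sum_congr rfl (fun g _ => hval g), Finset.sum_ite,
      Finset.sum_const, Finset.sum_const, nsmul_eq_mul, nsmul_eq_mul, hcount, hcount']
    field_simp
  have hθ0 : ∀ g, g ∉ T → θ g = 0 := fun g hg => indFun_eq_zero_of_normal T _ hg
  have hθreal : ∀ g, conj (θ g) = θ g := by
    intro g
    by_cases hg : g ∈ T
    · rw [show θ g = _ from hθT ⟨g, hg⟩, map_add, Complex.conj_conj, add_comm]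
    · rw [hθ0 g hg, map_zero]
  -- the twisted real linear constituent on the two-group
  set f : P.subgroupOf T → ℂ := fun x => (η : T → ℂ) x with hf
  have hfchar : IsCharacter (P.subgroupOf T) f := res_isCharacter η
  have hαP : ∀ x : T, α x ∈ P.subgroupOf T ↔ x ∈ P.subgroupOf T := fun y => by
    simp only [Subgroup.mem_subgroupOf, hαv]
    rw [P.mul_mem_cancel_right (P.inv_mem huP), P.mul_mem_cancel_left huP]
  let c : P.subgroupOf T ≃* P.subgroupOf T :=
    { toFun := fun x => ⟨α x, (hαP x).mpr x.2⟩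
      invFun := fun x => ⟨α.symm x, by
        have := hαP (α.symm x)
        rw [α.apply_symm_apply] at this
        exact this.mp x.2⟩
      left_inv := fun x => Subtype.ext (α.symm_apply_apply _)
      right_inv := fun x => Subtype.ext (α.apply_symm_apply _)
      map_mul' := fun x y => Subtype.ext (map_mul α (x : T) y) }
  let w : P.subgroupOf T := ⟨⟨u * u, hu2⟩, P.mul_mem huP huP⟩
  obtain ⟨β, hβL, hβw, hfix, hcase⟩ := exists_odd_class (N'.subgroupOf (P.subgroupOf T)) hfchar c
    (fun x => by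
      simp only [Subgroup.mem_subgroupOf, N']
      show ((α (x : T) : T) : E) ∈ N ↔ _
      rw [hαv]
      constructor
      · intro h
        have := Subgroup.Normal.conj_mem (inferInstance : N.Normal) _ h u⁻¹
        simpa [mul_assoc] using this
      · exact fun h => Subgroup.Normal.conj_mem (inferInstance : N.Normal) _ h u)
    (fun x => hηα x) w
    (Subtype.ext (Subtype.ext (by
      show ((α ⟨u * u, hu2⟩ : T) : E) = u * u
      rw [hαv]
      group)))
    (fun x => Subtype.ext (Subtype.ext (by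
      show ((α (α (x : T)) : T) : E) = u * u * ((x : T) : E) * (u * u)⁻¹
      rw [hαv, hαv]
      group)))
    (S'.odd_sum hη) hc
  -- transport to `T ⊓ P` inside `P`
  set A := T.subgroupOf P with hAdef
  let ι : A ≃* P.subgroupOf T :=
    { toFun := fun x => ⟨⟨((x : P) : E), x.2⟩, x.1.2⟩
      invFun := fun x => ⟨⟨((x : T) : E), x.2⟩, x.1.2⟩
      left_inv := fun x => rfl
      right_inv := fun x => rfl
      map_mul' := fun x y => rfl }
  let βA : IrrCharacter A := ⟨_, IsIrrCharacter.comp_equiv β.2 ι⟩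
  have hAidx : A.index = 2 := Subgroup.index_eq_two_iff.mpr ⟨⟨u, huP⟩, fun b => by
    have hb : (b : E) * u ∈ T ↔ ((b : E) ∈ T ↔ u ∈ T) := T.mul_mem_iff_of_index_two hTidx
    simp only [hAdef, Subgroup.mem_subgroupOf, Subgroup.coe_mul]
    by_cases h : (b : E) ∈ T
    · exact Or.inr ⟨h, fun h' => huT ((hb.mp h').mp h)⟩
    · exact Or.inl ⟨hb.mpr (iff_of_false h huT), h⟩⟩
  obtain ⟨ρ, hρim, hρν, hρreal, hρnr⟩ := exists_real_over A hAidx (u := ⟨u, huP⟩) huT hu2 βA
    (by show (β : P.subgroupOf T → ℂ) (ι 1) = 1; rw [map_one]; exact ((mem_linOver _).mp hβL).1)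
    hβw (fun x h => by
      show (β : P.subgroupOf T → ℂ) (ι ⟨_, h⟩) = conj ((β : P.subgroupOf T → ℂ) (ι x))
      rw [← hfix (ι x)]
      exact congrArg _ (Subtype.ext (Subtype.ext (hαv ⟨((x : P) : E), x.2⟩).symm)))
  set g : A → ℂ := fun x => f (ι x) with hg
  have hgchar : IsCharacter A g := IsCharacter.comp hfchar ι.toMonoidHom
  have hρchar : IsCharacter A fun x : A => (ρ : P → ℂ) x :=
    IsCharacter.restrict (isCharacter_irr ρ) A
  -- the multiplicity of `ρ` in the restriction of `θ`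
  have hinner : classInner (fun x : P => θ x) (ρ : P → ℂ) =
      classInner g fun x : A => (ρ : P → ℂ) x := by
    obtain ⟨k, hk⟩ := IsCharacter.classInner_nat hgchar hρchar
    have hk' : classInner (fun x : A => conj (g x)) (fun x : A => (ρ : P → ℂ) x) = k := by
      rw [← Complex.conj_natCast k, ← hk]
      simp only [classInner, map_mul, map_inv₀, map_sum, Complex.conj_natCast,
        Complex.conj_conj, Complex.conj_eq_iff_im.mpr (hρim _)]
    have hcP : (Nat.card P : ℂ) = 2 * (Nat.card A : ℂ) := by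
      rw [← A.card_mul_index, hAidx]; push_cast; ring
    have hsum : ∑ x : P, θ x * conj ((ρ : P → ℂ) x) =
        ∑ x : A, (g x + conj (g x)) * conj ((ρ : P → ℂ) x) := by
      rw [← CharDeep.Relative.sum_subgroup A (fun x : P => θ x * conj ((ρ : P → ℂ) x))
        (fun x hx => by rw [hθ0 x hx, zero_mul])]
      refine Finset.sum_congr rfl fun x _ => ?_
      rw [show θ ((x : P) : E) = _ from hθT ⟨((x : P) : E), x.2⟩]
      rfl
    rw [hk, classInner, hsum]
    rw [classInner] at hk hk'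
    simp only [add_mul, Finset.sum_add_distrib]
    rw [hcP, mul_inv, mul_assoc, mul_add, hk, hk']
    ring
  have hodd : ∃ m : ℕ, Odd m ∧ classInner (fun x : P => θ x) (ρ : P → ℂ) = m := by
    have hval : ∀ γ : IrrCharacter (P.subgroupOf T),
        classInner g (fun x => (γ : P.subgroupOf T → ℂ) (ι x)) = mult f γ := fun γ => by
      rw [mult_cast hfchar]
      exact classInner_reindex ι f (γ : P.subgroupOf T → ℂ)
    have hιr : (∀ x, conj ((βA : A → ℂ) x) = (βA : A → ℂ) x) ↔
        ∀ x, conj ((β : P.subgroupOf T → ℂ) x) = (β : P.subgroupOf T → ℂ) x :=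
      ⟨fun h x => by simpa [βA] using h (ι.symm x), fun h x => h (ι x)⟩
    rcases hcase with ⟨hr, ho⟩ | ⟨hr, γ, hγ, ho⟩
    · refine ⟨_, ho, ?_⟩
      rw [hinner, show (fun x : A => (ρ : P → ℂ) x) = fun x => (β : P.subgroupOf T → ℂ) (ι x) from
        funext (hρreal (hιr.mpr hr)), hval]
    · refine ⟨_, ho, ?_⟩
      rw [hinner, show (fun x : A => (ρ : P → ℂ) x) =
        (fun x => (β : P.subgroupOf T → ℂ) (ι x)) + fun x => (γ : P.subgroupOf T → ℂ) (ι x) from
        funext fun x => by
          rw [hρnr (fun h => hr (hιr.mp h)) x, Pi.add_apply, hγ]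
          rfl,
        classInner_add_right, hval, hval, Nat.cast_add]
  obtain ⟨m, hm, hm'⟩ := hodd
  refine ⟨⟨θ, hθirr⟩, fun x => Complex.conj_eq_iff_im.mp (hθreal x), ?_, hθN⟩
  show (Nat.card E : ℂ)⁻¹ * ∑ x, θ (x * x) = 1
  rw [OddMult.indicator_eq_of_odd P.subtype hθirr ρ.2
    (fun x => Complex.conj_eq_iff_im.mp (hθreal x)) hρim hm hm', hρν]

end CfsgLib.DegreeTools.DefectZeroExt
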