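import Cfsg.Agent.Lib.DegreeTools.DeficiencyOne
import Cfsg.Agent.S4435
import Cfsg.Agent.S4436

/-!
# `k(B) - l(B) = 1` in `p`-solvable groups

Descent along the Fong–Reynolds correspondence until the defect group is a Sylow subgroup.
-/

set_option autoImplicit false
set_option maxHeartbeats 800000

namespace CfsgLib.DegreeTools.DeficiencyOne

open Cfsg CfsgLib.Blocks CfsgLib.BrauerPairs CfsgLib.BrouePuig CfsgLib.Blocks.FongReynolds
open scoped Classical ComplexConjugate

universe u

variable {p : ℕ} {M : Ideal AlgInt} {G : Type u} [Group G] [Fintype G]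

section Descent

variable {N : Subgroup G} [N.Normal] [Fintype N] {T : Subgroup G} [Fintype T] (hNT : N ≤ T)
  {b : Set (IrrCharacter N)} (hM : IsPModular p M) (hb : IsPBlock M b)
  (hT : ∀ g : G, g ∈ T ↔ ∀ θ ∈ b, conjIrr g θ ∈ b)
include hM hb hT

/-- Induction of characters over `b` is injective. -/
theorem indFun_inj {ψ₁ ψ₂ : IrrCharacter T} (h₁ : Covers hNT ψ₁ b) (h₂ : Covers hNT ψ₂ b)
    (h : indFun T (ψ₁ : T → ℂ) = indFun T (ψ₂ : T → ℂ)) : ψ₁ = ψ₂ := by
  by_contra hne
  obtain ⟨θ, hθ, h0⟩ := h₁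
  have hI := CfsgLib.Char.IsCharacter.indFun T (CfsgLib.Char.isCharacter_irr ψ₁)
  have hR := CfsgLib.Char.IsCharacter.restrict hI T
  obtain ⟨m, hm, hexp⟩ := CfsgLib.Char.IsCharacter.exists_multiplicity hR
  have e0 : (fun n : N => indFun T (ψ₁ : T → ℂ) n)
      = ∑ η : IrrCharacter T, (m η : ℂ) • res hNT (η : T → ℂ) := by
    funext n
    rw [Finset.sum_apply]
    exact hexp ⟨(n : G), hNT n.2⟩
  have hm1 : ∀ ψ : IrrCharacter T, Covers hNT ψ b →
      indFun T (ψ : T → ℂ) = indFun T (ψ₁ : T → ℂ) → m ψ = 1 := by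
    intro ψ hψ he
    have hirr := isIrrCharacter_indFun hNT hM hb hT hψ
    have hn := CfsgLib.Char.classInner_irr_self hirr
    rw [CfsgLib.Char.classInner_indFun T _ (CfsgLib.Char.IsIrrCharacter.isClassFunction hirr)] at hn
    rw [he] at hn
    rw [CfsgLib.Char.IsCharacter.classInner_comm (CfsgLib.Char.isCharacter_irr ψ) hR, hm ψ] at hn
    exact_mod_cast hn
  choose e he using fun η : IrrCharacter T => CfsgLib.Char.IsCharacter.classInner_nat
    (isCharacter_res hNT (CfsgLib.Char.isCharacter_irr η)) (CfsgLib.Char.isCharacter_irr θ)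
  have h1 := classInner_indFun_res hNT hM hb hT ⟨θ, hθ, h0⟩ hθ
  have h2 := classInner_indFun_res hNT hM hb hT h₂ hθ
  rw [← h, h1] at h2
  rw [e0, CfsgLib.Char.classInner_sum_left] at h1
  simp only [CfsgLib.Char.classInner_smul_left, he] at h1
  have h3 : ∑ η : IrrCharacter T, m η * e η = e ψ₁ := by exact_mod_cast h1
  have h4 : e ψ₂ = e ψ₁ := by
    rw [he, he] at h2
    exact_mod_cast h2.symm
  have h5 : m ψ₁ * e ψ₁ + m ψ₂ * e ψ₂ ≤ e ψ₁ := by
    rw [← Finset.sum_pair (f := fun η => m η * e η) hne]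
    exact (Finset.sum_le_sum_of_subset (Finset.subset_univ _)).trans_eq h3
  rw [hm1 ψ₁ ⟨θ, hθ, h0⟩ rfl, hm1 ψ₂ h₂ h.symm, h4] at h5
  exact h0 (by rw [he, show e ψ₁ = 0 by omega, Nat.cast_zero])

/-- The deficiency does not grow. -/
theorem card_le_rank_add_one {B' : Set (IrrCharacter T)} (hB' : IsPBlock M B')
    (hcov : ∃ ψ ∈ B', Covers hNT ψ b) {B : Set (IrrCharacter G)} (hind : IsInducedBlock M T B' B)
    (hk : Nat.card B ≤ blockRank p B + 1) : Nat.card B' ≤ blockRank p B' + 1 := by
  obtain ⟨B₂, hi, -, hall, hiff⟩ := exists_induced hNT hM hb hT hB' hcov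
  obtain rfl := IsInducedBlock.unique hM hind hi
  let f : B' → B := fun ψ =>
    ⟨ind hNT hM hb hT (hall ψ ψ.2), (hiff _).2 ⟨ψ, ψ.2, rfl⟩⟩
  have hf : Function.Injective f := fun ψ ψ' h => Subtype.ext (indFun_inj hNT hM hb hT
    (hall ψ ψ.2) (hall ψ' ψ'.2) (congrArg (fun z : B => ((z : IrrCharacter G) : G → ℂ)) h))
  have hk' : Nat.card B' ≤ Nat.card B := Nat.card_le_card_of_injective f hf
  let L : (T → ℂ) →ₗ[ℂ] (G → ℂ) :=
    { toFun := fun φ => indFun T φ
      map_add' := fun φ φ' => funext fun g => by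
        simp only [CfsgLib.Char.indFun_def, Pi.add_apply, ← mul_add, ← Finset.sum_add_distrib]
        congr 1
        refine Finset.sum_congr rfl fun x _ => ?_
        by_cases hx : x⁻¹ * g * x ∈ T
        · rw [CfsgLib.Char.extendByZero_apply_mem T _ hx, CfsgLib.Char.extendByZero_apply_mem T _ hx,
            CfsgLib.Char.extendByZero_apply_mem T _ hx]
          rfl
        · rw [CfsgLib.Char.extendByZero_apply_notMem T _ hx,
            CfsgLib.Char.extendByZero_apply_notMem T _ hx,
            CfsgLib.Char.extendByZero_apply_notMem T _ hx, add_zero]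
      map_smul' := fun r φ => funext fun g => by
        simp only [CfsgLib.Char.indFun_def, Pi.smul_apply, smul_eq_mul, RingHom.id_apply,
          Finset.mul_sum]
        refine Finset.sum_congr rfl fun x _ => ?_
        by_cases hx : x⁻¹ * g * x ∈ T
        · rw [CfsgLib.Char.extendByZero_apply_mem T _ hx, CfsgLib.Char.extendByZero_apply_mem T _ hx]
          simp only [Pi.smul_apply, smul_eq_mul]
          ring
        · rw [CfsgLib.Char.extendByZero_apply_notMem T _ hx,
            CfsgLib.Char.extendByZero_apply_notMem T _ hx]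
          ring }
  have hreg : ∀ φ : T → ℂ, L (pRegularPart p φ) = pRegularPart p (indFun T φ) := by
    intro φ
    funext g
    show indFun T (pRegularPart p φ) g = _
    rw [pRegularPart_apply, CfsgLib.Char.indFun_def, CfsgLib.Char.indFun_def]
    have hord : ∀ x : G, orderOf (x⁻¹ * g * x) = orderOf g := fun x => by
      rw [show x⁻¹ * g * x = MulAut.conj x⁻¹ g by simp, MulEquiv.orderOf_eq]
    by_cases hg : IsPRegular p g
    · rw [if_pos hg]
      congr 1
      refine Finset.sum_congr rfl fun x _ => ?_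
      by_cases hx : x⁻¹ * g * x ∈ T
      · rw [CfsgLib.Char.extendByZero_apply_mem T _ hx, CfsgLib.Char.extendByZero_apply_mem T _ hx,
          pRegularPart_apply, if_pos (show IsPRegular p (⟨_, hx⟩ : T) by
            show ¬ p ∣ _
            rw [← Subgroup.orderOf_coe, hord]; exact hg)]
      · rw [CfsgLib.Char.extendByZero_apply_notMem T _ hx,
          CfsgLib.Char.extendByZero_apply_notMem T _ hx]
    · rw [if_neg hg, Finset.sum_eq_zero, mul_zero]
      intro x _
      by_cases hx : x⁻¹ * g * x ∈ T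
      · rw [CfsgLib.Char.extendByZero_apply_mem T _ hx, pRegularPart_apply,
          if_neg (show ¬ IsPRegular p (⟨_, hx⟩ : T) from fun h => hg (by
            show ¬ p ∣ _
            rw [← hord x, show orderOf (x⁻¹ * g * x) = orderOf (⟨_, hx⟩ : T) from
              Subgroup.orderOf_coe ⟨_, hx⟩]
            exact h))]
      · rw [CfsgLib.Char.extendByZero_apply_notMem T _ hx]
  have hrank : blockRank p B ≤ blockRank p B' := by
    have hmap : Submodule.span ℂ ((fun χ : IrrCharacter G => pRegularPart p (χ : G → ℂ)) '' B)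
        ≤ (Submodule.span ℂ ((fun χ : IrrCharacter T => pRegularPart p (χ : T → ℂ)) '' B')).map L := by
      rw [Submodule.span_le]
      rintro _ ⟨χ, hχ, rfl⟩
      obtain ⟨ψ, hψ, he⟩ := (hiff χ).1 hχ
      refine ⟨pRegularPart p (ψ : T → ℂ), Submodule.subset_span ⟨ψ, hψ, rfl⟩, ?_⟩
      rw [hreg, ← he]
    exact (Submodule.finrank_mono hmap).trans (Submodule.finrank_map_le _ _)
  have hk2 : Nat.card B ≤ Nat.card B' := by
    refine Nat.card_le_card_of_surjective f fun χ => ?_
    obtain ⟨ψ, hψ, he⟩ := (hiff χ).1 χ.2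
    exact ⟨⟨ψ, hψ⟩, Subtype.ext (Subtype.ext he.symm)⟩
  omega

end Descent

/-- The defect group is abelian. -/
theorem abelian_pSolvable [Fact p.Prime] (hM : IsPModular p M) : ∀ (n : ℕ) (G : Type u) [Group G]
    [Fintype G], Nat.card G = n → IsPSolvable p G → ∀ (B : Set (IrrCharacter G)), IsPBlock M B →
    Nat.card B ≤ blockRank p B + 1 → ∀ D : Subgroup G, IsDefectGroup p M B D →
      ∀ a ∈ D, ∀ b ∈ D, a * b = b * a := by
  intro n
  induction n using Nat.strong_induction_on with
  | _ n ih =>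
    intro G _ _ hn hs B hB hk D hD
    haveI hNn : (pPrimeCore p G).Normal := CfsgLib.Solvable.Cores.pPrimeCore_normal p
    set N := pPrimeCore p G with hN_def
    have hKp : ¬ p ∣ Nat.card N :=
      hM.1.coprime_iff_not_dvd.1 (CfsgLib.Solvable.Cores.coprime_card_pPrimeCore p).symm
    obtain ⟨χ, hχ⟩ := IsPBlock.nonempty hM hB
    obtain ⟨θ, hθ⟩ := CfsgLib.Blocks.exists_over (N := N) χ
    have hθ' : classInner (fun n : N => (χ : G → ℂ) n) (θ : N → ℂ) ≠ 0 := hθ
    have hb := (CfsgLib.Blocks.StableOver.isPBlock_singleton hM hKp θ).1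
    have hcl : ∀ n m : N, (θ : N → ℂ) (m * n * m⁻¹) = (θ : N → ℂ) n := fun n m =>
      irr_conj_apply θ n m
    let T : Subgroup G :=
      { carrier := {g | conjIrr g θ = θ}
        mul_mem' := fun {a c} (ha : conjIrr a θ = θ) (hc : conjIrr c θ = θ) => by
          show conjIrr (a * c) θ = θ
          rw [← conjIrr_mul c a θ, ha, hc]
        one_mem' := conjIrr_one θ
        inv_mem' := fun {a} (ha : conjIrr a θ = θ) => by
          show conjIrr a⁻¹ θ = θ
          conv_lhs => rw [← ha]
          rw [conjIrr_mul, mul_inv_cancel, conjIrr_one] }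
    have hT : ∀ g : G, g ∈ T ↔ ∀ φ ∈ ({θ} : Set (IrrCharacter N)),
        conjIrr g φ ∈ ({θ} : Set (IrrCharacter N)) := fun g =>
      ⟨fun h φ hφ => by rw [Set.mem_singleton_iff.1 hφ]; exact h, fun h => h θ rfl⟩
    have hNT : N ≤ T := fun x hx => by
      show conjIrr x θ = θ
      refine Subtype.ext (funext fun m => ?_)
      show CfsgLib.CharDeep.Clifford.conjFun N x (θ : N → ℂ) m = (θ : N → ℂ) m
      exact (CfsgLib.CharDeep.Clifford.conjFun_apply N x (θ : N → ℂ) m).trans
        ((congrArg (θ : N → ℂ) (Subtype.ext rfl)).trans (hcl m ⟨x, hx⟩))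
    by_cases hTtop : T = ⊤
    · have hinv : ∀ (g : G) (m : N), (θ : N → ℂ) ⟨g * m * g⁻¹, hNn.conj_mem m m.2 g⟩
          = (θ : N → ℂ) m := fun g m => by
        have h : conjIrr g θ = θ := (show g ∈ T from hTtop ▸ Subgroup.mem_top g)
        have h1 := congrFun (congrArg Subtype.val h) m
        exact (CfsgLib.CharDeep.Clifford.conjFun_apply N g (θ : N → ℂ) m).symm.trans h1
      obtain ⟨B₀, hB₀, hiff, -, hSyl⟩ :=
        Cfsg.Agent.S4492.result p M hM hs N hN_def θ hinv
      obtain rfl := IsPBlock.eq_of_mem hM hB hB₀ hχ ((hiff χ).2 hθ')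
      obtain ⟨S, rfl⟩ := hSyl D hD
      exact sylow_abelian_pSolvable hs S fun x hx y hy => isConj_of_mem hM hB hk hD hx hy
    · have hlt : Nat.card T < n := by
        rw [← hn]
        exact lt_of_le_of_ne (Subgroup.card_le_card_group T)
          fun h => hTtop (Subgroup.eq_top_of_card_eq _ h)
      obtain ⟨B', hB', hcov, hind⟩ := exists_inducing hNT hM hb hT hB ⟨χ, hχ, θ, rfl, hθ'⟩
      obtain ⟨D', hD'⟩ := exists_isDefectGroup hM hB'
      have hab := ih _ hlt T rfl (CfsgLib.Fusion.PSolvable.psolvable_subgroup hs T) B' hB'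
        (card_le_rank_add_one hNT hM hb hT hB' hcov hind hk) D' hD'
      obtain ⟨y, hy⟩ := exists_conj_eq_defectGroup hM hB
        ((defectGroup_and_height hNT hM hb hT hB' hcov hind).1 D' hD') hD
      rw [hy]
      rintro _ ⟨_, ⟨a, ha, rfl⟩, rfl⟩ _ ⟨_, ⟨c, hc, rfl⟩, rfl⟩
      rw [← map_mul, ← map_mul, ← map_mul, ← map_mul, hab a ha c hc]

end CfsgLib.DegreeTools.DeficiencyOne
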