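import Cfsg.Agent.Lib.CharDeep.ItoMichler
import Cfsg.Agent.Lib.CharDeep.CentralExt
import Cfsg.Agent.Lib.Char.CliffordCorr
import Cfsg.Agent.Lib.Fusion.PSolvable
import Cfsg.Agent.Lib.Solvable.Cores

/-!
# Derived length of a Sylow subgroup and degrees divisible by the prime
-/

namespace CfsgLib.DegreeTools.DerivedSylow

open CfsgLib CfsgLib.Char
open scoped ComplexConjugate

variable {G : Type*} [Group G] [Finite G] {p : ℕ}

theorem isIrrCharacter_hom_mul (F : G →* ℂˣ) {β : G → ℂ} (hβ : Cfsg.IsIrrCharacter G β) :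
    Cfsg.IsIrrCharacter G (fun g => (F g : ℂ) * β g) := by
  classical
  cases nonempty_fintype G
  refine IsCharacter.isIrrCharacter_of_norm_one
    (IsCharacter.mul (isCharacter_hom F) (IsIrrCharacter.isCharacter hβ)) ?_
  rw [← classInner_irr_self hβ]
  simp only [Cfsg.classInner]
  congr 1
  refine Finset.sum_congr rfl fun g _ => ?_
  have hn : ‖(F g : ℂ)‖ = 1 := by
    refine Complex.norm_eq_one_of_pow_eq_one (n := Nat.card G) ?_ Nat.card_pos.ne'
    rw [← Units.val_pow_eq_pow_val, ← map_pow, pow_card_eq_one', map_one, Units.val_one]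
  rw [map_mul, mul_mul_mul_comm, Complex.mul_conj, Complex.normSq_eq_norm_sq, hn]
  simp

theorem comm_sylow_of_degrees [Fact p.Prime] (hG : Cfsg.IsPSolvable p G)
    (h : ∀ χ : Cfsg.IrrCharacter G, ¬ p ∣ Cfsg.charDegree (χ : G → ℂ)) {Q : Subgroup G}
    (hQ : IsPGroup p Q) {a b : G} (ha : a ∈ Q) (hb : b ∈ Q) : a * b = b * a := by
  obtain ⟨P, hP⟩ := hQ.exists_le_sylow
  haveI := CharDeep.ItoMichler.normal_sylow_of_degrees p _ rfl hG P h
  exact congrArg Subtype.val
    (CharDeep.ItoMichler.comm_of_normal P h ⟨a, hP ha⟩ ⟨b, hP hb⟩)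

/-- A minimal normal `p`-subgroup is abelian. -/
theorem comm_of_minimal [Fact p.Prime] {N : Subgroup G} [hN : N.Normal] (hp : IsPGroup p N)
    (hne : N ≠ ⊥) (hmin : ∀ M : Subgroup G, M.Normal → M ≤ N → M = ⊥ ∨ M = N) :
    ∀ a b : N, a * b = b * a := by
  haveI : Group.IsNilpotent N := hp.isNilpotent
  haveI : ((Subgroup.center N).map N.subtype).Normal := inferInstance
  rcases hmin ((Subgroup.center N).map N.subtype) inferInstance (Subgroup.map_subtype_le _) with h | h
  · rw [Subgroup.map_eq_bot_iff, Subgroup.ker_subtype, le_bot_iff] at h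
    haveI : Nontrivial N := N.nontrivial_iff_ne_bot.mpr hne
    haveI := hp.center_nontrivial
    exact absurd h ((Subgroup.nontrivial_iff_ne_bot _).mp this)
  · intro a b
    have ha : (a : G) ∈ (Subgroup.center N).map N.subtype := h.symm ▸ a.2
    obtain ⟨c, hc, he⟩ := Subgroup.mem_map.mp ha
    rw [← Subtype.ext (show (c : G) = a from he)]
    exact (Subgroup.mem_center_iff.mp hc b).symm

/-- A character of degree prime to `p` of a `p`-group has a linear constituent. -/
theorem exists_linear_constituent {R : Type*} [Group R] [Fintype R] [Fact p.Prime]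
    (hR : IsPGroup p R) {η : R → ℂ} (hη : Cfsg.IsCharacter R η)
    (hd : ¬ p ∣ Cfsg.charDegree η) :
    ∃ (φ : Cfsg.IrrCharacter R) (μ : R →* ℂˣ),
      (φ : R → ℂ) = (fun r => (μ r : ℂ)) ∧ Cfsg.classInner η (φ : R → ℂ) ≠ 0 := by
  classical
  have hpp : p.Prime := Fact.out
  obtain ⟨m, hm, hexp⟩ := IsCharacter.exists_multiplicity hη
  obtain ⟨φ, hφ0, hφ1⟩ : ∃ φ : Cfsg.IrrCharacter R, m φ ≠ 0 ∧ (φ : R → ℂ) 1 = 1 := by
    by_contra hc
    push Not at hc
    apply hd
    have h1 : Cfsg.charDegree η =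
        ∑ φ : Cfsg.IrrCharacter R, m φ * Cfsg.charDegree (φ : R → ℂ) := by
      have h2 : (Cfsg.charDegree η : ℂ) =
          ((∑ φ : Cfsg.IrrCharacter R, m φ * Cfsg.charDegree (φ : R → ℂ) : ℕ) : ℂ) := by
        rw [DegreeTools.charDegree_cast hη, hexp 1]
        push_cast
        exact Finset.sum_congr rfl fun φ _ => by rw [DegreeTools.deg_cast]
      exact_mod_cast h2
    rw [h1]
    refine Finset.dvd_sum fun φ _ => ?_
    by_cases hφ : m φ = 0
    · simp [hφ]
    refine Dvd.dvd.mul_left ?_ _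
    obtain ⟨d, hd', hdd⟩ := IsIrrCharacter.apply_one_dvd_card φ.2
    obtain ⟨k, hk⟩ := hR.exists_card_eq
    rw [hk] at hdd
    obtain ⟨i, -, hi⟩ := (Nat.dvd_prime_pow hpp).mp hdd
    have hd2 : Cfsg.charDegree (φ : R → ℂ) = d := by
      have : (Cfsg.charDegree (φ : R → ℂ) : ℂ) = (d : ℂ) := by rw [DegreeTools.deg_cast, hd']
      exact_mod_cast this
    rcases i with _ | i
    · exact absurd (by rw [hd', hi]; simp) (hc φ hφ)
    · rw [hd2, hi, pow_succ]; exact dvd_mul_left p _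
  obtain ⟨μ, hμ⟩ := exists_hom_of_apply_one_eq_one (isCharacter_irr φ) hφ1
  refine ⟨φ, μ, hμ, ?_⟩
  rw [hm]
  exact_mod_cast hφ0

/-- If every character nontrivial on an abelian normal `p`-subgroup `N` has degree prime to `p`,
then the derived subgroup of a Sylow `p`-subgroup lies in `N`. -/
theorem commutator_mem [Fact p.Prime] (hG : Cfsg.IsPSolvable p G) {N : Subgroup G} [hN : N.Normal]
    (hp : IsPGroup p N) (hne : N ≠ ⊥) (hab : ∀ a b : N, a * b = b * a)
    (h : ∀ χ : Cfsg.IrrCharacter G, (∃ n ∈ N, (χ : G → ℂ) n ≠ (χ : G → ℂ) 1) →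
      ¬ p ∣ Cfsg.charDegree (χ : G → ℂ)) :
    ∃ Q : Sylow p G, ∀ a ∈ (Q : Subgroup G), ∀ b ∈ (Q : Subgroup G),
      a * b * a⁻¹ * b⁻¹ ∈ N := by
  classical
  cases nonempty_fintype G
  have hpp : p.Prime := Fact.out
  -- a nontrivial linear character of `N`
  obtain ⟨n₀, hn₀, hn1⟩ := N.bot_or_exists_ne_one.resolve_left hne
  obtain ⟨l, hl⟩ : ∃ l : Cfsg.IrrCharacter N, (l : N → ℂ) ⟨n₀, hn₀⟩ ≠ (l : N → ℂ) 1 := by
    by_contra hc
    push Not at hc
    exact hn1 (congrArg Subtype.val (eq_one_of_forall_irr hc))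
  obtain ⟨f, hf⟩ := exists_hom_of_apply_one_eq_one (isCharacter_irr l)
    (apply_one_eq_one_of_comm hab l.2)
  have hover : ∀ χ : Cfsg.IrrCharacter G,
      Cfsg.classInner (fun n : N => (χ : G → ℂ) n) (l : N → ℂ) ≠ 0 →
      ∃ n ∈ N, (χ : G → ℂ) n ≠ (χ : G → ℂ) 1 := by
    intro χ hχ
    by_contra hc
    push Not at hc
    apply hχ
    rw [show (fun n : N => (χ : G → ℂ) n) = (χ : G → ℂ) 1 • (fun _ : N => (1 : ℂ)) from
      funext fun n => by simp [hc n n.2], classInner_smul_left,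
      classInner_irr_ne isIrrCharacter_one l.2 (fun e => hl (by rw [← e])), mul_zero]
  obtain ⟨χ, hχ⟩ := CharDeep.ItoMichler.exists_over N l
  set T : Subgroup G := stab (l : N → ℂ) with hTdef
  have hT : IsInertia (l : N → ℂ) T := isInertia_stab _
  have hNT : N ≤ T := fun a ha => (hT a).mpr fun m =>
    IsIrrCharacter.isClassFunction l.2 m ⟨a, ha⟩
  obtain ⟨η, hη, hηl, hχη⟩ := exists_eq_indFun_inertia hNT l.2 hT χ.2 hχ
  have hdeg : Cfsg.charDegree (χ : G → ℂ) = T.index * Cfsg.charDegree η := by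
    have h1 : (Cfsg.charDegree (χ : G → ℂ) : ℂ) = ((T.index * Cfsg.charDegree η : ℕ) : ℂ) := by
      rw [DegreeTools.deg_cast, Nat.cast_mul,
        DegreeTools.charDegree_cast (IsIrrCharacter.isCharacter hη), hχη, indFun_one]
    exact_mod_cast h1
  have hd := h χ (hover χ hχ)
  rw [hdeg, hpp.dvd_mul] at hd
  push Not at hd
  -- a Sylow subgroup of `G` inside `T`
  let R : Sylow p T := default
  have hR : IsPGroup p ((R : Subgroup T).map T.subtype) := R.2.map _
  have hRi : ¬ p ∣ ((R : Subgroup T).map T.subtype).index := by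
    rw [Subgroup.index_map_subtype]
    intro hd'
    rcases hpp.dvd_mul.mp hd' with h1 | h1
    · exact R.not_dvd_index h1
    · exact hd.1 h1
  refine ⟨hR.toSylow hRi, fun a ha b hb => ?_⟩
  rw [IsPGroup.toSylow_coe] at ha hb
  obtain ⟨a, ha, rfl⟩ := ha
  obtain ⟨b, hb, rfl⟩ := hb
  -- the extension of `l` to `T`
  let N' : Subgroup T := N.subgroupOf T
  haveI : N'.Normal := hN.subgroupOf T
  have hN'R : N' ≤ (R : Subgroup T) := by
    have hq : IsPGroup p N' := hp.of_equiv (Subgroup.subgroupOfEquivOfLe hNT).symm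
    have hs := IsPGroup.to_sup_of_normal_right R.2 hq
    have he := R.3 hs le_sup_left
    exact le_sup_right.trans he.le
  let e : N' ≃* N := Subgroup.subgroupOfEquivOfLe hNT
  let f' : N' →* ℂˣ := f.comp e.toMonoidHom
  have hinv : ∀ (g : T) (n : N'),
      f' ⟨g * n * g⁻¹, (inferInstance : N'.Normal).conj_mem n n.2 g⟩ = f' n := by
    intro g n
    have h1 := (hT g).mp g.2 (e n)
    rw [hf] at h1
    exact Units.ext h1
  obtain ⟨μ, hμ⟩ : ∃ μ : ↥(R : Subgroup T) →* ℂˣ,
      CharDeep.CentralExt.Extends f' μ := by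
    have hηR : Cfsg.IsCharacter ↥(R : Subgroup T) (fun r : ↥(R : Subgroup T) => η r) :=
      IsCharacter.restrict (IsIrrCharacter.isCharacter hη) _
    obtain ⟨φ, μ, hμ, hφc⟩ := exists_linear_constituent R.2 hηR (by
      simpa [Cfsg.charDegree] using hd.2)
    refine ⟨μ, ?_⟩
    let ι : N' →* (R : Subgroup T) := Subgroup.inclusion hN'R
    have hψ : Cfsg.IsIrrCharacter N' (fun n => ((μ.comp ι) n : ℂ)) := isIrrCharacter_hom _
    have h3 : Cfsg.classInner (fun n : N' => η n) (fun n => ((μ.comp ι) n : ℂ)) ≠ 0 :=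
      CharDeep.Clifford.classInner_ne_zero_trans hηR φ.2 hφc ι (IsIrrCharacter.isCharacter hψ) (by
        rw [hμ, show ((fun g => (μ g : ℂ)) ∘ ι) = fun n => ((μ.comp ι) n : ℂ) from rfl,
          classInner_irr_self hψ]
        exact one_ne_zero)
    have hl' : Cfsg.IsIrrCharacter N' ((l : N → ℂ) ∘ e) := IsIrrCharacter.comp_equiv l.2 e
    obtain ⟨c, -, -, hc⟩ := CharDeep.Clifford.restrict_eq_smul N' hη hl'
      (fun h0 => hηl ((classInner_resLe hNT η (l : N → ℂ)).symm.trans h0))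
      (fun g n => (hT g).mp g.2 (e n))
    rw [hc, classInner_smul_left] at h3
    have heq : ((l : N → ℂ) ∘ e) = fun n => ((μ.comp ι) n : ℂ) := by
      by_contra hne'
      exact right_ne_zero_of_mul h3 (classInner_irr_ne hl' hψ hne')
    intro n hn
    refine Units.ext ?_
    have h4 := congrFun heq n
    rw [Function.comp_apply, hf] at h4
    exact h4.symm
  obtain ⟨F, hF⟩ := CharDeep.CentralExt.exists_extension_of_pow_eq_one f' hinv (Nat.card N')
    (fun n => by rw [← map_pow, pow_card_eq_one', map_one])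
    fun q hq hqd => by
      obtain ⟨k, hk⟩ := (hp.of_equiv e.symm).exists_card_eq
      rw [hk] at hqd
      obtain rfl := (Nat.prime_dvd_prime_iff_eq hq hpp).mp (hq.dvd_of_dvd_pow hqd)
      exact ⟨R, hN'R, R.not_dvd_index, μ, hμ⟩
  -- every character of `T ⧸ N'` has degree prime to `p`
  have hsolv : Cfsg.IsPSolvable p (T ⧸ N') :=
    CfsgLib.Fusion.PSolvable.psolvable_quotient
      (CfsgLib.Fusion.PSolvable.psolvable_subgroup hG T) N'
  have hdegs : ∀ β : Cfsg.IrrCharacter (T ⧸ N'), ¬ p ∣ Cfsg.charDegree (β : T ⧸ N' → ℂ) := by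
    intro β hβ
    have hβ' := IsIrrCharacter.comp_surjective β.2 _ (QuotientGroup.mk'_surjective N')
    set ψ : T → ℂ := fun t => (F t : ℂ) * ((β : T ⧸ N' → ℂ) ∘ QuotientGroup.mk' N') t with hψdef
    have hψ : Cfsg.IsIrrCharacter T ψ := isIrrCharacter_hom_mul F hβ'
    have hres : resLe hNT ψ = (β : T ⧸ N' → ℂ) 1 • (l : N → ℂ) := by
      funext n
      have hn' : (⟨(n : G), hNT n.2⟩ : T) ∈ N' := n.2
      show (F ⟨(n : G), hNT n.2⟩ : ℂ) *
        (β : T ⧸ N' → ℂ) (QuotientGroup.mk' N' ⟨(n : G), hNT n.2⟩) =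
          (β : T ⧸ N' → ℂ) 1 * (l : N → ℂ) n
      rw [show QuotientGroup.mk' N' ⟨(n : G), hNT n.2⟩ = 1 from
        (QuotientGroup.eq_one_iff _).mpr hn',
        show F ⟨(n : G), hNT n.2⟩ = _ from hF ⟨⟨(n : G), hNT n.2⟩, hn'⟩, hf, mul_comm]
      rfl
    have hc : Cfsg.classInner (resLe hNT ψ) (l : N → ℂ) ≠ 0 := by
      rw [hres, classInner_smul_left, classInner_irr_self l.2, mul_one]
      exact IsIrrCharacter.apply_one_ne_zero β.2
    obtain ⟨hirr, hmul⟩ := indFun_inertia hNT l.2 hT hψ hc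
    refine h ⟨_, hirr⟩ (hover ⟨_, hirr⟩ (by rw [hmul]; exact hc))
      (hβ.trans ⟨T.index, ?_⟩)
    have h1 : (Cfsg.charDegree (Cfsg.indFun T ψ) : ℂ) =
        ((Cfsg.charDegree (β : T ⧸ N' → ℂ) * T.index : ℕ) : ℂ) := by
      rw [DegreeTools.charDegree_cast (IsIrrCharacter.isCharacter hirr), Nat.cast_mul,
        DegreeTools.deg_cast, indFun_one, hψdef]
      simp [mul_comm]
    exact_mod_cast h1
  have hcomm := comm_sylow_of_degrees hsolv hdegs (R.2.map (QuotientGroup.mk' N'))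
    (Subgroup.mem_map_of_mem _ ha) (Subgroup.mem_map_of_mem _ hb)
  have h5 : a * b * a⁻¹ * b⁻¹ ∈ N' := by
    rw [← QuotientGroup.eq_one_iff, ← QuotientGroup.mk'_apply]
    simp only [map_mul, map_inv]
    rw [hcomm]; group
  exact h5

theorem derivedSeries_bot [Fact p.Prime] : ∀ (m : ℕ) (G : Type*) [Group G] [Finite G],
    Nat.card G = m → Cfsg.IsPSolvable p G → ∀ P : Sylow p G,
    derivedSeries ↥(P : Subgroup G)
      (Nat.card {χ : Cfsg.IrrCharacter G // p ∣ Cfsg.charDegree (χ : G → ℂ)} + 1) = ⊥ := by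
  intro m
  induction m using Nat.strong_induction_on with
  | _ m ih =>
  intro G _ _ hm hG P
  classical
  cases nonempty_fintype G
  rcases subsingleton_or_nontrivial G with hs | hs
  · exact Subsingleton.elim _ _
  obtain ⟨N, hN, hne, hmin⟩ : ∃ N : Subgroup G, N.Normal ∧ N ≠ ⊥ ∧
      ∀ M : Subgroup G, M.Normal → M ≤ N → M = ⊥ ∨ M = N := by
    obtain ⟨N, hN, hmin⟩ := Set.exists_min_image
      {N : Subgroup G | N.Normal ∧ N ≠ ⊥} (fun N : Subgroup G => Nat.card N)
      (Set.toFinite _) ⟨⊤, inferInstance, top_ne_bot⟩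
    refine ⟨N, hN.1, hN.2, fun M hM hMN => ?_⟩
    by_cases hb : M = ⊥
    · exact Or.inl hb
    · exact Or.inr (Subgroup.eq_of_le_of_card_ge hMN (hmin M ⟨hM, hb⟩))
  set n := Nat.card {χ : Cfsg.IrrCharacter G // p ∣ Cfsg.charDegree (χ : G → ℂ)} with hn
  set n' := Nat.card {χ : Cfsg.IrrCharacter (G ⧸ N) // p ∣ Cfsg.charDegree (χ : G ⧸ N → ℂ)}
    with hn'
  have hlt : Nat.card (G ⧸ N) < m := by
    rw [← hm, ← Subgroup.index_eq_card, ← Subgroup.index_mul_card N]
    exact lt_mul_of_one_lt_right (Nat.pos_of_ne_zero Subgroup.index_ne_zero_of_finite)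
      (N.one_lt_card_iff_ne_bot.2 hne)
  have hbar := ih _ hlt (G ⧸ N) rfl (CfsgLib.Fusion.PSolvable.psolvable_quotient hG N)
    (P.mapSurjective (QuotientGroup.mk'_surjective N))
  rw [← hn'] at hbar
  let ι : {χ : Cfsg.IrrCharacter (G ⧸ N) // p ∣ Cfsg.charDegree (χ : G ⧸ N → ℂ)} →
      {χ : Cfsg.IrrCharacter G // p ∣ Cfsg.charDegree (χ : G → ℂ)} := fun χ =>
    ⟨⟨_, IsIrrCharacter.comp_surjective χ.1.2 _ (QuotientGroup.mk'_surjective N)⟩, by
      simpa [Cfsg.charDegree] using χ.2⟩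
  have hι : Function.Injective ι := fun a b hab => Subtype.ext (Subtype.ext (funext fun q => by
    obtain ⟨g, rfl⟩ := QuotientGroup.mk'_surjective N q
    exact congrFun (congrArg (fun x => (x.1 : G → ℂ)) hab) g))
  have hle : n' ≤ n := Nat.card_le_card_of_injective ι hι
  -- the image of the derived series
  have hmemN : ∀ k, n' + 1 ≤ k → ∀ x ∈ derivedSeries ↥(P : Subgroup G) k, (x : G) ∈ N := by
    intro k hk x hx
    let φ : (P : Subgroup G) →* (P.mapSurjective (QuotientGroup.mk'_surjective N) : Subgroup (G ⧸ N)) :=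
      ((QuotientGroup.mk' N).comp (P : Subgroup G).subtype).codRestrict _ fun y => by
        rw [Sylow.coe_mapSurjective]; exact Subgroup.mem_map_of_mem _ y.2
    have h1 := map_derivedSeries_le_derivedSeries φ (n' + 1)
      (Subgroup.mem_map_of_mem φ (derivedSeries_antitone _ hk hx))
    rw [hbar, Subgroup.mem_bot] at h1
    exact (QuotientGroup.eq_one_iff _).mp (congrArg Subtype.val h1)
  have hstep : ∀ k, (∀ x ∈ derivedSeries ↥(P : Subgroup G) k, (x : G) ∈ N) →
      (∀ a b : N, a * b = b * a) → derivedSeries ↥(P : Subgroup G) (k + 1) = ⊥ := by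
    intro k hk hab
    rw [derivedSeries_succ, Subgroup.commutator_eq_bot_iff_le_centralizer]
    intro x hx
    rw [Subgroup.mem_centralizer_iff]
    intro y hy
    exact Subtype.ext (congrArg (fun z : N => (z : G)) (hab ⟨_, hk y hy⟩ ⟨_, hk x hx⟩))
  haveI := hN
  rcases CfsgLib.Fusion.PSolvable.minimal_normal_dichotomy hG N hmin with hNp | hNp
  swap
  · rw [Subgroup.eq_bot_iff_forall]
    intro x hx
    have h1 := hmemN (n + 1) (by omega) x hx
    obtain ⟨k, hk⟩ := IsPGroup.iff_orderOf.1 P.2 x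
    have h2 : orderOf (x : G) = 1 := Nat.eq_one_of_dvd_coprimes (hNp.pow_right k)
      (Subgroup.orderOf_dvd_natCard N h1) (by rw [← hk, Subgroup.orderOf_coe])
    exact Subtype.ext (orderOf_eq_one_iff.mp h2)
  have hab := comm_of_minimal hNp hne hmin
  by_cases hex : ∃ χ : Cfsg.IrrCharacter G, p ∣ Cfsg.charDegree (χ : G → ℂ) ∧
      ∃ y ∈ N, (χ : G → ℂ) y ≠ (χ : G → ℂ) 1
  · obtain ⟨χ, hχ, y, hy, hne'⟩ := hex
    have hlt' : n' < n := by
      rw [hn', hn, Nat.card_eq_fintype_card, Nat.card_eq_fintype_card]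
      refine Fintype.card_lt_of_injective_of_notMem ι hι (b := ⟨χ, hχ⟩) ?_
      rintro ⟨ψ, hψ⟩
      have h1 := congrArg (fun x => (x.1 : G → ℂ)) hψ
      apply hne'
      rw [← congrFun h1 y, ← congrFun h1 1]
      show (ψ.1 : G ⧸ N → ℂ) (QuotientGroup.mk' N y) = (ψ.1 : G ⧸ N → ℂ) (QuotientGroup.mk' N 1)
      rw [show QuotientGroup.mk' N y = 1 from (QuotientGroup.eq_one_iff _).mpr hy, map_one]
    exact le_bot_iff.mp ((derivedSeries_antitone _ (by omega : n' + 1 + 1 ≤ n + 1)).trans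
      (hstep (n' + 1) (hmemN (n' + 1) le_rfl) hab).le)
  push Not at hex
  rcases Nat.eq_zero_or_pos n with h0 | h0
  · have hall : ∀ χ : Cfsg.IrrCharacter G, ¬ p ∣ Cfsg.charDegree (χ : G → ℂ) := fun χ hχ =>
      Finite.card_pos_iff.mpr ⟨⟨χ, hχ⟩⟩ |>.ne' h0
    rw [h0, derivedSeries_succ, derivedSeries_zero, Subgroup.commutator_eq_bot_iff_le_centralizer]
    intro x _
    exact Subgroup.mem_centralizer_iff.mpr fun y _ =>
      Subtype.ext (comm_sylow_of_degrees hG hall P.2 y.2 x.2)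
  obtain ⟨Q, hQ⟩ := commutator_mem hG hNp hne hab fun χ ⟨y, hy, h1⟩ hd => h1 (hex χ hd y hy)
  obtain ⟨g, hg⟩ := MulAction.exists_smul_eq G Q P
  have h1 : ∀ x ∈ derivedSeries ↥(P : Subgroup G) 1, (x : G) ∈ N := by
    intro x hx
    have : derivedSeries ↥(P : Subgroup G) 1 ≤ N.subgroupOf (P : Subgroup G) := by
      rw [derivedSeries_succ, derivedSeries_zero, Subgroup.commutator_le]
      intro a _ b _
      rw [Subgroup.mem_subgroupOf, commutatorElement_def]
      have hmem : ∀ y : (P : Subgroup G), g⁻¹ * (y : G) * g ∈ (Q : Subgroup G) := fun y => by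
        have hy := y.2
        have hy' : (y : G) ∈ ((g • Q : Sylow p G) : Subgroup G) := hg.symm ▸ hy
        rw [Sylow.coe_subgroup_smul, Subgroup.mem_pointwise_smul_iff_inv_smul_mem] at hy'
        simpa [MulAut.conj_apply, mul_assoc] using hy'
      have h2 := hN.conj_mem _ (hQ _ (hmem a) _ (hmem b)) g
      push_cast
      convert h2 using 1
      group
    exact this hx
  exact le_bot_iff.mp ((derivedSeries_antitone _ (by omega : 1 + 1 ≤ n + 1)).trans
    (hstep 1 h1 hab).le)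

end CfsgLib.DegreeTools.DerivedSylow
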