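import Cfsg.Agent.Lib.DegreeTools.CentralSupport
import Cfsg.Agent.Lib.Frobenius.IndexP
import Cfsg.Agent.Lib.Solvable.FrattiniFitting
import Cfsg.Agent.Lib.Solvable.SupersolvableCriteria

/-!
# `p`-groups whose characters of equal degree are Galois conjugate
-/

namespace CfsgLib.DegreeTools.EqualDegree

open CfsgLib CfsgLib.Char
open scoped commutatorElement

/-- Irreducible nonlinear characters of equal degree are Galois conjugate. -/
def Conjugate (P : Type*) [Group P] : Prop :=
  ∀ χ ψ : Cfsg.IrrCharacter P, Cfsg.charDegree (χ : P → ℂ) ≠ 1 →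
    Cfsg.charDegree (χ : P → ℂ) = Cfsg.charDegree (ψ : P → ℂ) →
      ∃ k : ℕ, Nat.Coprime k (Nat.card P) ∧ ∀ g : P, (ψ : P → ℂ) g = (χ : P → ℂ) (g ^ k)

variable {P : Type*} [Group P] [Finite P]

theorem pow_pow_of_coprime {k : ℕ} (hk : Nat.Coprime k (Nat.card P)) (g : P) :
    ∃ l : ℕ, (g ^ k) ^ l = g := by
  have hk' : Nat.Coprime k (orderOf g) := Nat.Coprime.coprime_dvd_right (orderOf_dvd_natCard g) hk
  exact exists_pow_eq_self_of_coprime hk'

/-- Galois conjugate characters have the same kernel. -/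
theorem Conjugate.ker_iff (H : Conjugate P) {χ ψ : Cfsg.IrrCharacter P}
    (h1 : Cfsg.charDegree (χ : P → ℂ) ≠ 1)
    (hd : Cfsg.charDegree (χ : P → ℂ) = Cfsg.charDegree (ψ : P → ℂ)) (g : P) :
    (ψ : P → ℂ) g = (ψ : P → ℂ) 1 ↔ (χ : P → ℂ) g = (χ : P → ℂ) 1 := by
  obtain ⟨k, hk, he⟩ := H χ ψ h1 hd
  rw [he g, he 1, one_pow]
  refine ⟨fun h => ?_, fun h => ?_⟩
  · obtain ⟨l, hl⟩ := pow_pow_of_coprime hk g
    rw [← hl]
    exact (mem_charKer (isCharacter_irr χ)).mp
      (pow_mem ((mem_charKer (isCharacter_irr χ)).mpr h) l)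
  · exact (mem_charKer (isCharacter_irr χ)).mp
      (pow_mem ((mem_charKer (isCharacter_irr χ)).mpr h) k)

theorem Conjugate.quotient (H : Conjugate P) (K : Subgroup P) [K.Normal] :
    Conjugate (P ⧸ K) := by
  intro χ ψ h1 hd
  let χ' : Cfsg.IrrCharacter P := ⟨(χ : P ⧸ K → ℂ) ∘ QuotientGroup.mk' K,
    IsIrrCharacter.comp_surjective χ.2 _ (QuotientGroup.mk'_surjective K)⟩
  let ψ' : Cfsg.IrrCharacter P := ⟨(ψ : P ⧸ K → ℂ) ∘ QuotientGroup.mk' K,
    IsIrrCharacter.comp_surjective ψ.2 _ (QuotientGroup.mk'_surjective K)⟩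
  obtain ⟨k, hk, he⟩ := H χ' ψ' (by simpa [χ', Cfsg.charDegree] using h1)
    (by simpa [χ', ψ', Cfsg.charDegree] using hd)
  refine ⟨k, Nat.Coprime.coprime_dvd_right K.card_quotient_dvd_card hk, fun g => ?_⟩
  obtain ⟨x, rfl⟩ := QuotientGroup.mk'_surjective K g
  simpa [χ', ψ', map_pow] using he x

variable {p : ℕ} [hp : Fact p.Prime]

theorem eq_zpowers_of_mem {C : Subgroup P} (hC : Nat.card C = p) {c : P} (hc : c ∈ C)
    (hc1 : c ≠ 1) : Subgroup.zpowers c = C := by
  have hle : Subgroup.zpowers c ≤ C := Subgroup.zpowers_le.mpr hc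
  refine Subgroup.eq_of_le_of_card_ge hle ?_
  rcases (Nat.dvd_prime hp.out).mp (hC ▸ Subgroup.card_dvd_of_le hle) with h | h
  · rw [Nat.card_zpowers, orderOf_eq_one_iff] at h
    exact absurd h hc1
  · omega

theorem mem_commutator' (a b : P) : ⁅a, b⁆ ∈ commutator P := by
  rw [commutator_def]
  exact Subgroup.commutator_mem_commutator (Subgroup.mem_top a) (Subgroup.mem_top b)

theorem commutator_pow_of_comm {g h : P} (hc : Commute ⁅h, g⁆ g) (n : ℕ) :
    ⁅h, g ^ n⁆ = ⁅h, g⁆ ^ n := by
  rw [commutatorElement_def h (g ^ n), ← conj_pow, show h * g * h⁻¹ = ⁅h, g⁆ * g by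
    rw [commutatorElement_def]; group, hc.mul_pow, mul_inv_cancel_right]

omit [Finite P] in
theorem normal_of_central' {K : Subgroup P} (h : K ≤ Subgroup.center P) : K.Normal :=
  ⟨fun n hn g => by rwa [Subgroup.mem_center_iff.mp (h hn) g, mul_inv_cancel_right]⟩

/-- If the derived subgroup has order `p`, nonlinear characters are supported on the centre. -/
theorem vanish_of_card_commutator (hP : IsPGroup p P) (hc : Nat.card (commutator P) = p)
    (χ : Cfsg.IrrCharacter P) (h1 : Cfsg.charDegree (χ : P → ℂ) ≠ 1) {g : P}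
    (hg : g ∉ Subgroup.center P) : (χ : P → ℂ) g = 0 := by
  have hle := Frobenius.IndexP.le_center_of_card hP hc
  rw [Subgroup.mem_center_iff] at hg
  push Not at hg
  obtain ⟨h, hh⟩ := hg
  refine vanish_of_commutator χ (h := h) (hle (mem_commutator' h g)) fun e => ?_
  have hne : ⁅h, g⁆ ≠ 1 := fun e' => hh (commutatorElement_eq_one_iff_mul_comm.mp e')
  obtain ⟨a, b, hab⟩ := exists_commutator_apply_ne χ h1
  have hgen : ⁅a, b⁆ ∈ Subgroup.zpowers ⁅h, g⁆ := by
    rw [eq_zpowers_of_mem hc (mem_commutator' h g) hne]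
    exact mem_commutator' a b
  exact hab ((mem_charKer (isCharacter_irr χ)).mp (Subgroup.zpowers_le.mpr
    ((mem_charKer (isCharacter_irr χ)).mpr e) hgen))

theorem deg_sq_of_card_commutator (hP : IsPGroup p P) (hc : Nat.card (commutator P) = p)
    (χ : Cfsg.IrrCharacter P) (h1 : Cfsg.charDegree (χ : P → ℂ) ≠ 1) :
    Cfsg.charDegree (χ : P → ℂ) ^ 2 * Nat.card (Subgroup.center P) = Nat.card P :=
  deg_sq_mul_card_center_eq χ fun _ hg => vanish_of_card_commutator hP hc χ h1 hg

theorem deg_eq_of_card_commutator (hP : IsPGroup p P) (hc : Nat.card (commutator P) = p)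
    (χ ψ : Cfsg.IrrCharacter P) (h1 : Cfsg.charDegree (χ : P → ℂ) ≠ 1)
    (h2 : Cfsg.charDegree (ψ : P → ℂ) ≠ 1) :
    Cfsg.charDegree (χ : P → ℂ) = Cfsg.charDegree (ψ : P → ℂ) :=
  Nat.pow_left_injective two_ne_zero (Nat.eq_of_mul_eq_mul_right Nat.card_pos
    ((deg_sq_of_card_commutator hP hc χ h1).trans (deg_sq_of_card_commutator hP hc ψ h2).symm))

theorem commutator_ne_bot (hc : Nat.card (commutator P) = p) : commutator P ≠ ⊥ := by
  intro h
  rw [h, Subgroup.card_bot] at hc
  exact hp.out.ne_one hc.symm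

theorem exists_nonlinear (hc : Nat.card (commutator P) = p) :
    ∃ χ : Cfsg.IrrCharacter P, Cfsg.charDegree (χ : P → ℂ) ≠ 1 := by
  obtain ⟨z, hz, hz1⟩ := (commutator P).bot_or_exists_ne_one.resolve_left (commutator_ne_bot hc)
  obtain ⟨χ, -, k, hk, hne⟩ := exists_nontrivial_on (commutator P) (commutator_ne_bot hc) hz1
  exact ⟨χ, deg_ne_one_of_apply_ne χ hk hne⟩

theorem isCyclic_center (hP : IsPGroup p P) (H : Conjugate P)
    (hc : Nat.card (commutator P) = p) : IsCyclic (Subgroup.center P) := by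
  obtain ⟨χ, hχ⟩ := exists_nonlinear hc
  refine isCyclic_center_of_faithful χ fun g hg => ?_
  by_contra hg1
  obtain ⟨ψ, hψg, k, hk, hne⟩ := exists_nontrivial_on (commutator P) (commutator_ne_bot hc) hg1
  exact hψg ((H.ker_iff hχ (deg_eq_of_card_commutator hP hc χ ψ hχ
    (deg_ne_one_of_apply_ne ψ hk hne)) g).mpr hg)

/-- The converse: with cyclic centre and derived subgroup of order `p`. -/
theorem conjugate_of_cyclic (hP : IsPGroup p P) (hc : Nat.card (commutator P) = p)
    (hZ : IsCyclic (Subgroup.center P)) : Conjugate P := by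
  intro χ ψ h1 hd
  have h2 : Cfsg.charDegree (ψ : P → ℂ) ≠ 1 := hd ▸ h1
  have hle := Frobenius.IndexP.le_center_of_card hP hc
  obtain ⟨z0, hz0⟩ := hZ.exists_generator
  set m := Nat.card (Subgroup.center P) with hm
  have hz0o : orderOf z0 = m := orderOf_eq_card_of_forall_mem_zpowers hz0
  obtain ⟨n, hn⟩ := IsPGroup.iff_card.mp hP
  obtain ⟨j, -, hj⟩ := (Nat.dvd_prime_pow hp.out).mp
    (hn ▸ (Subgroup.center P).card_subgroup_dvd_card)
  have hpm : p ∣ m := by
    have := Subgroup.card_dvd_of_le hle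
    rwa [hc] at this
  -- a nonlinear character is faithful on the centre
  have hinj : ∀ φ : Cfsg.IrrCharacter P, Cfsg.charDegree (φ : P → ℂ) ≠ 1 →
      IsPrimitiveRoot (centralHom φ z0) m := by
    intro φ hφ
    refine IsPrimitiveRoot.mk_of_lt _ Nat.card_pos (centralHom_pow_card φ z0) fun l hl0 hlm he => ?_
    obtain ⟨a, b, hab⟩ := exists_commutator_apply_ne φ hφ
    let K : Subgroup P := charKer (isCharacter_irr φ) ⊓ Subgroup.center P
    have hKc : ((z0 : P)) ^ l ∈ K := by
      refine ⟨(mem_charKer _).mpr ?_, pow_mem z0.2 l⟩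
      have := apply_center_eq φ (z0 ^ l)
      rw [map_pow, he, one_mul] at this
      simpa using this
    have hne : ((z0 : P)) ^ l ≠ 1 := by
      intro e
      have : z0 ^ l = 1 := Subtype.ext (by simpa using e)
      exact absurd (Nat.le_of_dvd hl0 (hz0o ▸ orderOf_dvd_of_pow_eq_one this)) (not_le.mpr hlm)
    -- an element of order `p` in the cyclic group generated by `z0 ^ l` lies in the derived group
    set y := (z0 : P) ^ l with hy
    obtain ⟨i, hi⟩ := IsPGroup.iff_orderOf.mp hP y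
    have hi0 : i ≠ 0 := fun h => hne (orderOf_eq_one_iff.mp (by rw [hi, h, pow_zero]))
    have hwo : orderOf (y ^ p ^ (i - 1)) = p := by
      rw [orderOf_pow' _ (pow_ne_zero _ hp.out.ne_zero), hi,
        Nat.gcd_eq_right (pow_dvd_pow p (by omega)), Nat.pow_div (by omega) hp.out.pos,
        show i - (i - 1) = 1 by omega, pow_one]
    have hwD : y ^ p ^ (i - 1) ∈ commutator P := by
      -- the centre has a unique subgroup of order `p`
      haveI := hZ
      rw [Solvable.SupersolvableCriteria.eq_of_card_eq_of_le_cyclic hle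
        (Subgroup.zpowers_le.mpr (pow_mem hKc.2 (p ^ (i - 1)))) (by rw [hc, Nat.card_zpowers, hwo])]
      exact Subgroup.mem_zpowers _
    refine hab ((mem_charKer (isCharacter_irr φ)).mp ?_)
    have hgen : ⁅a, b⁆ ∈ Subgroup.zpowers (y ^ p ^ (i - 1)) := by
      rw [eq_zpowers_of_mem hc hwD fun e => hp.out.ne_one (by rw [← hwo, e, orderOf_one])]
      exact mem_commutator' a b
    exact Subgroup.zpowers_le.mpr (pow_mem hKc.1 _) hgen
  obtain ⟨k, -, hk⟩ := (hinj χ h1).eq_pow_of_pow_eq_one (centralHom_pow_card ψ z0)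
  have hkm : Nat.Coprime k m := ((hinj χ h1).pow_iff_coprime Nat.card_pos k).mp (hk ▸ hinj ψ h2)
  have hkp : Nat.Coprime k (Nat.card P) := by
    rw [hn]
    exact Nat.Coprime.pow_right n (Nat.Coprime.coprime_dvd_right hpm hkm)
  refine ⟨k, hkp, fun g => ?_⟩
  by_cases hg : g ∈ Subgroup.center P
  · obtain ⟨l, hl⟩ := (mem_powers_iff_mem_zpowers.mpr (hz0 ⟨g, hg⟩) :
      (⟨g, hg⟩ : Subgroup.center P) ∈ Submonoid.powers z0)
    have hl : z0 ^ l = ⟨g, hg⟩ := hl
    have e1 := apply_center_eq ψ ⟨g, hg⟩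
    have e2 := apply_center_eq χ (⟨g, hg⟩ ^ k)
    rw [← hl, map_pow, ← hk, ← deg_cast, ← hd, deg_cast, ← pow_mul] at e1
    rw [← hl, ← pow_mul, map_pow, mul_comm l k] at e2
    have hg' : g = (z0 : P) ^ l := by simpa using (congrArg Subtype.val hl).symm
    simp only [Subgroup.coe_pow] at e1 e2
    rw [hg', ← pow_mul, mul_comm l k]
    exact e1.trans e2.symm
  · have hgk : g ^ k ∉ Subgroup.center P := fun h => hg (by
      obtain ⟨l, hl⟩ := pow_pow_of_coprime hkp g
      rw [← hl]; exact pow_mem h l)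
    rw [vanish_of_card_commutator hP hc ψ h2 hg, vanish_of_card_commutator hP hc χ h1 hgk]

/-- Characters trivial on a normal subgroup: the sum of the squared degrees. -/
theorem sum_deg_sq_trivial_on (K : Subgroup P) [K.Normal]
    [DecidablePred fun χ : Cfsg.IrrCharacter P => ∀ n ∈ K, (χ : P → ℂ) n = (χ : P → ℂ) 1] :
    ∑ χ ∈ (Finset.univ : Finset (Cfsg.IrrCharacter P)).filter
      (fun χ : Cfsg.IrrCharacter P => ∀ n ∈ K, (χ : P → ℂ) n = (χ : P → ℂ) 1),
      Cfsg.charDegree (χ : P → ℂ) ^ 2 = Nat.card (P ⧸ K) := by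
  classical
  rw [← sum_deg_sq (G := P ⧸ K), Finset.sum_subtype _ (p := fun χ : Cfsg.IrrCharacter P =>
    ∀ n ∈ K, (χ : P → ℂ) n = (χ : P → ℂ) 1) (fun χ => by simp)]
  refine (Fintype.sum_equiv (irrQuotientEquiv K) _ _ fun ψ => ?_).symm
  simp [irrQuotientEquiv, Cfsg.charDegree]

/-- Facts about the quotient by a central subgroup of order `p` in the derived subgroup of order
`p²`. -/
theorem quotient_facts (hP : IsPGroup p P) (H : Conjugate P)
    (hc : Nat.card (commutator P) = p ^ 2) (K : Subgroup P) [K.Normal]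
    (hKc : K ≤ Subgroup.center P) (hK : Nat.card K = p) (hKD : K ≤ commutator P) :
    ∃ (R : Subgroup P) (χ : Cfsg.IrrCharacter P),
      (∀ g, g ∈ R ↔ ∀ h, ⁅g, h⁆ ∈ K) ∧ Cfsg.charDegree (χ : P → ℂ) ≠ 1 ∧
      (∀ n ∈ K, (χ : P → ℂ) n = (χ : P → ℂ) 1) ∧
      Cfsg.charDegree (χ : P → ℂ) ^ 2 * Nat.card R = Nat.card P ∧
      Subgroup.center P ≤ R ∧ commutator P ≤ R ∧
      (Nat.card R = Nat.card (Subgroup.center P) ∨
        Nat.card R = p * Nat.card (Subgroup.center P)) := by
  classical
  set f := QuotientGroup.mk' K with hf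
  have hQ : IsPGroup p (P ⧸ K) := hP.to_quotient K
  have hcQ : Nat.card (commutator (P ⧸ K)) = p := by
    have hmap : (commutator P).map f = commutator (P ⧸ K) := by
      rw [commutator_def, commutator_def, Subgroup.map_commutator,
        Subgroup.map_top_of_surjective f (QuotientGroup.mk'_surjective K)]
    have hcard : Nat.card ((commutator P).map f) * Nat.card K = Nat.card (commutator P) := by
      have h1 := Subgroup.card_mul_index (f.ker.subgroupOf (commutator P))
      rw [← Subgroup.relIndex, Subgroup.relIndex_ker, hf, QuotientGroup.ker_mk',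
        Nat.card_congr (Subgroup.subgroupOfEquivOfLe hKD).toEquiv] at h1
      rw [mul_comm, ← h1]
    rw [hmap, hK, hc, pow_two] at hcard
    exact Nat.eq_of_mul_eq_mul_right hp.out.pos hcard
  have hcyc := isCyclic_center hQ (H.quotient K) hcQ
  obtain ⟨ψ, hψ⟩ := exists_nonlinear hcQ
  set R := (Subgroup.center (P ⧸ K)).comap f with hR
  have hmem : ∀ g, g ∈ R ↔ ∀ h, ⁅g, h⁆ ∈ K := by
    intro g
    rw [hR, Subgroup.mem_comap, Subgroup.mem_center_iff]
    constructor
    · intro hg h
      rw [← QuotientGroup.eq_one_iff, ← QuotientGroup.mk'_apply, ← hf, map_commutatorElement,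
        commutatorElement_eq_one_iff_mul_comm]
      exact (hg (f h)).symm
    · intro hg q
      obtain ⟨h, rfl⟩ := QuotientGroup.mk'_surjective K q
      rw [eq_comm, ← commutatorElement_eq_one_iff_mul_comm, ← map_commutatorElement,
        QuotientGroup.mk'_apply, QuotientGroup.eq_one_iff]
      exact hg h
  have hZR : Subgroup.center P ≤ R := fun g hg => (hmem g).mpr fun h => by
    rw [commutatorElement_eq_one_iff_mul_comm.mpr (Subgroup.mem_center_iff.mp hg h).symm]
    exact K.one_mem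
  have hKR : K ≤ R := hKc.trans hZR
  have hDR : commutator P ≤ R := fun g hg => by
    rw [hR, Subgroup.mem_comap]
    refine Frobenius.IndexP.le_center_of_card hQ hcQ ?_
    rw [commutator_def, ← Subgroup.map_top_of_surjective f (QuotientGroup.mk'_surjective K),
      ← Subgroup.map_commutator, ← commutator_def]
    exact Subgroup.mem_map_of_mem f hg
  let χ : Cfsg.IrrCharacter P := ⟨(ψ : P ⧸ K → ℂ) ∘ f,
    IsIrrCharacter.comp_surjective ψ.2 _ (QuotientGroup.mk'_surjective K)⟩
  have hdeg : Cfsg.charDegree (χ : P → ℂ) = Cfsg.charDegree (ψ : P ⧸ K → ℂ) := by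
    simp [χ, Cfsg.charDegree]
  have hcardR : Nat.card R = Nat.card K * Nat.card (Subgroup.center (P ⧸ K)) := by
    have h1 := Subgroup.card_mul_index R
    have h2 : R.index = (Subgroup.center (P ⧸ K)).index :=
      Subgroup.index_comap_of_surjective _ (QuotientGroup.mk'_surjective K)
    have h3 := Subgroup.card_mul_index (Subgroup.center (P ⧸ K))
    have h4 := Subgroup.card_eq_card_quotient_mul_card_subgroup K
    refine Nat.eq_of_mul_eq_mul_right (Subgroup.index_ne_zero_of_finite (H := R)).bot_lt ?_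
    rw [h1, h2, mul_assoc, h3, h4, mul_comm]
  refine ⟨R, χ, hmem, by rw [hdeg]; exact hψ, fun n hn => ?_, ?_, hZR, hDR, ?_⟩
  · simp [χ, hf, (QuotientGroup.eq_one_iff n).mpr hn]
  · rw [hdeg, hcardR, mul_left_comm, deg_sq_of_card_commutator hQ hcQ ψ hψ,
      Subgroup.card_eq_card_quotient_mul_card_subgroup K, mul_comm]
  -- `R` over the centre has order at most `p`
  obtain ⟨q0, hq0⟩ := hcyc.exists_generator
  obtain ⟨g0, hg0⟩ := QuotientGroup.mk'_surjective K (q0 : P ⧸ K)
  have hg0R : g0 ∈ R := by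
    rw [hR, Subgroup.mem_comap, hf, hg0]
    exact q0.2
  have hg0p : g0 ^ p ∈ Subgroup.center P := by
    rw [Subgroup.mem_center_iff]
    intro h
    rw [← commutatorElement_eq_one_iff_mul_comm, commutator_pow_of_comm]
    · have hm : ⁅h, g0⁆ ∈ K := by
        rw [← commutatorElement_inv]; exact K.inv_mem ((hmem g0).mp hg0R h)
      have := pow_card_eq_one' (G := K) (x := ⟨_, hm⟩)
      rw [hK] at this
      exact congrArg Subtype.val this
    · have hm : ⁅h, g0⁆ ∈ K := by
        rw [← commutatorElement_inv]; exact K.inv_mem ((hmem g0).mp hg0R h)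
      exact (Subgroup.mem_center_iff.mp (hKc hm) g0).symm
  have hsub : ∀ g ∈ R, ∃ (i : Fin p) (z : Subgroup.center P), g = g0 ^ (i : ℕ) * z := by
    intro g hg
    obtain ⟨l, hl⟩ := (mem_powers_iff_mem_zpowers.mpr (hq0 ⟨f g, hg⟩) :
      (⟨f g, hg⟩ : Subgroup.center (P ⧸ K)) ∈ Submonoid.powers q0)
    have hl : f g0 ^ l = f g := by
      rw [hg0]
      simpa using congrArg Subtype.val hl
    rw [← map_pow] at hl
    have hk : (g0 ^ l)⁻¹ * g ∈ K := QuotientGroup.eq.mp hl
    refine ⟨⟨l % p, Nat.mod_lt _ hp.out.pos⟩,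
      ⟨(g0 ^ p) ^ (l / p) * ((g0 ^ l)⁻¹ * g), mul_mem (pow_mem hg0p _) (hKc hk)⟩, ?_⟩
    show g = g0 ^ (l % p) * ((g0 ^ p) ^ (l / p) * ((g0 ^ l)⁻¹ * g))
    rw [← mul_assoc, ← pow_mul, ← pow_add, Nat.mod_add_div, mul_inv_cancel_left]
  have hle : Nat.card R ≤ p * Nat.card (Subgroup.center P) := by
    have h := Nat.card_le_card_of_surjective (α := Fin p × Subgroup.center P) (β := R)
      (fun x => ⟨g0 ^ (x.1 : ℕ) * x.2, mul_mem (pow_mem hg0R _) (hZR x.2.2)⟩)
      fun g => by
        obtain ⟨i, z, e⟩ := hsub g g.2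
        exact ⟨(i, z), Subtype.ext e.symm⟩
    simpa using h
  obtain ⟨c, hcdvd⟩ := Subgroup.card_dvd_of_le hZR
  obtain ⟨n, hn⟩ := IsPGroup.iff_card.mp hP
  have hcn : c ∣ p ^ n := hn ▸ (hcdvd ▸ dvd_mul_left c _).trans R.card_subgroup_dvd_card
  obtain ⟨e, -, rfl⟩ := (Nat.dvd_prime_pow hp.out).mp hcn
  have he : e ≤ 1 := by
    by_contra he
    rw [hcdvd, mul_comm p] at hle
    have h2 : p ^ 2 ≤ p ^ e := Nat.pow_le_pow_right hp.out.pos (by omega)
    have h3 := Nat.le_of_mul_le_mul_left hle Nat.card_pos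
    have := hp.out.two_le
    nlinarith
  interval_cases e
  · left; rw [hcdvd, pow_zero, mul_one]
  · right; rw [hcdvd, pow_one, mul_comm]

/-- Derived subgroup of order `p²`: the central case. -/
theorem false_of_central (hP : IsPGroup p P) (H : Conjugate P)
    (hc : Nat.card (commutator P) = p ^ 2) (hD : commutator P ≤ Subgroup.center P) : False := by
  classical
  have horder : ∀ {c : P}, c ∈ commutator P → c ≠ 1 → c ^ p = 1 → orderOf c = p :=
    fun _ h1 hpow => orderOf_eq_prime hpow h1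
  by_cases hexp : ∀ a b : P, ⁅a, b⁆ ^ p = 1
  · -- elementary abelian
    obtain ⟨a, b, hab⟩ : ∃ a b : P, ⁅a, b⁆ ≠ 1 := by
      by_contra h
      push Not at h
      have : commutator P = ⊥ := by
        rw [eq_bot_iff, commutator_def, Subgroup.commutator_le]
        exact fun x _ y _ => Subgroup.mem_bot.mpr (h x y)
      rw [this, Subgroup.card_bot] at hc
      exact absurd hc.symm (Nat.one_lt_pow two_ne_zero hp.out.one_lt).ne'
    set K := Subgroup.zpowers ⁅a, b⁆
    have hKcard : Nat.card K = p := by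
      rw [Nat.card_zpowers, horder (mem_commutator' a b) hab (hexp a b)]
    obtain ⟨a', b', hab'⟩ : ∃ a' b' : P, ⁅a', b'⁆ ∉ K := by
      by_contra h
      push Not at h
      have : commutator P ≤ K := by
        rw [commutator_def, Subgroup.commutator_le]
        exact fun x _ y _ => h x y
      have := Nat.le_of_dvd Nat.card_pos (Subgroup.card_dvd_of_le this)
      rw [hc, hKcard] at this
      have := hp.out.two_le
      nlinarith
    set K' := Subgroup.zpowers ⁅a', b'⁆
    have hne' : ⁅a', b'⁆ ≠ 1 := fun e => hab' (e ▸ K.one_mem)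
    have hK'card : Nat.card K' = p := by
      rw [Nat.card_zpowers, horder (mem_commutator' a' b') hne' (hexp a' b')]
    have hKle : K ≤ commutator P := Subgroup.zpowers_le.mpr (mem_commutator' a b)
    have hK'le : K' ≤ commutator P := Subgroup.zpowers_le.mpr (mem_commutator' a' b')
    haveI : K.Normal := normal_of_central' (hKle.trans hD)
    haveI : K'.Normal := normal_of_central' (hK'le.trans hD)
    obtain ⟨R, χ, -, hχ1, hχK, hχR, -, -, hR⟩ :=
      quotient_facts hP H hc K (hKle.trans hD) hKcard hKle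
    obtain ⟨R', χ', -, hχ'1, hχ'K, hχ'R, -, -, hR'⟩ :=
      quotient_facts hP H hc K' (hK'le.trans hD) hK'card hK'le
    have hdd : Cfsg.charDegree (χ : P → ℂ) = Cfsg.charDegree (χ' : P → ℂ) := by
      have hpow : ∀ φ : Cfsg.IrrCharacter P, ∃ j, Cfsg.charDegree (φ : P → ℂ) = p ^ j := by
        intro φ
        obtain ⟨n, hn⟩ := IsPGroup.iff_card.mp hP
        obtain ⟨j, -, hj⟩ := (Nat.dvd_prime_pow hp.out).mp (hn ▸ deg_dvd_card φ)
        exact ⟨j, hj⟩
      obtain ⟨j, hj⟩ := hpow χ
      obtain ⟨j', hj'⟩ := hpow χ'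
      have hz : 0 < Nat.card (Subgroup.center P) := Nat.card_pos
      rw [hj] at hχR ⊢
      rw [hj'] at hχ'R ⊢
      have e := hχR.trans hχ'R.symm
      rw [← pow_mul, ← pow_mul] at e
      rcases hR with hR | hR <;> rcases hR' with hR' | hR' <;> rw [hR, hR'] at e
      · have := Nat.pow_right_injective hp.out.two_le (Nat.eq_of_mul_eq_mul_right hz e)
        rw [show j = j' by omega]
      · rw [← mul_assoc, ← pow_succ] at e
        have := Nat.pow_right_injective hp.out.two_le (Nat.eq_of_mul_eq_mul_right hz e)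
        omega
      · rw [← mul_assoc, ← pow_succ] at e
        have := Nat.pow_right_injective hp.out.two_le (Nat.eq_of_mul_eq_mul_right hz e)
        omega
      · rw [← mul_assoc, ← mul_assoc, ← pow_succ, ← pow_succ] at e
        have := Nat.pow_right_injective hp.out.two_le (Nat.eq_of_mul_eq_mul_right hz e)
        rw [show j = j' by omega]
    -- the common kernel contains the derived subgroup
    haveI := charKer_normal (isCharacter_irr χ)
    set M := charKer (isCharacter_irr χ) ⊓ commutator P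
    have hKM : K ≤ M := le_inf (fun n hn => (mem_charKer _).mpr (hχK n hn)) hKle
    have ha' : ⁅a', b'⁆ ∈ M := ⟨(mem_charKer _).mpr
      ((H.ker_iff hχ1 hdd _).mp (hχ'K _ (Subgroup.mem_zpowers _))), mem_commutator' a' b'⟩
    have hMc : Nat.card M = p ^ 2 := by
      obtain ⟨e, he2, hMe⟩ := (Nat.dvd_prime_pow hp.out).mp
        (hc ▸ Subgroup.card_dvd_of_le (inf_le_right : M ≤ commutator P))
      interval_cases e
      · rw [pow_zero, Subgroup.card_eq_one] at hMe
        exact absurd (Subgroup.mem_bot.mp (hMe ▸ ha')) hne'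
      · rw [pow_one] at hMe
        exact absurd (Subgroup.eq_of_le_of_card_ge hKM (by rw [hMe, hKcard]) ▸ ha') hab'
      · exact hMe
    obtain ⟨x, y, hxy⟩ := exists_commutator_apply_ne χ hχ1
    have hMD : M = commutator P :=
      Subgroup.eq_of_le_of_card_ge inf_le_right (by rw [hMc, hc])
    exact hxy ((mem_charKer _).mp (hMD ▸ mem_commutator' x y : ⁅x, y⁆ ∈ M).1)
  · -- cyclic
    push Not at hexp
    obtain ⟨g, h, hgh⟩ := hexp
    have hmem := mem_commutator' g h
    set z := ⁅g, h⁆ with hz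
    have hzo : orderOf z = p ^ 2 := by
      obtain ⟨e, he, hze⟩ := (Nat.dvd_prime_pow hp.out).mp
        (hc ▸ Subgroup.orderOf_dvd_natCard (commutator P) hmem)
      interval_cases e
      · exact absurd (show z ^ p = 1 by rw [orderOf_eq_one_iff.mp (hze.trans (pow_zero p)), one_pow]) hgh
      · exact absurd (orderOf_dvd_iff_pow_eq_one.mp (by rw [hze, pow_one])) hgh
      · exact hze
    have hDz : commutator P = Subgroup.zpowers z :=
      (Subgroup.eq_of_le_of_card_ge (Subgroup.zpowers_le.mpr hmem)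
        (by rw [Nat.card_zpowers, hzo, hc])).symm
    set K := Subgroup.zpowers (z ^ p)
    have hKle : K ≤ commutator P := Subgroup.zpowers_le.mpr (pow_mem hmem _)
    haveI : K.Normal := normal_of_central' (hKle.trans hD)
    have hKcard : Nat.card K = p := by
      rw [Nat.card_zpowers, orderOf_pow' _ hp.out.ne_zero, hzo,
        Nat.gcd_eq_right (dvd_pow_self p two_ne_zero), pow_two, Nat.mul_div_cancel _ hp.out.pos]
    obtain ⟨R, χ, hRmem, -, -, -, hZR, -, hR⟩ :=
      quotient_facts hP H hc K (hKle.trans hD) hKcard hKle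
    have hcomm : ∀ x y : P, Commute ⁅y, x⁆ x := fun x y =>
      (Subgroup.mem_center_iff.mp (hD (mem_commutator' y x)) x).symm
    have hpowR : ∀ x : P, x ^ p ∈ R := by
      intro x
      rw [hRmem]
      intro y
      have hy : ⁅y, x⁆ ∈ Subgroup.zpowers z := hDz ▸ mem_commutator' y x
      obtain ⟨l, hl⟩ := hy
      rw [← commutatorElement_inv, commutator_pow_of_comm (hcomm x y), ← hl]
      refine K.inv_mem ⟨l, ?_⟩
      simp only [← zpow_natCast, ← zpow_mul]
      rw [mul_comm]
    have hgp : g ^ p ∉ Subgroup.center P := by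
      intro hg
      apply hgh
      have h2 : ⁅h, g ^ p⁆ = 1 :=
        commutatorElement_eq_one_iff_mul_comm.mpr (Subgroup.mem_center_iff.mp hg h)
      rw [commutator_pow_of_comm (hcomm g h), ← commutatorElement_inv, ← hz, inv_pow,
        inv_eq_one] at h2
      exact h2
    set S := Subgroup.center P ⊔ Subgroup.zpowers (g ^ p)
    have hSR : S ≤ R := sup_le hZR (Subgroup.zpowers_le.mpr (hpowR g))
    have hS : S = R := by
      refine Subgroup.eq_of_le_of_card_ge hSR ?_
      obtain ⟨c, hcS⟩ := Subgroup.card_dvd_of_le (le_sup_left : Subgroup.center P ≤ S)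
      obtain ⟨n, hn⟩ := IsPGroup.iff_card.mp hP
      obtain ⟨e, -, rfl⟩ := (Nat.dvd_prime_pow hp.out).mp
        (hn ▸ (hcS ▸ dvd_mul_left c _).trans S.card_subgroup_dvd_card)
      have he : e ≠ 0 := by
        rintro rfl
        rw [pow_zero, mul_one] at hcS
        exact hgp ((Subgroup.eq_of_le_of_card_ge (le_sup_left : Subgroup.center P ≤ S) hcS.le)
          ▸ (le_sup_right : Subgroup.zpowers (g ^ p) ≤ S) (Subgroup.mem_zpowers _))
      rw [hcS]
      refine le_trans ?_ (Nat.mul_le_mul_left _ (Nat.le_self_pow he p))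
      rcases hR with hR | hR
      · rw [hR]; exact Nat.le_mul_of_pos_right _ hp.out.pos
      · rw [hR, mul_comm]
    have hSg : S ≤ Subgroup.centralizer {g} := sup_le (Subgroup.center_le_centralizer _)
      (Subgroup.zpowers_le.mpr (Subgroup.mem_centralizer_singleton_iff.mpr (by
        rw [← pow_succ, ← pow_succ'])))
    have hhg : h ^ p * g = g * h ^ p := Subgroup.mem_centralizer_singleton_iff.mp
      (hSg (hS ▸ hpowR h))
    apply hgh
    rw [hz, ← commutator_pow_of_comm (hcomm h g), commutatorElement_eq_one_iff_mul_comm]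
    exact hhg.symm

/-- Derived subgroup of order `p²`: the noncentral case. -/
theorem false_of_noncentral (hP : IsPGroup p P) (H : Conjugate P)
    (hc : Nat.card (commutator P) = p ^ 2) (hD : ¬ commutator P ≤ Subgroup.center P) :
    False := by
  classical
  set K := commutator P ⊓ Subgroup.center P with hKdef
  have hKD : K ≤ commutator P := inf_le_left
  have hKc : K ≤ Subgroup.center P := inf_le_right
  have hKcard : Nat.card K = p := by
    obtain ⟨e, he, hKe⟩ := (Nat.dvd_prime_pow hp.out).mp (hc ▸ Subgroup.card_dvd_of_le hKD)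
    interval_cases e
    · haveI := hP.isNilpotent
      have hne : commutator P ≠ ⊥ := fun h => hD (h ▸ bot_le)
      rw [pow_zero] at hKe
      exact absurd (Subgroup.card_eq_one.mp hKe)
        (Solvable.FrattiniFitting.inf_center_ne_bot (commutator P) hne)
    · simpa using hKe
    · exact absurd ((Subgroup.eq_of_le_of_card_ge hKD (by rw [hKe, hc])).ge.trans hKc) hD
  obtain ⟨R, χ0, hRmem, hχ01, hχ0K, hχ0R, hZR, hDR, hR⟩ := quotient_facts hP H hc K hKc hKcard hKD
  have hRcard : Nat.card R = p * Nat.card (Subgroup.center P) := by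
    rcases hR with hR | hR
    · exact absurd (hDR.trans (Subgroup.eq_of_le_of_card_ge hZR hR.le).ge) hD
    · exact hR
  rw [hRcard] at hχ0R
  obtain ⟨n, hn⟩ := IsPGroup.iff_card.mp hP
  have hpow : ∀ φ : Cfsg.IrrCharacter P, ∃ j, Cfsg.charDegree (φ : P → ℂ) = p ^ j := by
    intro φ
    obtain ⟨j, -, hj⟩ := (Nat.dvd_prime_pow hp.out).mp (hn ▸ deg_dvd_card φ)
    exact ⟨j, hj⟩
  obtain ⟨b, hb⟩ := hpow χ0
  rw [hb] at hχ0R
  let Out : Finset (Cfsg.IrrCharacter P) :=
    (Finset.univ : Finset (Cfsg.IrrCharacter P)).filter fun χ : Cfsg.IrrCharacter P => ¬ ∀ n ∈ K, (χ : P → ℂ) n = (χ : P → ℂ) 1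
  have hmemOut : ∀ {χ : Cfsg.IrrCharacter P}, χ ∈ Out →
      Cfsg.charDegree (χ : P → ℂ) ≠ 1 ∧ (∀ c ∈ K, c ≠ 1 → (χ : P → ℂ) c ≠ (χ : P → ℂ) 1) := by
    intro χ hχ
    have hχ' := (Finset.mem_filter.mp hχ).2
    push Not at hχ'
    obtain ⟨c, hcK, hcne⟩ := hχ'
    refine ⟨deg_ne_one_of_apply_ne χ (hKD hcK) hcne, fun d hd hd1 e => hcne ?_⟩
    rw [← eq_zpowers_of_mem hKcard hd hd1] at hcK
    exact (mem_charKer _).mp
      (Subgroup.zpowers_le.mpr ((mem_charKer (isCharacter_irr χ)).mpr e) hcK)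
  have hdeglt : ∀ χ ∈ Out, ∃ a < b, Cfsg.charDegree (χ : P → ℂ) = p ^ a := by
    intro χ hχ
    obtain ⟨a, ha⟩ := hpow χ
    refine ⟨a, ?_, ha⟩
    have h1 := deg_sq_mul_card_center_le χ
    rw [ha, ← hχ0R, ← mul_assoc, ← pow_mul, ← pow_mul, ← pow_succ] at h1
    have h2 := (Nat.pow_le_pow_iff_right hp.out.one_lt).mp
      (Nat.le_of_mul_le_mul_right h1 Nat.card_pos)
    have hne : a ≠ b := by
      rintro rfl
      obtain ⟨c, hcK, hc1⟩ := K.bot_or_exists_ne_one.resolve_left fun h => by
        rw [h, Subgroup.card_bot] at hKcard; exact hp.out.ne_one hKcard.symm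
      exact (hmemOut hχ).2 c hcK hc1
        ((H.ker_iff hχ01 (hb.trans ha.symm) c).mpr (hχ0K c hcK))
    omega
  set C := Subgroup.centralizer ((commutator P : Subgroup P) : Set P)
  set A := C ⊓ Subgroup.centralizer (C : Set P)
  -- vanishing outside `A`
  have hvan : ∀ χ ∈ Out, ∀ g, g ∉ A → (χ : P → ℂ) g = 0 := by
    intro χ hχ g hg
    obtain ⟨-, hfK⟩ := hmemOut hχ
    suffices ∃ h, ⁅h, g⁆ ∈ K ∧ ⁅h, g⁆ ≠ 1 by
      obtain ⟨h, h1, h2⟩ := this
      exact vanish_of_commutator χ (hKc h1) (hfK _ h1 h2)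
    by_cases hgC : g ∈ C
    · obtain ⟨c, hcC, hne⟩ : ∃ c ∈ C, c * g ≠ g * c := by
        by_contra h
        push Not at h
        exact hg ⟨hgC, Subgroup.mem_centralizer_iff.mpr h⟩
      have hne' : ⁅c, g⁆ ≠ 1 := fun e => hne (commutatorElement_eq_one_iff_mul_comm.mp e)
      refine ⟨c, ⟨mem_commutator' c g, ?_⟩, hne'⟩
      have h3 : ⁅⁅C, C⁆, (⊤ : Subgroup P)⁆ = ⊥ := by
        have hb' : ∀ U V : Subgroup P, ⁅⁅U, V⁆, C⁆ = ⊥ := fun U V => by
          rw [Subgroup.commutator_eq_bot_iff_le_centralizer]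
          intro x hx
          rw [Subgroup.mem_centralizer_iff]
          intro y hy
          have hxD : x ∈ commutator P := by
            rw [commutator_def]
            exact Subgroup.commutator_mono le_top le_top hx
          exact (Subgroup.mem_centralizer_iff.mp hy x hxD).symm
        exact Subgroup.commutator_commutator_eq_bot_of_rotate (hb' C ⊤) (hb' ⊤ C)
      rw [Subgroup.commutator_eq_bot_iff_le_centralizer, Subgroup.coe_top,
        Subgroup.centralizer_univ] at h3
      exact h3 (Subgroup.commutator_mem_commutator hcC hgC)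
    · obtain ⟨u, hu, hne⟩ : ∃ u ∈ commutator P, u * g ≠ g * u := by
        by_contra h
        push Not at h
        exact hgC (Subgroup.mem_centralizer_iff.mpr h)
      exact ⟨u, (hRmem u).mp (hDR hu) g,
        fun e => hne (commutatorElement_eq_one_iff_mul_comm.mp e)⟩
  -- exponent of `A`
  set N := p ^ 2 * Nat.card (Subgroup.center P) with hN
  have hexp : ∀ g ∈ A, g ^ N = 1 := by
    intro g hg
    have hgz : g ^ p ^ 2 ∈ Subgroup.center P := by
      rw [Subgroup.mem_center_iff]
      intro h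
      have hm := mem_commutator' h g
      rw [← commutatorElement_eq_one_iff_mul_comm,
        commutator_pow_of_comm (Subgroup.mem_centralizer_iff.mp hg.1 _ hm)]
      have := pow_card_eq_one' (G := commutator P) (x := ⟨_, hm⟩)
      rw [hc] at this
      exact congrArg Subtype.val this
    have := pow_card_eq_one' (G := Subgroup.center P) (x := ⟨_, hgz⟩)
    rw [hN, pow_mul]
    exact congrArg Subtype.val this
  obtain ⟨m, -, hm⟩ := (Nat.dvd_prime_pow hp.out).mp
    (hn ▸ (Subgroup.center P).card_subgroup_dvd_card)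
  have hm' : N = p ^ (m + 2) := by rw [hN, hm, ← pow_add, add_comm]
  haveI : NeZero N := ⟨by rw [hm']; exact pow_ne_zero _ hp.out.ne_zero⟩
  -- each degree class is small
  have hclass : ∀ a, (Out.filter fun χ : Cfsg.IrrCharacter P => Cfsg.charDegree (χ : P → ℂ) = p ^ a).card
      ≤ N.totient := by
    intro a
    rcases (Out.filter fun χ : Cfsg.IrrCharacter P => Cfsg.charDegree (χ : P → ℂ) = p ^ a).eq_empty_or_nonempty with
      h | ⟨χ, hχ⟩
    · rw [h]; simp
    obtain ⟨hχO, hχa⟩ := Finset.mem_filter.mp hχ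
    have hk : ∀ ψ : {x // x ∈ Out.filter fun χ : Cfsg.IrrCharacter P => Cfsg.charDegree (χ : P → ℂ) = p ^ a},
        ∃ k : ℕ, Nat.Coprime k (Nat.card P) ∧
          ∀ g : P, (ψ.1 : P → ℂ) g = (χ : P → ℂ) (g ^ k) := fun ψ =>
      H χ ψ.1 (hmemOut hχO).1 (hχa.trans (Finset.mem_filter.mp ψ.2).2.symm)
    choose k hk1 hk2 using hk
    have hkN : ∀ ψ, Nat.Coprime (k ψ) N := fun ψ => by
      rw [hm']
      refine Nat.Coprime.pow_right _ (Nat.Coprime.coprime_dvd_right ?_ (hk1 ψ))
      rw [← hKcard]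
      exact K.card_subgroup_dvd_card
    rw [← ZMod.card_units_eq_totient N, ← Fintype.card_coe]
    refine Fintype.card_le_of_injective (fun ψ => ZMod.unitOfCoprime (k ψ) (hkN ψ)) ?_
    intro ψ ψ' he
    have he' : k ψ % N = k ψ' % N := by
      have := congrArg (fun u : (ZMod N)ˣ => (u : ZMod N)) he
      simp only [ZMod.coe_unitOfCoprime] at this
      exact (ZMod.natCast_eq_natCast_iff' _ _ _).mp this
    refine Subtype.ext (Subtype.ext (funext fun g => ?_))
    by_cases hg : g ∈ A
    · rw [hk2 ψ, hk2 ψ', pow_eq_pow_mod (k ψ) (hexp g hg), pow_eq_pow_mod (k ψ') (hexp g hg), he']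
    · rw [hvan _ (Finset.mem_filter.mp ψ.2).1 g hg, hvan _ (Finset.mem_filter.mp ψ'.2).1 g hg]
  -- summing
  have hsplit := Finset.sum_filter_add_sum_filter_not (Finset.univ : Finset (Cfsg.IrrCharacter P))
    (fun χ : Cfsg.IrrCharacter P => ∀ n ∈ K, (χ : P → ℂ) n = (χ : P → ℂ) 1) fun χ => Cfsg.charDegree (χ : P → ℂ) ^ 2
  rw [sum_deg_sq, sum_deg_sq_trivial_on K] at hsplit
  have hS : ∑ χ ∈ Out, Cfsg.charDegree (χ : P → ℂ) ^ 2 ≤
      ∑ a ∈ Finset.range b, N.totient * (p ^ a) ^ 2 := by
    have hsub : Out ⊆ (Finset.range b).biUnion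
        fun a => Out.filter fun χ : Cfsg.IrrCharacter P => Cfsg.charDegree (χ : P → ℂ) = p ^ a := fun χ hχ => by
      obtain ⟨a, ha, hd⟩ := hdeglt χ hχ
      exact Finset.mem_biUnion.mpr ⟨a, Finset.mem_range.mpr ha, Finset.mem_filter.mpr ⟨hχ, hd⟩⟩
    refine (Finset.sum_le_sum_of_subset hsub).trans ((Finset.sum_biUnion ?_).trans_le ?_)
    · intro a _ a' _ hne
      refine Finset.disjoint_left.mpr fun χ hχ hχ' => hne ?_
      exact Nat.pow_right_injective hp.out.two_le
        ((Finset.mem_filter.mp hχ).2.symm.trans (Finset.mem_filter.mp hχ').2)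
    refine Finset.sum_le_sum fun a _ => ?_
    rw [Finset.sum_congr rfl fun χ hχ => by rw [(Finset.mem_filter.mp hχ).2], Finset.sum_const,
      smul_eq_mul]
    exact Nat.mul_le_mul_right _ (hclass a)
  have hgeom : ∀ b, (∑ a ∈ Finset.range b, (p ^ a) ^ 2) * p ^ 2 + 1 =
      (∑ a ∈ Finset.range b, (p ^ a) ^ 2) + (p ^ b) ^ 2 := by
    intro b
    induction b with
    | zero => simp
    | succ b ih => rw [Finset.sum_range_succ, pow_succ p b, mul_pow]; linarith
  rw [← Finset.mul_sum] at hS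
  set S := ∑ a ∈ Finset.range b, (p ^ a) ^ 2
  rw [hm', Nat.totient_prime_pow_succ hp.out] at hS
  have hQ : Nat.card (P ⧸ K) * p = Nat.card P := by
    rw [← hKcard]; exact (Subgroup.card_eq_card_quotient_mul_card_subgroup K).symm
  obtain ⟨r, hr⟩ : ∃ r, p = r + 1 := ⟨p - 1, by have := hp.out.pos; omega⟩
  have hr1 : 1 ≤ r := by have := hp.out.two_le; omega
  have hpm : 0 < p ^ m := pow_pos hp.out.pos m
  have hQeq : Nat.card (P ⧸ K) = (p ^ b) ^ 2 * p ^ m := by
    refine Nat.eq_of_mul_eq_mul_right hp.out.pos ?_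
    rw [hQ, ← hχ0R, hm]; ring
  have hsplit' : Nat.card (P ⧸ K) + ∑ χ ∈ Out, Cfsg.charDegree (χ : P → ℂ) ^ 2 =
      Nat.card P := hsplit
  have hlow : r * (p ^ m * (p ^ b) ^ 2) ≤ r * (p ^ m * (p * S)) := by
    have e1 : (p - 1) = r := by omega
    rw [e1, pow_succ] at hS
    calc r * (p ^ m * (p ^ b) ^ 2) = ∑ χ ∈ Out, Cfsg.charDegree (χ : P → ℂ) ^ 2 := by
          have : Nat.card P = (r + 1) * ((p ^ b) ^ 2 * p ^ m) := by
            rw [← hQ, hQeq, hr]; ring
          rw [hQeq, this] at hsplit'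
          linarith
      _ ≤ p ^ m * p * r * S := hS
      _ = r * (p ^ m * (p * S)) := by ring
  have hlow' : (p ^ b) ^ 2 ≤ p * S :=
    Nat.le_of_mul_le_mul_left (Nat.le_of_mul_le_mul_left hlow hr1) hpm
  have hg : S * p ^ 2 + 1 = S + (p ^ b) ^ 2 := hgeom b
  have h2 := hp.out.two_le
  have h3 : p + 1 ≤ p ^ 2 := by rw [pow_two]; nlinarith
  have h4 := Nat.mul_le_mul_left S h3
  linarith

/-- Equal-degree characters Galois conjugate forces a derived subgroup of order `p`. -/
theorem card_commutator_aux : ∀ (n : ℕ) (P : Type*) [Group P] [Finite P], Nat.card P = n →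
    IsPGroup p P → Conjugate P → commutator P ≠ ⊥ → Nat.card (commutator P) = p := by
  intro n
  induction n using Nat.strong_induction_on with
  | _ n ih =>
    intro P _ _ hn hP H hne
    haveI := hP.isNilpotent
    obtain ⟨z, ⟨hzD, hzZ⟩, hz1⟩ := (commutator P ⊓ Subgroup.center P).bot_or_exists_ne_one.resolve_left
      (Solvable.FrattiniFitting.inf_center_ne_bot (commutator P) hne)
    obtain ⟨i, hi⟩ := IsPGroup.iff_orderOf.mp hP z
    have hi0 : i ≠ 0 := fun h => hz1 (orderOf_eq_one_iff.mp (by rw [hi, h, pow_zero]))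
    have hwo : orderOf (z ^ p ^ (i - 1)) = p := by
      rw [orderOf_pow' _ (pow_ne_zero _ hp.out.ne_zero), hi,
        Nat.gcd_eq_right (pow_dvd_pow p (by omega)), Nat.pow_div (by omega) hp.out.pos,
        show i - (i - 1) = 1 by omega, pow_one]
    set K := Subgroup.zpowers (z ^ p ^ (i - 1))
    have hKD : K ≤ commutator P := Subgroup.zpowers_le.mpr (pow_mem hzD _)
    have hKZ : K ≤ Subgroup.center P := Subgroup.zpowers_le.mpr (pow_mem hzZ _)
    haveI : K.Normal := normal_of_central' hKZ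
    have hK : Nat.card K = p := by rw [Nat.card_zpowers, hwo]
    by_contra hcne
    have hne' : commutator (P ⧸ K) ≠ ⊥ := by
      intro h
      apply hcne
      rw [← hK, Subgroup.eq_of_le_of_card_ge hKD]
      refine Subgroup.card_le_of_le ?_
      intro g hg
      have : QuotientGroup.mk' K g ∈ commutator (P ⧸ K) := by
        rw [commutator_def, ← Subgroup.map_top_of_surjective _ (QuotientGroup.mk'_surjective K),
          ← Subgroup.map_commutator, ← commutator_def]
        exact Subgroup.mem_map_of_mem _ hg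
      rw [h, Subgroup.mem_bot, QuotientGroup.mk'_apply, QuotientGroup.eq_one_iff] at this
      exact this
    have hlt : Nat.card (P ⧸ K) < n := by
      rw [← hn, Subgroup.card_eq_card_quotient_mul_card_subgroup K, hK]
      exact lt_mul_of_one_lt_right Nat.card_pos hp.out.one_lt
    have hq := ih _ hlt (P ⧸ K) rfl (hP.to_quotient K) (H.quotient K) hne'
    have hc : Nat.card (commutator P) = p ^ 2 := by
      have h1 := Subgroup.card_mul_index ((QuotientGroup.mk' K).ker.subgroupOf (commutator P))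
      rw [← Subgroup.relIndex, Subgroup.relIndex_ker, QuotientGroup.ker_mk',
        Nat.card_congr (Subgroup.subgroupOfEquivOfLe hKD).toEquiv, hK] at h1
      rw [← h1, pow_two]
      congr 1
      rw [← hq]
      have hmap : (commutator P).map (QuotientGroup.mk' K) = commutator (P ⧸ K) := by
        rw [commutator_def, commutator_def, Subgroup.map_commutator,
          Subgroup.map_top_of_surjective _ (QuotientGroup.mk'_surjective K)]
      rw [← hmap]
    by_cases hD : commutator P ≤ Subgroup.center P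
    · exact false_of_central hP H hc hD
    · exact false_of_noncentral hP H hc hD

end CfsgLib.DegreeTools.EqualDegree
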