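import Cfsg.Agent.Lib.CharDeep.BilinearForm
import Cfsg.Agent.Lib.CharDeep.IrrTools
import Cfsg.Agent.Lib.Blocks.SecondMainBlocks
import Cfsg.Agent.Lib.DegreeTools.Basic
import Cfsg.Agent.Lib.Char.Constituent

/-!
# The indicator of a character containing a real constituent exactly once
-/

set_option autoImplicit false

namespace CfsgLib.DegreeTools.IndicatorMult

open Cfsg CfsgLib.Char CfsgLib.CharDeep.BilinearForm
open scoped Classical ComplexConjugate
open Matrix

variable {G : Type*} [Group G] [Fintype G]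

/-- A real character with a real constituent of multiplicity one in its restriction has the same
indicator. -/
theorem indicator_eq (H : Subgroup G) [Fintype H] {χ : G → ℂ} {θ : H → ℂ}
    (hχ : IsIrrCharacter G χ) (hθ : IsIrrCharacter H θ)
    (hχr : ∀ g, (χ g).im = 0) (hθr : ∀ h, (θ h).im = 0)
    (h1 : classInner (fun h : H => χ h) θ = 1) :
    (Nat.card G : ℂ)⁻¹ * ∑ g, χ (g * g) = (Nat.card H : ℂ)⁻¹ * ∑ h, θ (h * h) := by
  set νG := (Nat.card G : ℂ)⁻¹ * ∑ g, χ (g * g)
  set νH := (Nat.card H : ℂ)⁻¹ * ∑ h, θ (h * h)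
  obtain ⟨n, ρ, hρ, hρχ⟩ := id hχ
  have := hρ
  let M : G →* Matrix (Fin n) (Fin n) ℂ := matrixHom ρ
  have hM : ∀ g, (M g).trace = χ g := fun g => by rw [← hρχ]; exact trace_matrixHom ρ g
  have hθne : θ 1 ≠ 0 := IsIrrCharacter.apply_one_ne_zero hθ
  have hcardH := card_ne_zero (G := H)
  set c : ℂ := θ 1 / (Nat.card H : ℂ)
  set P : Matrix (Fin n) (Fin n) ℂ := c • ∑ h : H, θ h⁻¹ • M h
  let θ' : IrrCharacter H := ⟨θ, hθ⟩
  have hfcl : IsClassFunction H fun h : H => θ h⁻¹ := fun x y => by
    show θ (y * x * y⁻¹)⁻¹ = θ x⁻¹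
    rw [show (y * x * y⁻¹)⁻¹ = y * x⁻¹ * y⁻¹ by group]
    exact IsIrrCharacter.isClassFunction hθ _ _
  have hconv : ∀ (φ : IrrCharacter H) (w : H), ∑ a : H, θ a⁻¹ * (φ : H → ℂ) (w * a)
      = if φ = θ' then (Nat.card H : ℂ) / θ 1 * θ w else 0 := by
    intro φ w
    rw [CfsgLib.Blocks.sum_classFun_mul_char φ hfcl w, CfsgLib.Blocks.omega]
    have e : ∑ x : H, θ x⁻¹ * (φ : H → ℂ) x
        = (Nat.card H : ℂ) * classInner (φ : H → ℂ) θ := by
      rw [Cfsg.classInner, mul_inv_cancel_left₀ hcardH]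
      exact Finset.sum_congr rfl fun x _ => by rw [IsIrrCharacter.apply_inv hθ, mul_comm]
    rw [e, classInner_irr φ.2 hθ]
    by_cases hφ : φ = θ'
    · subst hφ; rw [if_pos rfl, if_pos rfl]; simp [θ']
    · rw [if_neg fun h => hφ (Subtype.ext h), if_neg hφ]; simp
  -- trace against the projection
  have htrP : ∀ h : H, (M h * P).trace = θ h := by
    intro h
    obtain ⟨m, hm, hexp⟩ := CfsgLib.Char.IsCharacter.exists_multiplicity
      (IsCharacter.restrict (IsIrrCharacter.isCharacter hχ) H)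
    have hmθ : (m θ' : ℂ) = 1 := by rw [← hm θ']; exact h1
    have e : (M h * P).trace = c * ∑ a : H, θ a⁻¹ * χ (h * a : H) := by
      simp only [P, Matrix.mul_smul, Matrix.trace_smul, smul_eq_mul, Finset.mul_sum, Matrix.trace_sum]
      refine Finset.sum_congr rfl fun a _ => ?_
      rw [Subgroup.coe_mul, ← map_mul M, hM]
    rw [e]
    simp only [fun z : H => hexp z, Finset.mul_sum]
    rw [Finset.sum_comm, Finset.sum_eq_single θ']
    · calc ∑ a : H, c * (θ a⁻¹ * ((m θ' : ℂ) * (θ' : H → ℂ) (h * a)))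
          = c * ∑ a : H, θ a⁻¹ * (θ' : H → ℂ) (h * a) := by
            rw [Finset.mul_sum]
            exact Finset.sum_congr rfl fun a _ => by rw [hmθ, one_mul]
        _ = θ h := by rw [hconv, if_pos rfl]; simp only [c]; field_simp
    · intro φ _ hφ
      calc ∑ a : H, c * (θ a⁻¹ * ((m φ : ℂ) * (φ : H → ℂ) (h * a)))
          = c * (m φ : ℂ) * ∑ a : H, θ a⁻¹ * (φ : H → ℂ) (h * a) := by
            rw [Finset.mul_sum]
            exact Finset.sum_congr rfl fun a _ => by ring
        _ = 0 := by rw [hconv, if_neg hφ, mul_zero]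
    · simp
  have hcomm : ∀ h : H, M h * P = P * M h := by
    intro h
    simp only [P, Matrix.mul_smul, Matrix.smul_mul, Finset.mul_sum, Finset.sum_mul]
    congr 1
    refine Fintype.sum_equiv (MulAut.conj h).toEquiv _ _ fun a => ?_
    simp only [MulEquiv.toEquiv_eq_coe, EquivLike.coe_coe, MulAut.conj_apply]
    congr 1
    · have := hfcl a h
      simp only at this
      exact this.symm
    · rw [← map_mul M, ← map_mul M]
      congr 1
      simp [mul_assoc]
  have hidem : P * P = P := by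
    simp only [P]
    rw [Matrix.smul_mul, Matrix.mul_smul, smul_smul, Finset.sum_mul]
    simp only [Finset.mul_sum, Matrix.smul_mul, Matrix.mul_smul, smul_smul]
    rw [show (∑ a : H, ∑ b : H, (θ b⁻¹ * θ a⁻¹) • (M a * M b))
        = ((Nat.card H : ℂ) / θ 1) • ∑ z : H, θ z⁻¹ • M z from ?_, smul_smul]
    · congr 1
      simp only [c]
      field_simp
    rw [Finset.smul_sum, Finset.sum_congr rfl fun (a : H) _ =>
      (Fintype.sum_equiv (Equiv.mulLeft a) (fun b : H => (θ b⁻¹ * θ a⁻¹) • (M a * M b))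
        (fun z : H => (θ a⁻¹ * θ (z⁻¹ * a)) • M z) fun b => by
          simp [mul_assoc, mul_comm (θ b⁻¹)]), Finset.sum_comm]
    refine Finset.sum_congr rfl fun z _ => ?_
    rw [← Finset.sum_smul, smul_smul]
    congr 1
    have h := hconv θ' z⁻¹
    rw [if_pos rfl] at h
    exact h
  -- a basis of the range
  obtain ⟨k, J, K, hJK, hKJ⟩ : ∃ (k : ℕ) (J : Matrix (Fin n) (Fin k) ℂ)
      (K : Matrix (Fin k) (Fin n) ℂ), J * K = P ∧ K * J = 1 := by
    set f := Matrix.toLin' P
    let W := LinearMap.range f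
    let b := Module.finBasis ℂ W
    let e := Pi.basisFun ℂ (Fin n)
    let π : (Fin n → ℂ) →ₗ[ℂ] W := f.rangeRestrict
    refine ⟨_, LinearMap.toMatrix b e W.subtype, LinearMap.toMatrix e b π, ?_, ?_⟩
    · rw [← LinearMap.toMatrix_comp e b e,
        show W.subtype ∘ₗ π = f from LinearMap.ext fun x => rfl,
        LinearMap.toMatrix_eq_toMatrix', LinearMap.toMatrix'_toLin']
    · rw [← LinearMap.toMatrix_comp b e b, show π ∘ₗ W.subtype = LinearMap.id from ?_,
        LinearMap.toMatrix_id]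
      refine LinearMap.ext fun w => Subtype.ext ?_
      obtain ⟨v, hv⟩ := w.2
      show f (w : Fin n → ℂ) = (w : Fin n → ℂ)
      rw [← hv]
      show Matrix.toLin' P (Matrix.toLin' P v) = Matrix.toLin' P v
      rw [← LinearMap.comp_apply, ← Matrix.toLin'_mul, hidem]
  have hPJ : P * J = J := by rw [← hJK, Matrix.mul_assoc, hKJ, Matrix.mul_one]
  let M' : H →* Matrix (Fin k) (Fin k) ℂ :=
    { toFun := fun h => K * M h * J
      map_one' := by rw [OneMemClass.coe_one, map_one, Matrix.mul_one, hKJ]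
      map_mul' := fun a b => by
        show K * M ((a * b : H) : G) * J = K * M a * J * (K * M b * J)
        calc K * M ((a * b : H) : G) * J = K * M a * (M b * (P * J)) := by
              rw [hPJ, Subgroup.coe_mul, map_mul, Matrix.mul_assoc, Matrix.mul_assoc,
                Matrix.mul_assoc]
          _ = K * M a * (P * (M b * J)) := by
              rw [← Matrix.mul_assoc (M b), hcomm, Matrix.mul_assoc P]
          _ = _ := by rw [← hJK]; simp only [Matrix.mul_assoc] }
  have hM' : ∀ h, (M' h).trace = θ h := fun h => by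
    show (K * M h * J).trace = θ h
    rw [Matrix.mul_assoc, Matrix.trace_mul_comm K, Matrix.mul_assoc, hJK, htrP]
  have hG1 : (Nat.card G : ℂ)⁻¹ * ∑ g, (M g⁻¹).trace * (M g⁻¹).trace = 1 := by
    simp only [hM]; exact classInner_conj hχ hχr
  have hH1 : (Nat.card H : ℂ)⁻¹ * ∑ h, (M' h⁻¹).trace * (M' h⁻¹).trace = 1 := by
    simp only [hM']; exact classInner_conj hθ hθr
  obtain ⟨⟨X, hX0, hX⟩, hsymG⟩ := invariant_form M hG1
  have hsymH := (invariant_form M' hH1).2
  set Z := Jᵀ * X * J
  have hZ : ∀ h, (M' h)ᵀ * Z * M' h = Z := by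
    intro h
    have e : J * M' h = M h * J := by
      show J * (K * M h * J) = M h * J
      calc J * (K * M h * J) = J * K * M h * J := by simp only [Matrix.mul_assoc]
        _ = M h * (P * J) := by rw [hJK, ← hcomm, Matrix.mul_assoc]
        _ = _ := by rw [hPJ]
    calc (M' h)ᵀ * Z * M' h = (J * M' h)ᵀ * X * (J * M' h) := by
          simp only [Z, Matrix.transpose_mul, Matrix.mul_assoc]
      _ = Jᵀ * ((M h)ᵀ * X * M h) * J := by
          rw [e]; simp only [Matrix.transpose_mul, Matrix.mul_assoc]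
      _ = Z := by rw [hX]
  have hG' := hsymG X hX
  have hH' := hsymH Z hZ
  simp only [hM] at hG'
  simp only [hM'] at hH'
  have hZT : Zᵀ = νG • Z := by
    simp only [Z, Matrix.transpose_mul, Matrix.transpose_transpose, hG', Matrix.mul_smul,
      Matrix.smul_mul, Matrix.mul_assoc]
    rfl
  by_contra hne
  have hZ0 : Z = 0 := by
    have := hH'.symm.trans hZT
    rw [← sub_eq_zero, ← sub_smul, smul_eq_zero] at this
    exact this.resolve_left (sub_ne_zero.2 (Ne.symm hne))
  have hXM : ∀ g : G, X * M g = (M g⁻¹)ᵀ * X := fun g => by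
    calc X * M g = (M g⁻¹)ᵀ * ((M g)ᵀ * X * M g) := by
          rw [← Matrix.mul_assoc, ← Matrix.mul_assoc, ← Matrix.transpose_mul, ← map_mul,
            mul_inv_cancel, map_one, Matrix.transpose_one, Matrix.one_mul]
      _ = _ := by rw [hX]
  have hXP : X * P = Pᵀ * X := by
    simp only [P, Matrix.mul_smul, Matrix.transpose_smul, Matrix.smul_mul, Finset.mul_sum,
      Matrix.transpose_sum, Finset.sum_mul]
    congr 1
    refine Fintype.sum_equiv (Equiv.inv H) _ _ fun a => ?_
    rw [hXM, Equiv.inv_apply, inv_inv, Subgroup.coe_inv]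
    congr 1
    rw [IsIrrCharacter.apply_inv hθ, Complex.conj_eq_iff_im.2 (hθr a)]
  have hXP0 : X * P = 0 := by
    calc X * P = (X * P) * P := by rw [Matrix.mul_assoc, hidem]
      _ = Pᵀ * X * P := by rw [hXP]
      _ = Kᵀ * Z * K := by rw [← hJK]; simp only [Z, Matrix.transpose_mul, Matrix.mul_assoc]
      _ = 0 := by rw [hZ0, Matrix.mul_zero, Matrix.zero_mul]
  -- the average of the conjugates of the projection is a nonzero scalar
  set S := ∑ g : G, M g * P * M g⁻¹
  have hXS : X * S = 0 := by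
    simp only [S, Finset.mul_sum]
    refine Finset.sum_eq_zero fun g _ => ?_
    rw [← Matrix.mul_assoc, ← Matrix.mul_assoc, hXM, Matrix.mul_assoc ((M g⁻¹)ᵀ), hXP0,
      Matrix.mul_zero, Matrix.zero_mul]
  have hScomm : ∀ x : G, Commute (M x) S := fun x => by
    show M x * S = S * M x
    simp only [S, Finset.mul_sum, Finset.sum_mul]
    refine Fintype.sum_equiv (Equiv.mulLeft x) _ _ fun g => ?_
    simp only [Equiv.coe_mulLeft, _root_.mul_inv_rev, map_mul, Matrix.mul_assoc]
    rw [← map_mul M x⁻¹ x, inv_mul_cancel, map_one, Matrix.mul_one]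
  obtain ⟨s, hs⟩ := CfsgLib.CharDeep.IrrTools.exists_smul_of_commute ρ (Matrix.toLin' S) fun x => by
    have h : Matrix.toLin' (M x) = ρ x := Matrix.toLin'_toMatrix' _
    show Matrix.toLin' S * ρ x = ρ x * Matrix.toLin' S
    rw [Module.End.mul_eq_comp, Module.End.mul_eq_comp, ← h, ← Matrix.toLin'_mul,
      ← Matrix.toLin'_mul, (hScomm x).eq]
  have hS : S = s • (1 : Matrix (Fin n) (Fin n) ℂ) := by
    apply Matrix.toLin'.injective
    rw [hs, map_smul, Matrix.toLin'_one, Module.End.one_eq_id]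
  have htrS : S.trace = (Nat.card G : ℂ) * θ 1 := by
    simp only [S, Matrix.trace_sum]
    have : ∀ g : G, (M g * P * M g⁻¹).trace = θ 1 := fun g => by
      rw [Matrix.trace_mul_comm, ← Matrix.mul_assoc, ← map_mul, inv_mul_cancel, ← OneMemClass.coe_one H,
        htrP]
    rw [Finset.sum_congr rfl fun g _ => this g, Finset.sum_const, Finset.card_univ, nsmul_eq_mul,
      Nat.card_eq_fintype_card]
  rw [hS] at hXS htrS
  rw [Matrix.mul_smul, Matrix.mul_one, smul_eq_zero] at hXS
  rcases hXS with hs0 | hX00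
  · rw [hs0, zero_smul, Matrix.trace_zero] at htrS
    exact mul_ne_zero card_ne_zero hθne htrS.symm
  · exact hX0 hX00

end CfsgLib.DegreeTools.IndicatorMult
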