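import Cfsg.Agent.Lib.Blocks.LocalRing
import Mathlib.LinearAlgebra.Matrix.Determinant.Basic

/-!
# Determinants over the local ring at `M`
-/

namespace CfsgLib.DegreeTools.LocalDet

open Cfsg CfsgLib.Blocks

variable {p : ℕ} {M : Ideal AlgInt} {ι : Type*} [Fintype ι] [DecidableEq ι]

theorem det_LR (hM : IsPModular p M) (A : Matrix ι ι ℂ) (hA : ∀ i j, MemLocalRing M (A i j)) :
    MemLocalRing M A.det := by
  let A' : Matrix ι ι (localSubring hM) := Matrix.of fun i j => ⟨A i j, hA i j⟩
  have h : ((A'.det : localSubring hM) : ℂ) = A.det := RingHom.map_det (localSubring hM).subtype A'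
  rw [← h]
  exact A'.det.2

theorem det_congr (hM : IsPModular p M) (A B : Matrix ι ι ℂ)
    (hA : ∀ i j, MemLocalRing M (A i j)) (hB : ∀ i j, MemLocalRing M (B i j))
    (h : ∀ i j, MemLocalIdeal M (A i j - B i j)) : MemLocalIdeal M (A.det - B.det) := by
  let A' : Matrix ι ι (localSubring hM) := Matrix.of fun i j => ⟨A i j, hA i j⟩
  let B' : Matrix ι ι (localSubring hM) := Matrix.of fun i j => ⟨B i j, hB i j⟩
  have hA' : ((A'.det : localSubring hM) : ℂ) = A.det := RingHom.map_det (localSubring hM).subtype A'
  have hB' : ((B'.det : localSubring hM) : ℂ) = B.det := RingHom.map_det (localSubring hM).subtype B'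
  let π := Ideal.Quotient.mk (localMaxIdeal hM)
  have hπ : π A'.det = π B'.det := by
    rw [RingHom.map_det, RingHom.map_det]
    congr 1
    ext i j
    exact Ideal.Quotient.eq.mpr (mem_localMaxIdeal.mpr (h i j))
  have := mem_localMaxIdeal.mp (Ideal.Quotient.eq.mp hπ)
  rw [← hA', ← hB']
  exact this

/-- A row in the local ideal puts the determinant there. -/
theorem det_LI_of_row (hM : IsPModular p M) (A : Matrix ι ι ℂ)
    (hA : ∀ i j, MemLocalRing M (A i j)) (i : ι) (h : ∀ j, MemLocalIdeal M (A i j)) :
    MemLocalIdeal M A.det := by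
  have h0 : (A.updateRow i 0).det = 0 :=
    Matrix.det_eq_zero_of_row_eq_zero i fun j => by simp
  have := det_congr hM A (A.updateRow i 0) hA
    (fun a b => by
      by_cases ha : a = i
      · subst ha; simpa using LR.zero hM
      · simpa [Matrix.updateRow_ne ha] using hA a b)
    (fun a b => by
      by_cases ha : a = i
      · subst ha; simpa using h b
      · simpa [Matrix.updateRow_ne ha] using LI.zero hM)
  rwa [h0, sub_zero] at this

/-- Two congruent rows put the determinant in the local ideal. -/
theorem det_LI_of_row_congr (hM : IsPModular p M) (A : Matrix ι ι ℂ)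
    (hA : ∀ i j, MemLocalRing M (A i j)) {i k : ι} (hik : i ≠ k)
    (h : ∀ j, MemLocalIdeal M (A i j - A k j)) : MemLocalIdeal M A.det := by
  have h0 : (A.updateRow i (A k)).det = 0 :=
    Matrix.det_zero_of_row_eq hik (by rw [Matrix.updateRow_self, Matrix.updateRow_ne hik.symm])
  have := det_congr hM A (A.updateRow i (A k)) hA
    (fun a b => by
      by_cases ha : a = i
      · subst ha; simpa using hA k b
      · simpa [Matrix.updateRow_ne ha] using hA a b)
    (fun a b => by
      by_cases ha : a = i
      · subst ha; simpa using h b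
      · simpa [Matrix.updateRow_ne ha] using LI.zero hM)
  rwa [h0, sub_zero] at this

/-- The determinant of a product `A * B` of an `ι × κ` and a `κ × ι` matrix as a sum over maps. -/
theorem det_sum_expand {κ : Type*} [Fintype κ] [DecidableEq κ] (A : ι → κ → ℂ) (B : κ → ι → ℂ) :
    (Matrix.of fun i j => ∑ k, A i k * B k j).det =
      ∑ f : ι → κ, (∏ i, A i (f i)) * (Matrix.of fun i j => B (f i) j).det := by
  have e : (Matrix.of fun i j => ∑ k, A i k * B k j) = fun i => ∑ k : κ, A i k • B k := by
    ext i j
    simp [Finset.sum_apply]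
  rw [e]
  show (Matrix.detRowAlternating : (ι → ℂ) [⋀^ι]→ₗ[ℂ] ℂ).toMultilinearMap _ = _
  rw [MultilinearMap.map_sum]
  refine Finset.sum_congr rfl fun f _ => ?_
  rw [MultilinearMap.map_smul_univ]
  rfl

end CfsgLib.DegreeTools.LocalDet
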