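import Cfsg.Agent.Lib.DegreeTools.SingleBlock
import Cfsg.Agent.Lib.Sporadic.OctadOrbits
import Cfsg.Agent.Lib.Sporadic.MathieuOutTwo
import Cfsg.Agent.Lib.Sporadic.M24SextetStructure
import Cfsg.Agent.S5394
import Cfsg.Agent.S5607

/-!
# Involution centralizers of the Mathieu groups of degree 22 and 24 are constrained
-/

set_option autoImplicit false
set_option maxRecDepth 40000

namespace CfsgLib.DegreeTools.MathieuLocal

open Cfsg CfsgLib.SmallGroups.Golay CfsgLib.SmallGroups.GolayOctads CfsgLib.SmallGroups.M24Group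
  CfsgLib.SmallGroups.Mathieu CfsgLib.SmallGroups.MathieuSets CfsgLib.Sporadic.OctadStabilizer
  CfsgLib.Sporadic.OctadOrbits CfsgLib.Sporadic.IndexPoints CfsgLib.Sporadic.MathieuLocalCounts
  CfsgLib.Sporadic.M24Orbits CfsgLib.Sporadic.SextetData

open scoped Pointwise

/-- An element centralizing the pointwise stabilizer of an octad squares to one. -/
theorem sq_of_centralizes {o : Finset GolayPt} (ho : o ∈ octads) {g : Equiv.Perm GolayPt}
    (hg : g ∈ M24) (hc : ∀ e ∈ ptStab o, Commute g e) : g * g = 1 := by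
  classical
  have hap : ∀ e ∈ ptStab o, ∀ x, g (e x) = e (g x) := fun e he x =>
    Equiv.congr_fun (hc e he).eq x
  have hout : ∀ x ∉ o, g x ∉ o := by
    intro x hx hgx
    obtain ⟨y, hy, hyx⟩ : ∃ y, y ∉ o ∧ y ≠ x := by
      obtain ⟨y, -, hy⟩ := Finset.exists_mem_notMem_of_card_lt_card (t := Finset.univ)
        (s := insert x o) (lt_of_le_of_lt (Finset.card_insert_le _ _) (by
          rw [ho.2, Finset.card_univ, card_golayPt]; norm_num))
      simp only [Finset.mem_insert, not_or] at hy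
      exact ⟨y, hy.2, hy.1⟩
    obtain ⟨e, he, hex⟩ := outside_transitive ho hx hy
    have h := hap e he x
    rw [(mem_ptStab.1 he).2 _ hgx] at h
    exact hyx (hex.symm.trans (g.injective h))
  obtain ⟨x, -, hx⟩ := Finset.exists_mem_notMem_of_card_lt_card (t := Finset.univ) (s := o)
    (by rw [ho.2, Finset.card_univ, card_golayPt]; norm_num)
  obtain ⟨e, he, hex⟩ := outside_transitive ho hx (hout x hx)
  have hsub : oᶜ ⊆ fixedPts (e⁻¹ * g) := by
    intro y hy
    obtain ⟨f, hf, hfx⟩ := outside_transitive ho hx (Finset.mem_compl.1 hy)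
    rw [mem_fixedPts, Equiv.Perm.mul_apply, Equiv.Perm.inv_def, Equiv.symm_apply_eq, ← hfx,
      hap f hf, ← hex]
    have hab : f * e = e * f := by
      have h1 := (ptStab_octad ho).2 f hf
      have h2 := (ptStab_octad ho).2 e he
      have h3 := (ptStab_octad ho).2 (f * e) (mul_mem hf he)
      calc f * e = f * (f * e * (f * e)) * e := by rw [h3, mul_one]
        _ = (f * f) * (e * f) * (e * e) := by simp only [mul_assoc]
        _ = e * f := by rw [h1, h2, one_mul, mul_one]
    exact Equiv.congr_fun hab x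
  have h1 : e⁻¹ * g = 1 := by
    by_contra hne
    have h := Finset.card_le_card hsub
    have h8 := card_fixedPts_le_eight (mul_mem (inv_mem ((mem_ptStab.1 he).1)) hg) hne
    rw [Finset.card_compl, card_golayPt, ho.2] at h
    omega
  rw [inv_mul_eq_one] at h1
  rw [← h1]
  exact (ptStab_octad ho).2 e he

/-- The pairing preservers separate or join every two points. -/
theorem pairing_separates : ∀ i : Fin 24, ∀ j : Fin 24,
    (∃ k : Fin 64, tblNat (pairing.getD k []) i = j.val) ∨
      ∃ k : Fin 64, tblNat (pairing.getD k []) i = i.val ∧ tblNat (pairing.getD k []) j ≠ j.val := by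
  decide +kernel

open CfsgLib.Sporadic.M24SextetStructure CfsgLib.Sporadic.M24Sextet CfsgLib.Sporadic.M24Config
  CfsgLib.Sporadic.Sextets in
/-- An element centralizing all pairing preservers of a sextet squares to one. -/
theorem sq_of_centralizes_pairs {S : Finset (Finset GolayPt)} (hS : S ∈ sextets)
    {g : Equiv.Perm GolayPt}
    (hc : ∀ n : MulAction.stabilizer M24 S, Pairs S ((n : M24) : Equiv.Perm GolayPt) →
      Commute g ((n : M24) : Equiv.Perm GolayPt)) : g * g = 1 := by
  classical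
  obtain ⟨a, ha⟩ := exists_to_base hS
  have ha' : (a : Equiv.Perm GolayPt) • S = sx m₀ := ha
  obtain ⟨hlen, hok, -⟩ := pairing_ok
  have hmem : ∀ i : Fin 64, pairing.getD i [] ∈ pairing := fun i => by
    rw [List.getD_eq_getElem _ _ (by rw [hlen]; exact i.2)]; exact List.getElem_mem _
  choose f hf hidx using fun i : Fin 64 => exists_elt (hok _ (hmem i)).1
  have hP : ∀ i, f i • sx m₀ = sx m₀ ∧ Pairs (sx m₀) (f i) := fun i => by
    obtain ⟨-, h2, h3⟩ := hok _ (hmem i)
    refine ⟨step_sound (hf i) (hidx i) h2, fun t ht => ?_⟩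
    rw [base_eq, ← tetrads_ok.2.1, List.mem_toFinset, List.mem_map] at ht
    obtain ⟨T, hT, rfl⟩ := ht
    obtain ⟨hT1, hT2⟩ := h3 T hT
    refine ⟨by rw [smul_toSet (hidx i), hT1], fun s hs hcard => ?_⟩
    obtain ⟨n, hn, rfl⟩ := exists_set hcard
    have hnlt := (sets_two.2 n hn).1
    have hand : n &&& T = n := by rw [Nat.and_comm]; exact (subset_iff hnlt).1 hs
    rw [smul_toSet (hidx i), ← toSet_xor_sdiff hand]
    rcases hT2 n (List.mem_filter.2 ⟨hn, beq_iff_eq.2 hand⟩) with e | e <;> rw [e]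
    · exact Or.inl rfl
    · exact Or.inr rfl
  set A : Equiv.Perm GolayPt := (a : Equiv.Perm GolayPt)
  set g' := A * g * A⁻¹
  have hcomm : ∀ i, Commute g' (f i) := by
    intro i
    let n : MulAction.stabilizer M24 S := ⟨a⁻¹ * ⟨f i, hf i⟩ * a, by
      show (A⁻¹ * f i * A) • S = S
      rw [mul_smul, mul_smul, ha', (hP i).1, ← ha', inv_smul_smul]⟩
    have hn : Commute g (A⁻¹ * f i * A) := hc n (Pairs.conj A (ha'.symm ▸ (hP i).2))
    show g' * f i = f i * g'
    calc g' * f i = A * (g * (A⁻¹ * f i * A)) * A⁻¹ := by simp only [g']; group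
      _ = A * ((A⁻¹ * f i * A) * g) * A⁻¹ := by rw [hn.eq]
      _ = f i * g' := by simp only [g']; group
  have hfi : ∀ i p, g' (f i p) = f i (g' p) := fun i p => Equiv.congr_fun (hcomm i).eq p
  have hid : ∀ i p q, f i p = q ↔ tblNat (pairing.getD i []) (idx p) = idx q := fun i p q => by
    rw [← hidx i p]; exact ⟨congrArg idx, fun h => idx_injective h⟩
  have hjoin : ∀ p, ∃ i, f i p = g' p := by
    intro p
    rcases pairing_separates ⟨idx p, idx_lt p⟩ ⟨idx (g' p), idx_lt _⟩ with ⟨i, hi⟩ | ⟨i, h1, h2⟩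
    · exact ⟨i, (hid i p _).2 hi⟩
    · refine absurd ((hid i (g' p) (g' p)).1 ?_) h2
      rw [← hfi i p, (hid i p p).2 h1]
  have hg2 : g' * g' = 1 := by
    refine Equiv.ext fun p => ?_
    obtain ⟨i, hi⟩ := hjoin p
    have hsq : f i * f i = 1 := Pairs.sq (sx_mem roots_mem.1) (hP i).2
    rw [Equiv.Perm.mul_apply, ← hi, hfi i p, ← hi]
    exact Equiv.congr_fun hsq p
  have : A⁻¹ * (g' * g') * A = g * g := by simp only [g']; group
  rw [← this, hg2, mul_one, inv_mul_cancel]

/-- The octad case inside a subgroup of `M24` containing the pointwise stabilizer of the octad. -/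
theorem constrained_octad {H : Subgroup (Equiv.Perm GolayPt)} (hH : H ≤ M24) {t : H}
    (ht : orderOf t = 2)
    (ho : (Finset.univ.filter fun p => (t : Equiv.Perm GolayPt) p = p) ∈ octads)
    (hE : ptStab (Finset.univ.filter fun p => (t : Equiv.Perm GolayPt) p = p) ≤ H) :
    ∃ Q : Subgroup (Subgroup.centralizer ({t} : Set H)),
      Q.Normal ∧ IsPGroup 2 Q ∧ Subgroup.centralizer (Q : Set _) ≤ Q := by
  classical
  set o := Finset.univ.filter fun p => (t : Equiv.Perm GolayPt) p = p
  refine SingleBlock.constrained_of_elementary (t := t)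
    (by rw [← pow_two, ← ht]; exact pow_orderOf_eq_one t) ((ptStab o).subgroupOf H)
    (fun e he => Subtype.ext ((ptStab_octad ho).2 _ he))
    (fun c hc => Subtype.ext (sq_of_centralizes ho (hH c.2) fun e he =>
      congrArg Subtype.val (hc ⟨e, hE he⟩ he).eq)) _
    (fun g => Subgroup.mem_centralizer_singleton_iff) ?_
  intro g hg e he
  rw [Subgroup.mem_subgroupOf] at he ⊢
  have hgt : ∀ p, (g : Equiv.Perm GolayPt) ((t : Equiv.Perm GolayPt) p)
      = (t : Equiv.Perm GolayPt) ((g : Equiv.Perm GolayPt) p) := fun p =>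
    Equiv.congr_fun (congrArg Subtype.val (Subgroup.mem_centralizer_singleton_iff.1 hg)) p
  obtain ⟨he1, he2⟩ := mem_ptStab.1 he
  refine mem_ptStab.2 ⟨mul_mem (mul_mem (hH g.2) he1) (inv_mem (hH g.2)), fun p hp => ?_⟩
  have hq : (g : Equiv.Perm GolayPt)⁻¹ p ∈ o := by
    refine Finset.mem_filter.2 ⟨Finset.mem_univ _, (g : Equiv.Perm GolayPt).injective ?_⟩
    rw [hgt, Equiv.Perm.inv_def, Equiv.apply_symm_apply]
    exact (Finset.mem_filter.1 hp).2
  show (g : Equiv.Perm GolayPt) ((e : Equiv.Perm GolayPt) ((g : Equiv.Perm GolayPt)⁻¹ p)) = p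
  rw [he2 _ hq, Equiv.Perm.inv_def, Equiv.apply_symm_apply]

theorem constrained_M22 (t : Cfsg.Spor.M22) (ht : orderOf t = 2) :
    ∃ Q : Subgroup (Subgroup.centralizer ({t} : Set Cfsg.Spor.M22)),
      Q.Normal ∧ IsPGroup 2 Q ∧ Subgroup.centralizer (Q : Set _) ≤ Q := by
  classical
  obtain ⟨hM, hfix⟩ := (CfsgLib.Sporadic.MathieuOutTwo.mem_M22 _).1 t.2
  have ho := ((Cfsg.Agent.S5394.result).1 (t : Equiv.Perm GolayPt) hM
    (by rw [Subgroup.orderOf_coe, ht])).resolve_right
    fun h => h none (hfix none (by simp))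
  refine constrained_octad (fun g hg => ((CfsgLib.Sporadic.MathieuOutTwo.mem_M22 g).1 hg).1) ht ho ?_
  intro e he
  obtain ⟨he1, he2⟩ := mem_ptStab.1 he
  exact (CfsgLib.Sporadic.MathieuOutTwo.mem_M22 e).2
    ⟨he1, fun p hp => he2 p (Finset.mem_filter.2 ⟨Finset.mem_univ _, hfix p hp⟩)⟩

theorem constrained_M24 (t : Cfsg.M24) (ht : orderOf t = 2) :
    ∃ Q : Subgroup (Subgroup.centralizer ({t} : Set Cfsg.M24)),
      Q.Normal ∧ IsPGroup 2 Q ∧ Subgroup.centralizer (Q : Set _) ≤ Q := by
  classical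
  rcases (Cfsg.Agent.S5394.result).1 (t : Equiv.Perm GolayPt) t.2
    (by rw [Subgroup.orderOf_coe, ht]) with ho | h0
  · exact constrained_octad le_rfl ht ho fun e he => (mem_ptStab.1 he).1
  obtain ⟨-, -, S, hS, -, hfix⟩ := Cfsg.Agent.S5607.result (t : Equiv.Perm GolayPt) t.2
    (by rw [Subgroup.orderOf_coe, ht]) h0
  let E : Subgroup Cfsg.M24 := (CfsgLib.Sporadic.M24SextetStructure.pairSub S).map
    (MulAction.stabilizer Cfsg.M24 S).subtype
  refine SingleBlock.constrained_of_elementary (t := t)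
    (by rw [← pow_two, ← ht]; exact pow_orderOf_eq_one t) E ?_ ?_ _
    (fun g => Subgroup.mem_centralizer_singleton_iff) ?_
  · rintro _ ⟨n, hn, rfl⟩
    exact Subtype.ext (CfsgLib.Sporadic.M24SextetStructure.Pairs.sq hS hn)
  · exact fun c hc => Subtype.ext (sq_of_centralizes_pairs hS fun n hn =>
      congrArg Subtype.val (hc _ (Subgroup.mem_map_of_mem _ hn)).eq)
  · intro g hg e he
    obtain ⟨n, hn, rfl⟩ := he
    have hgS : g • S = S := hfix (g : Equiv.Perm GolayPt) g.2
      (congrArg Subtype.val (Subgroup.mem_centralizer_singleton_iff.1 hg))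
    exact ⟨(⟨g, hgS⟩ : MulAction.stabilizer Cfsg.M24 S) * n
        * (⟨g, hgS⟩ : MulAction.stabilizer Cfsg.M24 S)⁻¹,
      CfsgLib.Sporadic.M24SextetStructure.pairSub_normal.conj_mem n hn _, rfl⟩

end CfsgLib.DegreeTools.MathieuLocal
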