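import Cfsg.Prelude.Def_Blocks
import Mathlib.Tactic

/-!
# Small tools about a modular ideal of the algebraic integers
-/

namespace CfsgLib.DegreeTools.ModM

open Cfsg

variable {p : ℕ} {M : Ideal AlgInt}

theorem natCast_mem_iff (hM : IsPModular p M) (n : ℕ) : (n : AlgInt) ∈ M ↔ p ∣ n := by
  obtain ⟨hp, hmax, hpM⟩ := hM
  refine ⟨fun h => ?_, fun ⟨k, hk⟩ => by rw [hk, Nat.cast_mul]; exact M.mul_mem_right _ hpM⟩
  by_contra hn
  obtain ⟨a, b, hab⟩ : IsCoprime (n : ℤ) (p : ℤ) :=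
    Int.isCoprime_iff_gcd_eq_one.mpr (by
      rw [Int.gcd_natCast_natCast]
      exact Nat.Coprime.symm (hp.coprime_iff_not_dvd.mpr hn))
  apply hmax.ne_top
  rw [Ideal.eq_top_iff_one]
  have : (1 : AlgInt) = (a : AlgInt) * n + (b : AlgInt) * p := by exact_mod_cast hab.symm
  rw [this]
  exact M.add_mem (M.mul_mem_left _ h) (M.mul_mem_left _ hpM)

theorem intCast_mem_iff (hM : IsPModular p M) (n : ℤ) : (n : AlgInt) ∈ M ↔ (p : ℤ) ∣ n := by
  rcases Int.natAbs_eq n with h | h <;> rw [h]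
  · rw [Int.cast_natCast, natCast_mem_iff hM, Int.natCast_dvd_natCast]
  · rw [Int.cast_neg, M.neg_mem_iff, Int.cast_natCast, natCast_mem_iff hM, dvd_neg,
      Int.natCast_dvd_natCast]

theorem mem_local_of_mem {M : Ideal AlgInt} (h : M ≠ ⊤) {a : AlgInt} (ha : a ∈ M) :
    MemLocalIdeal M (a : ℂ) :=
  ⟨a, 1, ha, fun h1 => h ((Ideal.eq_top_iff_one M).mpr h1), by simp⟩

/-- An algebraic integer lying in the local ideal lies in the ideal. -/
theorem mem_of_memLocalIdeal (hM : M.IsPrime) {a : AlgInt} (h : MemLocalIdeal M (a : ℂ)) :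
    a ∈ M := by
  obtain ⟨u, v, hu, hv, huv⟩ := h
  have hv0 : (v : ℂ) ≠ 0 := fun h0 => hv (by
    rw [show v = 0 from Subtype.ext h0]; exact M.zero_mem)
  have : u = a * v := Subtype.ext (by
    rw [div_eq_iff hv0] at huv; simpa using huv)
  rw [this] at hu
  exact (hM.mem_or_mem hu).resolve_right hv

end CfsgLib.DegreeTools.ModM
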