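import Cfsg.Agent.Lib.DegreeTools.CentralSupport
import Cfsg.Agent.Lib.DegreeTools.KerTools
import Cfsg.Agent.Lib.DegreeTools.LinearChars
import Cfsg.Agent.Lib.Char.ClassSum
import Cfsg.Agent.S0165
import Cfsg.Agent.S0041
import Mathlib.GroupTheory.SchurZassenhaus
import Cfsg.Agent.Lib.PGroup.Basic

/-!
# Groups whose characters are multiplicative on coprime prime-power elements
-/

namespace CfsgLib.DegreeTools.Multiplicative

open CfsgLib CfsgLib.Char
open scoped commutatorElement ComplexConjugate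

variable {G : Type*} [Group G] [Finite G]

/-- The multiplicativity property. -/
def Mult (G : Type*) [Group G] : Prop :=
  ∀ (x y : G) (χ : Cfsg.IrrCharacter G), x ≠ 1 → y ≠ 1 →
    (∃ p q a b : ℕ, p.Prime ∧ q.Prime ∧ p ≠ q ∧ orderOf x = p ^ a ∧ orderOf y = q ^ b) →
    (χ : G → ℂ) (x * y) = (χ : G → ℂ) x * (χ : G → ℂ) y

/-- The sum of an irreducible character over a coset of a normal subgroup outside the kernel
vanishes. -/
theorem sum_coset_eq_zero (χ : Cfsg.IrrCharacter G) (K : Subgroup G) [hK : K.Normal]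
    [Fintype K] {k : G} (hk : k ∈ K) (hne : (χ : G → ℂ) k ≠ (χ : G → ℂ) 1) (g : G) :
    ∑ x : K, (χ : G → ℂ) (g * x) = 0 := by
  have h0 : ∑ x : K, (χ : G → ℂ) x = 0 := by
    by_contra h
    exact hne (le_ker_of_sum_ne_zero χ K h k hk)
  obtain ⟨n, ρ, hirr, hρ⟩ := χ.2
  haveI := hirr
  set A : Module.End ℂ (Fin n → ℂ) := ∑ k : K, ρ k with hA
  have hAc : ∀ g, A ∘ₗ ρ g = ρ g ∘ₗ A := by
    intro g
    rw [← Module.End.mul_eq_comp, ← Module.End.mul_eq_comp, hA, Finset.sum_mul, Finset.mul_sum]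
    refine Fintype.sum_equiv (MulAut.conjNormal g⁻¹).toEquiv _ _ fun k => ?_
    rw [← map_mul, ← map_mul]
    congr 1
    simp only [MulEquiv.toEquiv_eq_coe, MulEquiv.coe_toEquiv, MulAut.conjNormal_apply]
    group
  obtain ⟨c, hc⟩ := exists_eq_smul_of_commute ρ A hAc
  have hA0 : A = 0 := by
    have h1 : LinearMap.trace ℂ _ A = 0 := by
      rw [hA, map_sum]
      rw [← hρ] at h0
      exact h0
    rw [hc, map_smul, smul_eq_mul, LinearMap.trace_id] at h1
    have hn : (Module.finrank ℂ (Fin n → ℂ) : ℂ) ≠ 0 :=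
      Nat.cast_ne_zero.mpr (irreducible_finrank_pos (ρ := ρ)).ne'
    rw [hc, (mul_eq_zero.mp h1).resolve_right hn, zero_smul]
  rw [← hρ]
  show ∑ x : K, LinearMap.trace ℂ _ (ρ (g * x)) = 0
  rw [← map_sum]
  simp only [map_mul, ← Finset.mul_sum]
  rw [show ∑ k : K, ρ k = A from hA.symm, hA0, mul_zero, map_zero]

/-- Under multiplicativity a nonlinear character kills one of two coprime prime-power elements. -/
theorem Mult.apply_mul_apply (H : Mult G) (χ : Cfsg.IrrCharacter G) (hχ : (χ : G → ℂ) 1 ≠ 1)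
    {x y : G} (hx : x ≠ 1) (hy : y ≠ 1) {p q a b : ℕ} (hp : p.Prime) (hq : q.Prime) (hpq : p ≠ q)
    (hox : orderOf x = p ^ a) (hoy : orderOf y = q ^ b) :
    (χ : G → ℂ) x * (χ : G → ℂ) y = 0 := by
  classical
  cases nonempty_fintype G
  have hterm : ∀ h : G, (χ : G → ℂ) (x * (h * y * h⁻¹)) = (χ : G → ℂ) x * (χ : G → ℂ) y := by
    intro h
    rw [H x (h * y * h⁻¹) χ hx (fun e => hy (by
      calc y = h⁻¹ * (h * y * h⁻¹) * h := by group
        _ = 1 := by rw [e]; group))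
      ⟨p, q, a, b, hp, hq, hpq, hox, by
        rw [← hoy]
        exact MulEquiv.orderOf_eq (MulAut.conj h) y⟩,
      IsIrrCharacter.isClassFunction χ.2 y h]
  have h := IsIrrCharacter.sum_mul_conjugate χ.2 x y
  simp only [hterm, Finset.sum_const, Finset.card_univ, nsmul_eq_mul,
    ← Nat.card_eq_fintype_card] at h
  rw [mul_assoc (Nat.card G : ℂ), mul_div_assoc] at h
  have h2 := mul_left_cancel₀ (card_ne_zero (G := G)) h
  rw [eq_div_iff (IsIrrCharacter.apply_one_ne_zero χ.2)] at h2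
  by_contra hne
  exact hχ (mul_left_cancel₀ hne (h2.trans (mul_one _).symm))

/-- Vanishing on the nonidentity `r`-elements forces vanishing at all `r`-singular elements. -/
theorem vanish_singular (χ : Cfsg.IrrCharacter G) {r : ℕ} (hr : r.Prime)
    (h : ∀ x : G, x ≠ 1 → (∃ k, orderOf x = r ^ k) → (χ : G → ℂ) x = 0) {g : G}
    (hg : r ∣ orderOf g) : (χ : G → ℂ) g = 0 := by
  classical
  haveI := Fact.mk hr
  obtain ⟨R⟩ : Nonempty (Sylow r G) := inferInstance
  cases nonempty_fintype G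
  obtain ⟨n, hn⟩ := IsCharacter.classInner_nat
    (IsCharacter.restrict (isCharacter_irr χ) (R : Subgroup G)) isCharacter_one
  rw [Cfsg.classInner, inv_mul_eq_iff_eq_mul₀ card_ne_zero] at hn
  simp only [map_one, mul_one] at hn
  rw [Finset.sum_eq_single (1 : (R : Subgroup G)) (fun x _ hx => by
      obtain ⟨k, hk⟩ := IsPGroup.iff_orderOf.mp R.isPGroup' x
      exact h x (fun e => hx (Subtype.ext e)) ⟨k, by rw [Subgroup.orderOf_coe, hk]⟩)
    (fun h => absurd (Finset.mem_univ _) h), Subgroup.coe_one, ← deg_cast] at hn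
  have hdeg : Nat.card (R : Subgroup G) ∣ Cfsg.charDegree (χ : G → ℂ) :=
    ⟨n, by exact_mod_cast hn⟩
  rw [R.card_eq_multiplicity] at hdeg
  obtain ⟨m, ρ, hirr, hρ⟩ := χ.2
  haveI := hirr
  rw [← hρ]
  refine Cfsg.Agent.S0165.result ρ r _ hr (Nat.ordProj_dvd _ _)
    (Nat.pow_succ_factorization_not_dvd Nat.card_pos.ne' hr) ?_ g hg
  have : Cfsg.charDegree (χ : G → ℂ) = Module.finrank ℂ (Fin m → ℂ) := by
    apply Nat.cast_injective (R := ℂ)
    rw [deg_cast, ← hρ, Representation.char_one]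
  rwa [this] at hdeg

/-- A single prime governs the supports of the nonlinear characters. -/
theorem Mult.exists_prime (H : Mult G) (hab : ¬ IsMulCommutative G) :
    ∃ p : ℕ, p.Prime ∧ ∀ χ : Cfsg.IrrCharacter G, (χ : G → ℂ) 1 ≠ 1 →
      ∀ g : G, ∀ r : ℕ, r.Prime → r ≠ p → r ∣ orderOf g → (χ : G → ℂ) g = 0 := by
  classical
  cases nonempty_fintype G
  have hone : ∀ χ : Cfsg.IrrCharacter G, (χ : G → ℂ) 1 ≠ 1 → ∃ q : ℕ, q.Prime ∧
      ∀ g : G, ∀ r : ℕ, r.Prime → r ≠ q → r ∣ orderOf g → (χ : G → ℂ) g = 0 := by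
    intro χ hχ
    by_cases hex : ∃ q : ℕ, q.Prime ∧ ∃ x : G, x ≠ 1 ∧ (∃ a, orderOf x = q ^ a) ∧
        (χ : G → ℂ) x ≠ 0
    · obtain ⟨q, hq, x, hx, ⟨a, hxa⟩, hχx⟩ := hex
      refine ⟨q, hq, fun g r hr hrq hg => vanish_singular χ hr (fun y hy hyr => ?_) hg⟩
      obtain ⟨b, hyb⟩ := hyr
      exact (mul_eq_zero.mp
        (H.apply_mul_apply χ hχ hx hy hq hr (Ne.symm hrq) hxa hyb)).resolve_left hχx
    · push Not at hex
      exfalso
      have hne : χ ≠ oneChar G := fun h => hχ (by rw [h]; rfl)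
      have hsum := sum_eq_zero χ hne
      rw [Finset.sum_eq_single (1 : G) (fun g _ hg => by
        obtain ⟨r, hr, hrg⟩ := Nat.exists_prime_and_dvd (fun h => hg (orderOf_eq_one_iff.mp h))
        exact vanish_singular χ hr (fun y hy hyr => hex r hr y hy hyr) hrg)
        (fun h => absurd (Finset.mem_univ _) h)] at hsum
      exact IsIrrCharacter.apply_one_ne_zero χ.2 hsum
  obtain ⟨χ₀, hχ₀⟩ : ∃ χ : Cfsg.IrrCharacter G, (χ : G → ℂ) 1 ≠ 1 := by
    by_contra h
    push Not at h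
    exact hab ⟨⟨comm_iff_forall_linear.mpr h⟩⟩
  obtain ⟨p, hp, hp'⟩ := hone χ₀ hχ₀
  refine ⟨p, hp, fun χ hχ => ?_⟩
  obtain ⟨q, hq, hq'⟩ := hone χ hχ
  rcases eq_or_ne q p with rfl | hqp
  · exact hq'
  by_cases heq : χ₀ = χ
  · exact heq ▸ hp'
  exfalso
  have horth := sum_mul_conj χ₀ χ heq
  rw [Finset.sum_eq_single (1 : G) (fun g _ hg => by
      obtain ⟨r, hr, hrg⟩ := Nat.exists_prime_and_dvd (fun h => hg (orderOf_eq_one_iff.mp h))
      rcases eq_or_ne r p with rfl | hrp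
      · rw [hq' g r hr (Ne.symm hqp) hrg, map_zero, mul_zero]
      · rw [hp' g r hr hrp hrg, zero_mul])
    (fun h => absurd (Finset.mem_univ _) h), ← deg_cast, ← deg_cast, Complex.conj_natCast,
    mul_eq_zero] at horth
  rcases horth with h | h <;> rw [Nat.cast_eq_zero] at h <;>
    exact absurd h (deg_pos _).ne'

/-- The forward direction. -/
theorem Mult.structure' (H : Mult G) (hnp : ∀ p : ℕ, p.Prime → ¬ IsPGroup p G)
    (hab : ¬ IsMulCommutative G) :
    ∃ (p : ℕ) (_ : Fact p.Prime) (P : Sylow p G) (A : Subgroup G), (P : Subgroup G).Normal ∧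
      IsCyclic ↥A ∧ A ≠ ⊥ ∧ (Nat.card ↥A).Coprime p ∧ A ⊔ (P : Subgroup G) = ⊤ ∧
      IsMulCommutative ↥((P : Subgroup G) ⊓ Subgroup.centralizer (A : Set G)) ∧
      (⁅A, (P : Subgroup G)⁆).Normal ∧
      ((P : Subgroup G) ⊓ Subgroup.centralizer (A : Set G)) ⊔ ⁅A, (P : Subgroup G)⁆ =
        (P : Subgroup G) ∧
      ((P : Subgroup G) ⊓ Subgroup.centralizer (A : Set G)) ⊓ ⁅A, (P : Subgroup G)⁆ = ⊥ ∧
      ∀ a ∈ A, a ≠ 1 → ∀ d ∈ ⁅A, (P : Subgroup G)⁆, a * d = d * a → d = 1 := by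
  classical
  cases nonempty_fintype G
  obtain ⟨p, hp, hvan⟩ := H.exists_prime hab
  haveI := Fact.mk hp
  set D := commutator G with hD
  -- the derived subgroup is a `p`-group
  have hDp : IsPGroup p D := by
    rw [IsPGroup.iff_orderOf]
    intro g
    refine ⟨_, Nat.eq_prime_pow_of_unique_prime_dvd (orderOf_pos g).ne' fun {r} hr hrg => ?_⟩
    by_contra hrp
    have hne : ((g : G)) ^ (orderOf g / r) ≠ 1 := by
      intro e
      have hpos : 0 < orderOf g / r :=
        Nat.div_pos (Nat.le_of_dvd (orderOf_pos g) hrg) hr.pos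
      have := Nat.le_of_dvd hpos (orderOf_dvd_of_pow_eq_one (Subtype.ext (by simpa using e) :
        g ^ (orderOf g / r) = 1))
      exact absurd this (not_le.mpr (Nat.div_lt_self (orderOf_pos g) hr.one_lt))
    have hord : r ∣ orderOf ((g : G) ^ (orderOf g / r)) := by
      rw [orderOf_pow' _ (fun e => hne (by rw [e, pow_zero])), Subgroup.orderOf_coe,
        Nat.gcd_eq_right (Nat.div_dvd_of_dvd hrg), Nat.div_div_self hrg (orderOf_pos g).ne']
    set z := (g : G) ^ (orderOf g / r)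
    have hzD : z ∈ D := pow_mem g.2 _
    have h0 := sum_deg_mul z hne
    rw [← Finset.sum_filter_add_sum_filter_not Finset.univ
      (fun χ : Cfsg.IrrCharacter G => (χ : G → ℂ) 1 = 1)] at h0
    rw [Finset.sum_eq_zero (s := Finset.univ.filter fun χ : Cfsg.IrrCharacter G =>
        ¬ (χ : G → ℂ) 1 = 1) (fun χ hχ => by
      rw [hvan χ (Finset.mem_filter.mp hχ).2 z r hr hrp hord, mul_zero]), add_zero,
      Finset.sum_congr rfl (fun χ hχ => by
        rw [linear_apply_commutator χ (Finset.mem_filter.mp hχ).2 hzD, deg_cast,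
          (Finset.mem_filter.mp hχ).2, mul_one]), Finset.sum_const, nsmul_eq_mul, mul_one,
      Nat.cast_eq_zero, Finset.card_eq_zero] at h0
    have : oneChar G ∈ Finset.univ.filter fun χ : Cfsg.IrrCharacter G => (χ : G → ℂ) 1 = 1 :=
      Finset.mem_filter.mpr ⟨Finset.mem_univ _, rfl⟩
    rw [h0] at this
    exact Finset.notMem_empty _ this
  obtain ⟨P, hDP⟩ := hDp.exists_le_sylow
  haveI hPn : (P : Subgroup G).Normal := ⟨fun n hn g => by
    rw [show g * n * g⁻¹ = ⁅g, n⁆ * n by rw [commutatorElement_def]; group]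
    refine mul_mem (hDP ?_) hn
    rw [hD, commutator_def]
    exact Subgroup.commutator_mem_commutator (Subgroup.mem_top g) (Subgroup.mem_top n)⟩
  obtain ⟨A, hA⟩ := Subgroup.exists_right_complement'_of_coprime (Sylow.card_coprime_index P)
  have hAP : A ⊔ (P : Subgroup G) = ⊤ := by rw [sup_comm]; exact hA.sup_eq_top
  have hPA : (P : Subgroup G) ⊓ A = ⊥ := disjoint_iff.mp hA.disjoint
  have hcop : (Nat.card A).Coprime p := by
    have h := Sylow.card_coprime_index P
    rw [hA.symm.index_eq_card] at h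
    rcases Nat.eq_zero_or_pos ((Nat.card G).factorization p) with h0 | h0
    · refine (hp.coprime_iff_not_dvd.mpr fun hd => ?_).symm
      exact absurd h0 ((hp.factorization_pos_of_dvd Nat.card_pos.ne'
        (hd.trans A.card_subgroup_dvd_card)).ne')
    · rw [P.card_eq_multiplicity] at h
      exact (Nat.Coprime.coprime_dvd_left (dvd_pow_self p h0.ne') h).symm
  have hAbot : A ≠ ⊥ := by
    intro h
    rw [h, bot_sup_eq] at hAP
    exact hnp p hp fun g => by
      obtain ⟨k, hk⟩ := P.isPGroup' ⟨g, hAP ▸ Subgroup.mem_top g⟩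
      exact ⟨k, congrArg Subtype.val hk⟩
  have hAab : ∀ a ∈ A, ∀ b ∈ A, a * b = b * a := by
    intro a ha b hb
    rw [← commutatorElement_eq_one_iff_mul_comm, ← Subgroup.mem_bot, ← hPA]
    refine ⟨hDP ?_, ?_⟩
    · rw [hD, commutator_def]
      exact Subgroup.commutator_mem_commutator (Subgroup.mem_top a) (Subgroup.mem_top b)
    · rw [commutatorElement_def]
      exact A.mul_mem (A.mul_mem (A.mul_mem ha hb) (A.inv_mem ha)) (A.inv_mem hb)
  have hDmem : ∀ a b : G, ⁅a, b⁆ ∈ D := fun a b => by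
    rw [hD, commutator_def]
    exact Subgroup.commutator_mem_commutator (Subgroup.mem_top a) (Subgroup.mem_top b)
  -- fixed point freeness
  have hfpf : ∀ a ∈ A, a ≠ 1 → ∀ d ∈ D, a * d = d * a → d = 1 := by
    intro a ha ha1 d hd hcomm
    have hocop : (orderOf a).Coprime p :=
      Nat.Coprime.coprime_dvd_left (A.orderOf_dvd_natCard ha) hcop
    obtain ⟨r, hr, hra⟩ := Nat.exists_prime_and_dvd (fun h => ha1 (orderOf_eq_one_iff.mp h))
    have hrp : r ≠ p := fun e => hp.one_lt.ne'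
      (Nat.eq_one_of_dvd_coprimes hocop (e ▸ hra) dvd_rfl)
    have hcard := card_centralizer_of_vanish a fun χ hχ => hvan χ hχ a r hr hrp hra
    have hclass : Nat.card {y : G // IsConj a y} = Nat.card D := by
      have e : Nat.card {y : G // IsConj a y} =
          (Subgroup.centralizer ({a} : Set G)).index :=
        CfsgLib.PGroup.Basic.conj_card_eq_index a
      rw [e]
      have h1 := Subgroup.card_mul_index (Subgroup.centralizer ({a} : Set G))
      rw [hcard, ← Subgroup.index_mul_card D] at h1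
      exact Nat.eq_of_mul_eq_mul_left (Subgroup.index_ne_zero_of_finite (H := D)).bot_lt h1
    have hmap : ∀ y : {y : G // IsConj a y}, a⁻¹ * (y : G) ∈ D := by
      rintro ⟨y, hy⟩
      obtain ⟨c, rfl⟩ := isConj_iff.mp hy
      convert hDmem a⁻¹ c using 1
      rw [commutatorElement_def]
      group
    have hbij : Function.Bijective fun y : {y : G // IsConj a y} => (⟨_, hmap y⟩ : D) := by
      rw [Nat.bijective_iff_injective_and_card]
      exact ⟨fun y y' h => Subtype.ext (mul_left_cancel (congrArg Subtype.val h)), hclass⟩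
    obtain ⟨⟨y, hy⟩, hy'⟩ := hbij.2 ⟨d, hd⟩
    have hyd : y = a * d := by
      rw [← (show a⁻¹ * y = d from congrArg Subtype.val hy')]
      group
    obtain ⟨c, hc⟩ := isConj_iff.mp hy
    have ho : orderOf (a * d) = orderOf a := by
      rw [← hyd, ← hc]
      exact MulEquiv.orderOf_eq (MulAut.conj c) a
    obtain ⟨k, hk⟩ := IsPGroup.iff_orderOf.mp hDp ⟨d, hd⟩
    rw [Subgroup.orderOf_mk] at hk
    rw [Commute.orderOf_mul_eq_mul_orderOf_of_coprime hcomm
      (hk ▸ Nat.Coprime.pow_right k hocop)] at ho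
    exact orderOf_eq_one_iff.mp ((Nat.mul_eq_left (orderOf_pos a).ne').mp ho)
  obtain ⟨a₀, ha₀, ha₀1⟩ := A.bot_or_exists_ne_one.resolve_left hAbot
  -- the commutator map of `a₀` is onto the derived subgroup
  have hsurj : Function.Surjective fun d : D => (⟨⁅a₀, (d : G)⁆, hDmem _ _⟩ : D) := by
    refine Finite.surjective_of_injective fun d d' h => ?_
    have h' : ⁅a₀, (d : G)⁆ = ⁅a₀, (d' : G)⁆ := congrArg Subtype.val h
    have h'' : a₀ * ((d' : G)⁻¹ * d) = ((d' : G)⁻¹ * d) * a₀ := by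
      have e : (d' : G)⁻¹ * (⁅a₀, (d : G)⁆ * ⁅a₀, (d' : G)⁆⁻¹) * d' = (d' : G)⁻¹ *
          (a₀ * (d : G) * a₀⁻¹ * (d : G)⁻¹ * d' * a₀ * (d' : G)⁻¹ * a₀⁻¹) * d' := by
        rw [commutatorElement_def, commutatorElement_def]; group
      simp only [commutatorElement_def] at h'
      calc a₀ * ((d' : G)⁻¹ * d)
          = a₀ * (d' : G)⁻¹ * a₀⁻¹ * (a₀ * d * a₀⁻¹ * (d : G)⁻¹) * (d : G) * a₀ := by group
        _ = a₀ * (d' : G)⁻¹ * a₀⁻¹ * (a₀ * d' * a₀⁻¹ * (d' : G)⁻¹) * (d : G) * a₀ := by rw [h']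
        _ = ((d' : G)⁻¹ * d) * a₀ := by group
    exact Subtype.ext (inv_mul_eq_one.mp
      (hfpf a₀ ha₀ ha₀1 _ (mul_mem (inv_mem d'.2) d.2) h'')).symm
  have hAPD : ⁅A, (P : Subgroup G)⁆ = D := by
    refine le_antisymm ?_ fun d hd => ?_
    · rw [hD, commutator_def]
      exact Subgroup.commutator_mono le_top le_top
    · obtain ⟨x, hx⟩ := hsurj ⟨d, hd⟩
      rw [show d = ⁅a₀, (x : G)⁆ from (congrArg Subtype.val hx).symm]
      exact Subgroup.commutator_mem_commutator ha₀ (hDP x.2)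
  have hCD : ((P : Subgroup G) ⊓ Subgroup.centralizer (A : Set G)) ⊓ D = ⊥ := by
    rw [eq_bot_iff]
    rintro x ⟨⟨-, hxc⟩, hxD⟩
    exact Subgroup.mem_bot.mpr (hfpf a₀ ha₀ ha₀1 x hxD
      (Subgroup.mem_centralizer_iff.mp hxc a₀ ha₀))
  refine ⟨p, ⟨hp⟩, P, A, hPn, ?_, hAbot, hcop, hAP, ?_, ?_, ?_, ?_, ?_⟩
  · -- cyclic
    set V := D ⊓ Subgroup.centralizer (D : Set G)
    haveI : IsMulCommutative V := ⟨⟨fun x y => Subtype.ext
      (Subgroup.mem_centralizer_iff.mp y.2.2 x x.2.1)⟩⟩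
    have hDbot : D ≠ ⊥ := by
      intro h
      refine hab ⟨⟨fun a b => ?_⟩⟩
      have := hDmem a b
      rw [h, Subgroup.mem_bot] at this
      exact commutatorElement_eq_one_iff_mul_comm.mp this
    have hV : V ≠ ⊥ := by
      haveI : Nontrivial D := (Subgroup.nontrivial_iff_ne_bot D).mpr hDbot
      haveI := hDp.center_nontrivial
      obtain ⟨⟨z, hz⟩, hz1⟩ := exists_ne (1 : Subgroup.center D)
      intro h
      refine hz1 (Subtype.ext (Subtype.ext ?_))
      rw [Subgroup.mem_center_iff] at hz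
      have : (z : G) ∈ V := ⟨z.2, Subgroup.mem_centralizer_iff.mpr fun w hw =>
        congrArg Subtype.val (hz ⟨w, hw⟩)⟩
      rw [h, Subgroup.mem_bot] at this
      exact this
    refine Cfsg.Agent.S0041.result A V hV ?_ (fun a ha ha1 => ?_) (Or.inl ⟨⟨fun a b =>
      Subtype.ext (hAab a a.2 b b.2)⟩⟩)
    · haveI : V.Normal := Subgroup.normal_inf_normal D (Subgroup.centralizer (D : Set G))
      rw [Subgroup.normalizer_eq_top]
      exact le_top
    · rw [eq_bot_iff]
      rintro x ⟨hxV, hxa⟩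
      exact Subgroup.mem_bot.mpr (hfpf a ha ha1 x hxV.1
        (Subgroup.mem_centralizer_singleton_iff.mp hxa).symm)
  · refine ⟨⟨fun x y => Subtype.ext ?_⟩⟩
    show (x : G) * y = y * x
    rw [← commutatorElement_eq_one_iff_mul_comm, ← Subgroup.mem_bot, ← hCD]
    refine ⟨?_, hDmem _ _⟩
    rw [commutatorElement_def]
    exact Subgroup.mul_mem _ (Subgroup.mul_mem _ (Subgroup.mul_mem _ x.2 y.2) (Subgroup.inv_mem _ x.2))
      (Subgroup.inv_mem _ y.2)
  · rw [hAPD]; infer_instance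
  · rw [hAPD]
    refine le_antisymm (sup_le inf_le_left hDP) fun u hu => ?_
    obtain ⟨d, hd⟩ := hsurj ⟨⁅a₀, u⁆, hDmem _ _⟩
    have hd' : ⁅a₀, (d : G)⁆ = ⁅a₀, u⁆ := congrArg Subtype.val hd
    set w := (d : G)⁻¹ * u with hw
    have hwP : w ∈ (P : Subgroup G) := mul_mem (inv_mem (hDP d.2)) hu
    have hwa : a₀ * w = w * a₀ := by
      simp only [commutatorElement_def] at hd'
      calc a₀ * ((d : G)⁻¹ * u)
          = a₀ * (d : G)⁻¹ * a₀⁻¹ * (a₀ * u * a₀⁻¹ * u⁻¹) * u * a₀ := by group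
        _ = a₀ * (d : G)⁻¹ * a₀⁻¹ * (a₀ * d * a₀⁻¹ * (d : G)⁻¹) * u * a₀ := by rw [hd']
        _ = ((d : G)⁻¹ * u) * a₀ := by group
    have hwC : w ∈ Subgroup.centralizer (A : Set G) := by
      rw [Subgroup.mem_centralizer_iff]
      intro b hb
      rw [← commutatorElement_eq_one_iff_mul_comm]
      refine hfpf a₀ ha₀ ha₀1 _ (hDmem b w) ?_
      have c1 : Commute a₀ b := hAab a₀ ha₀ b hb
      have c2 : Commute a₀ w := hwa
      rw [commutatorElement_def]
      exact ((c1.mul_right c2).mul_right c1.inv_right).mul_right c2.inv_right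
    rw [show u = (d : G) * w by rw [hw]; group]
    exact mul_mem (Subgroup.mem_sup_right d.2) (Subgroup.mem_sup_left ⟨hwP, hwC⟩)
  · rw [hAPD]; exact hCD
  · rw [hAPD]; exact hfpf

/-- The converse direction. -/
theorem mult_of_structure {p : ℕ} [hp : Fact p.Prime] (P : Sylow p G) (A : Subgroup G)
    [(P : Subgroup G).Normal] [IsCyclic A] (hcop : (Nat.card A).Coprime p)
    (hAP : A ⊔ (P : Subgroup G) = ⊤)
    (hC : IsMulCommutative ↥((P : Subgroup G) ⊓ Subgroup.centralizer (A : Set G)))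
    [hDn : (⁅A, (P : Subgroup G)⁆).Normal]
    (hPCD : ((P : Subgroup G) ⊓ Subgroup.centralizer (A : Set G)) ⊔ ⁅A, (P : Subgroup G)⁆ =
      (P : Subgroup G))
    (hfpf : ∀ a ∈ A, a ≠ 1 → ∀ d ∈ ⁅A, (P : Subgroup G)⁆, a * d = d * a → d = 1) : Mult G := by
  classical
  cases nonempty_fintype G
  set D := ⁅A, (P : Subgroup G)⁆
  set C := (P : Subgroup G) ⊓ Subgroup.centralizer (A : Set G)
  have hAab : ∀ a ∈ A, ∀ b ∈ A, a * b = b * a := fun a ha b hb => by
    haveI : IsMulCommutative A := IsCyclic.isMulCommutative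
    exact congrArg Subtype.val (IsMulCommutative.is_comm.comm (⟨a, ha⟩ : A) ⟨b, hb⟩)
  have hdec : ∀ g : G, ∃ a ∈ A, ∃ c ∈ C, ∃ d ∈ D, g = a * c * d := by
    intro g
    obtain ⟨a, ha, u, hu, rfl⟩ :=
      (Subgroup.mem_sup_of_normal_right).mp (hAP ▸ Subgroup.mem_top g)
    obtain ⟨c, hc, d, hd, rfl⟩ :=
      (Subgroup.mem_sup_of_normal_right).mp (show u ∈ C ⊔ D by rw [hPCD]; exact hu)
    exact ⟨a, ha, c, hc, d, hd, (mul_assoc _ _ _).symm⟩
  -- nonlinear characters vanish outside `P`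
  have hvan : ∀ χ : Cfsg.IrrCharacter G, (χ : G → ℂ) 1 ≠ 1 → ∀ g, g ∉ (P : Subgroup G) →
      (χ : G → ℂ) g = 0 := by
    intro χ hχ g hg
    obtain ⟨a, ha, c, hc, d, hd, rfl⟩ := hdec g
    have hDP : D ≤ (P : Subgroup G) := hPCD ▸ le_sup_right
    have ha1 : a ≠ 1 := fun h => hg (by rw [h, one_mul]; exact mul_mem hc.1 (hDP hd))
    obtain ⟨k, hk, hkne⟩ : ∃ k ∈ D, (χ : G → ℂ) k ≠ (χ : G → ℂ) 1 := by
      obtain ⟨x, y, hxy⟩ := exists_commutator_apply_ne χ (fun h => hχ ((deg_eq_one_iff χ).mp h))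
      refine ⟨⁅x, y⁆, ?_, hxy⟩
      obtain ⟨a1, ha1', c1, hc1, d1, hd1, rfl⟩ := hdec x
      obtain ⟨a2, ha2, c2, hc2, d2, hd2, rfl⟩ := hdec y
      rw [← QuotientGroup.eq_one_iff, ← QuotientGroup.mk'_apply, map_commutatorElement,
        commutatorElement_eq_one_iff_mul_comm]
      simp only [map_mul, QuotientGroup.mk'_apply, (QuotientGroup.eq_one_iff d1).mpr hd1,
        (QuotientGroup.eq_one_iff d2).mpr hd2, mul_one, ← QuotientGroup.mk_mul]
      have k1 : Commute a1 a2 := hAab a1 ha1' a2 ha2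
      have k2 : Commute a1 c2 := Subgroup.mem_centralizer_iff.mp hc2.2 a1 ha1'
      have k3 : Commute a2 c1 := Subgroup.mem_centralizer_iff.mp hc1.2 a2 ha2
      have k4 : Commute c1 c2 := congrArg Subtype.val (hC.is_comm.comm (⟨c1, hc1⟩ : C) ⟨c2, hc2⟩)
      exact congrArg _ (Commute.mul_left (k1.mul_right k2) (k3.symm.mul_right k4))
    -- the element `a * c` has trivial centraliser in `D`
    have hu : ∀ x ∈ D, a * c * x = x * (a * c) → x = 1 := by
      intro x hx hxu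
      have hac : Commute a c := Subgroup.mem_centralizer_iff.mp hc.2 a ha
      have h1 : (a * c) ^ Nat.card (P : Subgroup G) = a ^ Nat.card (P : Subgroup G) := by
        rw [hac.mul_pow, show c ^ Nat.card (P : Subgroup G) = 1 from
          congrArg Subtype.val (pow_card_eq_one' (x := (⟨c, hc.1⟩ : (P : Subgroup G)))), mul_one]
      refine hfpf (a ^ Nat.card (P : Subgroup G)) (pow_mem ha _) (fun e => ha1 ?_) x hx ?_
      · rw [← orderOf_eq_one_iff]
        rw [P.card_eq_multiplicity] at e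
        exact Nat.eq_one_of_dvd_coprimes
          (Nat.Coprime.pow_right _ (Nat.Coprime.coprime_dvd_left (A.orderOf_dvd_natCard ha) hcop))
          dvd_rfl (orderOf_dvd_of_pow_eq_one e)
      · rw [← h1]
        exact (Commute.pow_left (show Commute (a * c) x from hxu) _).eq
    have hmem : ∀ x : D, (a * c)⁻¹ * ((x : G) * (a * c) * (x : G)⁻¹) ∈ D := fun x => by
      rw [show (a * c)⁻¹ * ((x : G) * (a * c) * (x : G)⁻¹) =
        (a * c)⁻¹ * (x : G) * ((a * c)⁻¹)⁻¹ * (x : G)⁻¹ by group]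
      exact mul_mem (hDn.conj_mem _ x.2 _) (inv_mem x.2)
    have hsurj : Function.Surjective fun x : D => (⟨_, hmem x⟩ : D) := by
      refine Finite.surjective_of_injective fun x x' h => ?_
      have h' : (x : G) * (a * c) * (x : G)⁻¹ = (x' : G) * (a * c) * (x' : G)⁻¹ :=
        mul_left_cancel (congrArg Subtype.val h)
      refine Subtype.ext (inv_mul_eq_one.mp (hu _ (mul_mem (inv_mem x'.2) x.2) ?_)).symm
      calc a * c * ((x' : G)⁻¹ * x)
          = (x' : G)⁻¹ * ((x' : G) * (a * c) * (x' : G)⁻¹) * x := by group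
        _ = (x' : G)⁻¹ * ((x : G) * (a * c) * (x : G)⁻¹) * x := by rw [h']
        _ = (x' : G)⁻¹ * x * (a * c) := by group
    have hconst : ∀ e : D, (χ : G → ℂ) (a * c * e) = (χ : G → ℂ) (a * c) := by
      intro e
      obtain ⟨x, hx⟩ := hsurj e
      rw [← show (a * c)⁻¹ * ((x : G) * (a * c) * (x : G)⁻¹) = (e : G) from
        congrArg Subtype.val hx, mul_inv_cancel_left, IsIrrCharacter.isClassFunction χ.2]
    have h0 := sum_coset_eq_zero χ D hk hkne (a * c)
    simp only [hconst, Finset.sum_const, Finset.card_univ, nsmul_eq_mul, mul_eq_zero,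
      Nat.cast_eq_zero] at h0
    rw [hconst ⟨d, hd⟩]
    exact h0.resolve_left Fintype.card_ne_zero
  intro x y χ hx hy ⟨q, r, i, j, hq, hr, hqr, hox, hoy⟩
  by_cases hχ : (χ : G → ℂ) 1 = 1
  · exact linear_apply_mul χ hχ x y
  -- a product of coprime elements in `P` forces both into `P`
  have hboth : ¬ (x ∈ (P : Subgroup G) ∧ y ∈ (P : Subgroup G)) := by
    rintro ⟨hxP, hyP⟩
    have key : ∀ {z : G} {s l : ℕ}, z ∈ (P : Subgroup G) → z ≠ 1 → s.Prime →
        orderOf z = s ^ l → s = p := by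
      intro z s l hz hz1 hs hzl
      obtain ⟨m, hm⟩ := IsPGroup.iff_orderOf.mp P.isPGroup' ⟨z, hz⟩
      rw [Subgroup.orderOf_mk, hzl] at hm
      have hl : l ≠ 0 := fun h => hz1 (orderOf_eq_one_iff.mp (by rw [hzl, h, pow_zero]))
      exact (Nat.prime_dvd_prime_iff_eq hs hp.out).mp
        (hs.dvd_of_dvd_pow (hm ▸ dvd_pow_self s hl))
    exact hqr ((key hxP hx hq hox).trans (key hyP hy hr hoy).symm)
  have hxy : x * y ∉ (P : Subgroup G) := by
    intro h
    apply hboth
    set f := QuotientGroup.mk' (P : Subgroup G)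
    have h1 : f x * f y = 1 := by
      rw [← map_mul]; exact (QuotientGroup.eq_one_iff _).mpr h
    have hx1 : f x = 1 := by
      rw [← orderOf_eq_one_iff]
      refine Nat.eq_one_of_dvd_coprimes
        (Nat.Coprime.pow i j ((Nat.coprime_primes hq hr).mpr hqr))
        (hox ▸ orderOf_map_dvd f x) ?_
      rw [eq_inv_of_mul_eq_one_left h1, orderOf_inv]
      exact hoy ▸ orderOf_map_dvd f y
    refine ⟨(QuotientGroup.eq_one_iff x).mp hx1, (QuotientGroup.eq_one_iff y).mp ?_⟩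
    rw [hx1, one_mul] at h1
    exact h1
  rw [hvan χ hχ _ hxy]
  rcases not_and_or.mp hboth with h | h
  · rw [hvan χ hχ _ h, zero_mul]
  · rw [hvan χ hχ _ h, mul_zero]

end CfsgLib.DegreeTools.Multiplicative
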