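import Cfsg.Agent.Lib.DegreeTools.CentralSupport
import Cfsg.Agent.Lib.CharDeep.Clifford
import Cfsg.Agent.Lib.CharDeep.IrrTools
import Cfsg.Agent.Lib.Char.CliffordCorr
import Cfsg.Agent.Lib.Char.Monomial
import Cfsg.Agent.Lib.Solvable.Cores
import Cfsg.Agent.Lib.Solvable.FrattiniFitting
import Mathlib.GroupTheory.Nilpotent

/-!
# Products of Galois-conjugate faithful characters

If `χ` is faithful and `g ↦ χ g * χ (g ^ k)` is irreducible, then `F(G) = Z(G)`.
-/

namespace CfsgLib.DegreeTools.ProductIrr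

open CfsgLib CfsgLib.Char
open scoped commutatorElement ComplexConjugate

variable {G : Type*} [Group G]

/-- The projection formula. -/
theorem indFun_mul_restrict [Fintype G] (T : Subgroup G) (η : T → ℂ) {f : G → ℂ}
    (hf : Cfsg.IsClassFunction G f) :
    Cfsg.indFun T (fun t => η t * f t) = fun g => Cfsg.indFun T η g * f g := by
  funext g
  rw [indFun_def, indFun_def, mul_assoc, Finset.sum_mul]
  congr 1
  refine Finset.sum_congr rfl fun x _ => ?_
  by_cases h : x⁻¹ * g * x ∈ T
  · rw [extendByZero_apply_mem T _ h, extendByZero_apply_mem T _ h]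
    congr 1
    show f (x⁻¹ * g * x) = f g
    rw [show x⁻¹ * g * x = x⁻¹ * g * x⁻¹⁻¹ by rw [inv_inv]]
    exact hf g x⁻¹
  · rw [extendByZero_apply_notMem T _ h, extendByZero_apply_notMem T _ h, zero_mul]

/-- An irreducible character is not the sum of two nonzero characters. -/
theorem not_irr_add [Fintype G] {a b : G → ℂ} (ha : Cfsg.IsCharacter G a)
    (hb : Cfsg.IsCharacter G b) (ha0 : a ≠ 0) (hb0 : b ≠ 0) :
    ¬ Cfsg.IsIrrCharacter G (a + b) := by
  intro h
  have h1 := classInner_irr_self h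
  obtain ⟨n₁, e₁⟩ := IsCharacter.classInner_nat ha ha
  obtain ⟨n₂, e₂⟩ := IsCharacter.classInner_nat ha hb
  obtain ⟨n₃, e₃⟩ := IsCharacter.classInner_nat hb ha
  obtain ⟨n₄, e₄⟩ := IsCharacter.classInner_nat hb hb
  have p₁ : n₁ ≠ 0 := fun e => ha0 (classInner_self_eq_zero.mp (by rw [e₁, e, Nat.cast_zero]))
  have p₄ : n₄ ≠ 0 := fun e => hb0 (classInner_self_eq_zero.mp (by rw [e₄, e, Nat.cast_zero]))
  rw [classInner_add_left, classInner_add_right, classInner_add_right, e₁, e₂, e₃, e₄] at h1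
  have : n₁ + n₂ + (n₃ + n₄) = 1 := by exact_mod_cast h1
  omega

theorem mem_of_pow_coprime [Finite G] {H : Subgroup G} {k : ℕ} (hk : k.Coprime (Nat.card G))
    {g : G} (h : g ^ k ∈ H) : g ∈ H := by
  obtain ⟨m, hm⟩ := exists_pow_eq_self_of_coprime
    (hk.coprime_dvd_right (orderOf_dvd_natCard g))
  rw [← hm]
  exact H.pow_mem h m

theorem norm_apply_one_abelian {A : Type*} [Group A] [Finite A]
    (hA : ∀ a b : A, a * b = b * a) (l : Cfsg.IrrCharacter A) (a : A) :
    ‖(l : A → ℂ) a‖ = 1 := by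
  have hc : a ∈ Subgroup.center A := Subgroup.mem_center_iff.mpr fun b => hA b a
  rw [norm_apply_center l hc]
  exact_mod_cast (deg_eq_one_iff l).mpr (apply_one_eq_one_of_comm hA l.2)

/-- Two pointwise independent intertwiners. -/
theorem two_le_finrank_intertwining {V W : Type*} [AddCommGroup V] [Module ℂ V]
    [FiniteDimensional ℂ V] [AddCommGroup W] [Module ℂ W] [FiniteDimensional ℂ W]
    {L : Representation ℂ G V} {M : Representation ℂ G W}
    (Φ Ψ : Representation.IntertwiningMap L M)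
    (h : ∀ s t : ℂ, (∀ x, s • Φ x + t • Ψ x = 0) → s = 0 ∧ t = 0) :
    2 ≤ Module.finrank ℂ (Representation.IntertwiningMap L M) := by
  have hind : LinearIndependent ℂ ![Φ, Ψ] := by
    refine Fintype.linearIndependent_iff.mpr fun w hw => ?_
    rw [Fin.sum_univ_two] at hw
    obtain ⟨h0, h1⟩ := h _ _ fun x => DFunLike.congr_fun hw x
    intro i; fin_cases i
    exacts [h0, h1]
  simpa using hind.fintype_card_le_finrank

variable [Finite G]

/-- Abelian normal subgroups are central. -/
theorem le_center_of_abelian (χ : Cfsg.IrrCharacter G)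
    (hf : ∀ g : G, (χ : G → ℂ) g = (χ : G → ℂ) 1 → g = 1) {k : ℕ} (hk : k.Coprime (Nat.card G))
    (hirr : Cfsg.IsIrrCharacter G (fun g => (χ : G → ℂ) g * (χ : G → ℂ) (g ^ k)))
    (A : Subgroup G) [hAn : A.Normal] (hA : ∀ a ∈ A, ∀ b ∈ A, a * b = b * a) :
    A ≤ Subgroup.center G := by
  classical
  cases nonempty_fintype G
  by_contra hAZ
  have hχc := isCharacter_irr χ
  have hχA : Cfsg.IsCharacter A (fun a : A => (χ : G → ℂ) a) := IsCharacter.restrict hχc A
  have hne : Cfsg.classInner (fun a : A => (χ : G → ℂ) a) (fun a : A => (χ : G → ℂ) a) ≠ 0 :=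
    fun e => IsIrrCharacter.apply_one_ne_zero χ.2
      (congrFun (classInner_self_eq_zero.mp e) (1 : A))
  obtain ⟨l, hl, -⟩ := CharDeep.Clifford.exists_constituent
    (IsCharacter.isClassFunction hχA) hne
  have hl1 : ∀ a : A, ‖(l : A → ℂ) a‖ = 1 :=
    norm_apply_one_abelian (fun a b => Subtype.ext (hA a a.2 b b.2)) l
  set T : Subgroup G := stab (l : A → ℂ) with hTdef
  have hT : IsInertia (l : A → ℂ) T := isInertia_stab _
  have hAT : A ≤ T := fun a ha => (hT a).mpr fun h => congrArg _ (Subtype.ext (by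
    show a * h * a⁻¹ = h
    rw [hA a ha h h.2, mul_inv_cancel_right]))
  have hTtop : T ≠ ⊤ := by
    intro hTt
    obtain ⟨e, -, -, he⟩ := CharDeep.Clifford.restrict_eq_smul A χ.2 l.2 hl
      fun g n => (hT g).mp (hTt ▸ Subgroup.mem_top g) n
    refine hAZ fun a ha => mem_center_of_norm_eq χ hf a ?_
    have h1 := congrFun he ⟨a, ha⟩
    have h2 := congrFun he 1
    have n1 := hl1 ⟨a, ha⟩
    have n2 := hl1 1
    simp only [Pi.smul_apply, smul_eq_mul] at h1 h2
    rw [show (χ : G → ℂ) a = _ from h1, ← norm_apply_one,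
      show (χ : G → ℂ) 1 = _ from h2, norm_mul, norm_mul, n1, n2]
  obtain ⟨η, hη, -, hχ⟩ := exists_eq_indFun_inertia hAT l.2 hT χ.2 hl
  have hk' : (Nat.card G).Coprime k := hk.symm
  have hχ' := IsIrrCharacter.comp_pow χ.2 k hk'
  set f : G → ℂ := fun g => (χ : G → ℂ) (g ^ k) with hfdef
  have hfT : Cfsg.IsCharacter T (fun t : T => f t) :=
    IsCharacter.restrict (IsIrrCharacter.isCharacter hχ') T
  -- the restriction of the conjugate is reducible
  have hred : ¬ Cfsg.IsIrrCharacter T (fun t : T => f t) := by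
    intro hi
    haveI : (A.subgroupOf T).Normal := hAn.subgroupOf T
    let e : A.subgroupOf T ≃* A := Subgroup.subgroupOfEquivOfLe hAT
    have hkA : (Nat.card A).Coprime k := hk'.coprime_dvd_left A.card_subgroup_dvd_card
    have hl' : Cfsg.IsIrrCharacter (A.subgroupOf T) (fun x => (l : A → ℂ) (e x ^ k)) :=
      IsIrrCharacter.comp_equiv (IsIrrCharacter.comp_pow l.2 k hkA) e
    have hval : Cfsg.classInner (fun x : A.subgroupOf T => f ((x : T) : G))
        (fun x => (l : A → ℂ) (e x ^ k)) ≠ 0 := by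
      have h1 : Cfsg.classInner (fun x : A.subgroupOf T => f ((x : T) : G))
          (fun x => (l : A → ℂ) (e x ^ k)) =
          Cfsg.classInner (fun a : A => f a) (fun a => (l : A → ℂ) (a ^ k)) :=
        classInner_reindex e (fun a : A => f a) (fun a => (l : A → ℂ) (a ^ k))
      have h2 : Cfsg.classInner (fun a : A => f a) (fun a => (l : A → ℂ) (a ^ k)) =
          Cfsg.classInner (fun a : A => (χ : G → ℂ) a) l := by
        simp only [Cfsg.classInner]
        congr 1
        exact Fintype.sum_equiv (powCoprime hkA) _ _ fun a => rfl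
      rw [h1, h2]
      exact hl
    obtain ⟨d, -, -, hd⟩ := CharDeep.Clifford.restrict_eq_smul (A.subgroupOf T) hi hl' hval
      (fun g n => by
        have h1 := (hT g).mp g.2 (e n ^ k)
        refine Eq.trans (congrArg (l : A → ℂ) (Subtype.ext ?_)) h1
        show ((g : G) * ((n : T) : G) * (g : G)⁻¹) ^ k = (g : G) * ((n : T) : G) ^ k * (g : G)⁻¹
        exact conj_pow)
    refine hAZ fun a ha => mem_of_pow_coprime hk (mem_center_of_norm_eq χ hf _ ?_)
    have h1 := congrFun hd ⟨⟨a, hAT ha⟩, ha⟩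
    have h2 := congrFun hd 1
    simp only [Pi.smul_apply, smul_eq_mul, hfdef] at h1 h2
    have h2' : (χ : G → ℂ) 1 = (d : ℂ) * (l : A → ℂ) (e 1 ^ k) := by
      rw [← h2]; simp
    rw [show (χ : G → ℂ) (a ^ k) = _ from h1, ← norm_apply_one, h2', norm_mul, norm_mul, hl1, hl1]
  have hres0 : Cfsg.classInner (fun t : T => f t) (fun t : T => f t) ≠ 0 :=
    fun e => IsIrrCharacter.apply_one_ne_zero hχ'
      (congrFun (classInner_self_eq_zero.mp e) (1 : T))
  obtain ⟨φ, hφ, -⟩ := CharDeep.Clifford.exists_constituent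
    (IsCharacter.isClassFunction hfT) hres0
  have hrest := CharDeep.Clifford.isCharacter_sub_of_constituent hfT φ.2 hφ
  have hrest0 : (fun t : T => f t) - (φ : T → ℂ) ≠ 0 := fun e =>
    hred (sub_eq_zero.mp e ▸ φ.2)
  have hind : ∀ {ψ : T → ℂ}, Cfsg.IsCharacter T ψ → ψ ≠ 0 →
      Cfsg.IsCharacter G (Cfsg.indFun T (η * ψ)) ∧ Cfsg.indFun T (η * ψ) ≠ 0 := by
    intro ψ hψ h0
    refine ⟨IsCharacter.indFun T (IsCharacter.mul (IsIrrCharacter.isCharacter hη) hψ), fun e => ?_⟩
    have h1 := congrFun e 1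
    rw [indFun_one, Pi.zero_apply, mul_eq_zero, Nat.cast_eq_zero, Pi.mul_apply, mul_eq_zero] at h1
    rcases h1 with h1 | h1 | h1
    · exact T.index_ne_zero_of_finite h1
    · exact IsIrrCharacter.apply_one_ne_zero hη h1
    · exact h0 (CharDeep.Clifford.eq_zero_of_apply_one_eq_zero hψ h1)
  obtain ⟨ha, ha0⟩ := hind (isCharacter_irr φ) fun e =>
    IsIrrCharacter.apply_one_ne_zero φ.2 (congrFun e 1)
  obtain ⟨hb, hb0⟩ := hind hrest hrest0
  refine not_irr_add ha hb ha0 hb0 ?_
  rw [← indFun_add, ← mul_add, add_sub_cancel,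
    show (η * fun t : T => f t) = fun t : T => η t * f t from rfl,
    indFun_mul_restrict T η (IsIrrCharacter.isClassFunction hχ'), ← hχ]
  exact hirr

/-- The twisted intertwiner between the conjugation representations. -/
noncomputable def twist [Fintype G] {n m : ℕ} (A : Subgroup G) [Fintype A]
    (ρ : Representation ℂ G (Fin n → ℂ)) (σ : Representation ℂ G (Fin m → ℂ)) (k : ℕ) :
    Module.End ℂ (Fin m → ℂ) →ₗ[ℂ] Module.End ℂ (Fin n → ℂ) :=
  ∑ a : A, LinearMap.smulRight
    ((LinearMap.trace ℂ (Fin m → ℂ)).comp (LinearMap.mulLeft ℂ (σ (a : G)⁻¹)))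
    (ρ ((a : G) ^ k))

theorem twist_apply [Fintype G] {n m : ℕ} (A : Subgroup G) [Fintype A]
    (ρ : Representation ℂ G (Fin n → ℂ)) (σ : Representation ℂ G (Fin m → ℂ)) (k : ℕ)
    (f : Module.End ℂ (Fin m → ℂ)) :
    twist A ρ σ k f =
      ∑ a : A, LinearMap.trace ℂ (Fin m → ℂ) (σ (a : G)⁻¹ * f) • ρ ((a : G) ^ k) := by
  simp [twist, LinearMap.sum_apply]

/-- The Fitting subgroup is the centre. -/
theorem fitting_eq_center (χ : Cfsg.IrrCharacter G)
    (hf : ∀ g : G, (χ : G → ℂ) g = (χ : G → ℂ) 1 → g = 1) {k : ℕ} (hk : k.Coprime (Nat.card G))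
    (hirr : Cfsg.IsIrrCharacter G (fun g => (χ : G → ℂ) g * (χ : G → ℂ) (g ^ k))) :
    Cfsg.fittingSubgroup G = Subgroup.center G := by
  classical
  cases nonempty_fintype G
  set F := Cfsg.fittingSubgroup G with hFdef
  set Z := Subgroup.center G with hZdef
  haveI hFnil : Group.IsNilpotent F := CfsgLib.Solvable.Cores.fittingSubgroup_isNilpotent
  have hZF : Z ≤ F := by
    letI : CommGroup Z := { mul_comm := fun a b => Subtype.ext (Subgroup.mem_center_iff.mp b.2 a) }
    exact CfsgLib.Solvable.Cores.le_fittingSubgroup CommGroup.isNilpotent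
  refine le_antisymm (by_contra fun hFZ => ?_) hZF
  let F' : Subgroup (G ⧸ Z) := F.map (QuotientGroup.mk' Z)
  haveI : F'.Normal :=
    Subgroup.Normal.map inferInstance _ (QuotientGroup.mk'_surjective Z)
  haveI : Group.IsNilpotent F' :=
    nilpotent_of_surjective ((QuotientGroup.mk' Z).subgroupMap F)
      (MonoidHom.subgroupMap_surjective _ F)
  haveI : Nontrivial F' := by
    rw [Subgroup.nontrivial_iff_ne_bot]
    intro h
    rw [Subgroup.map_eq_bot_iff, QuotientGroup.ker_mk'] at h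
    exact hFZ h
  let A : Subgroup G := (F' ⊓ Subgroup.centralizer (F' : Set (G ⧸ Z))).comap (QuotientGroup.mk' Z)
  have hAn : A.Normal := Subgroup.Normal.comap inferInstance _
  obtain ⟨c, hcA, hcZ⟩ : ∃ c ∈ A, c ∉ Z := by
    obtain ⟨z, hz, hz1⟩ :=
      ((⊤ : Subgroup F') ⊓ Subgroup.center F').bot_or_exists_ne_one.resolve_left
        (CfsgLib.Solvable.FrattiniFitting.inf_center_ne_bot _ top_ne_bot)
    obtain ⟨c, hc⟩ := QuotientGroup.mk'_surjective Z (z : G ⧸ Z)
    refine ⟨c, ?_, fun h => hz1 (Subtype.ext ?_)⟩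
    · show QuotientGroup.mk' Z c ∈ F' ⊓ Subgroup.centralizer (F' : Set (G ⧸ Z))
      rw [hc]
      exact ⟨z.2, Subgroup.mem_centralizer_iff.mpr fun y hy =>
        congrArg Subtype.val (Subgroup.mem_center_iff.mp hz.2 ⟨y, hy⟩)⟩
    · rw [← hc]
      exact (QuotientGroup.eq_one_iff _).mpr h
  have hcomm : ∀ a ∈ A, ∀ b ∈ A, ⁅a, b⁆ ∈ Z := fun a ha b hb => by
    rw [← QuotientGroup.eq_one_iff, ← QuotientGroup.mk'_apply, map_commutatorElement,
      commutatorElement_eq_one_iff_mul_comm]
    exact Subgroup.mem_centralizer_iff.mp hb.2 _ ha.1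
  -- `χ` vanishes on `A` off the centre
  have hvan : ∀ a ∈ A, a ∉ Z → (χ : G → ℂ) a = 0 := by
    intro a ha haZ
    by_cases h : ∃ b ∈ A, ⁅b, a⁆ ≠ 1
    · obtain ⟨b, hb, hb1⟩ := h
      exact vanish_of_commutator χ (hcomm b hb a ha) fun e => hb1 (hf _ e)
    · push Not at h
      exfalso
      haveI : (A ⊓ Subgroup.centralizer (A : Set G)).Normal := inferInstance
      refine haZ (le_center_of_abelian χ hf hk hirr (A ⊓ Subgroup.centralizer (A : Set G))
        (fun x hx y hy => Subgroup.mem_centralizer_iff.mp hy.2 x hx.1) ⟨ha, ?_⟩)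
      exact Subgroup.mem_centralizer_iff.mpr fun b hb =>
        commutatorElement_eq_one_iff_mul_comm.mp (h b hb)
  obtain ⟨n, ρ, hρi, hρ⟩ := χ.2
  obtain ⟨m, σ, hσi, hσ⟩ := IsIrrCharacter.comp_pow χ.2 k hk.symm
  let L := Representation.linHom σ σ
  let M := Representation.linHom ρ ρ
  have hσv : ∀ g, σ.character g = (χ : G → ℂ) (g ^ k) := congrFun hσ
  -- the twisted intertwiner
  let Φ : Representation.IntertwiningMap L M :=
    LinearMap.intertwiningMap_of_isIntertwiningMap L M (twist A ρ σ k) fun g f => by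
      rw [twist_apply, twist_apply, Representation.linHom_apply, Representation.linHom_apply]
      rw [← Module.End.mul_eq_comp, ← Module.End.mul_eq_comp, ← Module.End.mul_eq_comp,
        ← Module.End.mul_eq_comp, Finset.sum_mul, Finset.mul_sum]
      refine (Fintype.sum_equiv (MulAut.conjNormal g : MulAut A).toEquiv _ _ fun a => ?_).symm
      rw [MulEquiv.toEquiv_eq_coe, EquivLike.coe_coe, MulAut.conjNormal_apply, smul_mul_assoc,
        mul_smul_comm]
      congr 1
      · have e : σ (g * (a : G) * g⁻¹)⁻¹ * σ g = σ g * σ (a : G)⁻¹ := by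
          rw [← map_mul σ, ← map_mul σ]; congr 1; group
        have e' : σ g⁻¹ * σ g = 1 := by rw [← map_mul, inv_mul_cancel, map_one]
        rw [← mul_assoc (σ (g * (a : G) * g⁻¹)⁻¹) (σ g), e, mul_assoc,
          LinearMap.trace_mul_comm _ (σ g)]
        simp only [mul_assoc, e', mul_one]
      · rw [conj_pow, map_mul, map_mul, mul_assoc]
  let Ψ : Representation.IntertwiningMap L M :=
    LinearMap.intertwiningMap_of_isIntertwiningMap L M
      (LinearMap.smulRight (LinearMap.trace ℂ (Fin m → ℂ)) (1 : Module.End ℂ (Fin n → ℂ)))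
      fun g f => by
        simp only [LinearMap.smulRight_apply, Representation.linHom_apply, ← Module.End.mul_eq_comp,
          L, M]
        rw [smul_mul_assoc, one_mul, mul_smul_comm, ← map_mul ρ, mul_inv_cancel, map_one,
          LinearMap.trace_mul_comm, mul_assoc, ← map_mul σ, inv_mul_cancel, map_one, mul_one]
  have hΦval : ∀ b ∈ A, Φ (σ b) =
      ((Nat.card Z : ℂ) * (χ : G → ℂ) 1) • ρ (b ^ k) := by
    intro b hb
    show twist A ρ σ k (σ b) = _
    rw [twist_apply]
    have hterm : ∀ a : A, LinearMap.trace ℂ (Fin m → ℂ) (σ (a : G)⁻¹ * σ b) • ρ ((a : G) ^ k) =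
        if (a : G)⁻¹ * b ∈ Z then (χ : G → ℂ) 1 • ρ (b ^ k) else 0 := by
      intro a
      rw [← map_mul σ]
      rw [show LinearMap.trace ℂ (Fin m → ℂ) (σ ((a : G)⁻¹ * b)) = (χ : G → ℂ) (((a : G)⁻¹ * b) ^ k)
        from hσv _]
      split_ifs with hz
      · set w := (a : G)⁻¹ * b with hw
        have hwk : w ^ k ∈ Z := Z.pow_mem hz k
        haveI := hρi
        obtain ⟨c, hc⟩ := CharDeep.IrrTools.exists_smul_of_commute ρ (ρ (w ^ k)) fun g => by
          rw [← map_mul, ← map_mul, Subgroup.mem_center_iff.mp hwk g]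
        have hχw : (χ : G → ℂ) (w ^ k) = c * (χ : G → ℂ) 1 := by
          rw [← hρ, Representation.character, hc, map_smul, LinearMap.trace_one,
            Representation.char_one, smul_eq_mul]
        have hab : b ^ k = (a : G) ^ k * w ^ k := by
          rw [← (Commute.mul_pow (Subgroup.mem_center_iff.mp hz (a : G)) k), hw, mul_inv_cancel_left]
        rw [hχw, hab, map_mul, hc, mul_smul_comm, mul_one, smul_smul, mul_comm c]
      · rw [hvan _ (A.pow_mem (A.mul_mem (A.inv_mem a.2) hb) k)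
          (fun h => hz (mem_of_pow_coprime hk h)), zero_smul]
    rw [Finset.sum_congr rfl fun a _ => hterm a, ← Finset.sum_filter, Finset.sum_const,
      ← Nat.cast_smul_eq_nsmul ℂ, smul_smul]
    congr 3
    rw [← Fintype.card_subtype, ← Nat.card_eq_fintype_card]
    refine Nat.card_congr
      { toFun := fun a => ⟨((a.1 : A) : G)⁻¹ * b, a.2⟩
        invFun := fun z => ⟨⟨b * (z : G)⁻¹, A.mul_mem hb (A.inv_mem ?_)⟩, ?_⟩
        left_inv := fun a => Subtype.ext (Subtype.ext (by simp))
        right_inv := fun z => Subtype.ext (by simp) }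
    · show QuotientGroup.mk' Z (z : G) ∈ F' ⊓ Subgroup.centralizer (F' : Set (G ⧸ Z))
      rw [show QuotientGroup.mk' Z (z : G) = 1 from (QuotientGroup.eq_one_iff _).mpr z.2]
      exact one_mem _
    · simp
  have h2 : 2 ≤ Module.finrank ℂ (Representation.IntertwiningMap L M) := by
    refine two_le_finrank_intertwining Φ Ψ fun s t hst => ?_
    have hat : ∀ b ∈ A, (s * ((Nat.card Z : ℂ) * (χ : G → ℂ) 1)) • ρ (b ^ k) +
        (t * (χ : G → ℂ) (b ^ k)) • (1 : Module.End ℂ (Fin n → ℂ)) = 0 := by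
      intro b hb
      have h0 : s • Φ (σ b) + t • Ψ (σ b) = 0 := hst (σ b)
      have hΨ : Ψ (σ b) = σ.character b • (1 : Module.End ℂ (Fin n → ℂ)) := rfl
      rw [hΦval b hb, hΨ, hσv, smul_smul, smul_smul] at h0
      exact h0
    have hne : ∀ g, ρ g ≠ 0 := fun g e => IsIrrCharacter.apply_one_ne_zero χ.2 (by
      rw [← hρ, Representation.character, ← mul_inv_cancel g, map_mul, e, zero_mul, map_zero])
    have hc0 := hat c hcA
    rw [hvan _ (A.pow_mem hcA k) (fun h => hcZ (mem_of_pow_coprime hk h)), mul_zero, zero_smul,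
      add_zero, smul_eq_zero] at hc0
    have hd : (χ : G → ℂ) 1 ≠ 0 := IsIrrCharacter.apply_one_ne_zero χ.2
    have hs : s = 0 := by
      simpa [hd, Nat.card_pos.ne'] using hc0.resolve_right (hne _)
    refine ⟨hs, ?_⟩
    have h1 := hat 1 A.one_mem
    rw [hs, zero_mul, zero_smul, zero_add, one_pow, smul_eq_zero, mul_eq_zero] at h1
    exact (h1.resolve_right fun e => hne 1 (by rw [map_one, e])).resolve_right hd
  have hone : Cfsg.classInner M.character L.character = 1 := by
    rw [← classInner_irr_self hirr]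
    simp only [Cfsg.classInner]
    congr 1
    refine Finset.sum_congr rfl fun g _ => ?_
    simp only [L, M, Representation.char_linHom, map_mul, ← CharDeep.IrrTools.conj_character,
      hρ, hσv, Complex.conj_conj, inv_pow]
    rw [show (χ : G → ℂ) ((g ^ k)⁻¹) = conj ((χ : G → ℂ) (g ^ k)) from
      IsIrrCharacter.apply_inv χ.2 _, Complex.conj_conj]
    ring
  rw [CharDeep.IrrTools.classInner_eq_finrank L M] at hone
  have : Module.finrank ℂ (Representation.IntertwiningMap L M) = 1 := by exact_mod_cast hone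
  omega

end CfsgLib.DegreeTools.ProductIrr
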