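import Cfsg.Agent.Lib.DegreeTools.CentralSupport
import Cfsg.Agent.Lib.DegreeTools.ProductIrr
import Cfsg.Agent.Lib.CharDeep.DegreeIndex
import Cfsg.Agent.Lib.CharDeep.Glauberman.Gallagher
import Cfsg.Agent.S4466
import Mathlib.GroupTheory.Solvable
import Cfsg.Prelude.Def_DegreeGraph

/-!
# Groups with prime nonlinear degrees have at most three degrees
-/

namespace CfsgLib.DegreeTools.PrimeDegrees

open CfsgLib CfsgLib.Char
open scoped commutatorElement

variable {G : Type*} [Group G] [Finite G]

/-- A character of prime degree not dividing the index restricts irreducibly. -/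
theorem isIrr_restrict (K : Subgroup G) [hK : K.Normal] (χ : Cfsg.IrrCharacter G)
    (hd : (Cfsg.charDegree (χ : G → ℂ)).Prime) (hnd : ¬ Cfsg.charDegree (χ : G → ℂ) ∣ K.index) :
    Cfsg.IsIrrCharacter K (fun k : K => (χ : G → ℂ) k) := by
  classical
  cases nonempty_fintype G
  have hχK := IsCharacter.restrict (isCharacter_irr χ) K
  obtain ⟨l, hl, -⟩ := CharDeep.Clifford.exists_constituent (IsCharacter.isClassFunction hχK)
    (ψ := fun k : K => (χ : G → ℂ) k) fun e =>
      IsIrrCharacter.apply_one_ne_zero χ.2 (congrFun (classInner_self_eq_zero.mp e) (1 : K))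
  set T : Subgroup G := stab (l : K → ℂ) with hTdef
  have hT : IsInertia (l : K → ℂ) T := isInertia_stab _
  have h1 := CharDeep.Clifford.apply_one_eq χ.2 l.2 hl T fun g => hT g
  obtain ⟨e, he⟩ := IsCharacter.classInner_nat hχK (isCharacter_irr l)
  obtain ⟨b, hb, hb'⟩ := IsIrrCharacter.apply_one_eq l.2
  rw [he, hb', ← deg_cast] at h1
  have h2 : Cfsg.charDegree (χ : G → ℂ) = T.index * e * b := by exact_mod_cast h1
  have hKT : K ≤ T := le_stab (IsIrrCharacter.isClassFunction l.2)
  have hTi : T.index = 1 := by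
    rcases hd.eq_one_or_self_of_dvd T.index ⟨e * b, by rw [h2]; ring⟩ with h | h
    · exact h
    · exact absurd (h ▸ Subgroup.index_dvd_of_le hKT) hnd
  rw [hTi, one_mul] at h2
  obtain ⟨e', -, he', hres⟩ := CharDeep.Clifford.restrict_eq_smul K χ.2 l.2 hl fun g n =>
    (hT g).mp (Subgroup.index_eq_one.mp hTi ▸ Subgroup.mem_top g) n
  have hee : e = e' := by rw [he] at he'; exact_mod_cast he'
  rw [← hee] at hres
  rcases hd.eq_one_or_self_of_dvd b ⟨e, by rw [h2]; ring⟩ with hb1 | hb1
  · -- the restriction is scalar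
    exfalso
    obtain ⟨f, hf⟩ := exists_hom_of_apply_one_eq_one (isCharacter_irr l) (by rw [hb', hb1, Nat.cast_one])
    obtain ⟨n, ρ, hρi, hρ⟩ := χ.2
    have hn : n = e := by
      have h3 := congrFun hρ 1
      rw [Representation.char_one, Module.finrank_fin_fun, ← deg_cast, h2, hb1, mul_one] at h3
      exact_mod_cast h3
    let R := G ⧸ MonoidHom.ker ρ
    let σ : Representation ℂ R (Fin n → ℂ) := QuotientGroup.lift (MonoidHom.ker ρ) ρ le_rfl
    have hσ : ∀ g : G, σ (QuotientGroup.mk' _ g) = ρ g := fun g => rfl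
    have hinj : Function.Injective σ := by
      intro x y hxy
      obtain ⟨a, rfl⟩ := QuotientGroup.mk'_surjective _ x
      obtain ⟨c, rfl⟩ := QuotientGroup.mk'_surjective _ y
      rw [hσ, hσ] at hxy
      refine QuotientGroup.eq.mpr (MonoidHom.mem_ker.mpr ?_)
      rw [map_mul, ← hxy, ← map_mul, inv_mul_cancel, map_one]
    have : Nontrivial (Fin n → ℂ) := CharDeep.IrrTools.apply_ne_zero_of_isIrreducible ρ
    haveI : σ.IsIrreducible := CharDeep.IrrTools.isIrreducible_of_forall σ fun U hU =>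
      CharDeep.IrrTools.eq_bot_or_top_of_invariant ρ U fun g u hu => by
        have := hU (QuotientGroup.mk' (MonoidHom.ker ρ) g) u hu
        rwa [hσ] at this
    have hdvd := CharDeep.DegreeIndex.finrank_dvd_index σ hinj
      (K.map (QuotientGroup.mk' (MonoidHom.ker ρ))) (by
        rintro _ ⟨k, hk, rfl⟩
        obtain ⟨ω, -, hω, -⟩ := exists_scalar_of_norm_char_eq ρ k (by
          have h4 := congrFun hres ⟨k, hk⟩
          rw [hρ, show (χ : G → ℂ) k = _ from h4, Pi.smul_apply, smul_eq_mul, norm_mul,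
            norm_apply_one_linear hf, mul_one, Complex.norm_natCast, Module.finrank_fin_fun, hn])
        exact ⟨ω, by rw [hσ]; exact hω⟩)
    rw [Module.finrank_fin_fun] at hdvd
    refine hnd (dvd_trans ?_ (K.index_map_dvd (QuotientGroup.mk'_surjective (MonoidHom.ker ρ))))
    rw [h2, hb1, mul_one, ← hn]
    exact hdvd
  · have he1 : e = 1 := by
      rw [hb1] at h2
      exact (Nat.mul_eq_right hd.ne_zero).mp h2.symm
    rw [hres, he1, Nat.cast_one, one_smul]
    exact l.2
where
  norm_apply_one_linear {K : Subgroup G} {l : K → ℂ} {f : K →* ℂˣ}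
      (hf : l = fun g => (f g : ℂ)) {k : K} : ‖l k‖ = 1 := by
    rw [hf]
    refine Complex.norm_eq_one_of_pow_eq_one (n := Nat.card K) ?_ Nat.card_pos.ne'
    rw [← Units.val_pow_eq_pow_val, ← map_pow, pow_card_eq_one', map_one, Units.val_one]

/-- A nilpotent normal subgroup is a prime power group if the normal subgroups have nontrivial
intersection. -/
theorem primePow_of_nilpotent {N : Subgroup G} [N.Normal] [Group.IsNilpotent N] {D : Subgroup G}
    (hD : D ≠ ⊥) (hmin : ∀ L : Subgroup G, L.Normal → L ≠ ⊥ → D ≤ L) :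
    ∃ s : ℕ, ∀ r : ℕ, r.Prime → r ∣ Nat.card N → r = s := by
  classical
  by_cases h : ∃ s : ℕ, s.Prime ∧ s ∣ Nat.card N
  swap
  · exact ⟨0, fun r hr hd => absurd ⟨r, hr, hd⟩ h⟩
  obtain ⟨s, hs, hsd⟩ := h
  refine ⟨s, fun r hr hrd => by_contra fun hne => ?_⟩
  haveI := Fact.mk hs
  haveI := Fact.mk hr
  let S : Sylow s N := default
  let R : Sylow r N := default
  haveI hS : (S : Subgroup N).Normal := inferInstance
  haveI hR : (R : Subgroup N).Normal := inferInstance
  haveI := S.characteristic_of_normal hS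
  haveI := R.characteristic_of_normal hR
  have hne' : ∀ {q : ℕ} [Fact q.Prime] (Q : Sylow q N), q ∣ Nat.card N →
      (Q : Subgroup N).map N.subtype ≠ ⊥ := fun Q hq h0 =>
    Q.ne_bot_of_dvd_card hq ((Subgroup.map_eq_bot_iff_of_injective _ N.subtype_injective).mp h0)
  have h1 := hmin _ inferInstance (hne' S hsd)
  have h2 := hmin _ inferInstance (hne' R hrd)
  refine hD (Subgroup.eq_bot_iff_forall _ |>.mpr fun x hx => ?_)
  obtain ⟨a, ha, rfl⟩ := h1 hx
  obtain ⟨b, hb, he⟩ := h2 hx
  obtain rfl : b = a := N.subtype_injective he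
  obtain ⟨i, hi⟩ := IsPGroup.iff_orderOf.1 S.2 ⟨b, ha⟩
  obtain ⟨j, hj⟩ := IsPGroup.iff_orderOf.1 R.2 ⟨b, hb⟩
  rw [Subgroup.orderOf_mk] at hi hj
  have : orderOf b = 1 := Nat.eq_one_of_dvd_coprimes
    (((Nat.coprime_primes hs hr).mpr (Ne.symm hne)).pow i j) hi.dvd hj.dvd
  rw [orderOf_eq_one_iff.mp this, map_one]

/-- The two primes. -/
theorem degrees_subset [Group.IsSolvable G]
    (h : ∀ χ : Cfsg.IrrCharacter G, Cfsg.charDegree (χ : G → ℂ) ≠ 1 →
      (Cfsg.charDegree (χ : G → ℂ)).Prime)
    (hna : ¬ commutator G = ⊥) :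
    ∃ p s : ℕ, Cfsg.charDegrees G ⊆ {1, p, s} := by
  classical
  cases nonempty_fintype G
  obtain ⟨K, ⟨hKn, hKc⟩, hKmax⟩ := Set.exists_max_image
    {K : Subgroup G | K.Normal ∧ ¬ commutator G ≤ K} (fun K : Subgroup G => Nat.card K)
    (Set.toFinite _) ⟨⊥, inferInstance, fun hle => hna (le_bot_iff.mp hle)⟩
  haveI := hKn
  have hmin : ∀ L : Subgroup (G ⧸ K), L.Normal → L ≠ ⊥ → commutator (G ⧸ K) ≤ L := by
    intro L hL hLne
    have hle : commutator G ≤ L.comap (QuotientGroup.mk' K) := by
      by_contra hc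
      refine hLne ?_
      have hKL : K ≤ L.comap (QuotientGroup.mk' K) := fun k hk => by
        rw [Subgroup.mem_comap, show QuotientGroup.mk' K k = 1 from
          (QuotientGroup.eq_one_iff _).mpr hk]
        exact L.one_mem
      have he := Subgroup.eq_of_le_of_card_ge hKL (hKmax _ ⟨hL.comap _, hc⟩)
      rw [← Subgroup.map_comap_eq_self_of_surjective (QuotientGroup.mk'_surjective K) L, ← he,
        Subgroup.map_eq_bot_iff, QuotientGroup.ker_mk']
    have := Subgroup.map_mono (f := QuotientGroup.mk' K) hle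
    rw [Subgroup.map_comap_eq_self_of_surjective (QuotientGroup.mk'_surjective K)] at this
    refine le_trans ?_ this
    rw [commutator_def, commutator_def, Subgroup.map_commutator,
      Subgroup.map_top_of_surjective _ (QuotientGroup.mk'_surjective K)]
  set D := commutator (G ⧸ K) with hDdef
  have hDne : D ≠ ⊥ := by
    intro h0
    apply hKc
    intro x hx
    have h1 : QuotientGroup.mk' K x ∈ (commutator G).map (QuotientGroup.mk' K) :=
      Subgroup.mem_map_of_mem _ hx
    rw [commutator_def, Subgroup.map_commutator,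
      Subgroup.map_top_of_surjective _ (QuotientGroup.mk'_surjective K), ← commutator_def,
      ← hDdef, h0, Subgroup.mem_bot] at h1
    exact (QuotientGroup.eq_one_iff _).mp h1
  haveI : Group.IsSolvable (G ⧸ K) := solvable_of_surjective (QuotientGroup.mk'_surjective K)
  have hDab : ∀ a b : D, a * b = b * a := by
    have h1 : ⁅D, D⁆ < D := Group.IsSolvable.commutator_lt_of_ne_bot hDne
    have h2 : ⁅D, D⁆ = ⊥ := by
      by_contra hne
      exact h1.not_ge (hmin _ inferInstance hne)
    intro a b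
    exact Subtype.ext ((Subgroup.commutator_eq_bot_iff_le_centralizer.mp h2 b.2) a a.2)
  -- a nonlinear character of the quotient
  obtain ⟨β, hβ⟩ : ∃ β : Cfsg.IrrCharacter (G ⧸ K),
      Cfsg.charDegree (β : G ⧸ K → ℂ) ≠ 1 := by
    by_contra hc
    push Not at hc
    apply hDne
    rw [hDdef, commutator_def, Subgroup.commutator_eq_bot_iff_le_centralizer]
    intro a _
    exact Subgroup.mem_centralizer_iff.mpr fun b _ => comm_iff_forall_linear.2
      (fun θ => (deg_eq_one_iff θ).mp (hc θ)) b a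
  have hdeg : Cfsg.charDegree ((β : G ⧸ K → ℂ) ∘ QuotientGroup.mk' K) =
      Cfsg.charDegree (β : G ⧸ K → ℂ) := by simp [Cfsg.charDegree]
  have hp : (Cfsg.charDegree (β : G ⧸ K → ℂ)).Prime := hdeg ▸
    h ⟨_, IsIrrCharacter.comp_surjective β.2 _ (QuotientGroup.mk'_surjective K)⟩ (hdeg ▸ hβ)
  set p := Cfsg.charDegree (β : G ⧸ K → ℂ) with hpdef
  have hfaith : ∀ g, (β : G ⧸ K → ℂ) g = (β : G ⧸ K → ℂ) 1 → g = 1 := by
    haveI := charKer_normal (isCharacter_irr β)
    by_contra hc
    push Not at hc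
    obtain ⟨g, hg, hg1⟩ := hc
    have hle := hmin _ this fun h0 => hg1 (Subgroup.mem_bot.mp (h0 ▸ (mem_charKer _).mpr hg))
    obtain ⟨a, b, hab⟩ := exists_commutator_apply_ne β hβ
    exact hab ((mem_charKer _).mp (hle (Subgroup.commutator_mem_commutator
      (Subgroup.mem_top a) (Subgroup.mem_top b))))
  obtain ⟨N, hNn, hNnil, hNi⟩ : ∃ N : Subgroup (G ⧸ K), N.Normal ∧ Group.IsNilpotent N ∧
      N.index ∣ p := by
    have hβD := IsCharacter.restrict (isCharacter_irr β) D
    obtain ⟨l, hl, -⟩ := CharDeep.Clifford.exists_constituent (IsCharacter.isClassFunction hβD)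
      (ψ := fun d : D => (β : G ⧸ K → ℂ) d) fun e =>
        IsIrrCharacter.apply_one_ne_zero β.2 (congrFun (classInner_self_eq_zero.mp e) (1 : D))
    set T : Subgroup (G ⧸ K) := stab (l : D → ℂ) with hTdef
    have hT : IsInertia (l : D → ℂ) T := isInertia_stab _
    have hDT : D ≤ T := le_stab (IsIrrCharacter.isClassFunction l.2)
    have hTn : T.Normal := Subgroup.Normal.of_commutator_le _ hDT
    by_cases hTt : T = ⊤
    · obtain ⟨e, -, -, hres⟩ := CharDeep.Clifford.restrict_eq_smul D β.2 l.2 hl fun g n =>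
        (hT g).mp (hTt ▸ Subgroup.mem_top g) n
      have hcen : D ≤ Subgroup.center (G ⧸ K) := fun d hd => by
        refine mem_center_of_norm_eq β hfaith d ?_
        have h1 := congrFun hres ⟨d, hd⟩
        have h2 := congrFun hres 1
        have n1 := ProductIrr.norm_apply_one_abelian hDab l ⟨d, hd⟩
        have n2 := ProductIrr.norm_apply_one_abelian hDab l 1
        simp only [Pi.smul_apply, smul_eq_mul] at h1 h2
        rw [show (β : G ⧸ K → ℂ) d = _ from h1, ← norm_apply_one,
          show (β : G ⧸ K → ℂ) 1 = _ from h2, norm_mul, norm_mul, n1, n2]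
      refine ⟨⊤, inferInstance, ?_, by rw [Subgroup.index_top]; exact one_dvd p⟩
      haveI : Group.IsNilpotent (G ⧸ K) := by
        refine isNilpotent_of_ker_le_center (Abelianization.of) ?_
        rw [Abelianization.ker_of]
        exact hcen
      exact Group.isNilpotent_top.mpr inferInstance
    · obtain ⟨η, hη, -, hβη⟩ := exists_eq_indFun_inertia hDT l.2 hT β.2 hl
      obtain ⟨m, hm, hm'⟩ := IsIrrCharacter.apply_one_eq hη
      have h1 : p = T.index * m := by
        have : ((p : ℕ) : ℂ) = ((T.index * m : ℕ) : ℂ) := by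
          rw [hpdef, deg_cast, hβη, indFun_one, hm', Nat.cast_mul]
        exact_mod_cast this
      have hTi : T.index ≠ 1 := fun h0 => hTt (Subgroup.index_eq_one.mp h0)
      have hm1 : m = 1 := by
        have := (hp.eq_one_or_self_of_dvd T.index ⟨m, h1⟩).resolve_left hTi
        rw [this] at h1
        exact (Nat.mul_eq_left hp.ne_zero).mp h1.symm
      obtain ⟨f, hf⟩ := exists_hom_of_apply_one_eq_one (IsIrrCharacter.isCharacter hη)
        (by rw [hm', hm1, Nat.cast_one])
      have hab : ∀ a b : T, a * b = b * a := fun a b => by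
        rw [← commutatorElement_eq_one_iff_mul_comm]
        have hker : ∀ t : T, t ∈ commutator T → η t = 1 := fun t ht => by
          rw [hf]
          simp [MonoidHom.mem_ker.mp (Abelianization.commutator_subset_ker f ht)]
        refine Subtype.ext (hfaith _ ?_)
        rw [hβη, indFun_apply_of_normal T η ⁅a, b⁆, indFun_one, hm', hm1, Nat.cast_one, mul_one]
        rw [Finset.sum_congr rfl fun x _ => hker _ ?_, Finset.sum_const, Finset.card_univ,
          nsmul_eq_mul, mul_one, ← Nat.card_eq_fintype_card, ← T.card_mul_index, Nat.cast_mul,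
          inv_mul_cancel_left₀ (Nat.cast_ne_zero.mpr Nat.card_pos.ne')]
        have hmem : MulAut.conjNormal x ⁅a, b⁆ ∈ commutator T := by
          rw [map_commutatorElement, commutator_def]
          exact Subgroup.commutator_mem_commutator (Subgroup.mem_top _) (Subgroup.mem_top _)
        convert hmem using 1
        exact Subtype.ext (MulAut.conjNormal_apply x _).symm
      letI : CommGroup T := { mul_comm := hab }
      exact ⟨T, hTn, CommGroup.isNilpotent, ⟨m, h1⟩⟩
  haveI := hNn
  haveI := hNnil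
  obtain ⟨s, hs⟩ := primePow_of_nilpotent (N := N) hDne hmin
  refine ⟨p, s, ?_⟩
  rintro _ ⟨χ, rfl⟩
  by_contra hmem
  simp only [Set.mem_insert_iff, Set.mem_singleton_iff, not_or] at hmem
  obtain ⟨hd1, hdp, hds⟩ := hmem
  have hd := h χ hd1
  have hnd : ¬ Cfsg.charDegree (χ : G → ℂ) ∣ K.index := by
    intro hdvd
    rw [Subgroup.index_eq_card, ← N.index_mul_card] at hdvd
    rcases hd.dvd_mul.mp hdvd with h1 | h1
    · exact hdp ((Nat.prime_dvd_prime_iff_eq hd hp).mp (h1.trans hNi))
    · exact hds (hs _ hd h1)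
  have hres := isIrr_restrict K χ hd hnd
  have hirr := CharDeep.Glauberman.isIrr_ext_mul (π := QuotientGroup.mk' K)
    (QuotientGroup.mk'_surjective K) (QuotientGroup.ker_mk' K) χ.2 hres (fun _ => rfl) β
  have hdeg2 : Cfsg.charDegree ((χ : G → ℂ) * ((β : G ⧸ K → ℂ) ∘ QuotientGroup.mk' K)) =
      Cfsg.charDegree (χ : G → ℂ) * p := by
    have : (Cfsg.charDegree ((χ : G → ℂ) * ((β : G ⧸ K → ℂ) ∘ QuotientGroup.mk' K)) : ℂ) =
        ((Cfsg.charDegree (χ : G → ℂ) * p : ℕ) : ℂ) := by
      rw [charDegree_cast (IsIrrCharacter.isCharacter hirr), Nat.cast_mul, deg_cast, hpdef,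
        deg_cast]
      simp
    exact_mod_cast this
  have hpr := h ⟨_, hirr⟩
  simp only [hdeg2] at hpr
  exact Nat.not_prime_mul hd.ne_one hp.ne_one
    (hpr (fun e => hd.ne_one (Nat.eq_one_of_mul_eq_one_right e)))

theorem card_degrees_le {G : Type*} [Group G] [Finite G]
    (h : ∀ d ∈ Cfsg.charDegrees G, d = 1 ∨ d.Prime) :
    Nat.card ↥(Cfsg.charDegrees G) ≤ 3 := by
  classical
  cases nonempty_fintype G
  have h' : ∀ χ : Cfsg.IrrCharacter G, Cfsg.charDegree (χ : G → ℂ) ≠ 1 →
      (Cfsg.charDegree (χ : G → ℂ)).Prime := fun χ hne => (h _ ⟨χ, rfl⟩).resolve_left hne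
  haveI : Group.IsSolvable G := Cfsg.Agent.S4466.result h'
  rw [Nat.card_coe_set_eq]
  by_cases hna : commutator G = ⊥
  · have hsub : Cfsg.charDegrees G ⊆ {1} := by
      rintro _ ⟨χ, rfl⟩
      by_contra hne
      obtain ⟨a, b, hab⟩ := exists_commutator_apply_ne χ hne
      apply hab
      have : ⁅a, b⁆ ∈ commutator G := Subgroup.commutator_mem_commutator
        (Subgroup.mem_top a) (Subgroup.mem_top b)
      rw [hna, Subgroup.mem_bot] at this
      rw [this]
    exact (Set.ncard_le_ncard hsub (Set.toFinite _)).trans (by simp)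
  · obtain ⟨p, s, hsub⟩ := degrees_subset h' hna
    exact (Set.ncard_le_ncard hsub (Set.toFinite _)).trans
      (((Set.ncard_insert_le _ _).trans (Nat.add_le_add_right (Set.ncard_insert_le _ _) 1)).trans
        (by simp))

end CfsgLib.DegreeTools.PrimeDegrees
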