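import Cfsg.Agent.Lib.DegreeTools.OddSylow
import Cfsg.Agent.Lib.DegreeTools.ClassConstant
import Cfsg.Agent.Lib.Perm.Basic
import Cfsg.Agent.Lib.Solvable.SylowSystem
import Cfsg.Agent.Lib.Fusion.PSolvable
import Cfsg.Agent.Lib.Involution.StronglyEmbedded
import Cfsg.Agent.S0205
import Cfsg.Agent.S0215
import Cfsg.Agent.S1223

/-!
# Transitive groups of prime power degree with odd centralisers of `p`-elements
-/

set_option autoImplicit false

namespace CfsgLib.DegreeTools.PrimePowerDegree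

open MulAction

variable {G Ω : Type*} [Group G] [Finite G] [MulAction G Ω] [FaithfulSMul G Ω] [Finite Ω]
  [IsPretransitive G Ω] {p : ℕ} [hp : Fact p.Prime]

/-- The transitive abelian Sylow subgroups are regular. -/
theorem eq_one_of_fix {Q : Subgroup G} (hQ : IsMulCommutative Q) [IsPretransitive Q Ω] {u : G}
    (hu : u ∈ Q) {ω : Ω} (h : u • ω = ω) : u = 1 := by
  refine FaithfulSMul.eq_of_smul_eq_smul fun x : Ω => ?_
  rw [one_smul]
  refine CfsgLib.Perm.Basic.eq_self_of_commute (G := Q) (c := fun z : Ω => u • z) (fun g z => ?_) h x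
  show u • ((g : G) • z) = (g : G) • (u • z)
  rw [smul_smul, smul_smul,
    (CfsgLib.Solvable.Basic.isMulCommutative_subgroup_iff (H := Q)).mp hQ u hu g g.2]

/-- A transitive abelian subgroup is its own centraliser. -/
theorem mem_of_commute {Q : Subgroup G} (hQ : IsMulCommutative Q) [IsPretransitive Q Ω]
    [Nonempty Ω] {c : G} (hc : ∀ u ∈ Q, c * u = u * c) : c ∈ Q := by
  obtain ⟨ω⟩ := ‹Nonempty Ω›
  obtain ⟨u, hu⟩ := exists_smul_eq Q ω (c • ω)
  have h1 : ((u : G)⁻¹ * c) • ω = ω := by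
    rw [mul_smul, ← hu]
    exact inv_smul_smul (u : G) ω
  have h2 : (u : G)⁻¹ * c = 1 := by
    refine FaithfulSMul.eq_of_smul_eq_smul fun x : Ω => ?_
    rw [one_smul]
    refine CfsgLib.Perm.Basic.eq_self_of_commute (G := Q)
      (c := fun z : Ω => ((u : G)⁻¹ * c) • z) (fun g z => ?_) h1 x
    show ((u : G)⁻¹ * c) • ((g : G) • z) = (g : G) • (((u : G)⁻¹ * c) • z)
    rw [smul_smul, smul_smul, mul_assoc _ c, hc g g.2, ← mul_assoc, ← mul_assoc,
      (CfsgLib.Solvable.Basic.isMulCommutative_subgroup_iff (H := Q)).mp hQ _ (inv_mem u.2) g g.2]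
  exact (inv_mul_eq_one.mp h2) ▸ u.2

/-- A normal subgroup of order prime to the degree is trivial. -/
theorem eq_bot_of_coprime {K : Subgroup G} [IsPretransitive K Ω] {N : Subgroup K} [N.Normal] {r : ℕ}
    (hn : Nat.card Ω = p ^ r) (hN : (Nat.card N).Coprime p) : N = ⊥ := by
  rw [Subgroup.eq_bot_iff_forall]
  intro m hm
  refine Subtype.ext (FaithfulSMul.eq_of_smul_eq_smul fun x : Ω => ?_)
  rw [Subgroup.coe_one, one_smul]
  have hB : IsBlock K (orbit N x) := IsBlock.orbit_of_normal x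
  have hd : Nat.card (orbit N x) ∣ Nat.card Ω := by
    rw [Nat.card_coe_set_eq]
    exact hB.ncard_dvd_card (nonempty_orbit (M := N) x)
  have hd' : Nat.card (orbit N x) ∣ Nat.card N := by
    rw [Nat.card_coe_set_eq, ← index_stabilizer]
    exact Subgroup.index_dvd_card _
  rw [hn] at hd
  have h1 : Nat.card (orbit N x) = 1 :=
    Nat.eq_one_of_dvd_coprimes (hN.symm.pow_left r) hd hd'
  obtain ⟨hs, -⟩ := Nat.card_eq_one_iff_unique.mp h1
  exact congrArg Subtype.val (hs.elim
    (⟨(⟨m, hm⟩ : N) • x, mem_orbit x _⟩ : orbit N x) ⟨x, mem_orbit_self x⟩)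

/-- The main theorem: without characters of `p`-defect zero the group is `p`-solvable. -/
theorem psolvable (hp2 : p ≠ 2) (hpG : p ∣ Nat.card G) (h2G : 2 ∣ Nat.card G)
    (hC : ∀ g : G, g ≠ 1 → (∃ k : ℕ, orderOf g = p ^ k) →
      Odd (Nat.card ↥(Subgroup.centralizer ({g} : Set G))))
    (hdz : ¬ ∃ χ : Cfsg.IrrCharacter G,
      (Cfsg.charDegree (χ : G → ℂ)).factorization p = (Nat.card G).factorization p)
    {r : ℕ} (hr : 1 ≤ r) (hn : Nat.card Ω = p ^ r) : Cfsg.IsPSolvable p G := by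
  classical
  haveI : Fact (Nat.Prime 2) := ⟨Nat.prime_two⟩
  haveI : Nonempty Ω := (Nat.card_pos_iff.mp (hn ▸ pow_pos hp.out.pos r)).1
  have hodd : Odd (Nat.card Ω) := hn ▸ (hp.out.odd_of_ne_two hp2).pow
  -- Sylow subgroups
  have htrans : ∀ Q : Sylow p G, IsPretransitive (Q : Subgroup G) Ω := fun Q =>
    CfsgLib.Perm.Basic.sylow_isPretransitive hn Q
  obtain ⟨t₁, u₁, ht₁, hu₁, hu₁', htu₁⟩ := exists_inverted hp2 hpG h2G hC hdz
  obtain ⟨Q₁, hQ₁, -⟩ := exists_sylow_inverted hC ht₁ hu₁ hu₁' htu₁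
  have hab : ∀ P : Sylow p G, IsMulCommutative (P : Subgroup G) := fun P =>
    CfsgLib.Solvable.Basic.isMulCommutative_subgroup_iff.mpr fun x hx y hy => by
      have hQc := (CfsgLib.Solvable.Basic.isMulCommutative_subgroup_iff
        (H := (Q₁ : Subgroup G))).mp (isMulCommutative_of_inverted hQ₁)
      exact congrArg Subtype.val ((Q₁.equiv P).symm.injective (by
        rw [map_mul, map_mul]
        exact Subtype.ext (hQc _ ((Q₁.equiv P).symm ⟨x, hx⟩).2 _
          ((Q₁.equiv P).symm ⟨y, hy⟩).2)) :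
        (⟨x, hx⟩ : (P : Subgroup G)) * ⟨y, hy⟩ = ⟨y, hy⟩ * ⟨x, hx⟩)
  -- point stabilisers have order prime to p
  have hstab : ∀ (ω : Ω) (x : G), x • ω = ω → orderOf x ≠ p := fun ω x hx ho => by
    obtain ⟨P, hP⟩ := (IsPGroup.of_card (n := 1) (by rw [Nat.card_zpowers, ho, pow_one]) :
      IsPGroup p (Subgroup.zpowers x)).exists_le_sylow
    haveI := htrans P
    rw [eq_one_of_fix (hab P) (hP (Subgroup.mem_zpowers x)) hx, orderOf_one] at ho
    exact hp.out.one_lt.ne ho
  -- an involution fixes exactly one point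
  have hfix : ∀ t : G, orderOf t = 2 → ∃! ω : Ω, t • ω = ω := by
    intro t ht
    obtain ⟨t', u, hconj, ht', hu1, hu, htu⟩ := exists_inverted_conj hp2 hpG h2G hC hdz ht
    obtain ⟨Q, hQinv, -⟩ := exists_sylow_inverted hC ht' hu1 hu htu
    haveI := htrans Q
    have hex : ∃ ω : Ω, t' • ω = ω := by
      have hT : IsPGroup 2 (Subgroup.zpowers t') :=
        IsPGroup.of_card (n := 1) (by rw [Nat.card_zpowers, ht', pow_one])
      obtain ⟨ω, hω⟩ := hT.nonempty_fixed_point_of_prime_not_dvd_card Ω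
        (by rw [← even_iff_two_dvd]; exact Nat.not_even_iff_odd.mpr hodd)
      exact ⟨ω, hω ⟨t', Subgroup.mem_zpowers t'⟩⟩
    have huniq : ∀ a b : Ω, t' • a = a → t' • b = b → a = b := by
      intro a b ha hb
      obtain ⟨⟨v, hv⟩, hvab⟩ := exists_smul_eq (Q : Subgroup G) a b
      change v • a = b at hvab
      subst hvab
      have h1 : v⁻¹ • a = v • a := by
        calc v⁻¹ • a = (t' * v * t'⁻¹) • a := by rw [hQinv v hv]
          _ = t' • v • a := by
            rw [mul_smul, mul_smul, inv_smul_eq_iff.mpr ha.symm]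
          _ = v • a := hb
      have h2 : v * v = 1 := eq_one_of_fix (hab Q) (mul_mem hv hv)
        (ω := a) (by rw [mul_smul, ← h1, smul_inv_smul])
      have h3 : v = 1 := by
        obtain ⟨k, hk⟩ := (IsPGroup.iff_orderOf.mp Q.isPGroup') ⟨v, hv⟩
        rw [Subgroup.orderOf_mk] at hk
        have hd : orderOf v ∣ 2 := orderOf_dvd_of_pow_eq_one (by rw [sq, h2])
        exact orderOf_eq_one_iff.mp (Nat.eq_one_of_dvd_coprimes
          (((Nat.coprime_primes hp.out Nat.prime_two).mpr hp2).pow_left k) (hk ▸ dvd_rfl) hd)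
      rw [h3, one_smul]
    obtain ⟨d, hd⟩ := isConj_iff.mp hconj
    subst hd
    obtain ⟨ω, hω⟩ := hex
    rw [mul_smul, mul_smul, ← eq_inv_smul_iff] at hω
    refine ⟨d⁻¹ • ω, hω, fun y hy => ?_⟩
    have := huniq (d • y) ω (by rw [mul_smul, mul_smul, inv_smul_smul, hy])
      (by rw [mul_smul, mul_smul, hω, smul_inv_smul])
    rw [← this, inv_smul_smul]
  have huniq : ∀ {t : G}, orderOf t = 2 → ∀ {a b : Ω}, t • a = a → t • b = b → a = b :=
    fun ht _ _ ha hb => (hfix _ ht).unique ha hb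
  have hfixC : ∀ {t c : G}, orderOf t = 2 → t * c = c * t → ∀ {a : Ω}, t • a = a → c • a = a :=
    fun ht hc a ha => huniq ht (by rw [smul_smul, hc, mul_smul, ha]) ha
  have hordconj : ∀ g t : G, orderOf t = 2 → orderOf (g * t * g⁻¹) = 2 := fun g t ht =>
    ((MulAut.conj g).orderOf_eq t).trans ht
  -- the point stabiliser is strongly embedded
  obtain ⟨t₀, ht₀⟩ := exists_prime_orderOf_dvd_card' 2 h2G
  obtain ⟨ω, hω₀, -⟩ := hfix t₀ ht₀
  set H := stabilizer G ω with hH
  have hSE : Cfsg.IsStronglyEmbedded H := by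
    refine ⟨fun e => ?_, ?_, fun g hg => ?_⟩
    · have h1 : Nat.card Ω = 1 := by
        rw [← index_stabilizer_of_transitive G ω, ← hH, e, Subgroup.index_top]
      rw [hn] at h1
      exact absurd h1 (Nat.one_lt_pow (by omega) hp.out.one_lt).ne'
    · rw [even_iff_two_dvd, ← ht₀]
      exact Subgroup.orderOf_dvd_natCard H (mem_stabilizer_iff.mpr hω₀)
    · rw [← Nat.not_even_iff_odd, even_iff_two_dvd]
      intro h2
      obtain ⟨⟨t, htH, htg⟩, ht⟩ := exists_prime_orderOf_dvd_card' 2 h2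
      replace ht : orderOf t = 2 := (Subgroup.orderOf_coe _).trans ht
      obtain ⟨s, hs, rfl⟩ := htg
      refine hg (mem_stabilizer_iff.mpr (huniq ht ?_ (mem_stabilizer_iff.mp htH)))
      show (g * s * g⁻¹) • g • ω = g • ω
      rw [smul_smul, inv_mul_cancel_right, mul_smul, mem_stabilizer_iff.mp hs]
  have hcore : H.normalCore = ⊥ := by
    rw [Subgroup.eq_bot_iff_forall]
    intro m hm
    refine FaithfulSMul.eq_of_smul_eq_smul fun x : Ω => ?_
    obtain ⟨g, rfl⟩ := exists_smul_eq G ω x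
    rw [one_smul]
    have := mem_stabilizer_iff.mp (H.normalCore_le (H.normalCore_normal.conj_mem m hm g⁻¹))
    rwa [mul_smul, mul_smul, inv_inv, inv_smul_eq_iff] at this
  by_cases hone : ∀ s t : G, orderOf s = 2 → orderOf t = 2 → s ∈ H → t ∈ H → s = t
  · -- a unique involution: the Z*-theorem
    have htH : t₀ ∈ H := mem_stabilizer_iff.mpr hω₀
    have hT : IsPGroup 2 (Subgroup.zpowers t₀) :=
      IsPGroup.of_card (n := 1) (by rw [Nat.card_zpowers, ht₀, pow_one])
    obtain ⟨S, hS⟩ := hT.exists_le_sylow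
    have htS : t₀ ∈ (S : Subgroup G) := hS (Subgroup.mem_zpowers t₀)
    have hcentral : ∀ s ∈ (S : Subgroup G), t₀ * s = s * t₀ := by
      haveI : Nontrivial (S : Subgroup G) := (Subgroup.nontrivial_iff_ne_bot _).mpr fun e => by
        rw [Subgroup.mem_bot.mp (show t₀ ∈ (⊥ : Subgroup G) from e ▸ htS), orderOf_one] at ht₀
        omega
      haveI := S.isPGroup'.center_nontrivial
      have h2 : 2 ∣ Nat.card (Subgroup.center (S : Subgroup G)) := by
        obtain ⟨k, hk0, hk⟩ :=
          ((S.isPGroup'.to_subgroup (Subgroup.center (S : Subgroup G))).nontrivial_iff_card).mp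
            inferInstance
        exact hk ▸ dvd_pow_self 2 hk0.ne'
      obtain ⟨⟨⟨z, hzS⟩, hzc⟩, hz⟩ := exists_prime_orderOf_dvd_card' 2 h2
      rw [Subgroup.orderOf_mk, Subgroup.orderOf_mk] at hz
      have hzz : ∀ s ∈ (S : Subgroup G), s * z = z * s := fun s hs =>
        congrArg Subtype.val (Subgroup.mem_center_iff.mp hzc ⟨s, hs⟩)
      have hzH : z ∈ H := mem_stabilizer_iff.mpr (hfixC ht₀ (hzz t₀ htS) hω₀)
      rw [hone t₀ z ht₀ hz htH hzH]
      exact fun s hs => (hzz s hs).symm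
    obtain ⟨N, hNn, hNodd, hNc⟩ := Cfsg.Agent.S0215.result S t₀ ht₀ htS fun g hg => by
      refine (hone t₀ _ ht₀ (hordconj g t₀ ht₀) htH ?_).symm
      exact mem_stabilizer_iff.mpr (hfixC ht₀ (hcentral _ hg) hω₀)
    haveI := hNn
    have hNt : IsPretransitive N Ω := by
      suffices h : ∀ g : G, ∃ o : N, (o : G) • ω = g • ω by
        refine ⟨fun a b => ?_⟩
        obtain ⟨g, rfl⟩ := exists_smul_eq G ω a
        obtain ⟨g', rfl⟩ := exists_smul_eq G ω b
        obtain ⟨o, ho⟩ := h g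
        obtain ⟨o', ho'⟩ := h g'
        exact ⟨o' * o⁻¹, show ((o' : G) * (o : G)⁻¹) • g • ω = g' • ω by
          rw [← ho, ← ho', mul_smul, inv_smul_smul]⟩
      intro g
      set s := g * t₀ * g⁻¹ with hs
      have ht0' : t₀⁻¹ = t₀ := inv_eq_of_mul_eq_one_right (by rw [← sq, ← ht₀, pow_orderOf_eq_one])
      have hs' : s⁻¹ = s := by rw [hs]; simp [mul_assoc, ht0']
      have hn' : s * t₀ ∈ N := by
        have := inv_mem (hNc g)
        rw [show (t₀ * g * t₀⁻¹ * g⁻¹)⁻¹ = g * t₀ * g⁻¹ * t₀⁻¹ by group, ht0'] at this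
        exact this
      obtain ⟨m, hm⟩ : Odd (orderOf (s * t₀)) := by
        refine hNodd.of_dvd_nat ?_
        exact Subgroup.orderOf_dvd_natCard N hn'
      have hinv : t₀ * (s * t₀) * t₀⁻¹ = (s * t₀)⁻¹ := by
        rw [mul_inv_rev, hs', ht0', mul_assoc, mul_assoc,
          show t₀ * t₀ = 1 by rw [← sq, ← ht₀, pow_orderOf_eq_one], mul_one]
      set o := (s * t₀) ^ (m + 1) with ho
      have ho2 : o * o = s * t₀ := by
        rw [ho, ← pow_add, show m + 1 + (m + 1) = orderOf (s * t₀) + 1 by omega, pow_succ,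
          pow_orderOf_eq_one, one_mul]
      have hto : t₀ * o * t₀⁻¹ = o⁻¹ := by rw [ho, ← conj_pow, hinv, inv_pow]
      have hso : s * o = o * t₀ := by
        have h1 : t₀ * o = o⁻¹ * t₀ := mul_inv_eq_iff_eq_mul.mp hto
        calc s * o = (s * t₀) * (t₀ * o) := by
              rw [mul_assoc s, ← mul_assoc t₀,
                show t₀ * t₀ = 1 by rw [← sq, ← ht₀, pow_orderOf_eq_one], one_mul]
          _ = o * o * (o⁻¹ * t₀) := by rw [h1, ho2]
          _ = o * t₀ := by group
      refine ⟨⟨o, pow_mem hn' _⟩, huniq (hordconj g t₀ ht₀) (t := s) ?_ ?_⟩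
      · show s • o • ω = o • ω
        rw [smul_smul, hso, mul_smul, hω₀]
      · rw [hs, smul_smul, inv_mul_cancel_right, mul_smul, hω₀]
    haveI : Group.IsSolvable N := Cfsg.Agent.S0205.result hNodd
    refine CfsgLib.Fusion.PSolvable.psolvable_of_normal N
      CfsgLib.Fusion.PSolvable.psolvable_of_solvable
      (CfsgLib.Fusion.PSolvable.psolvable_of_coprime ?_)
    rw [← Subgroup.index_eq_card]
    refine Nat.Coprime.symm (hp.out.coprime_iff_not_dvd.mpr fun hd => ?_)
    -- otherwise `p ^ (r + 1)` divides the order of `G`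
    have h1 : p ^ r ∣ Nat.card N := hn ▸ CfsgLib.Perm.Basic.card_dvd_card
    have h2 : p ^ r * p ∣ Nat.card Ω * Nat.card (stabilizer G ω) := by
      rw [← CfsgLib.Perm.Basic.card_eq_mul_stabilizer, ← Subgroup.card_mul_index N]
      exact Nat.mul_dvd_mul h1 hd
    rw [hn] at h2
    have h3 := Nat.dvd_of_mul_dvd_mul_left (pow_pos hp.out.pos r) h2
    obtain ⟨⟨x, hx⟩, hxo⟩ := exists_prime_orderOf_dvd_card' p h3
    rw [Subgroup.orderOf_mk] at hxo
    exact hstab ω x (mem_stabilizer_iff.mp hx) hxo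
  · -- two involutions: a contradiction
    exfalso
    push Not at hone
    obtain ⟨s, t, hs, ht, hsH, htH, hst⟩ := hone
    obtain ⟨γ, hγ⟩ : ∃ γ : G, γ ∉ H := by
      by_contra h
      push Not at h
      exact hSE.1 (eq_top_iff.mpr fun x _ => h x)
    have hxy : ((1 : G) : G ⧸ H) ≠ (γ : G ⧸ H) := fun e =>
      hγ (by simpa using QuotientGroup.eq.mp e)
    have hcard : 1 < Nat.card {i : G // orderOf i = 2 ∧ i • ((1 : G) : G ⧸ H) = (γ : G ⧸ H)} := by
      rw [CfsgLib.Involution.SE.card_swaps hSE hxy]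
      haveI : Nontrivial {t : G // orderOf t = 2 ∧ t ∈ H} :=
        ⟨⟨⟨s, hs, hsH⟩, ⟨t, ht, htH⟩, fun e => hst (congrArg Subtype.val e)⟩⟩
      exact Finite.one_lt_card
    haveI := Finite.one_lt_card_iff_nontrivial.mp hcard
    obtain ⟨⟨g, hg, hgx⟩, ⟨g', hg', hgx'⟩, hne⟩ :=
      exists_pair_ne {i : G // orderOf i = 2 ∧ i • ((1 : G) : G ⧸ H) = (γ : G ⧸ H)}
    have hswap : ∀ i : G, i • ((1 : G) : G ⧸ H) = (γ : G ⧸ H) → i • ω = γ • ω := by
      intro i hi
      rw [MulAction.Quotient.smul_mk, smul_eq_mul, mul_one] at hi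
      have h1 := mem_stabilizer_iff.mp (QuotientGroup.eq.mp hi)
      rw [mul_smul, inv_smul_eq_iff] at h1
      exact h1.symm
    set β := γ • ω
    have hβ : β ≠ ω := fun e => hγ (mem_stabilizer_iff.mpr e)
    have hinv' : ∀ {i : G}, orderOf i = 2 → i⁻¹ = i := fun hi =>
      inv_eq_of_mul_eq_one_right (by rw [← sq, ← hi, pow_orderOf_eq_one])
    have hgω := hswap g hgx
    have hgω' := hswap g' hgx'
    have hgβ : g • β = ω := by
      rw [← hgω, smul_smul, ← sq, ← hg, pow_orderOf_eq_one, one_smul]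
    have hgβ' : g' • β = ω := by
      rw [← hgω', smul_smul, ← sq, ← hg', pow_orderOf_eq_one, one_smul]
    set d := g * g' with hd
    have hd1 : d ≠ 1 := fun e => hne (Subtype.ext (
      (mul_eq_one_iff_eq_inv.mp e).trans (hinv' hg')))
    have hdω : d • ω = ω := by rw [hd, mul_smul, hgω', hgβ]
    have hdβ : d • β = β := by rw [hd, mul_smul, hgβ', hgω]
    have hinvd : g * d * g⁻¹ = d⁻¹ := by
      rw [hd, mul_inv_rev, hinv' hg', hinv' hg, ← mul_assoc g g g',
        show g * g = 1 by rw [← sq, ← hg, pow_orderOf_eq_one], one_mul]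
    have hgH : g ∉ H := fun h => hβ (hgω ▸ mem_stabilizer_iff.mp h)
    have hCd : Odd (Nat.card (Subgroup.centralizer ({d} : Set G))) := by
      refine Cfsg.Agent.S1223.result H hSE hcore g hg hgH d
        ⟨mem_stabilizer_iff.mpr hdω, g⁻¹ * d * g, ?_, by simp [mul_assoc]⟩ hd1 hinvd
      refine mem_stabilizer_iff.mpr ?_
      rw [mul_smul, mul_smul, hgω, hdβ, hinv' hg, hgβ]
    set C := Subgroup.centralizer ({d} : Set G) with hCdef
    have hcent : ∀ i : G, orderOf i = 2 → ¬ p ∣ Nat.card (Subgroup.centralizer ({i} : Set G)) := by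
      intro i hi hd'
      obtain ⟨⟨x, hx⟩, hxo⟩ := exists_prime_orderOf_dvd_card' p hd'
      rw [Subgroup.orderOf_mk] at hxo
      have h := hC x (fun e => hp.out.one_lt.ne (by rw [← hxo, e, orderOf_one]))
        ⟨1, by rw [hxo, pow_one]⟩
      refine Nat.not_even_iff_odd.mpr h (even_iff_two_dvd.mpr ?_)
      rw [← hi]
      exact Subgroup.orderOf_dvd_natCard _ (Subgroup.mem_centralizer_singleton_iff.mpr
        (Subgroup.mem_centralizer_singleton_iff.mp hx).symm)
    have hk := CfsgLib.DegreeTools.ClassConstant.dvd_card_factorisations hpG hdz g g' d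
      (hcent g hg) (hcent g' hg')
    -- the factorisations are the conjugates of `g` under the centraliser of `d`
    letI : MulAction C G := MulAction.compHom G (ConjAct.toConjAct.toMonoidHom.comp C.subtype)
    have hsm : ∀ (c : C) (x : G), c • x = (c : G) * x * (c : G)⁻¹ := fun c x =>
      ConjAct.toConjAct_smul (c : G) x
    have hset : {u : G | IsConj g u ∧ IsConj g' (u⁻¹ * d)} = orbit C g := by
      ext u
      constructor
      · rintro ⟨hu, hu'⟩
        obtain ⟨a, rfl⟩ := isConj_iff.mp hu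
        set u := a * g * a⁻¹ with hudef
        have hu2 := hordconj a g hg
        rw [← hudef] at hu2
        obtain ⟨b, hb⟩ := isConj_iff.mp hu'
        have hv := hordconj b g' hg'
        rw [hb] at hv
        have huu : u * u = 1 := by rw [← sq, ← hu2, pow_orderOf_eq_one]
        have hgg : g * g = 1 := by rw [← sq, ← hg, pow_orderOf_eq_one]
        have hud : u * d * u⁻¹ = d⁻¹ := by
          have h1 : (u⁻¹ * d) * (u⁻¹ * d) = 1 := by rw [← sq, ← hv, pow_orderOf_eq_one]
          rw [hinv' hu2] at h1 ⊢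
          exact eq_inv_of_mul_eq_one_left (by rw [← h1]; group)
        set c := g * u with hcdef
        have hcC : c ∈ C := by
          refine Subgroup.mem_centralizer_singleton_iff.mpr (mul_inv_eq_iff_eq_mul.mp ?_)
          rw [hcdef, show g * u * d * (g * u)⁻¹ = g * (u * d * u⁻¹) * g⁻¹ by group, hud,
            ← conj_inv, hinvd, inv_inv]
        obtain ⟨m, hm⟩ : Odd (orderOf c) :=
          hCd.of_dvd_nat (Subgroup.orderOf_dvd_natCard C hcC)
        have hgc : g * c * g⁻¹ = c⁻¹ := by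
          rw [hcdef, mul_inv_rev, hinv' hu2, hinv' hg, ← mul_assoc g g u, hgg, one_mul]
        set o := c ^ (m + 1) with ho
        have ho2 : o * o = c := by
          rw [ho, ← pow_add, show m + 1 + (m + 1) = orderOf c + 1 by omega, pow_succ,
            pow_orderOf_eq_one, one_mul]
        have hgo : g * o = o⁻¹ * g := mul_inv_eq_iff_eq_mul.mp (by
          rw [ho, ← conj_pow, hgc, inv_pow])
        refine ⟨⟨o, pow_mem hcC _⟩⁻¹, ?_⟩
        show (⟨o, _⟩ : C)⁻¹ • g = u
        rw [hsm]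
        show o⁻¹ * g * o⁻¹⁻¹ = u
        have hu_eq : u = g * c := by rw [hcdef, ← mul_assoc, hgg, one_mul]
        rw [inv_inv, ← hgo, mul_assoc, ho2, hu_eq]
      · rintro ⟨c, rfl⟩
        show IsConj g (c • g) ∧ IsConj g' ((c • g)⁻¹ * d)
        rw [hsm]
        refine ⟨isConj_iff.mpr ⟨c, rfl⟩, isConj_iff.mpr ⟨c, ?_⟩⟩
        have hcd := Subgroup.mem_centralizer_singleton_iff.mp c.2
        have hg'' : g' = g⁻¹ * d := by rw [hd, inv_mul_cancel_left]
        rw [hg'', show ((c : G) * g * (c : G)⁻¹)⁻¹ * d = c * g⁻¹ * ((c : G)⁻¹ * d) by group,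
          show (c : G) * (g⁻¹ * d) * (c : G)⁻¹ = c * g⁻¹ * (d * (c : G)⁻¹) by group]
        congr 1
        rw [eq_inv_mul_iff_mul_eq, ← mul_assoc, hcd, mul_inv_cancel_right]
    have hpC : p ∣ Nat.card C := by
      refine hk.trans ?_
      show Nat.card ({u : G | IsConj g u ∧ IsConj g' (u⁻¹ * d)} : Set G) ∣ Nat.card C
      rw [hset, Nat.card_coe_set_eq, ← index_stabilizer]
      exact Subgroup.index_dvd_card _
    -- a nontrivial `p`-element inverted by `g` centralising `d`
    have hgC : g ∈ Subgroup.normalizer (C : Set G) := by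
      rw [Subgroup.mem_normalizer_iff]
      intro x
      simp only [hCdef, Subgroup.mem_centralizer_singleton_iff]
      rw [← commute_iff_eq, ← commute_iff_eq, ← Commute.inv_right_iff (a := g * x * g⁻¹) (b := d),
        ← hinvd]
      exact (Commute.conj_iff (a := x) (b := d) g).symm
    obtain ⟨R, hR⟩ := CfsgLib.Coprime.exists_invariant_sylow (K := C)
      ((Subgroup.zpowers_le).mpr hgC)
      (by rw [Nat.card_zpowers, hg, Nat.coprime_two_left]; exact hCd) (Or.inl inferInstance) p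
    have hgR := hR (Subgroup.mem_zpowers g)
    have hRp : IsPGroup p ((R : Subgroup C).map C.subtype) := R.isPGroup'.map _
    obtain ⟨⟨x, hxC⟩, hxR, hx1⟩ := ((R : Subgroup C)).bot_or_exists_ne_one.resolve_left
      (R.ne_bot_of_dvd_card hpC)
    have hxR' : x ∈ (R : Subgroup C).map C.subtype := ⟨⟨x, hxC⟩, hxR, rfl⟩
    have hx1' : x ≠ 1 := fun e => hx1 (Subtype.ext e)
    have hgx : g * x * g⁻¹ = x⁻¹ := inverts_pgroup hC hg hRp
      (fun a ha => ((Subgroup.mem_normalizer_iff.mp hgR) a).mp ha) x hxR'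
    have hxp : ∃ k, orderOf x = p ^ k := by
      obtain ⟨k, hk⟩ := (IsPGroup.iff_orderOf.mp R.isPGroup') ⟨⟨x, hxC⟩, hxR⟩
      exact ⟨k, by rw [← hk, Subgroup.orderOf_mk, Subgroup.orderOf_mk]⟩
    -- the Sylow subgroup at `x` is normal in the centraliser of `x`
    set K := Subgroup.centralizer ({x} : Set G) with hK
    haveI : Group.IsSolvable K := Cfsg.Agent.S0205.result (hC x hx1' hxp)
    obtain ⟨k, hk'⟩ := hxp
    obtain ⟨P, hP⟩ := (IsPGroup.of_card (n := k) (by rw [Nat.card_zpowers, hk']) :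
      IsPGroup p (Subgroup.zpowers x)).exists_le_sylow
    have hPc := (CfsgLib.Solvable.Basic.isMulCommutative_subgroup_iff
      (H := (P : Subgroup G))).mp (hab P)
    have hPK : (P : Subgroup G) ≤ K := fun y hy =>
      Subgroup.mem_centralizer_singleton_iff.mpr (hPc y hy x (hP (Subgroup.mem_zpowers x)))
    haveI := htrans P
    haveI : IsPretransitive K Ω := ⟨fun a b => by
      obtain ⟨u, hu⟩ := exists_smul_eq (P : Subgroup G) a b
      exact ⟨⟨u, hPK u.2⟩, hu⟩⟩
    have hO : Cfsg.pPrimeCore p K = ⊥ := by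
      haveI : (Cfsg.pPrimeCore p K).Normal := Subgroup.sSup_normal _ fun _ h => h.1
      exact eq_bot_of_coprime (p := p) hn (CfsgLib.Solvable.Cores.coprime_card_pPrimeCore p)
    haveI hPn : (P.subtype hPK : Subgroup K).Normal := by
      have h := CfsgLib.Solvable.SylowSystem.abelian_sylow_normal p (P.subtype hPK)
        (CfsgLib.Solvable.Basic.isMulCommutative_subgroup_iff.mpr fun a ha b hb =>
          Subtype.ext (hPc a.1 (Subgroup.mem_subgroupOf.mp ha) b.1 (Subgroup.mem_subgroupOf.mp hb)))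
      rwa [hO, sup_bot_eq] at h
    have hdK : d ∈ K := Subgroup.mem_centralizer_singleton_iff.mpr
      (Subgroup.mem_centralizer_singleton_iff.mp hxC).symm
    have hdP : ∀ u ∈ (P : Subgroup G), d * u * d⁻¹ ∈ (P : Subgroup G) := fun u hu =>
      Subgroup.mem_subgroupOf.mp (hPn.conj_mem ⟨u, hPK hu⟩ (Subgroup.mem_subgroupOf.mpr hu) ⟨d, hdK⟩)
    have hgP : ∀ u ∈ (P : Subgroup G), g * u * g⁻¹ ∈ (P : Subgroup G) := by
      have hle : ((g • P : Sylow p G) : Subgroup G) ≤ K := by
        intro y hy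
        rw [Sylow.coe_subgroup_smul] at hy
        obtain ⟨u, hu, rfl⟩ := hy
        refine Subgroup.mem_centralizer_singleton_iff.mpr ?_
        show g * u * g⁻¹ * x = x * (g * u * g⁻¹)
        have h1 : Commute u x := hPc u hu x (hP (Subgroup.mem_zpowers x))
        have h2 : Commute (g * u * g⁻¹) x⁻¹ := hgx ▸ h1.map (MulAut.conj g).toMonoidHom
        exact Commute.inv_right_iff.mp h2
      obtain ⟨c, hc⟩ := exists_smul_eq K (P.subtype hPK) ((g • P).subtype hle)
      rw [Sylow.smul_eq_of_normal] at hc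
      have := Sylow.subtype_injective hc
      intro u hu
      rw [this, Sylow.coe_subgroup_smul]
      exact ⟨u, hu, rfl⟩
    have hinvP := inverts_pgroup hC hg P.isPGroup' hgP
    have hd2 : d * d ∈ (P : Subgroup G) := by
      refine mem_of_commute (Ω := Ω) (hab P) fun u hu => ?_
      have e : g * (d * u * d⁻¹) * g⁻¹ = (g * d * g⁻¹) * (g * u * g⁻¹) * (g * d * g⁻¹)⁻¹ := by group
      rw [hinvP _ (hdP u hu), hinvd, hinvP u hu] at e
      have e' := congrArg Inv.inv e
      calc d * d * u = d * (d * u * d⁻¹) * d := by group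
        _ = d * (d * u * d⁻¹)⁻¹⁻¹ * d := by rw [inv_inv]
        _ = d * (d⁻¹ * u⁻¹ * d⁻¹⁻¹)⁻¹ * d := by rw [e]
        _ = u * (d * d) := by group
    have hd2' : d * d = 1 := eq_one_of_fix (hab P) hd2 (ω := ω) (by rw [mul_smul, hdω, hdω])
    have hdodd : Odd (orderOf d) := hCd.of_dvd_nat (Subgroup.orderOf_dvd_natCard C
      (Subgroup.mem_centralizer_singleton_iff.mpr rfl))
    rw [orderOf_eq_prime (p := 2) (by rw [sq, hd2']) hd1] at hdodd
    exact Nat.not_odd_iff_even.mpr even_two hdodd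

end CfsgLib.DegreeTools.PrimePowerDegree
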