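import Cfsg.Agent.Lib.Char.Orth
import Cfsg.Agent.Lib.Char.Perm
import Cfsg.Agent.Lib.Blocks.Basic
import Mathlib.RingTheory.IntegralClosure.IntegrallyClosed
import Mathlib.RingTheory.PrincipalIdealDomain
import Mathlib.Algebra.GCDMonoid.IntegrallyClosed

/-!
# Character values at elements of prime order with a large automizer

If every nontrivial element of `⟨g⟩`, `g` of odd prime order `ℓ`, is conjugate to `g` or `g⁻¹`, then
twice the real part and the squared absolute value of a character there are integers with known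
residues modulo `ℓ`.
-/

set_option autoImplicit false

namespace CfsgLib.DegreeTools.PrimeValues

open Cfsg CfsgLib
open scoped Classical ComplexConjugate

variable {G : Type*} [Group G] [Fintype G] {ℓ : ℕ} {g : G}

/-- The elements conjugate to `g` or to its inverse. -/
noncomputable def pm (g : G) : Finset G :=
  Finset.univ.filter fun h => IsConj g h ∨ IsConj g⁻¹ h

theorem mem_pm {g h : G} : h ∈ pm g ↔ IsConj g h ∨ IsConj g⁻¹ h := by simp [pm]

theorem automizer (hℓ : ℓ.Prime) (hg : orderOf g = ℓ) (hsq : ¬ ℓ * ℓ ∣ Nat.card G) {c : ℕ}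
    (hC : Nat.card (Subgroup.centralizer ({g} : Set G)) = c) :
    ∃ k, Nat.card (Subgroup.normalizer (Subgroup.zpowers g : Set G)) = k * c ∧ k ∣ ℓ - 1 ∧
      k * c ∣ Nat.card G ∧ Nat.card G / (k * c) % ℓ = 1 := by
  haveI : Fact ℓ.Prime := ⟨hℓ⟩
  set P := Subgroup.zpowers g
  have hP : Nat.card P = ℓ := by rw [Nat.card_zpowers, hg]
  set N := Subgroup.normalizer (P : Set G)
  have hCP : Subgroup.centralizer (P : Set G) = Subgroup.centralizer ({g} : Set G) := by
    ext x
    rw [Subgroup.mem_centralizer_iff, Subgroup.mem_centralizer_singleton_iff]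
    constructor
    · exact fun h => (h g (Subgroup.mem_zpowers g)).symm
    · rintro h _ ⟨i, rfl⟩
      exact (((show Commute x g from h).zpow_right i).symm).eq
  set ψ := P.normalizerMonoidHom
  refine ⟨ψ.ker.index, ?_, ?_, ?_⟩
  · rw [← ψ.ker.card_mul_index, mul_comm]
    congr 1
    rw [Subgroup.normalizerMonoidHom_ker, ← hC, ← hCP]
    exact Nat.card_congr
      (Subgroup.subgroupOfEquivOfLe (Subgroup.centralizer_le_normalizer _)).toEquiv
  · rw [Subgroup.index_ker]
    have h := Subgroup.card_subgroup_dvd_card ψ.range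
    rwa [IsCyclic.card_mulAut, hP, Nat.totient_prime hℓ] at h
  · have hN : Nat.card N = ψ.ker.index * c := by
      rw [← ψ.ker.card_mul_index, mul_comm]
      congr 1
      rw [Subgroup.normalizerMonoidHom_ker, ← hC, ← hCP]
      exact Nat.card_congr
        (Subgroup.subgroupOfEquivOfLe (Subgroup.centralizer_le_normalizer _)).toEquiv
    rw [← hN]
    refine ⟨Subgroup.card_subgroup_dvd_card N, ?_⟩
    let R : Sylow ℓ G := (IsPGroup.of_card (n := 1) (by rw [hP, pow_one]) : IsPGroup ℓ P).toSylow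
      (by
        intro hd
        refine hsq ?_
        rw [← P.card_mul_index, hP]
        exact Nat.mul_dvd_mul_left ℓ hd)
    have hmod := card_sylow_modEq_one ℓ G
    rw [Sylow.card_eq_index_normalizer R] at hmod
    rw [← N.card_mul_index, Nat.mul_div_cancel_left _ Nat.card_pos]
    change N.index % ℓ = 1 % ℓ at hmod
    rwa [Nat.mod_eq_of_lt hℓ.one_lt] at hmod

theorem card_isConj_mul (g : G) :
    (Finset.univ.filter fun h => IsConj g h).card
      * Nat.card (Subgroup.centralizer ({g} : Set G)) = Nat.card G := by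
  have h := Char.card_conjugates_mul g
  rw [Nat.card_eq_fintype_card, Fintype.card_subtype] at h
  rw [← h]
  congr 2
  exact Finset.filter_congr fun x _ => ⟨IsConj.symm, IsConj.symm⟩

/-- If the automizer of `⟨g⟩` is everything or of odd order `(ℓ - 1) / 2`, all nontrivial elements
of `⟨g⟩` are conjugate to `g` or `g⁻¹`, and these are counted by the normalizer. -/
theorem pm_spec (hℓ : ℓ.Prime) (hℓ2 : ℓ ≠ 2) (hg : orderOf g = ℓ) {k : ℕ}
    (hN : Nat.card (Subgroup.normalizer (Subgroup.zpowers g : Set G))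
      = k * Nat.card (Subgroup.centralizer ({g} : Set G)))
    (hk : k = ℓ - 1 ∨ (Odd k ∧ 2 * k = ℓ - 1)) :
    (∀ h ∈ Subgroup.zpowers g, h ≠ 1 → h ∈ pm g) ∧
      (pm g).card * Nat.card (Subgroup.normalizer (Subgroup.zpowers g : Set G))
        = (ℓ - 1) * Nat.card G := by
  set P := Subgroup.zpowers g
  set N := Subgroup.normalizer (P : Set G)
  set C := Subgroup.centralizer ({g} : Set G)
  set Psh : Finset G := Finset.univ.filter fun h => h ∈ P ∧ h ≠ 1
  have hPsh : Psh.card = ℓ - 1 := by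
    have e : Psh = (Finset.univ.filter fun h => h ∈ P).erase 1 := by ext x; simp [Psh, and_comm]
    rw [e, Finset.card_erase_of_mem (by simp [one_mem]), ← Fintype.card_subtype,
      ← Nat.card_eq_fintype_card]
    exact congrArg (· - 1) (hg ▸ Nat.card_zpowers g)
  have hg1 : g ≠ 1 := fun h => hℓ.one_lt.ne' (by rw [← hg, h, orderOf_one])
  let f : G → G := fun u => u * g * u⁻¹
  set NF : Finset G := Finset.univ.filter fun u => u ∈ N
  set S := NF.image f
  have hSP : S ⊆ Psh := by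
    intro x hx
    obtain ⟨u, hu, rfl⟩ := Finset.mem_image.1 hx
    refine Finset.mem_filter.2 ⟨Finset.mem_univ _,
      ((Subgroup.mem_normalizer_iff.1 (Finset.mem_filter.1 hu).2) g).1 (Subgroup.mem_zpowers g),
      fun h => hg1 ?_⟩
    simpa [f, mul_inv_eq_one] using h
  have hC : ∀ c : G, c ∈ C ↔ c * g = g * c := fun c => Subgroup.mem_centralizer_singleton_iff
  have hCN : C ≤ N := fun c hc => Subgroup.centralizer_le_normalizer _
    (Subgroup.mem_centralizer_iff.2 (by
      rintro _ ⟨i, rfl⟩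
      exact (((show Commute c g from (hC c).1 hc).zpow_right i).symm).eq))
  have hfib : ∀ x ∈ S, (NF.filter fun u => f u = x).card = Nat.card C := by
    intro x hx
    obtain ⟨u, hu, rfl⟩ := Finset.mem_image.1 hx
    have hu' := (Finset.mem_filter.1 hu).2
    rw [← Nat.card_eq_finsetCard]
    refine Nat.card_congr ⟨fun v => ⟨u⁻¹ * v.1, ?_⟩, fun c => ⟨u * c.1, ?_⟩,
      fun v => Subtype.ext (by simp), fun c => Subtype.ext (by simp)⟩
    · have hv : v.1 * g * v.1⁻¹ = u * g * u⁻¹ := (Finset.mem_filter.1 v.2).2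
      refine (hC _).2 ?_
      calc u⁻¹ * v.1 * g = u⁻¹ * (v.1 * g * v.1⁻¹) * v.1 := by group
        _ = g * (u⁻¹ * v.1) := by rw [hv]; group
    · refine Finset.mem_filter.2 ⟨Finset.mem_filter.2 ⟨Finset.mem_univ _,
        N.mul_mem hu' (hCN c.2)⟩, ?_⟩
      have hc := (hC c.1).1 c.2
      show u * c.1 * g * (u * c.1)⁻¹ = u * g * u⁻¹
      rw [mul_assoc u, hc]
      group
  have hScard : S.card = k := by
    have h := Finset.card_eq_sum_card_image f NF
    rw [Finset.sum_congr rfl hfib, Finset.sum_const, smul_eq_mul, ← Fintype.card_subtype,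
      ← Nat.card_eq_fintype_card] at h
    exact Nat.eq_of_mul_eq_mul_right Nat.card_pos (h.symm.trans hN)
  have hSconj : ∀ x ∈ S, IsConj g x := fun x hx => by
    obtain ⟨u, -, rfl⟩ := Finset.mem_image.1 hx
    exact isConj_iff.2 ⟨u, rfl⟩
  have hpm : pm g = (Finset.univ.filter fun h => IsConj g h)
      ∪ (Finset.univ.filter fun h => IsConj g⁻¹ h) := by
    rw [pm, Finset.filter_or]
  rcases hk with rfl | ⟨hodd, hk2⟩
  · have hSeq : S = Psh := Finset.eq_of_subset_of_card_le hSP (by rw [hPsh, hScard])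
    have hall : ∀ h ∈ P, h ≠ 1 → IsConj g h := fun h hh h1 =>
      hSconj h (by rw [hSeq]; simp [Psh, hh, h1])
    refine ⟨fun h hh h1 => mem_pm.2 (Or.inl (hall h hh h1)), ?_⟩
    have hinv := hall g⁻¹ (inv_mem (Subgroup.mem_zpowers g)) (inv_ne_one.2 hg1)
    have e : (Finset.univ.filter fun h => IsConj g⁻¹ h)
        = Finset.univ.filter fun h => IsConj g h :=
      Finset.filter_congr fun x _ => ⟨hinv.trans, hinv.symm.trans⟩
    rw [hpm, e, Finset.union_self, hN, mul_left_comm, card_isConj_mul]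
  · have hnot : ¬ IsConj g g⁻¹ := by
      intro hc
      obtain ⟨u, hu⟩ := isConj_iff.1 hc
      have huN : u ∈ N := Subgroup.mem_normalizer_iff.2 fun z => by
        have key : ∀ j : ℤ, u * g ^ j * u⁻¹ = g ^ (-j) := fun j => by
          rw [← conj_zpow, hu, inv_zpow, zpow_neg]
        constructor
        · rintro ⟨j, rfl⟩
          exact ⟨-j, (key j).symm⟩
        · rintro ⟨j, hj⟩
          refine ⟨-j, ?_⟩
          have h1 := key (-j)
          rw [neg_neg] at h1
          simp only at hj ⊢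
          rw [hj] at h1
          simpa using congrArg (fun w => u⁻¹ * w * u) h1
      have hinvS : g⁻¹ ∈ S := Finset.mem_image.2 ⟨u, by simp [NF, huN], hu⟩
      obtain ⟨v, hv, hvx⟩ := Finset.mem_image.1 hinvS
      have hclosed : ∀ x ∈ S, x⁻¹ ∈ S := by
        intro x hx
        obtain ⟨w, hw, rfl⟩ := Finset.mem_image.1 hx
        refine Finset.mem_image.2 ⟨w * u, Finset.mem_filter.2 ⟨Finset.mem_univ _,
          N.mul_mem (Finset.mem_filter.1 hw).2 huN⟩, ?_⟩
        show w * u * g * (w * u)⁻¹ = (w * g * w⁻¹)⁻¹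
        calc w * u * g * (w * u)⁻¹ = w * (u * g * u⁻¹) * w⁻¹ := by group
          _ = _ := by rw [hu]; group
      have h0 : ∑ x ∈ S, (1 : ZMod 2) = 0 :=
        Finset.sum_involution (fun x _ => x⁻¹) (fun _ _ => by decide)
          (fun x hx _ he => by
            obtain ⟨hxP, hx1⟩ := (Finset.mem_filter.1 (hSP hx)).2
            have hx2 : x ^ 2 = 1 := by
              rw [pow_two]; nth_rw 1 [← he]; exact inv_mul_cancel x
            have h2 : orderOf x ∣ 2 := orderOf_dvd_of_pow_eq_one hx2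
            have hl : orderOf x ∣ ℓ := hg ▸ orderOf_dvd_of_mem_zpowers hxP
            rcases (Nat.dvd_prime hℓ).1 hl with h | h
            · exact hx1 (orderOf_eq_one_iff.1 h)
            · rw [h] at h2; exact hℓ2 ((Nat.prime_dvd_prime_iff_eq hℓ Nat.prime_two).1 h2))
          (fun x hx => hclosed x hx) (fun x _ => inv_inv x)
      rw [Finset.sum_const, nsmul_one, hScard, ZMod.natCast_eq_zero_iff_even] at h0
      exact (Nat.not_even_iff_odd.2 hodd) h0
    set T := S.image fun x => x⁻¹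
    have hTP : T ⊆ Psh := by
      intro x hx
      obtain ⟨y, hy, rfl⟩ := Finset.mem_image.1 hx
      obtain ⟨hyP, hy1⟩ := (Finset.mem_filter.1 (hSP hy)).2
      simp [Psh, hyP, hy1]
    have hTconj : ∀ x ∈ T, IsConj g⁻¹ x := fun x hx => by
      obtain ⟨y, hy, rfl⟩ := Finset.mem_image.1 hx
      obtain ⟨u, -, rfl⟩ := Finset.mem_image.1 hy
      exact isConj_iff.2 ⟨u, by simp [f, mul_assoc]⟩
    have hdis : ∀ x, IsConj g x → IsConj g⁻¹ x → False := fun x h1 h2 => hnot (h1.trans h2.symm)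
    have hST : S ∪ T = Psh := by
      refine Finset.eq_of_subset_of_card_le (Finset.union_subset hSP hTP) ?_
      rw [hPsh, Finset.card_union_of_disjoint (Finset.disjoint_left.2 fun x h1 h2 =>
          hdis x (hSconj x h1) (hTconj x h2)),
        Finset.card_image_of_injective _ inv_injective, hScard]
      omega
    refine ⟨fun h hh h1 => ?_, ?_⟩
    · have hmem : h ∈ S ∪ T := by rw [hST]; simp [Psh, hh, h1]
      rcases Finset.mem_union.1 hmem with h' | h'
      · exact mem_pm.2 (Or.inl (hSconj h h'))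
      · exact mem_pm.2 (Or.inr (hTconj h h'))
    · rw [hpm, Finset.card_union_of_disjoint (Finset.disjoint_left.2 fun x h1 h2 =>
          hdis x (Finset.mem_filter.1 h1).2 (Finset.mem_filter.1 h2).2),
        hN, add_mul, mul_left_comm, card_isConj_mul, mul_left_comm _ k]
      have e : Nat.card (Subgroup.centralizer ({g⁻¹} : Set G)) = Nat.card C := by
        congr 2
        ext x
        rw [Subgroup.mem_centralizer_singleton_iff, hC]
        exact Commute.inv_right_iff (a := x) (b := g)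
      rw [← e, card_isConj_mul, ← add_mul, ← two_mul, hk2]

/-- An algebraic integer which is rational is an integer. -/
theorem exists_int_of_rat {z : ℂ} (hz : IsIntegral ℤ z) (q : ℚ) (hq : z = (q : ℂ)) :
    ∃ m : ℤ, z = (m : ℂ) := by
  subst hq
  have h : IsIntegral ℤ q := by
    rwa [← eq_ratCast (algebraMap ℚ ℂ) q,
      isIntegral_algebraMap_iff (algebraMap ℚ ℂ).injective] at hz
  obtain ⟨m, hm⟩ := (IsIntegrallyClosed.isIntegral_iff (R := ℤ) (K := ℚ)).1 h
  exact ⟨m, by rw [← hm]; simp⟩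

/-- The values at the elements of `pm g`. -/
theorem values (χ : IrrCharacter G) (hℓ : ℓ.Prime) (hg : orderOf g = ℓ)
    (hP : ∀ h ∈ Subgroup.zpowers g, h ≠ 1 → h ∈ pm g) :
    ∃ s q y : ℤ, 0 ≤ y ∧ 4 * q = s ^ 2 + (ℓ : ℤ) * y ∧
      (ℓ : ℤ) ∣ q - (charDegree (χ : G → ℂ) : ℤ) ^ 2 ∧
      (ℓ : ℤ) ∣ s - 2 * (charDegree (χ : G → ℂ) : ℤ) ∧
      ∀ h ∈ pm g, (χ : G → ℂ) h + conj ((χ : G → ℂ) h) = (s : ℂ) ∧
        Complex.normSq ((χ : G → ℂ) h) = (q : ℝ) := by
  set d := charDegree (χ : G → ℂ)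
  set F : G → ℂ := fun h => (χ : G → ℂ) h + conj ((χ : G → ℂ) h)
  set Q : G → ℂ := fun h => (χ : G → ℂ) h * conj ((χ : G → ℂ) h)
  have hval : ∀ h ∈ pm g, F h = F g ∧ Q h = Q g := by
    intro h hh
    have hcl := Char.IsIrrCharacter.isClassFunction χ.2
    rcases mem_pm.1 hh with e | e <;> rw [Prod.mk.injEq (F h) (Q h) (F g) (Q g) |>.symm] <;>
      simp only [Prod.mk.injEq, F, Q, ← Char.IsClassFunction.apply_eq_of_isConj hcl e,
        ← Blocks.conj_irr, Complex.conj_conj]
    exact ⟨add_comm _ _, mul_comm _ _⟩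
  set P := Subgroup.zpowers g
  have hPc : Nat.card P = ℓ := by rw [Nat.card_zpowers, hg]
  have hres : Cfsg.IsCharacter P (fun h : P => (χ : G → ℂ) h) :=
    Char.IsCharacter.restrict (Char.isCharacter_irr χ) P
  obtain ⟨m0, hm0⟩ := Char.IsCharacter.classInner_nat hres Char.isCharacter_one
  obtain ⟨N, hN⟩ := Char.IsCharacter.classInner_nat hres hres
  have hℓ0 : (ℓ : ℂ) ≠ 0 := by exact_mod_cast hℓ.ne_zero
  rw [classInner, hPc, inv_mul_eq_iff_eq_mul₀ hℓ0] at hm0 hN
  simp only [map_one, mul_one] at hm0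
  have hd : (χ : G → ℂ) ((1 : P) : G) = (d : ℂ) := Blocks.irr_one_eq χ
  have hsum : ∀ F' : G → ℂ, (∀ h ∈ pm g, F' h = F' g) →
      ∑ h : P, F' h = F' 1 + ((ℓ - 1 : ℕ) : ℂ) * F' g := by
    intro F' hF'
    rw [← Finset.add_sum_erase _ _ (Finset.mem_univ (1 : P))]
    congr 1
    rw [Finset.sum_congr rfl fun (h : P) hh => hF' (h : G) (hP h h.2 fun e =>
        Finset.ne_of_mem_erase hh (Subtype.ext e)),
      Finset.sum_const, Finset.card_erase_of_mem (Finset.mem_univ _), Finset.card_univ,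
      ← Nat.card_eq_fintype_card, hPc, nsmul_eq_mul]
  have h1F : 2 * (ℓ : ℂ) * m0 = 2 * d + ((ℓ - 1 : ℕ) : ℂ) * F g := by
    have h := hsum F fun h hh => (hval h hh).1
    have hc : ∑ h : P, conj ((χ : G → ℂ) h) = (ℓ : ℂ) * m0 := by
      rw [← map_sum, hm0]; simp
    simp only [F, Finset.sum_add_distrib] at h
    rw [hm0, hc, show (χ : G → ℂ) 1 = (d : ℂ) from hd] at h
    simp only [map_natCast] at h
    linear_combination h
  have h1Q : (ℓ : ℂ) * N = (d : ℂ) ^ 2 + ((ℓ - 1 : ℕ) : ℂ) * Q g := by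
    have h := hsum Q fun h hh => (hval h hh).2
    simp only [Q] at h
    rw [hN, show (χ : G → ℂ) 1 = (d : ℂ) from hd] at h
    simp only [map_natCast] at h
    linear_combination h
  have hk0 : ((ℓ - 1 : ℕ) : ℂ) ≠ 0 := by
    exact_mod_cast Nat.sub_ne_zero_of_lt hℓ.one_lt
  have hint : IsIntegral ℤ ((χ : G → ℂ) g) := Char.IsCharacter.isIntegral (Char.isCharacter_irr χ) g
  have hint' : IsIntegral ℤ (conj ((χ : G → ℂ) g)) := by
    rw [Blocks.conj_irr]; exact Char.IsCharacter.isIntegral (Char.isCharacter_irr χ) _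
  obtain ⟨s, hs⟩ := exists_int_of_rat (z := F g) (hint.add hint')
    ((2 * (ℓ : ℚ) * m0 - 2 * d) / ((ℓ - 1 : ℕ) : ℚ)) (by
      push_cast
      rw [eq_div_iff hk0]
      linear_combination -h1F)
  obtain ⟨q, hq⟩ := exists_int_of_rat (z := Q g) (hint.mul hint')
    (((ℓ : ℚ) * N - (d : ℚ) ^ 2) / ((ℓ - 1 : ℕ) : ℚ)) (by
      push_cast
      rw [eq_div_iff hk0]
      linear_combination -h1Q)
  rw [hs] at h1F
  rw [hq] at h1Q
  have e1 : 2 * (ℓ : ℤ) * m0 = 2 * d + ((ℓ - 1 : ℕ) : ℤ) * s := by exact_mod_cast h1F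
  have e2 : (ℓ : ℤ) * N = (d : ℤ) ^ 2 + ((ℓ - 1 : ℕ) : ℤ) * q := by exact_mod_cast h1Q
  rw [Nat.cast_sub hℓ.one_lt.le, Nat.cast_one] at e1 e2
  have hqd : (ℓ : ℤ) ∣ q - (d : ℤ) ^ 2 := ⟨q - N, by linear_combination e2⟩
  have hsd : (ℓ : ℤ) ∣ s - 2 * (d : ℤ) := ⟨s - 2 * m0, by linear_combination e1⟩
  have hnn : s ^ 2 ≤ 4 * q := by
    have h1 : ((s : ℝ) : ℂ) = ((2 * ((χ : G → ℂ) g).re : ℝ) : ℂ) := by
      rw [← Complex.add_conj]; push_cast; exact hs.symm
    have h2 : ((q : ℝ) : ℂ) = ((Complex.normSq ((χ : G → ℂ) g) : ℝ) : ℂ) := by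
      rw [← Complex.mul_conj]; push_cast; exact hq.symm
    rw [Complex.ofReal_inj] at h1 h2
    have h3 : ((s : ℝ)) ^ 2 ≤ 4 * (q : ℝ) := by
      rw [h1, h2, Complex.normSq_apply]; nlinarith [sq_nonneg (((χ : G → ℂ) g).im)]
    exact_mod_cast h3
  obtain ⟨y, hy⟩ : (ℓ : ℤ) ∣ 4 * q - s ^ 2 := by
    have h := (hqd.mul_left 4).sub (hsd.mul_left (s + 2 * d))
    rwa [show 4 * (q - (d : ℤ) ^ 2) - (s + 2 * d) * (s - 2 * d) = 4 * q - s ^ 2 by ring] at h
  refine ⟨s, q, y, ?_, by linarith, hqd, hsd, fun h hh => ⟨(hval h hh).1.trans hs, ?_⟩⟩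
  · have h0 : (0 : ℤ) ≤ (ℓ : ℤ) * y := by rw [← hy]; linarith
    exact nonneg_of_mul_nonneg_right h0 (by exact_mod_cast hℓ.pos)
  · have h1 := (hval h hh).2.trans hq
    simp only [Q, Complex.mul_conj] at h1
    exact_mod_cast h1

theorem sum_normSq (χ : IrrCharacter G) :
    ∑ g : G, Complex.normSq ((χ : G → ℂ) g) = Nat.card G := by
  have h := Char.classInner_irr_self χ.2
  rw [classInner, inv_mul_eq_iff_eq_mul₀ Char.card_ne_zero, mul_one] at h
  simp only [Complex.mul_conj] at h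
  exact_mod_cast h

/-- A character with a value which is not real has its squares summing to zero. -/
theorem sum_sq_eq_zero (χ : IrrCharacter G) {g₀ : G}
    (h₀ : conj ((χ : G → ℂ) g₀) ≠ (χ : G → ℂ) g₀) : ∑ g : G, (χ : G → ℂ) g ^ 2 = 0 := by
  have h := Char.classInner_irr_ne χ.2 (Char.IsIrrCharacter.conj' χ.2)
    (fun e => h₀ (congrFun e g₀).symm)
  rw [classInner, mul_eq_zero] at h
  have h' := h.resolve_left (inv_ne_zero Char.card_ne_zero)
  simpa [pow_two, Complex.conj_conj] using h'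

theorem sum_eq_zero (χ : IrrCharacter G) {d : ℕ} (hd : charDegree (χ : G → ℂ) = d) (h1 : d ≠ 1) :
    ∑ g : G, (χ : G → ℂ) g = 0 := by
  have h := Char.classInner_irr_ne χ.2 (Blocks.trivChar G).2 fun e => h1 ?_
  · rw [classInner, mul_eq_zero] at h
    have h' := h.resolve_left (inv_ne_zero Char.card_ne_zero)
    simpa [Blocks.trivChar] using h'
  · have e1 := congrFun e 1
    rw [Blocks.irr_one_eq, hd] at e1
    simpa [Blocks.trivChar] using e1

end CfsgLib.DegreeTools.PrimeValues
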