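import Cfsg.Agent.Lib.DegreeTools.RealDegrees
import Cfsg.Agent.Lib.CharDeep.Glauberman.RealCorr
import Cfsg.Agent.Lib.Char.Perm
import Mathlib.GroupTheory.GroupAction.Quotient

/-!
# Real classes meet the normaliser of a Sylow subgroup

If all real irreducible characters have degree prime to `p` and the subgroup generated by the
`p`-elements is solvable, every real class meets the normaliser of a Sylow `p`-subgroup.
-/

set_option linter.style.haveILetI false

namespace CfsgLib.DegreeTools.RealClassNormalizer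

open CfsgLib CfsgLib.Char
open scoped ComplexConjugate

universe u v

section Orbits

variable {A : Type v} [Group A] {X : Type*}

/-- The orbit relation of a permutation representation. -/
def orbSetoid (π : A →* Equiv.Perm X) : Setoid X where
  r x y := ∃ a, π a x = y
  iseqv := ⟨fun x => ⟨1, by simp⟩, fun {x y} ⟨a, ha⟩ => ⟨a⁻¹, by rw [← ha, map_inv]; simp⟩,
    fun {x y z} ⟨a, ha⟩ ⟨b, hb⟩ => ⟨b * a, by rw [map_mul, Equiv.Perm.mul_apply, ha, hb]⟩⟩

/-- The orbits of a permutation representation. -/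
abbrev Orb (π : A →* Equiv.Perm X) : Type _ := Quotient (orbSetoid π)

/-- Burnside's lemma. -/
theorem card_orb_mul [Finite A] [Finite X] (π : A →* Equiv.Perm X) :
    Nat.card (Orb π) * Nat.card A = ∑ᶠ a : A, Nat.card {x // π a x = x} := by
  cases nonempty_fintype A
  letI : MulAction A X := MulAction.compHom X π
  have e := Nat.card_congr (MulAction.sigmaFixedByEquivOrbitsProdGroup A X)
  rw [Nat.card_sigma, Nat.card_prod] at e
  rw [finsum_eq_sum_of_fintype]
  refine Eq.trans ?_ e.symm
  congr 1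
  refine Nat.card_congr (Quotient.congrRight fun x y => ?_)
  rw [MulAction.orbitRel_apply, MulAction.mem_orbit_iff]
  exact ⟨fun ⟨a, ha⟩ => ⟨a⁻¹, by
      show π a⁻¹ y = x
      rw [← ha, map_inv]; simp⟩,
    fun ⟨a, ha⟩ => ⟨a⁻¹, by
      have ha' : π a y = x := ha
      rw [← ha', map_inv]; simp⟩⟩

theorem card_orb_eq {Y : Type*} [Finite A] [Finite X] [Finite Y] (π : A →* Equiv.Perm X)
    (π' : A →* Equiv.Perm Y)
    (h : ∀ a, Nat.card {x // π a x = x} = Nat.card {y // π' a y = y}) :
    Nat.card (Orb π) = Nat.card (Orb π') := by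
  have h1 : Nat.card (Orb π) * Nat.card A = Nat.card (Orb π') * Nat.card A := by
    rw [card_orb_mul, card_orb_mul]
    exact finsum_congr h
  exact Nat.eq_of_mul_eq_mul_right Nat.card_pos h1

end Orbits

section Brauer

variable {A : Type v} [Group A] {K : Type u} [Group K]

/-- Real irreducible characters. -/
abbrev RealIrr (K : Type u) [Group K] : Type u :=
  {χ : Cfsg.IrrCharacter K // ∀ g, ((χ : K → ℂ) g).im = 0}

/-- Real classes. -/
abbrev RealClasses (K : Type u) [Group K] : Type u :=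
  {c : ConjClasses K // CharDeep.Glauberman.RealCl K c}

/-- The action on real characters. -/
noncomputable def realIrrPerm (φ : A →* MulAut K) : A →* Equiv.Perm (RealIrr K) where
  toFun a := (CharDeep.Glauberman.irrPerm φ a).subtypeEquiv fun χ =>
    ⟨fun h g => h _, fun h g => by
      have := h (φ a g)
      rwa [CharDeep.Glauberman.irrPerm_apply, MulEquiv.symm_apply_apply] at this⟩
  map_one' := Equiv.ext fun χ => Subtype.ext (by simp)
  map_mul' a b := Equiv.ext fun χ => Subtype.ext (by simp)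

theorem realIrrPerm_apply (φ : A →* MulAut K) (a : A) (χ : RealIrr K) (g : K) :
    ((realIrrPerm φ a χ).1 : K → ℂ) g = (χ.1 : K → ℂ) ((φ a).symm g) := rfl

theorem map_realCl (f : K →* K) {c : ConjClasses K} (hc : CharDeep.Glauberman.RealCl K c) :
    CharDeep.Glauberman.RealCl K (ConjClasses.map f c) := by
  obtain ⟨z, rfl⟩ := ConjClasses.mk_surjective c
  intro g hg
  have h1 : IsConj g (f z) := ConjClasses.mk_eq_mk_iff_isConj.1 hg
  obtain ⟨a, ha⟩ := isConj_iff.1 h1
  refine h1.trans ((f.map_isConj (hc z rfl)).trans ?_)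
  rw [map_inv]
  exact (isConj_iff.2 ⟨a, by rw [← ha]; group⟩ : IsConj g⁻¹ (f z)⁻¹).symm

/-- The action on real classes. -/
noncomputable def realClPerm (φ : A →* MulAut K) : A →* Equiv.Perm (RealClasses K) :=
  MonoidHom.mk'
    (fun a =>
      { toFun := fun c => ⟨ConjClasses.map (φ a).toMonoidHom c.1, map_realCl _ c.2⟩
        invFun := fun c => ⟨ConjClasses.map (φ a).symm.toMonoidHom c.1, map_realCl _ c.2⟩
        left_inv := fun c => Subtype.ext (by
          obtain ⟨z, hz⟩ := ConjClasses.mk_surjective c.1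
          show ConjClasses.map _ (ConjClasses.map _ c.1) = c.1
          rw [← hz]
          exact congrArg ConjClasses.mk ((φ a).symm_apply_apply z))
        right_inv := fun c => Subtype.ext (by
          obtain ⟨z, hz⟩ := ConjClasses.mk_surjective c.1
          show ConjClasses.map _ (ConjClasses.map _ c.1) = c.1
          rw [← hz]
          exact congrArg ConjClasses.mk ((φ a).apply_symm_apply z)) })
    fun a b => Equiv.ext fun c => Subtype.ext (by
      obtain ⟨z, hz⟩ := ConjClasses.mk_surjective c.1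
      show ConjClasses.map _ c.1 = ConjClasses.map _ (ConjClasses.map _ c.1)
      rw [← hz, map_mul]
      rfl)

theorem realClPerm_apply (φ : A →* MulAut K) (a : A) (c : RealClasses K) (z : K)
    (hz : ConjClasses.mk z = c.1) :
    (realClPerm φ a c).1 = ConjClasses.mk (φ a z) := by
  show ConjClasses.map _ c.1 = _
  rw [← hz]
  rfl

/-- Brauer's lemma for real characters and an operator inner in odd power. -/
theorem card_fixed_eq [Finite K] (φ : A →* MulAut K) (a : A) {m : ℕ} (hm : Odd m) {k₀ : K}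
    (hk : φ (a ^ m) = MulAut.conj k₀) :
    Nat.card {χ : RealIrr K // realIrrPerm φ a χ = χ} =
      Nat.card {c : RealClasses K // realClPerm φ a c = c} := by
  classical
  cases nonempty_fintype K
  set α := φ a with hα
  have hαm : ∀ g, (α ^ m) g = k₀ * g * k₀⁻¹ := fun g => by
    rw [hα, ← map_pow, hk, MulAut.conj_apply]
  obtain ⟨j, hj⟩ := hm
  -- a fixed point of the square and of the odd power is fixed
  have hfix : ∀ (F : K → ℂ), Cfsg.IsClassFunction K F → (∀ g, F (α (α g)) = F g) →
      ∀ g, F (α g) = F g := by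
    intro F hF h2 g
    have hp : ∀ (i : ℕ) (g : K), F ((α ^ (2 * i)) g) = F g := by
      intro i
      induction i with
      | zero => intro g; rfl
      | succ i ih =>
        intro g
        rw [show 2 * (i + 1) = 2 * i + 2 by ring, pow_add, MulAut.mul_apply, ih, sq,
          MulAut.mul_apply, h2]
    have h3 : F ((α ^ m) g) = F g := by rw [hαm]; exact hF g k₀
    rw [hj, pow_add, pow_one, MulAut.mul_apply, hp] at h3
    exact h3
  have hfixc : ∀ g, IsConj (α (α g)) g → IsConj (α g) g := fun g h =>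
    isConj_iff_forall_irr.2 fun χ => by
      have hp : ∀ (i : ℕ), IsConj ((α ^ (2 * i)) g) g := by
        intro i
        induction i with
        | zero => exact IsConj.refl g
        | succ i ih =>
          rw [show 2 * (i + 1) = 2 * i + 2 by ring, pow_add, MulAut.mul_apply, sq,
            MulAut.mul_apply]
          exact ((α ^ (2 * i)).toMonoidHom.map_isConj h).trans ih
      have h1 : IsConj (α ((α ^ (2 * j)) g)) (α g) := α.toMonoidHom.map_isConj (hp j)
      have h2 : IsConj ((α ^ m) g) g :=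
        (isConj_iff.2 ⟨k₀, (hαm g).symm⟩ : IsConj g ((α ^ m) g)).symm
      rw [hj, pow_succ', MulAut.mul_apply] at h2
      exact IsClassFunction.apply_eq_of_isConj (IsIrrCharacter.isClassFunction χ.2)
        (h1.symm.trans h2)
  have hmain := card_fixed_irr_eq (G := K) (fun g => (α g)⁻¹)
    (fun x y hxy => by
      obtain ⟨c, rfl⟩ := isConj_iff.mp hxy
      exact isConj_iff.mpr ⟨α c, by simp only [map_mul, map_inv]; group⟩)
    (fun χ hχ => by
      convert IsIrrCharacter.conj' (IsIrrCharacter.comp_equiv hχ α) using 1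
      exact funext fun g => IsIrrCharacter.apply_inv hχ (α g))
  refine Eq.trans ?_ (hmain.trans ?_)
  · refine Nat.card_congr
      { toFun := fun χ => ⟨χ.1.1, ?_⟩
        invFun := fun χ => ⟨⟨χ.1, ?_⟩, ?_⟩
        left_inv := fun χ => rfl
        right_inv := fun χ => rfl }
    · funext g
      have h1 : (χ.1.1 : K → ℂ) ((φ a).symm (α g)) = (χ.1.1 : K → ℂ) (α g) := by
        rw [← realIrrPerm_apply, χ.2]
      rw [← hα, MulEquiv.symm_apply_apply] at h1
      show (χ.1.1 : K → ℂ) (α g)⁻¹ = _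
      rw [IsIrrCharacter.apply_inv χ.1.1.2, Complex.conj_eq_iff_im.2 (χ.1.2 _)]
      exact h1.symm
    · have h1 : ∀ g, conj ((χ.1 : K → ℂ) (α g)) = (χ.1 : K → ℂ) g := fun g => by
        rw [← IsIrrCharacter.apply_inv χ.1.2]; exact congrFun χ.2 g
      have h2 : ∀ g, (χ.1 : K → ℂ) (α (α g)) = (χ.1 : K → ℂ) g := fun g => by
        have h3 := h1 g
        rw [← h1 (α g), Complex.conj_conj] at h3
        exact h3
      have h3 := hfix _ (IsIrrCharacter.isClassFunction χ.1.2) h2
      intro g
      rw [← Complex.conj_eq_iff_im]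
      have h4 := h1 g
      rwa [h3] at h4
    · refine Subtype.ext (Subtype.ext (funext fun g => ?_))
      rw [realIrrPerm_apply]
      have h1 : ∀ g, conj ((χ.1 : K → ℂ) (α g)) = (χ.1 : K → ℂ) g := fun g => by
        rw [← IsIrrCharacter.apply_inv χ.1.2]; exact congrFun χ.2 g
      have h2 : ∀ g, (χ.1 : K → ℂ) (α (α g)) = (χ.1 : K → ℂ) g := fun g => by
        have h3 := h1 g
        rw [← h1 (α g), Complex.conj_conj] at h3
        exact h3
      have h3 := hfix _ (IsIrrCharacter.isClassFunction χ.1.2) h2 (α.symm g)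
      rw [MulEquiv.apply_symm_apply] at h3
      exact h3.symm
  · refine Nat.card_congr
      { toFun := fun c => ⟨⟨c.1, ?_⟩, ?_⟩
        invFun := fun c => ⟨c.1.1, ?_⟩
        left_inv := fun c => rfl
        right_inv := fun c => rfl }
    · intro g hg
      have h1 := c.2 g hg
      have h2 : IsConj (α (α g)⁻¹)⁻¹ g := by
        have hf := c.2 ((α g)⁻¹) (by
          rw [← hg]; exact ConjClasses.mk_eq_mk_iff_isConj.2 h1)
        exact hf.trans h1
      rw [map_inv, inv_inv] at h2
      have h3 := hfixc g h2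
      obtain ⟨c', hc'⟩ := isConj_iff.1 h3
      exact h1.symm.trans (isConj_iff.2 ⟨c', by
        calc c' * (α g)⁻¹ * c'⁻¹ = (c' * α g * c'⁻¹)⁻¹ := by group
          _ = g⁻¹ := by rw [hc']⟩)
    · refine Subtype.ext ?_
      obtain ⟨z, hz⟩ := ConjClasses.mk_surjective c.1
      rw [realClPerm_apply φ a _ z hz, ← hα]
      show _ = c.1
      rw [← hz]
      have h1 := c.2 z hz
      have h2 : IsConj (α (α z)) z := by
        have hf := c.2 ((α z)⁻¹) (by rw [← hz]; exact ConjClasses.mk_eq_mk_iff_isConj.2 h1)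
        simpa using hf.trans h1
      exact ConjClasses.mk_eq_mk_iff_isConj.2 (hfixc z h2)
    · intro g hg
      have h1 := congrArg Subtype.val c.2
      rw [realClPerm_apply φ a c.1 g hg, ← hα, ← hg] at h1
      have h2 : IsConj (α g) g := ConjClasses.mk_eq_mk_iff_isConj.1 h1
      have h3 := c.1.2 g hg
      obtain ⟨c', hc'⟩ := isConj_iff.1 h2
      exact (isConj_iff.2 ⟨c', by
        calc c' * (α g)⁻¹ * c'⁻¹ = (c' * α g * c'⁻¹)⁻¹ := by group
          _ = g⁻¹ := by rw [hc']⟩ : IsConj (α g)⁻¹ g⁻¹).trans h3.symm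

theorem card_real_orb_eq [Finite A] [Finite K] (φ : A →* MulAut K)
    (hodd : ∀ a, ∃ (m : ℕ) (k : K), Odd m ∧ φ (a ^ m) = MulAut.conj k) :
    Nat.card (Orb (realIrrPerm φ)) = Nat.card (Orb (realClPerm φ)) := by
  cases nonempty_fintype K
  exact card_orb_eq _ _ fun a => by
    obtain ⟨m, k, hm, hk⟩ := hodd a
    exact card_fixed_eq φ a hm hk

end Brauer

variable {G : Type u} [Group G] [Finite G] {p : ℕ}

/-- A real character of a normal subgroup of odd index has a stabiliser of index prime to `p`. -/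
theorem not_dvd_index_stab (K : Subgroup G) [hK : K.Normal] [Fintype K] (hodd : Odd K.index)
    (hreal : ∀ χ : Cfsg.IrrCharacter G, (∀ g : G, ((χ : G → ℂ) g).im = 0) →
      ¬ p ∣ Cfsg.charDegree (χ : G → ℂ))
    (θ : RealIrr K) : ¬ p ∣ (stab (θ.1 : K → ℂ) : Subgroup G).index := by
  classical
  cases nonempty_fintype G
  have hθ := θ.1.2
  have hθr : ∀ g, conj ((θ.1 : K → ℂ) g) = (θ.1 : K → ℂ) g := fun g =>
    Complex.conj_eq_iff_im.2 (θ.2 g)
  set T : Subgroup G := stab (θ.1 : K → ℂ) with hTdef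
  have hKT : K ≤ T := le_stab (IsIrrCharacter.isClassFunction hθ)
  have hT : IsInertia (θ.1 : K → ℂ) T := isInertia_stab _
  let K' : Subgroup T := K.subgroupOf T
  haveI : K'.Normal := hK.subgroupOf T
  let e : K' ≃* K := Subgroup.subgroupOfEquivOfLe hKT
  set θ' : K' → ℂ := (θ.1 : K → ℂ) ∘ e with hθ'
  have hθ'i : Cfsg.IsIrrCharacter K' θ' := IsIrrCharacter.comp_equiv hθ e
  set I : T → ℂ := Cfsg.indFun K' θ' with hI
  have hIc : Cfsg.IsCharacter T I := IsCharacter.indFun K' (IsIrrCharacter.isCharacter hθ'i)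
  have hIr : ∀ t, conj (I t) = I t := fun t => by
    rw [hI, ← congrFun (indFun_conj K' θ') t]
    exact congrFun (congrArg (Cfsg.indFun K') (funext fun x => hθr (e x))) t
  obtain ⟨m, hm, hexp⟩ := IsCharacter.exists_multiplicity hIc
  have hres : ∀ φ : Cfsg.IrrCharacter T,
      Cfsg.classInner (resLe hKT (φ : T → ℂ)) (θ.1 : K → ℂ) = (m φ : ℂ) := by
    intro φ
    rw [← classInner_resLe hKT (φ : T → ℂ) (θ.1 : K → ℂ)]
    rw [← hm φ, hI, classInner_indFun K' θ' (IsIrrCharacter.isClassFunction φ.2)]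
    exact IsCharacter.classInner_comm
      (IsCharacter.restrict (isCharacter_irr φ) K') (IsIrrCharacter.isCharacter hθ'i)
  let τ : Cfsg.IrrCharacter T → Cfsg.IrrCharacter T := CharDeep.Glauberman.conjIrr
  have hmτ : ∀ φ, m (τ φ) = m φ := by
    intro φ
    have h1 : Cfsg.classInner I (τ φ : T → ℂ) = conj (Cfsg.classInner I (φ : T → ℂ)) := by
      simp only [Cfsg.classInner, map_mul, map_sum, map_inv₀, Complex.conj_natCast,
        Complex.conj_conj, τ, CharDeep.Glauberman.conjIrr, hIr]
    rw [hm, hm, Complex.conj_natCast] at h1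
    exact_mod_cast h1
  have hsum : ∑ φ : Cfsg.IrrCharacter T, m φ * m φ = K'.index := by
    have hd : ∀ φ : Cfsg.IrrCharacter T, (m φ : ℂ) * (φ : T → ℂ) 1 =
        ((m φ * m φ : ℕ) : ℂ) * (θ.1 : K → ℂ) 1 := by
      intro φ
      by_cases h0 : m φ = 0
      · simp [h0]
      · rw [apply_one_inertia hKT hθ hT φ.2 (by rw [hres]; exact_mod_cast h0), hres]
        push_cast; ring
    have h2 : ((∑ φ : Cfsg.IrrCharacter T, m φ * m φ : ℕ) : ℂ) * (θ.1 : K → ℂ) 1 =
        (K'.index : ℂ) * (θ.1 : K → ℂ) 1 := by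
      rw [Nat.cast_sum, Finset.sum_mul, ← Finset.sum_congr rfl fun φ _ => hd φ, ← hexp 1, hI,
        indFun_one, hθ', Function.comp_apply, map_one]
    exact_mod_cast mul_right_cancel₀ (IsIrrCharacter.apply_one_ne_zero hθ) h2
  have hidx : Odd K'.index := by
    rw [Subgroup.index, ← Nat.not_even_iff_odd, even_iff_two_dvd]
    intro h2
    refine (Nat.not_even_iff_odd.mpr hodd) (even_iff_two_dvd.mpr (dvd_trans h2 ?_))
    exact Subgroup.relIndex_dvd_index_of_normal K T
  obtain ⟨η, hηm, hητ⟩ : ∃ η : Cfsg.IrrCharacter T, m η ≠ 0 ∧ τ η = η := by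
    by_contra hc
    push Not at hc
    have h0 : ∑ φ : Cfsg.IrrCharacter T, ((m φ * m φ : ℕ) : ZMod 2) = 0 := by
      refine Finset.sum_involution (fun φ _ => τ φ) (fun φ _ => ?_) (fun φ _ hne => ?_)
        (fun φ _ => Finset.mem_univ _) fun φ _ => ?_
      · rw [hmτ, CharTwo.add_self_eq_zero]
      · exact hc φ fun h => hne (by simp [h])
      · exact Subtype.ext (funext fun g => Complex.conj_conj _)
    rw [← Nat.cast_sum, hsum, ZMod.natCast_eq_zero_iff_even] at h0
    exact (Nat.not_even_iff_odd.mpr hidx) h0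
  obtain ⟨hirr, -⟩ := indFun_inertia hKT hθ hT η.2 (by rw [hres]; exact_mod_cast hηm)
  intro hd
  refine hreal ⟨_, hirr⟩ (fun g => ?_) (hd.trans ⟨Cfsg.charDegree (η : T → ℂ), ?_⟩)
  · rw [← Complex.conj_eq_iff_im]
    show conj (Cfsg.indFun T (η : T → ℂ) g) = _
    rw [← congrFun (indFun_conj T (η : T → ℂ)) g]
    have h1 : (fun t : T => conj ((η : T → ℂ) t)) = (η : T → ℂ) :=
      congrArg (fun x : Cfsg.IrrCharacter T => (x : T → ℂ)) hητ
    rw [h1]
  · have h1 : (Cfsg.charDegree (Cfsg.indFun T (η : T → ℂ)) : ℂ) =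
        ((T.index * Cfsg.charDegree (η : T → ℂ) : ℕ) : ℂ) := by
      rw [charDegree_cast (IsIrrCharacter.isCharacter hirr), Nat.cast_mul, deg_cast, indFun_one]
    exact_mod_cast h1

/-- The coprime case. -/
theorem exists_conj_centralizes [Fact p.Prime] (K : Subgroup G) [hK : K.Normal]
    (hKp : ¬ p ∣ Nat.card K) (hodd : Odd K.index)
    (hreal : ∀ χ : Cfsg.IrrCharacter G, (∀ g : G, ((χ : G → ℂ) g).im = 0) →
      ¬ p ∣ Cfsg.charDegree (χ : G → ℂ))
    (P : Sylow p G) (x : K) (hx : IsConj x x⁻¹) :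
    ∃ g : G, g * x * g⁻¹ ∈ Subgroup.centralizer ((P : Subgroup G) : Set G) := by
  classical
  cases nonempty_fintype G
  set N : Subgroup G := Subgroup.normalizer ((P : Subgroup G) : Set G) with hN
  set C : Subgroup K := (Subgroup.centralizer ((P : Subgroup G) : Set G)).subgroupOf K with hC
  let φP : ↥(P : Subgroup G) →* MulAut K := MulAut.conjNormal.comp (P : Subgroup G).subtype
  have hs : CharDeep.Glauberman.Setup p φP C.subtype :=
    { prime := Fact.out
      pgroup := P.2
      inj := C.subtype_injective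
      range_iff := fun g => by
        constructor
        · intro h
          refine ⟨⟨g, Subgroup.mem_subgroupOf.mpr (Subgroup.mem_centralizer_iff.mpr fun y hy => ?_)⟩,
            rfl⟩
          have h1 : y * (g : G) * y⁻¹ = (g : G) :=
            (MulAut.conjNormal_apply y g).symm.trans (congrArg Subtype.val (h ⟨y, hy⟩))
          exact mul_inv_eq_iff_eq_mul.mp h1
        · rintro ⟨c, rfl⟩ s
          refine Subtype.ext ?_
          show ((MulAut.conjNormal (s : G) (c : K) : K) : G) = _
          rw [MulAut.conjNormal_apply,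
            Subgroup.mem_centralizer_iff.mp (Subgroup.mem_subgroupOf.mp c.2) s s.2,
            mul_inv_cancel_right]
          rfl
      not_dvd := hKp }
  have hNC : ∀ (n : N) (c : K), c ∈ C → MulAut.conjNormal (n : G) c ∈ C := by
    intro n c hc
    rw [hC, Subgroup.mem_subgroupOf, Subgroup.mem_centralizer_iff] at hc ⊢
    intro y hy
    rw [MulAut.conjNormal_apply]
    have h1 := (Subgroup.mem_normalizer_iff.mp (N.inv_mem n.2) y).mp hy
    have h2 := hc _ h1
    calc y * ((n : G) * (c : G) * (n : G)⁻¹)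
        = (n : G) * ((n : G)⁻¹ * y * (n : G)⁻¹⁻¹ * (c : G)) * (n : G)⁻¹ := by group
      _ = (n : G) * ((c : G) * ((n : G)⁻¹ * y * (n : G)⁻¹⁻¹)) * (n : G)⁻¹ := by rw [h2]
      _ = (n : G) * (c : G) * (n : G)⁻¹ * y := by group
  let ψ : N →* MulAut C := MonoidHom.mk' (fun n =>
    { toFun := fun c => ⟨MulAut.conjNormal (n : G) c.1, hNC n c.1 c.2⟩
      invFun := fun c => ⟨(MulAut.conjNormal (n : G)).symm c.1, by
        have := hNC n⁻¹ c.1 c.2
        simpa [map_inv] using this⟩
      left_inv := fun c => Subtype.ext ((MulAut.conjNormal (n : G)).symm_apply_apply c.1)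
      right_inv := fun c => Subtype.ext ((MulAut.conjNormal (n : G)).apply_symm_apply c.1)
      map_mul' := fun a b => Subtype.ext (map_mul (MulAut.conjNormal (n : G)) a.1 b.1) })
    fun a b => MulEquiv.ext fun c => Subtype.ext (by
      show MulAut.conjNormal ((a * b : N) : G) c.1 = _
      rw [Subgroup.coe_mul, map_mul]
      rfl)
  let φG : G →* MulAut K := MulAut.conjNormal
  -- odd powers are inner
  have hoddG : ∀ g, ∃ (m : ℕ) (k : K), Odd m ∧ φG (g ^ m) = MulAut.conj k := fun g =>
    ⟨K.index, ⟨g ^ K.index, Subgroup.pow_index_mem K g⟩, hodd, MulEquiv.ext fun y =>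
      Subtype.ext (by
        show ((MulAut.conjNormal (g ^ K.index) y : K) : G) = _
        rw [MulAut.conjNormal_apply]
        rfl)⟩
  have hoddN : ∀ n, ∃ (m : ℕ) (k : C), Odd m ∧ ψ (n ^ m) = MulAut.conj k := by
    intro n
    have hk : ((n ^ K.index : N) : G) ∈ K := by
      rw [SubgroupClass.coe_pow]; exact Subgroup.pow_index_mem K _
    have hc : (⟨_, hk⟩ : K) ∈ C := by
      rw [hC, Subgroup.mem_subgroupOf, Subgroup.mem_centralizer_iff]
      intro y hy
      set t : G := ((n ^ K.index : N) : G)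
      have h1 : y * t * y⁻¹ * t⁻¹ ∈ (P : Subgroup G) := by
        have h2 := (Subgroup.mem_normalizer_iff.mp (n ^ K.index).2 y⁻¹).mp
          ((P : Subgroup G).inv_mem hy)
        have := (P : Subgroup G).mul_mem hy h2
        simpa [t, mul_assoc] using this
      have h3 : y * t * y⁻¹ * t⁻¹ ∈ K := K.mul_mem (hK.conj_mem t hk y) (K.inv_mem hk)
      obtain ⟨i, hi⟩ := IsPGroup.iff_orderOf.1 P.2 ⟨_, h1⟩
      rw [Subgroup.orderOf_mk] at hi
      have h4 : orderOf (y * t * y⁻¹ * t⁻¹) = 1 := Nat.eq_one_of_dvd_coprimes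
        (((Fact.out : p.Prime).coprime_iff_not_dvd.mpr hKp).symm.pow_right i)
        (Subgroup.orderOf_dvd_natCard K h3) hi.dvd
      rw [orderOf_eq_one_iff, mul_inv_eq_one] at h4
      exact mul_inv_eq_iff_eq_mul.mp h4
    exact ⟨K.index, ⟨_, hc⟩, hodd, MulEquiv.ext fun c => Subtype.ext (Subtype.ext (by
      show ((MulAut.conjNormal ((n ^ K.index : N) : G) c.1 : K) : G) = _
      rw [MulAut.conjNormal_apply]
      rfl))⟩
  -- characters: every orbit of `G` contains an invariant one
  let Ψ : Orb (realIrrPerm ψ) → Orb (realIrrPerm φG) :=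
    Quotient.lift
      (fun β => Quotient.mk _ (⟨((hs.corr_bijective.2 β.1).choose).1,
        (hs.real_iff ((hs.corr_bijective.2 β.1).choose).2).2 (by
          rw [show hs.corr ((hs.corr_bijective.2 β.1).choose).1 = β.1 from
            (hs.corr_bijective.2 β.1).choose_spec]
          exact β.2)⟩ : RealIrr K))
      (by
        rintro β β' ⟨n, rfl⟩
        refine Quotient.sound ⟨(n : G), ?_⟩
        set χ := (hs.corr_bijective.2 β.1).choose with hχ
        set χ' := (hs.corr_bijective.2 (realIrrPerm ψ n β).1).choose with hχ'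
        have e1 : hs.corr χ.1 = β.1 := (hs.corr_bijective.2 β.1).choose_spec
        have e2 : hs.corr χ'.1 = (realIrrPerm ψ n β).1 :=
          (hs.corr_bijective.2 (realIrrPerm ψ n β).1).choose_spec
        refine Subtype.ext ?_
        show CharDeep.Glauberman.irrPerm φG (n : G) χ.1 = χ'.1
        have hinv : CharDeep.Glauberman.Inv φP
            ((CharDeep.Glauberman.irrPerm φG (n : G) χ.1 : Cfsg.IrrCharacter K) : K → ℂ) := by
          intro s k
          rw [CharDeep.Glauberman.irrPerm_apply, CharDeep.Glauberman.irrPerm_apply]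
          have hs' : (n : G)⁻¹ * s * (n : G) ∈ (P : Subgroup G) := by
            have := (Subgroup.mem_normalizer_iff.mp (N.inv_mem n.2) (s : G)).mp s.2
            simpa using this
          refine Eq.trans (congrArg (χ.1 : K → ℂ) ?_) (χ.2 ⟨_, hs'⟩ _)
          refine Subtype.ext ?_
          simp [φG, φP, MulAut.conjNormal_apply, MulAut.conjNormal_symm_apply, mul_assoc]
        refine hs.inv_unique hinv χ'.2 ?_ (hs.corr_spec χ'.1)
        rw [e2]
        have h1 := hs.corr_spec χ.1
        rw [e1] at h1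
        rwa [CharDeep.Glauberman.mult_comp_equiv (φG (n : G)).symm (ψ n).symm (fun c => rfl)
          (fun g => rfl) (fun c => rfl)])
  have hΨ : Function.Surjective Ψ := by
    intro o
    obtain ⟨θ, rfl⟩ := Quotient.exists_rep o
    set T : Subgroup G := stab (θ.1 : K → ℂ) with hTdef
    let R : Sylow p T := default
    have hRi : ¬ p ∣ ((R : Subgroup T).map T.subtype).index := by
      rw [Subgroup.index_map_subtype]
      intro hd
      rcases (Fact.out : p.Prime).dvd_mul.mp hd with h1 | h1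
      · exact R.not_dvd_index h1
      · exact not_dvd_index_stab K hodd hreal θ h1
    obtain ⟨g, hg⟩ := MulAction.exists_smul_eq G P ((R.2.map T.subtype).toSylow hRi)
    have hgT : ∀ y ∈ (P : Subgroup G), g * y * g⁻¹ ∈ T := by
      intro y hy
      have h1 : g * y * g⁻¹ ∈ ((g • P : Sylow p G) : Subgroup G) := by
        rw [Sylow.coe_subgroup_smul, Subgroup.mem_pointwise_smul_iff_inv_smul_mem]
        simpa [MulAut.conj_apply, mul_assoc] using hy
      rw [hg, IsPGroup.toSylow_coe] at h1
      exact Subgroup.map_subtype_le _ h1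
    set θ' := realIrrPerm φG g⁻¹ θ with hθ'
    have hinv : CharDeep.Glauberman.Inv φP (θ'.1 : K → ℂ) := by
      intro s k
      rw [hθ', realIrrPerm_apply, realIrrPerm_apply]
      refine Eq.trans ?_ ((isInertia_stab (θ.1 : K → ℂ) _).mp (hgT _ s.2) _)
      refine congrArg (θ.1 : K → ℂ) (Subtype.ext ?_)
      simp [φG, φP, MulAut.conjNormal_apply, mul_assoc]
    refine ⟨Quotient.mk _ (⟨hs.corr θ'.1, (hs.real_iff hinv).1 θ'.2⟩ : RealIrr C), ?_⟩
    show Quotient.mk _ _ = _
    refine Quotient.sound ⟨g, ?_⟩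
    have h2 : ((hs.corr_bijective.2 (hs.corr θ'.1)).choose).1 = θ'.1 :=
      congrArg Subtype.val (hs.corr_bijective.1
        (a₂ := ⟨θ'.1, hinv⟩) (hs.corr_bijective.2 (hs.corr θ'.1)).choose_spec)
    have h3 : realIrrPerm φG g θ' = θ := by
      rw [hθ', map_inv]; simp
    conv_rhs => rw [← h3]
    congr 1
    exact Subtype.ext h2
  -- classes: the map from the centraliser is injective on orbits
  have hrealmap : ∀ d : RealClasses C,
      CharDeep.Glauberman.RealCl K (ConjClasses.map C.subtype d.1) := by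
    intro d g hg
    obtain ⟨z, hz⟩ := ConjClasses.mk_surjective d.1
    rw [← hz] at hg
    have h1 : IsConj g (C.subtype z) := ConjClasses.mk_eq_mk_iff_isConj.1 hg
    obtain ⟨a, ha⟩ := isConj_iff.1 h1
    refine h1.trans ((C.subtype.map_isConj (d.2 z hz)).trans ?_)
    rw [map_inv]
    exact (isConj_iff.2 ⟨a, by rw [← ha]; group⟩ : IsConj g⁻¹ (C.subtype z)⁻¹).symm
  let Φ : Orb (realClPerm ψ) → Orb (realClPerm φG) :=
    Quotient.map (fun d => (⟨_, hrealmap d⟩ : RealClasses K)) (by
      rintro d d' ⟨n, rfl⟩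
      obtain ⟨z, hz⟩ := ConjClasses.mk_surjective d.1
      refine ⟨(n : G), Subtype.ext ?_⟩
      rw [realClPerm_apply φG (n : G) _ (C.subtype z)
        (by show _ = ConjClasses.map C.subtype d.1; rw [← hz]; rfl)]
      show _ = ConjClasses.map C.subtype (realClPerm ψ n d).1
      rw [realClPerm_apply ψ n d z hz]
      rfl)
  have hΦ : Function.Injective Φ := by
    intro o o' h
    obtain ⟨d, rfl⟩ := Quotient.exists_rep o
    obtain ⟨d', rfl⟩ := Quotient.exists_rep o'
    obtain ⟨g, hg⟩ := Quotient.exact h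
    obtain ⟨z, hz⟩ := ConjClasses.mk_surjective d.1
    obtain ⟨z', hz'⟩ := ConjClasses.mk_surjective d'.1
    have h1 := congrArg Subtype.val hg
    rw [realClPerm_apply φG g _ (C.subtype z)
      (by show _ = ConjClasses.map C.subtype d.1; rw [← hz]; rfl)] at h1
    have h2 : IsConj (φG g (C.subtype z)) (C.subtype z') := by
      refine ConjClasses.mk_eq_mk_iff_isConj.1 (h1.trans ?_)
      show ConjClasses.map C.subtype d'.1 = _
      rw [← hz']; rfl
    obtain ⟨k, hk⟩ := isConj_iff.1 h2
    set u : G := ((z : K) : G) with hu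
    set u' : G := ((z' : K) : G) with hu'
    set g₁ : G := (k : G) * g with hg₁
    have hgu : g₁ * u * g₁⁻¹ = u' := by
      have := congrArg Subtype.val hk
      simp only [Subgroup.coe_mul, Subgroup.coe_inv, φG, MulAut.conjNormal_apply,
        Subgroup.coe_subtype] at this
      rw [hu, hu', ← this, hg₁]
      group
    have hPD : (P : Subgroup G) ≤ Subgroup.centralizer ({u'} : Set G) := fun y hy => by
      rw [Subgroup.mem_centralizer_iff]
      rintro _ rfl
      exact (Subgroup.mem_centralizer_iff.mp (Subgroup.mem_subgroupOf.mp z'.2) y hy).symm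
    have hPD' : ((g₁ • P : Sylow p G) : Subgroup G) ≤ Subgroup.centralizer ({u'} : Set G) := by
      intro y hy
      rw [Sylow.coe_subgroup_smul, Subgroup.mem_pointwise_smul_iff_inv_smul_mem] at hy
      have hy' : g₁⁻¹ * y * g₁ ∈ (P : Subgroup G) := by
        simpa [MulAut.conj_apply, mul_assoc] using hy
      have h3 := Subgroup.mem_centralizer_iff.mp (Subgroup.mem_subgroupOf.mp z.2) _ hy'
      rw [Subgroup.mem_centralizer_iff]
      rintro _ rfl
      rw [← hgu]
      calc g₁ * u * g₁⁻¹ * y = g₁ * (u * (g₁⁻¹ * y * g₁)) * g₁⁻¹ := by group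
        _ = g₁ * ((g₁⁻¹ * y * g₁) * u) * g₁⁻¹ := by rw [h3]
        _ = y * (g₁ * u * g₁⁻¹) := by group
    obtain ⟨c, hc⟩ := MulAction.exists_smul_eq (Subgroup.centralizer ({u'} : Set G))
      ((g₁ • P : Sylow p G).subtype hPD') (P.subtype hPD)
    rw [Sylow.smul_subtype] at hc
    have hcP : ((c : G) * g₁) • P = P := by
      rw [mul_smul]
      exact Sylow.subtype_injective hc
    let n : N := ⟨(c : G) * g₁, Sylow.smul_eq_iff_mem_normalizer.mp hcP⟩
    refine Quotient.sound ⟨n, Subtype.ext ?_⟩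
    rw [realClPerm_apply ψ n d z hz, ← hz']
    refine congrArg ConjClasses.mk (Subtype.ext (Subtype.ext ?_))
    show ((MulAut.conjNormal ((c : G) * g₁) (z : K) : K) : G) = u'
    rw [MulAut.conjNormal_apply, ← hu,
      show (c : G) * g₁ * u * ((c : G) * g₁)⁻¹ = (c : G) * (g₁ * u * g₁⁻¹) * (c : G)⁻¹ by group,
      hgu, ← Subgroup.mem_centralizer_iff.mp c.2 u' rfl, mul_inv_cancel_right]
  have hcount : Nat.card (Orb (realClPerm φG)) ≤ Nat.card (Orb (realClPerm ψ)) := by
    rw [← card_real_orb_eq φG hoddG, ← card_real_orb_eq ψ hoddN]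
    exact Nat.card_le_card_of_surjective Ψ hΨ
  have hxr : CharDeep.Glauberman.RealCl K (ConjClasses.mk x) := fun g hg => by
    have hgx := ConjClasses.mk_eq_mk_iff_isConj.1 hg
    obtain ⟨a, ha⟩ := isConj_iff.1 hgx
    exact hgx.trans (hx.trans (isConj_iff.2 ⟨a, by rw [← ha]; group⟩ : IsConj g⁻¹ x⁻¹).symm)
  obtain ⟨o, ho⟩ := (hΦ.bijective_of_nat_card_le hcount).2
    (Quotient.mk _ (⟨_, hxr⟩ : RealClasses K))
  obtain ⟨d, rfl⟩ := Quotient.exists_rep o
  obtain ⟨g, hg⟩ := Quotient.exact ho
  obtain ⟨z, hz⟩ := ConjClasses.mk_surjective d.1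
  have h1 := congrArg Subtype.val hg
  rw [realClPerm_apply φG g _ (C.subtype z)
    (by show _ = ConjClasses.map C.subtype d.1; rw [← hz]; rfl)] at h1
  obtain ⟨k, hk⟩ := isConj_iff.1 (ConjClasses.mk_eq_mk_iff_isConj.1 h1)
  refine ⟨((k : G) * g)⁻¹, ?_⟩
  have := congrArg Subtype.val hk
  simp only [Subgroup.coe_mul, Subgroup.coe_inv, φG, MulAut.conjNormal_apply,
    Subgroup.coe_subtype] at this
  rw [← this, show ((k : G) * g)⁻¹ * ((k : G) * (g * ((z : K) : G) * g⁻¹) * (k : G)⁻¹) *
    ((k : G) * g)⁻¹⁻¹ = ((z : K) : G) by group]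
  exact Subgroup.mem_subgroupOf.mp z.2

open RealDegrees in
/-- Every real class meets the normaliser of a Sylow subgroup. -/
theorem exists_mem_normalizer [Fact p.Prime]
    (hsolv : Group.IsSolvable (pGen p (⊤ : Subgroup G)))
    (hreal : ∀ χ : Cfsg.IrrCharacter G, (∀ g : G, ((χ : G → ℂ) g).im = 0) →
      ¬ p ∣ Cfsg.charDegree (χ : G → ℂ))
    (P : Sylow p G) {x : G} (hx : IsConj x x⁻¹) :
    ∃ y ∈ Subgroup.normalizer ((P : Subgroup G) : Set G), IsConj x y := by
  classical
  cases nonempty_fintype G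
  set K := pGen 2 (⊤ : Subgroup G) with hKdef
  -- the index of `K` is odd
  have hodd : Odd K.index := by
    rw [← Nat.not_even_iff_odd, even_iff_two_dvd, Subgroup.index_eq_card]
    intro h2
    obtain ⟨y, hy⟩ := exists_prime_orderOf_dvd_card' 2 h2
    have h1 : y ∈ pGen 2 (⊤ : Subgroup (G ⧸ K)) :=
      mem_pGen (Subgroup.mem_top _) (k := 1) (by rw [pow_one]; exact orderOf_dvd_iff_pow_eq_one.mp hy.dvd)
    rw [← Subgroup.map_top_of_surjective _ (QuotientGroup.mk'_surjective K), ← map_pGen,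
      ← hKdef, (Subgroup.map_eq_bot_iff K).mpr (QuotientGroup.ker_mk' K).ge, Subgroup.mem_bot] at h1
    rw [h1, orderOf_one] at hy
    omega
  obtain ⟨s, hs⟩ := isConj_iff.mp hx
  -- `x` lies in `K`
  have hxK : x ∈ K := by
    rw [← QuotientGroup.eq_one_iff, ← QuotientGroup.mk'_apply]
    set a := QuotientGroup.mk' K x
    set b := QuotientGroup.mk' K s
    have hba : b * a * b⁻¹ = a⁻¹ := by simp only [a, b, ← map_mul, ← map_inv, hs]
    have hodd' : ∀ z : G ⧸ K, (2 : ℕ).Coprime (orderOf z) := fun z =>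
      ((Nat.coprime_two_left.mpr hodd).coprime_dvd_right
        (by rw [Subgroup.index_eq_card]; exact orderOf_dvd_natCard z))
    have hb : b ∈ Subgroup.centralizer ({a} : Set (G ⧸ K)) := by
      refine mem_of_pow (n := 2) ?_ (hodd' b)
      rw [Subgroup.mem_centralizer_iff]
      rintro _ rfl
      have h1 : b * (b * a * b⁻¹) * b⁻¹ = a := by
        calc b * (b * a * b⁻¹) * b⁻¹ = b * a⁻¹ * b⁻¹ := by rw [hba]
          _ = (b * a * b⁻¹)⁻¹ := by group
          _ = a := by rw [hba, inv_inv]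
      rw [sq]
      calc a * (b * b) = b * (b * a * b⁻¹) * b⁻¹ * (b * b) := by rw [h1]
        _ = b * b * a := by group
    have h2 : a * a = 1 := by
      rw [← Subgroup.mem_centralizer_iff.mp hb a rfl, mul_inv_cancel_right] at hba
      calc a * a = a * a⁻¹ := by rw [← hba]
        _ = 1 := mul_inv_cancel a
    obtain ⟨m, hm⟩ := exists_pow_eq_self_of_coprime (hodd' a)
    rw [← hm, sq, h2, one_pow]
  -- `x` is real in `K`
  have hxreal : IsConj (⟨x, hxK⟩ : K) (⟨x, hxK⟩ : K)⁻¹ := by
    obtain ⟨i, o, ho, hio⟩ := Nat.exists_eq_pow_mul_and_not_dvd (orderOf_pos s).ne' 2 (by norm_num)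
    have ho' : Odd o := Nat.not_even_iff_odd.mp fun h => ho (even_iff_two_dvd.mp h)
    obtain ⟨j, hj⟩ := ho'
    have hso : s ^ o ∈ K := mem_pGen (Subgroup.mem_top _) (k := i)
      (by rw [← pow_mul, mul_comm, ← hio, pow_orderOf_eq_one])
    have hpow : ∀ n : ℕ, s ^ (2 * n + 1) * x * (s ^ (2 * n + 1))⁻¹ = x⁻¹ := by
      intro n
      induction n with
      | zero => simpa using hs
      | succ n ih =>
        have h2 : s * x⁻¹ * s⁻¹ = x := by
          calc s * x⁻¹ * s⁻¹ = (s * x * s⁻¹)⁻¹ := by group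
            _ = x := by rw [hs, inv_inv]
        calc s ^ (2 * (n + 1) + 1) * x * (s ^ (2 * (n + 1) + 1))⁻¹
            = s * (s * (s ^ (2 * n + 1) * x * (s ^ (2 * n + 1))⁻¹) * s⁻¹) * s⁻¹ := by
              rw [show 2 * (n + 1) + 1 = 2 * n + 1 + 1 + 1 by ring, pow_succ' s (2 * n + 1 + 1),
                pow_succ' s (2 * n + 1)]
              group
          _ = x⁻¹ := by rw [ih, h2, hs]
    refine isConj_iff.mpr ⟨⟨s ^ o, hso⟩, Subtype.ext ?_⟩
    show s ^ o * x * (s ^ o)⁻¹ = x⁻¹
    rw [hj]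
    exact hpow j
  -- pass to the quotient by the Sylow subgroup of `K`
  set Q := pGen p K with hQdef
  have hQ : IsPGroup p Q := isPGroup_pGen _ G rfl hsolv hreal K inferInstance le_rfl
    fun u hu => ⟨0, by simpa using hu⟩
  have hQP : Q ≤ (P : Subgroup G) := by
    have h := P.3 (IsPGroup.to_sup_of_normal_right P.2 hQ) le_sup_left
    exact le_sup_right.trans h.le
  set π := QuotientGroup.mk' Q with hπdef
  have hπ : Function.Surjective π := QuotientGroup.mk'_surjective Q
  haveI : (K.map π).Normal := (inferInstance : K.Normal).map π hπ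
  have hKp : ¬ p ∣ Nat.card (K.map π) := by
    intro hd
    obtain ⟨y, hy⟩ := exists_prime_orderOf_dvd_card' p hd
    have h1 : (y : G ⧸ Q) ∈ pGen p (K.map π) :=
      mem_pGen y.2 (k := 1) (by
        rw [pow_one, ← SubgroupClass.coe_pow]
        exact congrArg Subtype.val (orderOf_dvd_iff_pow_eq_one.mp hy.dvd))
    rw [← map_pGen, ← hQdef, (Subgroup.map_eq_bot_iff Q).mpr (QuotientGroup.ker_mk' Q).ge,
      Subgroup.mem_bot] at h1
    rw [show y = 1 from Subtype.ext h1, orderOf_one] at hy
    exact (Fact.out : p.Prime).ne_one hy.symm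
  have hodd' : Odd (K.map π).index := by
    rw [← Nat.not_even_iff_odd, even_iff_two_dvd]
    exact fun h2 => Nat.not_even_iff_odd.mpr hodd
      (even_iff_two_dvd.mpr (h2.trans (Subgroup.index_map_dvd K hπ)))
  obtain ⟨g', hg'⟩ := exists_conj_centralizes (K.map π) hKp hodd'
    (hyps_quotient Q hsolv hreal).2 (P.mapSurjective hπ)
    ⟨π x, Subgroup.mem_map_of_mem π hxK⟩ (by
      obtain ⟨k, hk⟩ := isConj_iff.mp hxreal
      refine isConj_iff.mpr ⟨⟨π (k : G), Subgroup.mem_map_of_mem π k.2⟩, Subtype.ext ?_⟩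
      show π (k : G) * π x * (π (k : G))⁻¹ = (π x)⁻¹
      rw [← map_inv, ← map_mul, ← map_mul, ← map_inv]
      exact congrArg π (congrArg Subtype.val hk))
  obtain ⟨g, rfl⟩ := hπ g'
  refine ⟨g * x * g⁻¹, ?_, isConj_iff.mpr ⟨g, rfl⟩⟩
  rw [Subgroup.mem_normalizer_iff]
  intro y
  set h := g * x * g⁻¹ with hh
  have hcomm : ∀ w ∈ (P : Subgroup G), h * w * h⁻¹ * w⁻¹ ∈ Q := by
    intro w hw
    rw [← QuotientGroup.eq_one_iff, ← QuotientGroup.mk'_apply, ← hπdef]
    have h1 := Subgroup.mem_centralizer_iff.mp hg' (π w) (by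
      rw [Sylow.coe_mapSurjective]; exact Subgroup.mem_map_of_mem π hw)
    rw [show π g * π x * (π g)⁻¹ = π h by rw [hh, map_mul, map_mul, map_inv]] at h1
    rw [map_mul, map_mul, map_mul, map_inv, map_inv, ← h1]
    group
  constructor
  · intro hy
    simpa using (P : Subgroup G).mul_mem (hQP (hcomm y hy)) hy
  · intro hy
    have hq : h⁻¹ * (h * (h * y * h⁻¹) * h⁻¹ * (h * y * h⁻¹)⁻¹)⁻¹ * h⁻¹⁻¹ ∈ (P : Subgroup G) :=
      hQP ((inferInstance : Q.Normal).conj_mem _ (Q.inv_mem (hcomm _ hy)) _)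
    have h2 := (P : Subgroup G).mul_mem hq hy
    convert h2 using 1
    group

end CfsgLib.DegreeTools.RealClassNormalizer
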