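import Cfsg.Agent.Lib.DegreeTools.RealClassNormalizer
import Cfsg.Agent.Lib.CharDeep.Glauberman.NormalSylow
import Cfsg.Agent.Lib.CharDeep.Galois.OddFixed
import Cfsg.Agent.Lib.Char.CliffordCorr

/-!
# Real characters of a group and of a Sylow normaliser

`K` is a normal subgroup of odd index whose Sylow `p`-subgroup `Q` is normal, and all real
irreducible characters of `G` have degree prime to `p`.  A real character of `G` lies over a real
`P`-invariant character of `K`, unique up to the normaliser `N` of `P`; the relative Glauberman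
correspondence takes it to a real invariant character of `K ∩ N`, and this has a unique real
character of `N` over it.
-/

set_option autoImplicit false
set_option linter.style.haveILetI false
set_option linter.unusedSectionVars false
set_option maxHeartbeats 800000

namespace CfsgLib.DegreeTools.RealCorrespondence

open CfsgLib CfsgLib.Char CfsgLib.CharDeep CfsgLib.CharDeep.Glauberman
open scoped Classical ComplexConjugate

universe u

/-- Real-valued. -/
def IsReal {H : Type*} (χ : H → ℂ) : Prop := ∀ h, (χ h).im = 0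

theorem isReal_iff {H : Type*} {χ : H → ℂ} : IsReal χ ↔ ∀ h, conj (χ h) = χ h :=
  forall_congr' fun _ => Complex.conj_eq_iff_im.symm

theorem isReal_iff_conjIrr {H : Type u} [Group H] [Fintype H] (χ : Cfsg.IrrCharacter H) :
    IsReal (χ : H → ℂ) ↔ conjIrr χ = χ := (conjIrr_eq_iff χ).symm

section OddIndex

variable {G : Type u} [Group G] [Fintype G] {L : Subgroup G} [hL : L.Normal] [Fintype L]

/-- `χ` lies over `θ`. -/
def Over (L : Subgroup G) [Fintype L] (χ : G → ℂ) (θ : L → ℂ) : Prop :=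
  Cfsg.classInner (fun n : L => χ n) θ ≠ 0

theorem pow_card_sub_one (g : G) : g ^ (Nat.card G - 1) = g⁻¹ := by
  refine eq_inv_of_mul_eq_one_left ?_
  rw [← pow_succ, Nat.sub_add_cancel Nat.card_pos, pow_card_eq_one']

theorem coprime_card_sub_one : (Nat.card G).Coprime (Nat.card G - 1) := by
  rw [Nat.coprime_comm]
  have h : 0 < Nat.card G := Nat.card_pos
  conv_rhs => rw [← Nat.sub_add_cancel h]
  rw [Nat.coprime_self_add_right]
  exact Nat.coprime_one_right _

theorem isReal_iff_pow (χ : Cfsg.IrrCharacter G) :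
    IsReal (χ : G → ℂ) ↔ ∀ g : G, (χ : G → ℂ) (g ^ (Nat.card G - 1)) = (χ : G → ℂ) g := by
  rw [isReal_iff]
  refine forall_congr' fun g => ?_
  rw [pow_card_sub_one, IsIrrCharacter.apply_inv χ.2]

theorem isReal_iff_pow_sub (θ : Cfsg.IrrCharacter L) :
    IsReal (θ : L → ℂ) ↔ ∀ n : L, (θ : L → ℂ) (n ^ (Nat.card G - 1)) = (θ : L → ℂ) n := by
  rw [isReal_iff]
  refine forall_congr' fun n => ?_
  rw [show n ^ (Nat.card G - 1) = n⁻¹ from Subtype.ext (by
    rw [SubgroupClass.coe_pow, pow_card_sub_one, Subgroup.coe_inv]),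
    IsIrrCharacter.apply_inv θ.2]

/-- Over a real character of a normal subgroup of odd index lies exactly one real character. -/
theorem exists_unique_real_over (hidx : Odd L.index) (θ : Cfsg.IrrCharacter L)
    (hθ : IsReal (θ : L → ℂ)) :
    ∃ χ : Cfsg.IrrCharacter G, Over L (χ : G → ℂ) θ ∧ IsReal (χ : G → ℂ) ∧
      ∀ χ' : Cfsg.IrrCharacter G, Over L (χ' : G → ℂ) θ → IsReal (χ' : G → ℂ) → χ' = χ := by
  obtain ⟨χ, h1, h2, h3⟩ := Galois.OddFixed.exists_unique_fixed L coprime_card_sub_one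
    (Galois.OddFixed.class_condition L hidx fun g _ => pow_card_sub_one g) θ
    ((isReal_iff_pow_sub θ).1 hθ)
  exact ⟨χ, (Galois.OddFixed.mem_lying L).1 h1, (isReal_iff_pow χ).2 h2, fun χ' h h' =>
    h3 χ' ((Galois.OddFixed.mem_lying L).2 h) ((isReal_iff_pow χ').1 h')⟩

theorem real_unique (hidx : Odd L.index) {θ : Cfsg.IrrCharacter L} (hθ : IsReal (θ : L → ℂ))
    {χ χ' : Cfsg.IrrCharacter G} (h : Over L (χ : G → ℂ) θ) (hr : IsReal (χ : G → ℂ))
    (h' : Over L (χ' : G → ℂ) θ) (hr' : IsReal (χ' : G → ℂ)) : χ = χ' := by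
  obtain ⟨c, -, -, hc⟩ := exists_unique_real_over hidx θ hθ
  exact (hc χ h hr).trans (hc χ' h' hr').symm

theorem over_conjFun {χ : Cfsg.IrrCharacter G} {θ : L → ℂ} (g : G)
    (h : Over L (χ : G → ℂ) θ) : Over L (χ : G → ℂ) (Clifford.conjFun L g θ) := by
  rw [Over, Clifford.classInner_restrict_conjFun L g (IsIrrCharacter.isClassFunction χ.2)]
  exact h

theorem mem_stab {θ : L → ℂ} {g : G} : g ∈ stab θ ↔ ∀ n : L, Clifford.conjFun L g θ n = θ n :=
  (isInertia_stab θ g).trans (forall_congr' fun n => by rw [Clifford.conjFun_apply])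

/-- The constituents of a real character on a normal subgroup of odd index are real. -/
theorem real_of_over (hidx : Odd L.index) {χ : Cfsg.IrrCharacter G} (hχ : IsReal (χ : G → ℂ))
    {θ : Cfsg.IrrCharacter L} (h : Over L (χ : G → ℂ) θ) : IsReal (θ : L → ℂ) := by
  have hconj : Over L (χ : G → ℂ) (conjIrr θ : L → ℂ) := by
    have e : Cfsg.classInner (fun n : L => (χ : G → ℂ) n) (conjIrr θ : L → ℂ) =
        conj (Cfsg.classInner (fun n : L => (χ : G → ℂ) n) (θ : L → ℂ)) := by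
      simp only [Cfsg.classInner, map_mul, map_sum, map_inv₀, Complex.conj_natCast,
        conjIrr, isReal_iff.1 hχ]
    rw [Over, e]
    exact (map_ne_zero (starRingEnd ℂ)).2 h
  obtain ⟨g, hg⟩ := Clifford.exists_conj_of_constituent L χ.2 θ.2 (conjIrr θ).2 h hconj
  have hg' : ∀ n, conj ((θ : L → ℂ) n) = (θ : L → ℂ) (MulAut.conjNormal g n) := congrFun hg
  have h2 : g ^ 2 ∈ stab (θ : L → ℂ) := mem_stab.2 fun n => by
    show (θ : L → ℂ) (MulAut.conjNormal (g ^ 2) n) = _
    rw [sq, map_mul, MulAut.mul_apply, ← hg', ← hg', Complex.conj_conj]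
  obtain ⟨m, hm⟩ := hidx
  have hgm : g ^ L.index ∈ stab (θ : L → ℂ) :=
    le_stab (IsIrrCharacter.isClassFunction θ.2) (Subgroup.pow_index_mem L g)
  have hgs : g ∈ stab (θ : L → ℂ) := by
    have h3 : g ^ (L.index + 1) ∈ stab (θ : L → ℂ) := by
      rw [show L.index + 1 = 2 * (m + 1) by omega, pow_mul]
      exact Subgroup.pow_mem _ h2 _
    rw [pow_succ] at h3
    exact (Subgroup.mul_mem_cancel_left _ hgm).1 h3
  exact isReal_iff.2 fun n => (hg' n).trans (mem_stab.1 hgs n)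

/-- The degree of the real character over a real character. -/
theorem degree_eq (hidx : Odd L.index) {χ : Cfsg.IrrCharacter G} (hχ : IsReal (χ : G → ℂ))
    {θ : Cfsg.IrrCharacter L} (h : Over L (χ : G → ℂ) θ) :
    Cfsg.charDegree (χ : G → ℂ) =
      (stab (θ : L → ℂ)).index * Cfsg.charDegree (θ : L → ℂ) := by
  have hθ := real_of_over hidx hχ h
  set T : Subgroup G := stab (θ : L → ℂ) with hTdef
  have hLT : L ≤ T := le_stab (IsIrrCharacter.isClassFunction θ.2)
  let L' : Subgroup T := L.subgroupOf T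
  haveI : L'.Normal := hL.subgroupOf T
  let e : L' ≃* L := Subgroup.subgroupOfEquivOfLe hLT
  let θ' : Cfsg.IrrCharacter L' := ⟨(θ : L → ℂ) ∘ e, IsIrrCharacter.comp_equiv θ.2 e⟩
  have hθ' : IsReal (θ' : L' → ℂ) := fun x => hθ (e x)
  have hidx' : Odd L'.index :=
    hidx.of_dvd_nat (Subgroup.relIndex_dvd_index_of_normal L T)
  obtain ⟨η, hη, hηr⟩ := Galois.OddFixed.exists_fixed_extension L' hidx' coprime_card_sub_one
    (fun g _ => pow_card_sub_one g) θ' ((isReal_iff_pow_sub θ').1 hθ') fun g x => by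
      show (θ : L → ℂ) (e _) = (θ : L → ℂ) (e x)
      rw [← mem_stab.1 g.2 (e x)]
      exact congrArg (θ : L → ℂ) (Subtype.ext rfl)
  have hres : resLe hLT (η : T → ℂ) = (θ : L → ℂ) := funext fun n =>
    (hη ⟨⟨(n : G), hLT n.2⟩, n.2⟩).trans (congrArg (θ : L → ℂ) (Subtype.ext rfl))
  have hone : Cfsg.classInner (resLe hLT (η : T → ℂ)) (θ : L → ℂ) ≠ 0 := by
    rw [hres, classInner_irr_self θ.2]; exact one_ne_zero
  obtain ⟨hirr, hmult⟩ := indFun_inertia hLT θ.2 (isInertia_stab _) η.2 hone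
  have hηreal : IsReal (η : T → ℂ) := (isReal_iff_pow η).2 hηr
  have hind : IsReal (Cfsg.indFun T (η : T → ℂ)) := isReal_iff.2 fun g => by
    rw [← congrFun (indFun_conj T (η : T → ℂ)) g]
    exact congrFun (congrArg (Cfsg.indFun T) (funext (isReal_iff.1 hηreal))) g
  have he : χ = ⟨_, hirr⟩ := real_unique hidx hθ h hχ (by
    show Cfsg.classInner _ _ ≠ 0
    exact hmult.trans_ne hone) hind
  apply Nat.cast_injective (R := ℂ)
  rw [Nat.cast_mul, deg_cast, deg_cast, he]
  show Cfsg.indFun T (η : T → ℂ) 1 = _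
  rw [indFun_one, ← congrFun hres 1]
  rfl

theorem exists_over (χ : Cfsg.IrrCharacter G) :
    ∃ θ : Cfsg.IrrCharacter L, Over L (χ : G → ℂ) θ := by
  obtain ⟨ψ, hψ, h⟩ := IsCharacter.exists_constituent
    (IsCharacter.restrict (isCharacter_irr χ) L) fun h0 => by
      have := congrFun h0 1
      exact IsIrrCharacter.apply_one_ne_zero χ.2 (by simpa using this)
  exact ⟨⟨ψ, hψ⟩, h⟩

end OddIndex

/-- A normal `p`-subgroup lies in every subgroup of index prime to `p`. -/
theorem le_of_not_dvd_index {H : Type*} [Group H] [Finite H] {p : ℕ} [Fact p.Prime]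
    (R S : Subgroup H) [R.Normal] (hR : IsPGroup p R) (hS : ¬ p ∣ S.index) : R ≤ S := by
  let X : Sylow p S := default
  have hX : ¬ p ∣ ((X : Subgroup S).map S.subtype).index := by
    rw [Subgroup.index_map_subtype]
    intro hd
    rcases (Fact.out : p.Prime).dvd_mul.mp hd with h1 | h1
    · exact X.not_dvd_index h1
    · exact hS h1
  set Y := (X.2.map S.subtype).toSylow hX
  have hY : (Y : Subgroup H) ≤ S := by
    rw [IsPGroup.toSylow_coe]; exact Subgroup.map_subtype_le _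
  exact le_sup_right.trans ((Y.3 (IsPGroup.to_sup_of_normal_right Y.2 hR) le_sup_left).le.trans hY)

/-- The index of a Sylow normaliser in a subgroup containing the Sylow subgroup. -/
theorem relIndex_normalizer_modEq {G : Type*} [Group G] [Finite G] {p : ℕ} [Fact p.Prime]
    (P : Sylow p G) (T : Subgroup G) (hPT : (P : Subgroup G) ≤ T) :
    ((Subgroup.normalizer ((P : Subgroup G) : Set G)).relIndex T : ZMod p) = 1 := by
  have h := card_sylow_modEq_one p T
  rw [(P.subtype hPT).card_eq_index_normalizer] at h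
  have e : Subgroup.normalizer (((P.subtype hPT : Sylow p T) : Subgroup T) : Set T) =
      (Subgroup.normalizer ((P : Subgroup G) : Set G)).subgroupOf T := by
    ext t
    rw [Subgroup.mem_subgroupOf, Subgroup.mem_normalizer_iff, Subgroup.mem_normalizer_iff]
    refine ⟨fun h y => ⟨fun hy => ?_, fun hy => ?_⟩, fun h y => ?_⟩
    · exact (h ⟨y, hPT hy⟩).1 hy
    · have hy' : y ∈ T := by
        have := T.mul_mem (T.mul_mem (T.inv_mem t.2) (hPT hy)) t.2
        simpa [mul_assoc] using this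
      exact (h ⟨y, hy'⟩).2 hy
    · exact h (y : G)
  replace h : (Subgroup.normalizer (((P.subtype hPT : Sylow p T) : Subgroup T) : Set T)).index ≡
      1 [MOD p] := h
  rw [e] at h
  have := (ZMod.natCast_eq_natCast_iff _ _ p).2 h
  rw [Nat.cast_one] at this
  exact this

section Main

variable {G : Type u} [Group G] [Fintype G] {p : ℕ} [Fact p.Prime]
variable (P : Sylow p G) (K : Subgroup G) [hK : K.Normal] (Q : Subgroup G) [hQ : Q.Normal]

/-- Standing hypotheses. -/
structure Data : Prop where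
  odd : Odd K.index
  pgroup : IsPGroup p Q
  not_dvd : ¬ p ∣ Q.relIndex K
  reg : ∀ χ : Cfsg.IrrCharacter G, IsReal (χ : G → ℂ) → ¬ p ∣ Cfsg.charDegree (χ : G → ℂ)

/-- The normaliser. -/
abbrev NP : Subgroup G := Subgroup.normalizer ((P : Subgroup G) : Set G)

/-- The part of `K` in the normaliser. -/
abbrev CK : Subgroup K := (NP P).subgroupOf K

/-- The same, as a subgroup of the normaliser. -/
abbrev LN : Subgroup (NP P) := K.subgroupOf (NP P)

instance : (LN P K).Normal := hK.subgroupOf _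

/-- The two copies. -/
def eL : LN P K ≃* CK P K where
  toFun x := ⟨⟨x.1.1, x.2⟩, x.1.2⟩
  invFun c := ⟨⟨c.1.1, c.2⟩, c.1.2⟩
  left_inv _ := rfl
  right_inv _ := rfl
  map_mul' _ _ := rfl

/-- The operators. -/
noncomputable def actP : (P : Subgroup G) →* MulAut K :=
  MulAut.conjNormal.comp (P : Subgroup G).subtype

theorem actP_apply (s : (P : Subgroup G)) (k : K) :
    ((actP P K s k : K) : G) = s * k * (s : G)⁻¹ := MulAut.conjNormal_apply _ _

variable {P K Q}

theorem Data.setup (hd : Data (p := p) K Q) :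
    NSetup p (actP P K) (Q.subgroupOf K) (CK P K) := by
  have hQP : Q ≤ (P : Subgroup G) :=
    le_sup_right.trans (P.3 (IsPGroup.to_sup_of_normal_right P.2 hd.pgroup) le_sup_left).le
  refine ⟨Fact.out, P.2, ?_, fun s q hq => ?_, hd.not_dvd, fun k => ⟨fun hk s => ?_, fun hk => ?_⟩⟩
  · exact hd.pgroup.of_injective ((K.subtype.comp (Q.subgroupOf K).subtype).codRestrict Q
      fun x => x.2) fun a b h => Subtype.ext (Subtype.ext (congrArg Subtype.val h :))
  · rw [Subgroup.mem_subgroupOf] at hq ⊢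
    rw [actP_apply]
    exact hQ.conj_mem _ hq _
  · rw [Subgroup.mem_subgroupOf] at hk
    set x : K := actP P K s k * k⁻¹ with hx
    have hxP : (x : G) ∈ (P : Subgroup G) := by
      rw [hx, Subgroup.coe_mul, actP_apply, Subgroup.coe_inv]
      have h2 := (Subgroup.mem_normalizer_iff.1 hk (s : G)⁻¹).1 ((P : Subgroup G).inv_mem s.2)
      simpa [mul_assoc] using (P : Subgroup G).mul_mem s.2 h2
    obtain ⟨j, hj⟩ := IsPGroup.iff_orderOf.1 P.2 ⟨_, hxP⟩
    rw [Subgroup.orderOf_mk, Subgroup.orderOf_coe] at hj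
    haveI : (Q.subgroupOf K).Normal := hQ.subgroupOf K
    rw [← QuotientGroup.eq_one_iff, ← orderOf_eq_one_iff]
    exact Nat.eq_one_of_dvd_coprimes
      (((Fact.out : p.Prime).coprime_iff_not_dvd.2 hd.not_dvd).pow_left j)
      (hj ▸ orderOf_map_dvd (QuotientGroup.mk' (Q.subgroupOf K)) x)
      (orderOf_dvd_natCard _)
  · rw [Subgroup.mem_subgroupOf]
    refine Subgroup.mem_normalizer_fintype fun y hy => ?_
    have h1 := Subgroup.mem_subgroupOf.1 (hk ⟨y⁻¹, (P : Subgroup G).inv_mem hy⟩)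
    rw [Subgroup.coe_mul, actP_apply, Subgroup.coe_inv] at h1
    have h2 := (P : Subgroup G).mul_mem hy (hQP h1)
    have h3 : (k : G) * y * (k : G)⁻¹ ∈ (P : Subgroup G) := by simpa [mul_assoc] using h2
    exact h3

/-- Fixed by `P`. -/
abbrev PInv (θ : K → ℂ) : Prop := Inv (actP P K) θ

/-- Corresponding characters of `K` and of `K ∩ N`. -/
def Corr (θ : Cfsg.IrrCharacter K) (β : Cfsg.IrrCharacter (CK P K)) : Prop :=
  ¬ p ∣ mult (CK P K).subtype θ β

/-- A character of `K ∩ N` seen in `N`. -/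
noncomputable def toLN (β : Cfsg.IrrCharacter (CK P K)) : Cfsg.IrrCharacter (LN P K) :=
  ⟨(β : CK P K → ℂ) ∘ eL P K, IsIrrCharacter.comp_equiv β.2 _⟩

theorem conjN_mem (n : NP P) (c : K) (hc : c ∈ CK P K) :
    (MulAut.conjNormal (n : G) : MulAut K) c ∈ CK P K := by
  rw [Subgroup.mem_subgroupOf] at hc ⊢
  rw [MulAut.conjNormal_apply]
  exact (NP P).mul_mem ((NP P).mul_mem n.2 hc) ((NP P).inv_mem n.2)

/-- Conjugation by an element of the normaliser. -/
noncomputable def conjN : NP P →* MulAut (CK P K) :=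
  resAut (MulAut.conjNormal.comp (NP P).subtype) (CK P K) conjN_mem

theorem pinv_conjFun {θ : K → ℂ} (n : NP P) (h : PInv (P := P) θ) :
    PInv (P := P) (Clifford.conjFun K (n : G) θ) := by
  intro s k
  have hs : (n : G) * s * (n : G)⁻¹ ∈ (P : Subgroup G) :=
    (Subgroup.mem_normalizer_iff.1 n.2 _).1 s.2
  show θ _ = θ _
  rw [← h ⟨_, hs⟩ ((MulAut.conjNormal (n : G) : MulAut K) k)]
  refine congrArg θ (Subtype.ext ?_)
  simp [actP_apply, mul_assoc]

theorem mult_conj (n : NP P) (θ θ' : Cfsg.IrrCharacter K) (β β' : Cfsg.IrrCharacter (CK P K))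
    (hθ : (θ' : K → ℂ) = Clifford.conjFun K (n : G) θ)
    (hβ : ∀ c, (β' : CK P K → ℂ) c = (β : CK P K → ℂ) (conjN n c)) :
    mult (CK P K).subtype θ' β' = mult (CK P K).subtype θ β :=
  mult_comp_equiv (MulAut.conjNormal (n : G) : MulAut K) (conjN n) (fun _ => rfl)
    (fun k => congrFun hθ k) hβ

variable (hd : Data (p := p) K Q)
include hd

theorem inv_conjN {β : CK P K → ℂ} (h : Inv (hd.setup (P := P)).actC β) (n : NP P) :
    Inv (hd.setup (P := P)).actC fun c => β (conjN n c) := by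
  intro s c
  have hs : (n : G) * s * (n : G)⁻¹ ∈ (P : Subgroup G) :=
    (Subgroup.mem_normalizer_iff.1 n.2 _).1 s.2
  show β _ = β _
  rw [← h ⟨_, hs⟩ (conjN n c)]
  refine congrArg β (Subtype.ext (Subtype.ext ?_))
  simp [conjN, NSetup.actC, resAut, actP_apply, mul_assoc]

theorem corr_exists (θ : Cfsg.IrrCharacter K) (hθ : PInv (P := P) (θ : K → ℂ)) :
    ∃ β : Cfsg.IrrCharacter (CK P K), Inv (hd.setup (P := P)).actC (β : CK P K → ℂ) ∧
      Corr θ β ∧
      ((Cfsg.charDegree (β : CK P K → ℂ) : ZMod p) = Cfsg.charDegree (θ : K → ℂ) ∨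
        (Cfsg.charDegree (β : CK P K → ℂ) : ZMod p) = -(Cfsg.charDegree (θ : K → ℂ) : ZMod p)) ∧
      ∀ β' : Cfsg.IrrCharacter (CK P K), Inv (hd.setup (P := P)).actC (β' : CK P K → ℂ) →
        Corr θ β' → β' = β := by
  haveI : (Q.subgroupOf K).Normal := hQ.subgroupOf K
  obtain ⟨β, h1, h2, h3, h4⟩ := (hd.setup (P := P)).forward θ hθ
  refine ⟨β, h1, h2, ?_, h4⟩
  have hcong := (hd.setup (P := P)).degree_cong hθ h1 fun ξ' hξ' hne => by
    by_contra hp'
    exact hne (h4 ξ' hξ' hp')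
  rw [← deg_cast θ, ← deg_cast β, ← Nat.cast_mul, Cong.nat_iff (Fact.out : p.Prime).ne_zero,
    ← ZMod.natCast_eq_natCast_iff, Nat.cast_mul] at hcong
  rcases h3 with h | h
  · left
    have h' := (ZMod.intCast_eq_intCast_iff _ _ p).mpr h
    simp only [Int.cast_natCast, Int.cast_one] at h'
    rw [hcong, h', one_mul]
  · right
    have h' := (ZMod.intCast_eq_intCast_iff _ _ p).mpr h
    simp only [Int.cast_natCast, Int.cast_neg, Int.cast_one] at h'
    rw [hcong, h', neg_mul, one_mul, neg_neg]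

theorem corr_unique {θ : Cfsg.IrrCharacter K} {β β' : Cfsg.IrrCharacter (CK P K)}
    (hθ : PInv (P := P) (θ : K → ℂ))
    (h : Inv (hd.setup (P := P)).actC (β : CK P K → ℂ))
    (h' : Inv (hd.setup (P := P)).actC (β' : CK P K → ℂ)) (hc : Corr θ β) (hc' : Corr θ β') :
    β = β' := by
  obtain ⟨b, -, -, -, hb⟩ := corr_exists hd θ hθ
  exact (hb β h hc).trans (hb β' h' hc').symm

theorem corr_inj {θ θ' : Cfsg.IrrCharacter K} {β : Cfsg.IrrCharacter (CK P K)}
    (hθ : PInv (P := P) (θ : K → ℂ)) (hθ' : PInv (P := P) (θ' : K → ℂ))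
    (h : Inv (hd.setup (P := P)).actC (β : CK P K → ℂ))
    (hc : Corr θ β) (hc' : Corr θ' β) : θ = θ' := by
  haveI : (Q.subgroupOf K).Normal := hQ.subgroupOf K
  obtain ⟨t, -, -, ht⟩ := (hd.setup (P := P)).backward β h
  exact (ht θ hθ hc).trans (ht θ' hθ' hc').symm

theorem real_corr_iff {θ : Cfsg.IrrCharacter K} {β : Cfsg.IrrCharacter (CK P K)}
    (hθ : PInv (P := P) (θ : K → ℂ)) (h : Inv (hd.setup (P := P)).actC (β : CK P K → ℂ))
    (hc : Corr θ β) : IsReal (θ : K → ℂ) ↔ IsReal (β : CK P K → ℂ) := by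
  have hcc : Corr (conjIrr θ) (conjIrr β) := by rwa [Corr, mult_conjIrr]
  rw [isReal_iff_conjIrr, isReal_iff_conjIrr]
  refine ⟨fun e => ?_, fun e => ?_⟩
  · rw [e] at hcc
    exact corr_unique hd hθ (inv_conjIrr h) h hcc hc
  · rw [e] at hcc
    exact corr_inj hd (inv_conjIrr hθ) hθ h hcc hc

/-- Two invariant characters under one real character are conjugate in the normaliser. -/
theorem exists_normalizer_conj {θ θ' : Cfsg.IrrCharacter K} (g : G)
    (hg : (θ' : K → ℂ) = Clifford.conjFun K g θ)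
    (hθ : PInv (P := P) (θ : K → ℂ)) (hθ' : PInv (P := P) (θ' : K → ℂ)) :
    ∃ n : NP P, (θ' : K → ℂ) = Clifford.conjFun K (n : G) θ := by
  set T : Subgroup G := stab (θ : K → ℂ) with hT
  have hPT : (P : Subgroup G) ≤ T := fun s hs => mem_stab.2 fun k => hθ ⟨s, hs⟩ k
  have hgT : ((g • P : Sylow p G) : Subgroup G) ≤ T := by
    intro y hy
    rw [Sylow.coe_subgroup_smul, Subgroup.mem_pointwise_smul_iff_inv_smul_mem] at hy
    have hy' : g⁻¹ * y * g ∈ (P : Subgroup G) := by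
      simpa [MulAut.conj_apply, mul_assoc] using hy
    refine mem_stab.2 fun k => ?_
    have := hθ' ⟨_, hy'⟩ ((MulAut.conjNormal g : MulAut K).symm k)
    rw [hg] at this
    simp only [Clifford.conjFun, Function.comp_apply, MulEquiv.apply_symm_apply] at this
    refine Eq.trans (congrArg (θ : K → ℂ) (Subtype.ext ?_)) this
    simp [actP_apply, MulAut.conjNormal_symm_apply, mul_assoc]
  obtain ⟨t, ht⟩ := MulAction.exists_smul_eq T ((g • P : Sylow p G).subtype hgT) (P.subtype hPT)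
  rw [Sylow.smul_subtype] at ht
  have htP : ((t : G) * g) • P = P := by
    rw [mul_smul]
    exact Sylow.subtype_injective ht
  refine ⟨⟨(t : G) * g, Sylow.smul_eq_iff_mem_normalizer.mp htP⟩, ?_⟩
  rw [hg]
  funext k
  show (θ : K → ℂ) _ = (θ : K → ℂ) (MulAut.conjNormal ((t : G) * g) k)
  rw [map_mul, MulAut.mul_apply]
  exact (mem_stab.1 t.2 _).symm

/-- An invariant character under a real character. -/
theorem exists_pinv_over (χ : Cfsg.IrrCharacter G) (hχ : IsReal (χ : G → ℂ)) :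
    ∃ θ : Cfsg.IrrCharacter K, Over K (χ : G → ℂ) θ ∧ PInv (P := P) (θ : K → ℂ) := by
  obtain ⟨θ₀, h0⟩ := exists_over (L := K) χ
  set T : Subgroup G := stab (θ₀ : K → ℂ) with hT
  have hTi : ¬ p ∣ T.index := fun h => hd.reg χ hχ
    ((degree_eq hd.odd hχ h0).symm ▸ dvd_mul_of_dvd_left h _)
  let R : Sylow p T := default
  have hRi : ¬ p ∣ ((R : Subgroup T).map T.subtype).index := by
    rw [Subgroup.index_map_subtype]
    intro hd'
    rcases (Fact.out : p.Prime).dvd_mul.mp hd' with h1 | h1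
    · exact R.not_dvd_index h1
    · exact hTi h1
  obtain ⟨g, hg⟩ := MulAction.exists_smul_eq G P ((R.2.map T.subtype).toSylow hRi)
  have hgT : ∀ y ∈ (P : Subgroup G), g * y * g⁻¹ ∈ T := by
    intro y hy
    have h1 : g * y * g⁻¹ ∈ ((g • P : Sylow p G) : Subgroup G) := by
      rw [Sylow.coe_subgroup_smul, Subgroup.mem_pointwise_smul_iff_inv_smul_mem]
      simpa [MulAut.conj_apply, mul_assoc] using hy
    rw [hg, IsPGroup.toSylow_coe] at h1
    exact Subgroup.map_subtype_le _ h1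
  refine ⟨⟨_, Clifford.isIrrCharacter_conjFun K g θ₀.2⟩, over_conjFun g h0, fun s k => ?_⟩
  show (θ₀ : K → ℂ) _ = (θ₀ : K → ℂ) _
  refine Eq.trans (congrArg (θ₀ : K → ℂ) (Subtype.ext ?_))
    (mem_stab.1 (hgT _ s.2) ((MulAut.conjNormal g : MulAut K) k))
  simp [actP_apply, mul_assoc]

/-- The relation between real characters. -/
def Rel (χ : Cfsg.IrrCharacter G) (ξ : Cfsg.IrrCharacter (NP P)) : Prop :=
  ∃ (θ : Cfsg.IrrCharacter K) (β : Cfsg.IrrCharacter (CK P K)),
    Over K (χ : G → ℂ) θ ∧ PInv (P := P) (θ : K → ℂ) ∧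
      Inv (hd.setup (P := P)).actC (β : CK P K → ℂ) ∧ Corr θ β ∧
      Over (LN P K) (ξ : NP P → ℂ) (toLN β : LN P K → ℂ)

theorem odd_LN : Odd (LN P K).index := hd.odd.of_dvd_nat (Subgroup.relIndex_dvd_index_of_normal K _)

theorem rel_total (χ : Cfsg.IrrCharacter G) (hχ : IsReal (χ : G → ℂ)) :
    ∃ ξ : Cfsg.IrrCharacter (NP P), Rel hd χ ξ ∧ IsReal (ξ : NP P → ℂ) ∧
      ¬ p ∣ Cfsg.charDegree (ξ : NP P → ℂ) ∧
      ((Cfsg.charDegree (ξ : NP P → ℂ) : ZMod p) = (Cfsg.charDegree (χ : G → ℂ) : ZMod p) ∨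
        (Cfsg.charDegree (ξ : NP P → ℂ) : ZMod p) =
          -(Cfsg.charDegree (χ : G → ℂ) : ZMod p)) := by
  obtain ⟨θ, hov, hinv⟩ := exists_pinv_over hd (P := P) χ hχ
  obtain ⟨β, hβi, hc, hdeg, -⟩ := corr_exists hd θ hinv
  have hθr := real_of_over hd.odd hχ hov
  have hβr : IsReal (toLN β : LN P K → ℂ) := fun x =>
    (real_corr_iff hd hinv hβi hc).1 hθr (eL P K x)
  obtain ⟨ξ, hξo, hξr, -⟩ := exists_unique_real_over (odd_LN hd) (toLN β) hβr
  have hdχ := degree_eq hd.odd hχ hov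
  have hdξ := degree_eq (odd_LN hd) hξr hξo
  set T : Subgroup G := stab (θ : K → ℂ) with hT
  -- the stabilisers agree
  have hstab : stab (toLN β : LN P K → ℂ) = T.subgroupOf (NP P) := by
    ext n
    rw [mem_stab, Subgroup.mem_subgroupOf, hT, mem_stab]
    let β' : Cfsg.IrrCharacter (CK P K) :=
      ⟨(β : CK P K → ℂ) ∘ (conjN n : MulAut (CK P K)), IsIrrCharacter.comp_equiv β.2 _⟩
    let θ' : Cfsg.IrrCharacter K := ⟨_, Clifford.isIrrCharacter_conjFun K (n : G) θ.2⟩
    have hβ'i : Inv (hd.setup (P := P)).actC (β' : CK P K → ℂ) := inv_conjN hd hβi n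
    have hθ'i : PInv (P := P) (θ' : K → ℂ) := pinv_conjFun n hinv
    have hc' : Corr θ' β' := by
      rwa [Corr, mult_conj n θ θ' β β' rfl fun _ => rfl]
    refine ⟨fun h k => ?_, fun h x => ?_⟩
    · have hb : β' = β := Subtype.ext (funext fun c => by
        have := h ((eL P K).symm c)
        refine Eq.trans ?_ (this.trans ?_)
        · exact congrArg (β : CK P K → ℂ) (Subtype.ext (Subtype.ext rfl))
        · exact congrArg (β : CK P K → ℂ) ((eL P K).apply_symm_apply c))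
      rw [hb] at hc'
      exact congrFun (congrArg Subtype.val (corr_inj hd hθ'i hinv hβi hc' hc)) k
    · have ht : θ' = θ := Subtype.ext (funext h)
      rw [ht] at hc'
      have hb := congrFun (congrArg Subtype.val (corr_unique hd hinv hβ'i hβi hc' hc)) (eL P K x)
      refine Eq.trans ?_ hb
      exact congrArg (β : CK P K → ℂ) (Subtype.ext (Subtype.ext rfl))
  have hβdeg : Cfsg.charDegree (toLN β : LN P K → ℂ) = Cfsg.charDegree (β : CK P K → ℂ) := by
    show Cfsg.charDegree ((β : CK P K → ℂ) ∘ eL P K) = _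
    simp [Cfsg.charDegree]
  have hPT : (P : Subgroup G) ≤ T := fun s hs => mem_stab.2 fun k => hinv ⟨s, hs⟩ k
  -- the indices agree
  have hind : (T.index : ZMod p) = ((T.subgroupOf (NP P)).index : ZMod p) := by
    have h1 : (NP P).relIndex T * T.index = T.relIndex (NP P) * (NP P).index := by
      rw [← Subgroup.inf_relIndex_right (NP P) T, ← Subgroup.inf_relIndex_right T (NP P),
        Subgroup.relIndex_mul_index inf_le_right, inf_comm T, Subgroup.relIndex_mul_index inf_le_left]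
    have h2 := relIndex_normalizer_modEq P T hPT
    have h3 := relIndex_normalizer_modEq P (⊤ : Subgroup G) le_top
    rw [Subgroup.relIndex_top_right] at h3
    have h4 := congrArg (Nat.cast : ℕ → ZMod p) h1
    rw [Nat.cast_mul, Nat.cast_mul, h2, h3, one_mul, mul_one] at h4
    exact h4
  rw [hdχ] at *
  rw [hstab, hβdeg] at hdξ
  have hsign : (Cfsg.charDegree (ξ : NP P → ℂ) : ZMod p) =
      ((T.index * Cfsg.charDegree (θ : K → ℂ) : ℕ) : ZMod p) ∨
      (Cfsg.charDegree (ξ : NP P → ℂ) : ZMod p) =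
      -((T.index * Cfsg.charDegree (θ : K → ℂ) : ℕ) : ZMod p) := by
    rw [hdξ, Nat.cast_mul, Nat.cast_mul, ← hind]
    rcases hdeg with h | h <;> rw [h]
    · exact Or.inl rfl
    · exact Or.inr (mul_neg _ _)
  refine ⟨ξ, ⟨θ, β, hov, hinv, hβi, hc, hξo⟩, hξr, fun hdiv => ?_, hsign⟩
  have h0 := (ZMod.natCast_eq_zero_iff _ _).2 hdiv
  have h5 : ((T.index * Cfsg.charDegree (θ : K → ℂ) : ℕ) : ZMod p) = 0 := by
    rcases hsign with h | h <;> rw [h0] at h
    · exact h.symm
    · exact neg_eq_zero.1 h.symm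
  exact hd.reg χ hχ ((degree_eq hd.odd hχ hov).symm ▸ (ZMod.natCast_eq_zero_iff _ _).1 h5)

theorem rel_unique {χ : Cfsg.IrrCharacter G}
    {ξ ξ' : Cfsg.IrrCharacter (NP P)} (h : Rel hd χ ξ) (hr : IsReal (ξ : NP P → ℂ))
    (h' : Rel hd χ ξ') (hr' : IsReal (ξ' : NP P → ℂ)) : ξ = ξ' := by
  obtain ⟨θ, β, hov, hinv, hβi, hc, hξ⟩ := h
  obtain ⟨θ', β', hov', hinv', hβi', hc', hξ'⟩ := h'
  obtain ⟨g, hg⟩ := Clifford.exists_conj_of_constituent K χ.2 θ.2 θ'.2 hov hov'
  obtain ⟨n, hn⟩ := exists_normalizer_conj hd g hg hinv hinv'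
  let β₁ : Cfsg.IrrCharacter (CK P K) :=
    ⟨(β : CK P K → ℂ) ∘ (conjN n : MulAut (CK P K)), IsIrrCharacter.comp_equiv β.2 _⟩
  have hc1 : Corr θ' β₁ := by rwa [Corr, mult_conj n θ θ' β β₁ hn fun _ => rfl]
  have hb := corr_unique hd hinv' hβi' (inv_conjN hd hβi n) hc' hc1
  have hov1 : Over (LN P K) (ξ : NP P → ℂ) (toLN β' : LN P K → ℂ) := by
    have h1 := over_conjFun n hξ
    have e : (toLN β' : LN P K → ℂ) = Clifford.conjFun (LN P K) n (toLN β) := by
      rw [hb]
      funext x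
      exact congrArg (β : CK P K → ℂ) (Subtype.ext (Subtype.ext rfl))
    rwa [e]
  have hβr : IsReal (toLN β' : LN P K → ℂ) := real_of_over (odd_LN hd) hr' hξ'
  exact real_unique (odd_LN hd) hβr hov1 hr hξ' hr'

theorem rel_inj {χ χ' : Cfsg.IrrCharacter G} (hχ : IsReal (χ : G → ℂ))
    (hχ' : IsReal (χ' : G → ℂ))
    {ξ : Cfsg.IrrCharacter (NP P)} (h : Rel hd χ ξ) (h' : Rel hd χ' ξ) : χ = χ' := by
  obtain ⟨θ, β, hov, hinv, hβi, hc, hξ⟩ := h
  obtain ⟨θ', β', hov', hinv', hβi', hc', hξ'⟩ := h'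
  obtain ⟨n, hn⟩ := Clifford.exists_conj_of_constituent (LN P K) ξ.2 (toLN β).2 (toLN β').2 hξ hξ'
  let θ₁ : Cfsg.IrrCharacter K := ⟨_, Clifford.isIrrCharacter_conjFun K (n : G) θ.2⟩
  have hb : ∀ c, (β' : CK P K → ℂ) c = (β : CK P K → ℂ) (conjN n c) := fun c => by
    have h1 := congrFun hn ((eL P K).symm c)
    refine Eq.trans ?_ (h1.trans ?_)
    · exact (congrArg (β' : CK P K → ℂ) ((eL P K).apply_symm_apply c)).symm
    · exact congrArg (β : CK P K → ℂ) (Subtype.ext (Subtype.ext rfl))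
  have hc1 : Corr θ₁ β' := by rwa [Corr, mult_conj n θ θ₁ β β' rfl hb]
  have ht := corr_inj hd hinv' (pinv_conjFun n hinv) hβi' hc' hc1
  have hov1 : Over K (χ : G → ℂ) (θ' : K → ℂ) := by
    rw [ht]
    exact over_conjFun (n : G) hov
  exact real_unique hd.odd (real_of_over hd.odd hχ' hov') hov1 hχ hov' hχ'

theorem rel_surj (ξ : Cfsg.IrrCharacter (NP P)) (hξ : IsReal (ξ : NP P → ℂ))
    (hp : ¬ p ∣ Cfsg.charDegree (ξ : NP P → ℂ)) :
    ∃ χ : Cfsg.IrrCharacter G, IsReal (χ : G → ℂ) ∧ Rel hd χ ξ := by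
  haveI : (Q.subgroupOf K).Normal := hQ.subgroupOf K
  obtain ⟨γ, hγ⟩ := exists_over (L := LN P K) ξ
  let β : Cfsg.IrrCharacter (CK P K) :=
    ⟨(γ : LN P K → ℂ) ∘ (eL P K).symm, IsIrrCharacter.comp_equiv γ.2 _⟩
  have hβγ : toLN β = γ := Subtype.ext (funext fun x =>
    congrArg (γ : LN P K → ℂ) ((eL P K).symm_apply_apply x))
  have hγr := real_of_over (odd_LN hd) hξ hγ
  have hP : (P : Subgroup G).subgroupOf (NP P) ≤ stab (γ : LN P K → ℂ) := by
    haveI : ((P : Subgroup G).subgroupOf (NP P)).Normal := Subgroup.normal_in_normalizer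
    refine le_of_not_dvd_index _ _
      (P.2.of_equiv (Subgroup.subgroupOfEquivOfLe (Subgroup.le_normalizer)).symm) fun h => hp ?_
    rw [degree_eq (odd_LN hd) hξ hγ]
    exact dvd_mul_of_dvd_left h _
  have hβi : Inv (hd.setup (P := P)).actC (β : CK P K → ℂ) := by
    intro s c
    have hs : (⟨(s : G), Subgroup.le_normalizer s.2⟩ : NP P) ∈ stab (γ : LN P K → ℂ) :=
      hP (Subgroup.mem_subgroupOf.2 s.2)
    refine Eq.trans ?_ (mem_stab.1 hs ((eL P K).symm c))
    exact congrArg (γ : LN P K → ℂ) (Subtype.ext (Subtype.ext rfl))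
  obtain ⟨θ, hθi, hc, -⟩ := (hd.setup (P := P)).backward β hβi
  have hβr : IsReal (β : CK P K → ℂ) := fun c => hγr _
  obtain ⟨χ, hχo, hχr, -⟩ := exists_unique_real_over hd.odd θ
    ((real_corr_iff hd hθi hβi hc).2 hβr)
  exact ⟨χ, hχr, θ, β, hχo, hθi, hβi, hc, by rw [hβγ]; exact hγ⟩

/-- The bijection. -/
theorem exists_bijection :
    ∃ f : {χ : Cfsg.IrrCharacter G // IsReal (χ : G → ℂ)} →
      {ξ : Cfsg.IrrCharacter (NP P) // IsReal (ξ : NP P → ℂ) ∧
        ¬ p ∣ Cfsg.charDegree (ξ : NP P → ℂ)},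
      Function.Bijective f ∧ ∀ χ,
        ((Cfsg.charDegree ((f χ).1 : NP P → ℂ) : ZMod p) =
          (Cfsg.charDegree (χ.1 : G → ℂ) : ZMod p) ∨
        (Cfsg.charDegree ((f χ).1 : NP P → ℂ) : ZMod p) =
          -(Cfsg.charDegree (χ.1 : G → ℂ) : ZMod p)) := by
  choose F h1 h2 h3 h4 using fun χ : {χ : Cfsg.IrrCharacter G // IsReal (χ : G → ℂ)} =>
    rel_total hd (P := P) χ.1 χ.2
  refine ⟨fun χ => ⟨F χ, h2 χ, h3 χ⟩, ⟨fun a b h => ?_, fun ξ => ?_⟩, h4⟩
  · have e : F a = F b := congrArg Subtype.val h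
    exact Subtype.ext (rel_inj hd a.2 b.2 (h1 a) (e ▸ h1 b))
  · obtain ⟨χ, hr, hrel⟩ := rel_surj hd ξ.1 ξ.2.1 ξ.2.2
    exact ⟨⟨χ, hr⟩, Subtype.ext (rel_unique hd (h1 ⟨χ, hr⟩) (h2 _) hrel ξ.2.1)⟩

end Main

end CfsgLib.DegreeTools.RealCorrespondence
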