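import Cfsg.Agent.Lib.DegreeTools.RealOverInverted
import Mathlib.GroupTheory.Solvable

/-!
# Groups whose real characters have degree prime to `p`

If every real irreducible character has degree prime to `p` and the subgroup generated by the
`p`-elements is solvable, then a normal subgroup which is a `p`-group over the subgroup generated
by the 2-elements has a normal Sylow `p`-subgroup.
-/

set_option linter.style.haveILetI false

namespace CfsgLib.DegreeTools.RealDegrees

open CfsgLib CfsgLib.Char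

variable {G : Type*} [Group G] {p q : ℕ}

/-- The subgroup generated by the `q`-elements of `U`. -/
def pGen (q : ℕ) (U : Subgroup G) : Subgroup G :=
  Subgroup.closure {g | g ∈ U ∧ ∃ k : ℕ, orderOf g = q ^ k}

theorem pGen_top : pGen q (⊤ : Subgroup G) =
    Subgroup.closure {g : G | ∃ k : ℕ, orderOf g = q ^ k} := by
  simp [pGen]

theorem pGen_le (U : Subgroup G) : pGen q U ≤ U :=
  (Subgroup.closure_le _).mpr fun _ hg => hg.1

theorem pGen_mono {U V : Subgroup G} (h : U ≤ V) : pGen q U ≤ pGen q V :=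
  Subgroup.closure_mono fun _ hg => ⟨h hg.1, hg.2⟩

theorem mem_pGen [Fact q.Prime] {U : Subgroup G} {g : G} (hg : g ∈ U) {k : ℕ}
    (h : g ^ q ^ k = 1) : g ∈ pGen q U := by
  obtain ⟨i, -, hi⟩ := (Nat.dvd_prime_pow Fact.out).1 (orderOf_dvd_of_pow_eq_one h)
  exact Subgroup.subset_closure ⟨hg, i, hi⟩

instance pGen_normal (U : Subgroup G) [hU : U.Normal] : (pGen q U).Normal := by
  refine ⟨fun n hn g => ?_⟩
  have h : (pGen q U).map (MulAut.conj g).toMonoidHom ≤ pGen q U := by
    rw [pGen, MonoidHom.map_closure, Subgroup.closure_le]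
    rintro _ ⟨x, ⟨hx, k, hk⟩, rfl⟩
    refine Subgroup.subset_closure ⟨hU.conj_mem x hx g, k, ?_⟩
    rw [← hk]
    exact orderOf_injective (MulAut.conj g).toMonoidHom (MulAut.conj g).injective x
  exact h (Subgroup.mem_map_of_mem _ hn)

theorem map_pGen [Finite G] [Fact q.Prime] {G' : Type*} [Group G'] (f : G →* G')
    (U : Subgroup G) : (pGen q U).map f = pGen q (U.map f) := by
  apply le_antisymm
  · conv_lhs => rw [pGen, MonoidHom.map_closure]
    rw [Subgroup.closure_le]
    rintro _ ⟨x, ⟨hx, k, hk⟩, rfl⟩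
    exact mem_pGen (Subgroup.mem_map_of_mem f hx) (k := k)
      (by rw [← map_pow, ← hk, pow_orderOf_eq_one, map_one])
  · conv_lhs => rw [pGen]
    rw [Subgroup.closure_le]
    rintro _ ⟨⟨u, hu, rfl⟩, k, hk⟩
    obtain ⟨a, b, hb, hab⟩ := Nat.exists_eq_pow_mul_and_not_dvd (orderOf_pos u).ne' q
      (Nat.Prime.ne_one Fact.out)
    have hc : b.Coprime (orderOf (f u)) := by
      rw [hk]
      exact ((Fact.out : q.Prime).coprime_iff_not_dvd.mpr hb).symm.pow_right k
    obtain ⟨c, hc'⟩ := exists_pow_eq_self_of_coprime hc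
    refine ⟨u ^ (b * c), mem_pGen (U.pow_mem hu _) (k := a) ?_, ?_⟩
    · rw [← pow_mul, show b * c * q ^ a = q ^ a * b * c by ring, ← hab, pow_mul,
        pow_orderOf_eq_one, one_pow]
    · rw [map_pow, pow_mul, hc']

variable [Finite G]

/-- A normal abelian subgroup not centralised by the subgroup generated by the 2-elements has a
nontrivial linear character inverted by a 2-element. -/
theorem exists_inverted {N : Subgroup G} [hN : N.Normal] (hab : ∀ a b : N, a * b = b * a)
    (hK : ¬ pGen 2 (⊤ : Subgroup G) ≤ Subgroup.centralizer (N : Set G)) :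
    ∃ (f : N →* ℂˣ) (s : G) (k : ℕ), f ≠ 1 ∧ s ^ 2 ^ k = 1 ∧
      ∀ n : N, f (MulAut.conjNormal s n) = (f n)⁻¹ := by
  classical
  cases nonempty_fintype G
  rw [pGen, Subgroup.closure_le] at hK
  obtain ⟨a, ⟨-, k, hk⟩, haC⟩ := Set.not_subset.mp hK
  have hex : ∃ i, a ^ 2 ^ i ∈ Subgroup.centralizer (N : Set G) :=
    ⟨k, by rw [← hk, pow_orderOf_eq_one]; exact one_mem _⟩
  have hi0 : Nat.find hex ≠ 0 := fun h0 => haC (by
    have := Nat.find_spec hex
    rwa [h0, pow_zero, pow_one] at this)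
  obtain ⟨i, hi⟩ := Nat.exists_eq_succ_of_ne_zero hi0
  set s := a ^ 2 ^ i with hsdef
  have hs : s ∉ Subgroup.centralizer (N : Set G) := Nat.find_min hex (by omega)
  have hs2 : s * s ∈ Subgroup.centralizer (N : Set G) := by
    have := Nat.find_spec hex
    rwa [hi, pow_succ, pow_mul, ← hsdef, sq] at this
  have hsk : s ^ 2 ^ k = 1 := by
    rw [hsdef, ← pow_mul, mul_comm, pow_mul, ← hk, pow_orderOf_eq_one, one_pow]
  obtain ⟨n₀, hn₀⟩ : ∃ n : N, MulAut.conjNormal s n ≠ n := by
    by_contra h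
    push Not at h
    exact hs (Subgroup.mem_centralizer_iff.mpr fun n hn => by
      have := congrArg Subtype.val (h ⟨n, hn⟩)
      rw [MulAut.conjNormal_apply] at this
      exact (mul_inv_eq_iff_eq_mul.mp this).symm)
  obtain ⟨l, hl⟩ : ∃ l : Cfsg.IrrCharacter N,
      (l : N → ℂ) (MulAut.conjNormal s n₀) ≠ (l : N → ℂ) n₀ := by
    by_contra h
    push Not at h
    obtain ⟨c, hc⟩ := isConj_iff.mp (isConj_iff_forall_irr.2 h)
    refine hn₀ ?_
    rw [hab c, mul_inv_cancel_right] at hc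
    exact hc
  obtain ⟨f₁, hf₁⟩ := exists_hom_of_apply_one_eq_one (isCharacter_irr l)
    (apply_one_eq_one_of_comm hab l.2)
  let f : N →* ℂˣ := f₁.comp (MulAut.conjNormal s).toMonoidHom * f₁⁻¹
  have hfv : ∀ n, f n = f₁ (MulAut.conjNormal s n) * (f₁ n)⁻¹ := fun n => rfl
  refine ⟨f, s, k, fun h1 => hl ?_, hsk, fun n => ?_⟩
  · have := hfv n₀
    rw [h1, MonoidHom.one_apply, eq_comm, mul_inv_eq_one] at this
    rw [hf₁]
    exact congrArg Units.val this
  · rw [hfv, hfv, show MulAut.conjNormal s (MulAut.conjNormal s n) = n from Subtype.ext (by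
      rw [MulAut.conjNormal_apply, MulAut.conjNormal_apply]
      have h := Subgroup.mem_centralizer_iff.mp hs2 (n : G) n.2
      rw [show s * (s * (n : G) * s⁻¹) * s⁻¹ = s * s * (n : G) * (s * s)⁻¹ by group, ← h,
        mul_inv_cancel_right]), mul_inv_rev, inv_inv]

/-- The degree of a character over a linear character is divisible by the index of its stabiliser. -/
theorem index_stab_dvd {N : Subgroup G} [N.Normal] [Fintype N] (f : N →* ℂˣ)
    (χ : Cfsg.IrrCharacter G)
    (h : Cfsg.classInner (fun n : N => (χ : G → ℂ) n) (fun n => (f n : ℂ)) ≠ 0) :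
    (stab (fun n => (f n : ℂ)) : Subgroup G).index ∣ Cfsg.charDegree (χ : G → ℂ) := by
  classical
  cases nonempty_fintype G
  have hθ : Cfsg.IsIrrCharacter N (fun n => (f n : ℂ)) := isIrrCharacter_hom f
  obtain ⟨η, hη, -, hχη⟩ := exists_eq_indFun_inertia
    (le_stab (IsIrrCharacter.isClassFunction hθ)) hθ (isInertia_stab _) χ.2 h
  refine ⟨Cfsg.charDegree η, ?_⟩
  have h1 : (Cfsg.charDegree (χ : G → ℂ) : ℂ) =
      (((stab (fun n => (f n : ℂ)) : Subgroup G).index * Cfsg.charDegree η : ℕ) : ℂ) := by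
    rw [DegreeTools.deg_cast, Nat.cast_mul,
      DegreeTools.charDegree_cast (IsIrrCharacter.isCharacter hη), hχη, indFun_one]
  exact_mod_cast h1

theorem hyps_quotient [Fact p.Prime] (N : Subgroup G) [N.Normal]
    (hsolv : Group.IsSolvable (pGen p (⊤ : Subgroup G)))
    (hreal : ∀ χ : Cfsg.IrrCharacter G, (∀ g : G, ((χ : G → ℂ) g).im = 0) →
      ¬ p ∣ Cfsg.charDegree (χ : G → ℂ)) :
    Group.IsSolvable (pGen p (⊤ : Subgroup (G ⧸ N))) ∧
      ∀ χ : Cfsg.IrrCharacter (G ⧸ N), (∀ g, ((χ : G ⧸ N → ℂ) g).im = 0) →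
        ¬ p ∣ Cfsg.charDegree (χ : G ⧸ N → ℂ) := by
  constructor
  · have h : (pGen p (⊤ : Subgroup G)).map (QuotientGroup.mk' N) = pGen p ⊤ := by
      rw [map_pGen, Subgroup.map_top_of_surjective _ (QuotientGroup.mk'_surjective N)]
    rw [← h]
    exact solvable_of_surjective (MonoidHom.subgroupMap_surjective (QuotientGroup.mk' N) _)
  · intro χ hχ hd
    refine hreal ⟨_, IsIrrCharacter.comp_surjective χ.2 _ (QuotientGroup.mk'_surjective N)⟩
      (fun g => hχ _) ?_
    simpa [Cfsg.charDegree] using hd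

/-- An element whose power lies in a subgroup lies in it if the exponent is prime to its order. -/
theorem mem_of_pow {H : Subgroup G} {g : G} {n : ℕ} (h : g ^ n ∈ H)
    (hc : n.Coprime (orderOf g)) : g ∈ H := by
  obtain ⟨m, hm⟩ := exists_pow_eq_self_of_coprime hc
  rw [← hm]
  exact H.pow_mem h m

theorem isPGroup_pGen [Fact p.Prime] : ∀ (n : ℕ) (G : Type*) [Group G] [Finite G],
    Nat.card G = n → Group.IsSolvable (pGen p (⊤ : Subgroup G)) →
    (∀ χ : Cfsg.IrrCharacter G, (∀ g : G, ((χ : G → ℂ) g).im = 0) →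
      ¬ p ∣ Cfsg.charDegree (χ : G → ℂ)) →
    ∀ U : Subgroup G, U.Normal → pGen 2 (⊤ : Subgroup G) ≤ U →
      (∀ u ∈ U, ∃ a : ℕ, u ^ p ^ a ∈ pGen 2 (⊤ : Subgroup G)) → IsPGroup p (pGen p U) := by
  intro n
  induction n using Nat.strong_induction_on with
  | _ n ih =>
  intro G _ _ hn hsolv hreal U hU hKU hUp
  classical
  cases nonempty_fintype G
  have hpp : p.Prime := Fact.out
  haveI := hU
  rcases subsingleton_or_nontrivial G with hs | hs
  · exact fun x => ⟨0, Subsingleton.elim _ _⟩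
  obtain ⟨N, hN, hne, hmin⟩ : ∃ N : Subgroup G, N.Normal ∧ N ≠ ⊥ ∧
      ∀ M : Subgroup G, M.Normal → M ≤ N → M = ⊥ ∨ M = N := by
    obtain ⟨N, hN, hmin⟩ := Set.exists_min_image
      {N : Subgroup G | N.Normal ∧ N ≠ ⊥} (fun N : Subgroup G => Nat.card N)
      (Set.toFinite _) ⟨⊤, inferInstance, top_ne_bot⟩
    refine ⟨N, hN.1, hN.2, fun M hM hMN => ?_⟩
    by_cases hb : M = ⊥
    · exact Or.inl hb
    · exact Or.inr (Subgroup.eq_of_le_of_card_ge hMN (hmin M ⟨hM, hb⟩))
  haveI := hN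
  set π := QuotientGroup.mk' N with hπdef
  have hπ : Function.Surjective π := QuotientGroup.mk'_surjective N
  have hlt : Nat.card (G ⧸ N) < n := by
    rw [← hn, ← Subgroup.index_eq_card, ← Subgroup.index_mul_card N]
    exact lt_mul_of_one_lt_right (Nat.pos_of_ne_zero Subgroup.index_ne_zero_of_finite)
      (N.one_lt_card_iff_ne_bot.2 hne)
  have hK' : (pGen 2 (⊤ : Subgroup G)).map π = pGen 2 ⊤ := by
    rw [map_pGen, Subgroup.map_top_of_surjective _ hπ]
  obtain ⟨hsolv', hreal'⟩ := hyps_quotient N hsolv hreal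
  have hbar : IsPGroup p (pGen p (U.map π)) := ih _ hlt (G ⧸ N) rfl hsolv' hreal' _
    (hU.map π hπ) (hK' ▸ Subgroup.map_mono hKU) (by
      rintro _ ⟨u, hu, rfl⟩
      obtain ⟨a, ha⟩ := hUp u hu
      exact ⟨a, by rw [← map_pow, ← hK']; exact Subgroup.mem_map_of_mem π ha⟩)
  rw [← map_pGen] at hbar
  set D := pGen p U with hDdef
  have hpow : ∀ x ∈ D, ∃ k : ℕ, x ^ p ^ k ∈ N := fun x hx => by
    obtain ⟨k, hk⟩ := hbar ⟨π x, Subgroup.mem_map_of_mem π hx⟩
    exact ⟨k, (QuotientGroup.eq_one_iff _).mp (by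
      rw [← QuotientGroup.mk'_apply, map_pow]; exact congrArg Subtype.val hk)⟩
  by_cases hNp : IsPGroup p N
  · intro x
    obtain ⟨k, hk⟩ := hpow x x.2
    obtain ⟨j, hj⟩ := hNp ⟨_, hk⟩
    refine ⟨k + j, Subtype.ext ?_⟩
    rw [SubgroupClass.coe_pow, pow_add, pow_mul]
    exact congrArg Subtype.val hj
  by_cases hND : N ⊓ D = ⊥
  · intro x
    obtain ⟨k, hk⟩ := hpow x x.2
    have h1 : (x : G) ^ p ^ k ∈ N ⊓ D := ⟨hk, D.pow_mem x.2 _⟩
    rw [hND, Subgroup.mem_bot] at h1
    exact ⟨k, Subtype.ext h1⟩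
  have hNleD : N ≤ D := by
    have := (hmin (N ⊓ D) inferInstance inf_le_left).resolve_left hND
    exact this ▸ inf_le_right
  have hNU : N ≤ U := hNleD.trans (pGen_le U)
  -- `N` is elementary abelian
  have hab : ∀ a b : N, a * b = b * a := by
    have hle : N ≤ pGen p (⊤ : Subgroup G) := hNleD.trans (pGen_mono le_top)
    haveI := hsolv
    haveI : Group.IsSolvable N :=
      solvable_of_solvable_injective (Subgroup.inclusion_injective hle)
    haveI : Nontrivial N := N.nontrivial_iff_ne_bot.mpr hne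
    have hlt' : commutator N < ⊤ := Group.IsSolvable.commutator_lt_top_of_nontrivial N
    rcases hmin ((commutator N).map N.subtype) inferInstance (Subgroup.map_subtype_le _) with h | h
    · rw [Subgroup.map_eq_bot_iff, Subgroup.ker_subtype, le_bot_iff] at h
      intro a b
      rw [← commutatorElement_eq_one_iff_mul_comm, ← Subgroup.mem_bot, ← h]
      exact Subgroup.commutator_mem_commutator (Subgroup.mem_top a) (Subgroup.mem_top b)
    · refine absurd (eq_top_iff.mpr fun a _ => ?_) hlt'.ne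
      have ha : (a : G) ∈ (commutator N).map N.subtype := h.symm ▸ a.2
      obtain ⟨c, hc, he⟩ := ha
      rwa [← N.subtype_injective he]
  haveI : Nontrivial N := N.nontrivial_iff_ne_bot.mpr hne
  obtain ⟨r, hr, hrN⟩ := Nat.exists_prime_and_dvd
    (Finite.one_lt_card (α := N)).ne'
  haveI := Fact.mk hr
  have hexp : ∀ x ∈ N, x ^ r = 1 := by
    let Ω : Subgroup G :=
      { carrier := {x | x ∈ N ∧ x ^ r = 1}
        one_mem' := ⟨N.one_mem, one_pow r⟩
        mul_mem' := fun {x y} hx hy => ⟨N.mul_mem hx.1 hy.1, by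
          rw [(show Commute x y from congrArg Subtype.val (hab ⟨x, hx.1⟩ ⟨y, hy.1⟩)).mul_pow,
            hx.2, hy.2, one_mul]⟩
        inv_mem' := fun {x} hx => ⟨N.inv_mem hx.1, by rw [inv_pow, hx.2, inv_one]⟩ }
    have hΩn : Ω.Normal := ⟨fun x hx g => ⟨hN.conj_mem x hx.1 g, by
      rw [conj_pow, hx.2, mul_one, mul_inv_cancel]⟩⟩
    obtain ⟨y, hy⟩ := exists_prime_orderOf_dvd_card' r hrN
    rcases hmin Ω hΩn (fun x hx => hx.1) with h | h
    · exfalso
      have : (y : G) ∈ Ω := ⟨y.2, by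
        rw [← SubgroupClass.coe_pow, ← hy, pow_orderOf_eq_one]; rfl⟩
      rw [h, Subgroup.mem_bot] at this
      rw [show y = 1 from Subtype.ext this, orderOf_one] at hy
      exact hr.ne_one hy.symm
    · exact fun x hx => (h.symm ▸ hx : x ∈ Ω).2
  have hrp : r ≠ p := by
    rintro rfl
    exact hNp fun x => ⟨1, Subtype.ext (by rw [pow_one, SubgroupClass.coe_pow, hexp x x.2]; rfl)⟩
  have hrgrp : IsPGroup r N := fun x =>
    ⟨1, Subtype.ext (by rw [pow_one, SubgroupClass.coe_pow, hexp x x.2]; rfl)⟩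
  obtain ⟨e, he⟩ := hrgrp.exists_card_eq
  have hNcop : (Nat.card N).Coprime p := by
    rw [he]; exact ((Nat.coprime_primes hr hpp).mpr hrp).pow_left e
  have hcopord : ∀ (j : ℕ), ∀ x ∈ N, (p ^ j).Coprime (orderOf x) := fun j x hx =>
    (hNcop.coprime_dvd_left (Subgroup.orderOf_dvd_natCard N hx)).symm.pow_left j
  have hNK : N ≤ pGen 2 (⊤ : Subgroup G) := fun x hx => by
    obtain ⟨a, ha⟩ := hUp x (hNU hx)
    exact mem_of_pow ha (hcopord a x hx)
  -- a Sylow subgroup of `D` and its normaliser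
  let P₀ : Sylow p D := default
  set P : Subgroup G := (P₀ : Subgroup D).map D.subtype with hPdef
  set H : Subgroup G := Subgroup.normalizer (P : Set G) with hHdef
  have hPH : P ≤ H := Subgroup.le_normalizer
  have hDNP : D ≤ N ⊔ P := by
    have h1 : N.subgroupOf D ⊔ (P₀ : Subgroup D) = ⊤ := by
      rw [← Subgroup.index_eq_one]
      obtain ⟨c, hc⟩ := hbar.exists_card_eq
      have h3 : (N.subgroupOf D).index = Nat.card (D.map π) := by
        rw [show N.subgroupOf D = (π.comp D.subtype).ker by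
            rw [← MonoidHom.comap_ker, hπdef, QuotientGroup.ker_mk']; rfl,
          Subgroup.index_ker, MonoidHom.range_comp, Subgroup.range_subtype]
      have h4 : (N.subgroupOf D ⊔ (P₀ : Subgroup D)).index ∣ p ^ c :=
        (Subgroup.index_dvd_of_le le_sup_left).trans (by rw [h3, hc])
      obtain ⟨i, -, hi⟩ := (Nat.dvd_prime_pow hpp).1 h4
      rcases i with _ | i
      · rw [hi, pow_zero]
      · exact absurd ((dvd_pow_self p (Nat.succ_ne_zero i)).trans
          (hi ▸ Subgroup.index_dvd_of_le le_sup_right)) P₀.not_dvd_index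
    intro x hx
    have h5 : (⟨x, hx⟩ : D) ∈ N.subgroupOf D ⊔ (P₀ : Subgroup D) := h1 ▸ Subgroup.mem_top _
    have h6 := Subgroup.mem_map_of_mem D.subtype h5
    rw [Subgroup.map_sup] at h6
    exact sup_le_sup (Subgroup.map_le_iff_le_comap.mpr fun y hy => hy) le_rfl h6
  have hgen : ∀ g : G, ∃ m ∈ N, m⁻¹ * g ∈ H := by
    intro g
    have h1 : H ⊔ D = ⊤ := Sylow.normalizer_sup_eq_top P₀
    have h2 : N ⊔ H = ⊤ := eq_top_iff.mpr (h1.ge.trans (sup_le le_sup_right
      (hDNP.trans (sup_le_sup le_rfl hPH))))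
    have h3 : g ∈ ((N ⊔ H : Subgroup G) : Set G) := h2 ▸ Set.mem_univ g
    rw [Subgroup.normal_mul, Set.mem_mul] at h3
    obtain ⟨m, hm, h, hh, rfl⟩ := h3
    exact ⟨m, hm, by simpa using hh⟩
  have hHN : (N ⊓ H).Normal := ⟨fun x hx g => by
    obtain ⟨m, hm, hmg⟩ := hgen g
    set h := m⁻¹ * g with hh
    have h1 : h * x * h⁻¹ ∈ N ⊓ H :=
      ⟨hN.conj_mem x hx.1 h, H.mul_mem (H.mul_mem hmg hx.2) (H.inv_mem hmg)⟩
    rw [show g * x * g⁻¹ = m * (h * x * h⁻¹) * m⁻¹ by rw [hh]; group,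
      show m * (h * x * h⁻¹) = h * x * h⁻¹ * m from
        congrArg Subtype.val (hab ⟨m, hm⟩ ⟨_, h1.1⟩), mul_inv_cancel_right]
    exact h1⟩
  rcases hmin _ hHN inf_le_left with hinf | hinf
  swap
  · -- the Sylow subgroup is normal
    have hPn : P.Normal := by
      refine Subgroup.normalizer_eq_top_iff.mp (eq_top_iff.mpr fun g _ => ?_)
      obtain ⟨m, hm, hmg⟩ := hgen g
      have hm' : m ∈ H := by rw [← hinf] at hm; exact hm.2
      simpa using H.mul_mem hm' hmg
    haveI : (P₀ : Subgroup D).Normal := by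
      rw [show (P₀ : Subgroup D) = P.subgroupOf D from
        (Subgroup.comap_map_eq_self_of_injective D.subtype_injective _).symm]
      exact hPn.subgroupOf D
    have hle : D ≤ P := by
      conv_lhs => rw [hDdef, pGen]
      rw [Subgroup.closure_le]
      rintro x ⟨hxU, k, hk⟩
      have hxD : x ∈ D := Subgroup.subset_closure ⟨hxU, k, hk⟩
      have hq : IsPGroup p (Subgroup.zpowers (⟨x, hxD⟩ : D)) :=
        IsPGroup.of_card (n := k) (by rw [Nat.card_zpowers, Subgroup.orderOf_mk, hk])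
      have he := P₀.is_maximal' (IsPGroup.to_sup_of_normal_left P₀.2 hq) le_sup_left
      exact ⟨⟨x, hxD⟩, he.le (le_sup_right (a := (P₀ : Subgroup D))
        (Subgroup.mem_zpowers _)), rfl⟩
    exact (P₀.2.map D.subtype).to_le hle
  exfalso
  -- `P` does not centralise `N`
  have hPN : ∃ x ∈ P, ∃ m ∈ N, x * m * x⁻¹ ≠ m := by
    by_contra hc
    push Not at hc
    refine hne (le_bot_iff.mp (hinf ▸ le_inf le_rfl fun m hm => ?_))
    rw [hHdef, Subgroup.mem_normalizer_iff]
    intro x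
    have hcomm : ∀ y ∈ P, m * y * m⁻¹ = y := fun y hy => by
      have h1 : y * m = m * y := mul_inv_eq_iff_eq_mul.mp (hc y hy m hm)
      rw [← h1, mul_inv_cancel_right]
    refine ⟨fun hx => (hcomm x hx).symm ▸ hx, fun hx => ?_⟩
    have h2 := hcomm _ hx
    rw [mul_left_inj, mul_right_inj] at h2
    exact h2 ▸ hx
  obtain ⟨f, χ, hf1, hχreal, hχf⟩ : ∃ (f : N →* ℂˣ) (χ : Cfsg.IrrCharacter G), f ≠ 1 ∧
      (∀ g, ((χ : G → ℂ) g).im = 0) ∧
      Cfsg.classInner (fun m : N => (χ : G → ℂ) m) (fun m => (f m : ℂ)) ≠ 0 := by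
    by_cases hr2 : r = 2
    · subst hr2
      obtain ⟨m₀, hm₀⟩ := exists_ne (1 : N)
      obtain ⟨l, hl⟩ : ∃ l : Cfsg.IrrCharacter N, (l : N → ℂ) m₀ ≠ (l : N → ℂ) 1 := by
        by_contra h
        push Not at h
        exact hm₀ (eq_one_of_forall_irr h)
      obtain ⟨f, hf⟩ := exists_hom_of_apply_one_eq_one (isCharacter_irr l)
        (apply_one_eq_one_of_comm hab l.2)
      have hsq : ∀ m : N, f m ^ 2 = 1 := fun m => by
        rw [← map_pow, show m ^ 2 = 1 from Subtype.ext (by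
          rw [SubgroupClass.coe_pow, hexp m m.2]; rfl), map_one]
      obtain ⟨χ, h1, h2⟩ := RealOverInverted.exists_real_over_complement f hsq H hinf hgen
      exact ⟨f, χ, fun e => hl (by simp [hf, e]), h1, h2⟩
    · have hodd : Odd (Nat.card N) := by
        rw [he]; exact (hr.odd_of_ne_two hr2).pow
      have hnc : ¬ pGen 2 (⊤ : Subgroup G) ≤ Subgroup.centralizer (N : Set G) := by
        intro hC
        have hle : pGen 2 (⊤ : Subgroup G) ≤ H := by
          conv_lhs => rw [pGen]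
          rw [Subgroup.closure_le]
          rintro a ⟨-, k, hk⟩
          obtain ⟨m, hm, hma⟩ := hgen a
          have haK : a ∈ pGen 2 (⊤ : Subgroup G) :=
            Subgroup.subset_closure ⟨Subgroup.mem_top _, k, hk⟩
          have hc : Commute m (m⁻¹ * a) := (Commute.refl m).inv_right.mul_right
            (Subgroup.mem_centralizer_iff.mp (hC haK) m hm)
          have h1 : a ^ Nat.card N ∈ H := by
            rw [show a = m * (m⁻¹ * a) by group, hc.mul_pow,
              show m ^ Nat.card N = 1 from orderOf_dvd_iff_pow_eq_one.mp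
                (Subgroup.orderOf_dvd_natCard N hm), one_mul]
            exact H.pow_mem hma _
          refine mem_of_pow h1 ?_
          rw [hk]
          exact (Nat.coprime_two_right.mpr hodd).pow_right k
        exact hne (le_bot_iff.mp (hinf ▸ le_inf le_rfl (hNK.trans hle)))
      obtain ⟨f, s, k, hf1, hsk, hs⟩ := exists_inverted hab hnc
      obtain ⟨χ, h1, h2⟩ := RealOverInverted.exists_real_over f hodd hsk hs
      exact ⟨f, χ, hf1, h1, h2⟩
  set T : Subgroup G := stab (fun m : N => (f m : ℂ)) with hTdef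
  have hTi : ¬ p ∣ T.index := fun hd => hreal χ hχreal (hd.trans (index_stab_dvd f χ hχf))
  -- a conjugate of `P` lies in `T`
  let R : Sylow p T := default
  have hRi : ¬ p ∣ ((R : Subgroup T).map T.subtype).index := by
    rw [Subgroup.index_map_subtype]
    intro hd
    rcases hpp.dvd_mul.mp hd with h1 | h1
    · exact R.not_dvd_index h1
    · exact hTi h1
  obtain ⟨P₁, hP₁⟩ := (P₀.2.map D.subtype).exists_le_sylow
  obtain ⟨g, hg⟩ := MulAction.exists_smul_eq G P₁ ((R.2.map T.subtype).toSylow hRi)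
  have hgT : ∀ x ∈ P, g * x * g⁻¹ ∈ T := by
    intro x hx
    have h1 : g * x * g⁻¹ ∈ ((g • P₁ : Sylow p G) : Subgroup G) := by
      rw [Sylow.coe_subgroup_smul, Subgroup.mem_pointwise_smul_iff_inv_smul_mem]
      simpa [MulAut.conj_apply, mul_assoc] using hP₁ hx
    rw [hg, IsPGroup.toSylow_coe] at h1
    exact Subgroup.map_subtype_le _ h1
  let f' : N →* ℂˣ := f.comp (MulAut.conjNormal g).toMonoidHom
  have hinv : ∀ x ∈ P, ∀ m : N, f' (MulAut.conjNormal x m) = f' m := by
    intro x hx m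
    have h1 := (isInertia_stab (fun m : N => (f m : ℂ)) (g * x * g⁻¹)).mp (hgT x hx)
      (MulAut.conjNormal g m)
    refine Eq.trans (congrArg f (Subtype.ext ?_)) (Units.ext h1)
    simp [MulAut.conjNormal_apply, mul_assoc]
  let Y : Subgroup G := Subgroup.closure {y | ∃ x ∈ P, ∃ m ∈ N, y = x * m * x⁻¹ * m⁻¹}
  have hYN : Y ≤ N := (Subgroup.closure_le _).mpr fun y ⟨x, _, m, hm, hy⟩ =>
    hy ▸ N.mul_mem (hN.conj_mem m hm x) (N.inv_mem hm)
  have hYn : Y.Normal := by
    refine ⟨fun y hy t => ?_⟩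
    obtain ⟨m, hm, hmt⟩ := hgen t
    set h := m⁻¹ * t with hh
    have hmap : Y.map (MulAut.conj h).toMonoidHom ≤ Y := by
      rw [MonoidHom.map_closure, Subgroup.closure_le]
      rintro _ ⟨_, ⟨x, hx, a, ha, rfl⟩, rfl⟩
      refine Subgroup.subset_closure ⟨h * x * h⁻¹, ?_, h * a * h⁻¹, hN.conj_mem a ha h, ?_⟩
      · exact (Subgroup.mem_normalizer_iff.mp hmt x).mp hx
      · show h * (x * a * x⁻¹ * a⁻¹) * h⁻¹ = _
        group
    have h1 : h * y * h⁻¹ ∈ Y := hmap (Subgroup.mem_map_of_mem _ hy)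
    rw [show t * y * t⁻¹ = m * (h * y * h⁻¹) * m⁻¹ by rw [hh]; group,
      show m * (h * y * h⁻¹) = h * y * h⁻¹ * m from
        congrArg Subtype.val (hab ⟨m, hm⟩ ⟨_, hYN h1⟩), mul_inv_cancel_right]
    exact h1
  have hYker : ∀ (y : G) (hy : y ∈ Y), f' ⟨y, hYN hy⟩ = 1 := by
    have hle : Y ≤ f'.ker.map N.subtype := by
      rw [Subgroup.closure_le]
      rintro _ ⟨x, hx, m, hm, rfl⟩
      refine ⟨MulAut.conjNormal x ⟨m, hm⟩ * (⟨m, hm⟩ : N)⁻¹, ?_, ?_⟩
      · rw [SetLike.mem_coe, MonoidHom.mem_ker, map_mul, hinv x hx, map_inv, mul_inv_cancel]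
      · simp [MulAut.conjNormal_apply]
    intro y hy
    obtain ⟨z, hz, hzy⟩ := hle hy
    rw [show (⟨y, hYN hy⟩ : N) = z from Subtype.ext hzy.symm]
    exact hz
  rcases hmin Y hYn hYN with hY | hY
  · obtain ⟨x, hx, m, hm, hxm⟩ := hPN
    have : x * m * x⁻¹ * m⁻¹ ∈ Y := Subgroup.subset_closure ⟨x, hx, m, hm, rfl⟩
    rw [hY, Subgroup.mem_bot, mul_inv_eq_one] at this
    exact hxm this
  · refine hf1 (MonoidHom.ext fun a => ?_)
    obtain ⟨b, rfl⟩ := (MulAut.conjNormal g).surjective a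
    exact hYker (b : G) (hY.symm ▸ b.2)

/-- The Sylow subgroup form. -/
theorem sylow_normal [Fact p.Prime]
    (hsolv : Group.IsSolvable (pGen p (⊤ : Subgroup G)))
    (hreal : ∀ χ : Cfsg.IrrCharacter G, (∀ g : G, ((χ : G → ℂ) g).im = 0) →
      ¬ p ∣ Cfsg.charDegree (χ : G → ℂ))
    (U : Subgroup G) (hU : U.Normal) (hKU : pGen 2 (⊤ : Subgroup G) ≤ U)
    (hUp : ∀ u ∈ U, ∃ a : ℕ, u ^ p ^ a ∈ pGen 2 (⊤ : Subgroup G)) (Q : Sylow p U) :
    (Q : Subgroup U).Normal := by
  haveI := hU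
  have hD := isPGroup_pGen _ G rfl hsolv hreal U hU hKU hUp
  haveI : ((pGen p U).subgroupOf U).Normal := (pGen_normal U).subgroupOf U
  have hDp : IsPGroup p ((pGen p U).subgroupOf U) :=
    hD.of_equiv (Subgroup.subgroupOfEquivOfLe (pGen_le U)).symm
  have hQ : (Q : Subgroup U) ≤ (pGen p U).subgroupOf U := fun x hx => by
    obtain ⟨k, hk⟩ := IsPGroup.iff_orderOf.1 Q.2 ⟨x, hx⟩
    rw [Subgroup.orderOf_mk, ← Subgroup.orderOf_coe] at hk
    exact Subgroup.subset_closure ⟨x.2, k, hk⟩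
  rw [← Q.is_maximal' hDp hQ]
  infer_instance

/-- Normal subgroups inside the 2-generated subgroup and inside `P'` are centralised by it. -/
theorem centralizes [Fact p.Prime] (hp : p ≠ 2) : ∀ (n : ℕ) (G : Type*) [Group G] [Finite G],
    Nat.card G = n →
    (∀ χ : Cfsg.IrrCharacter G, (∀ g : G, ((χ : G → ℂ) g).im = 0) →
      ¬ p ∣ Cfsg.charDegree (χ : G → ℂ)) →
    ∀ (P : Sylow p G) (M : Subgroup G), M.Normal →
      M ≤ ⁅(P : Subgroup G), (P : Subgroup G)⁆ →
      pGen 2 (⊤ : Subgroup G) ≤ Subgroup.centralizer (M : Set G) := by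
  intro n
  induction n using Nat.strong_induction_on with
  | _ n ih =>
  intro G _ _ hn hreal P M hM hMP
  classical
  cases nonempty_fintype G
  have hpp : p.Prime := Fact.out
  by_cases hMb : M = ⊥
  · intro a _
    rw [Subgroup.mem_centralizer_iff]
    intro m hm
    rw [show m = 1 by simpa [hMb] using hm, one_mul, mul_one]
  obtain ⟨N, hN, hne, hNM, hmin⟩ : ∃ N : Subgroup G, N.Normal ∧ N ≠ ⊥ ∧ N ≤ M ∧
      ∀ L : Subgroup G, L.Normal → L ≤ N → L = ⊥ ∨ L = N := by
    obtain ⟨N, hN, hmin⟩ := Set.exists_min_image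
      {N : Subgroup G | N.Normal ∧ N ≠ ⊥ ∧ N ≤ M} (fun N : Subgroup G => Nat.card N)
      (Set.toFinite _) ⟨M, hM, hMb, le_rfl⟩
    refine ⟨N, hN.1, hN.2.1, hN.2.2, fun L hL hLN => ?_⟩
    by_cases hb : L = ⊥
    · exact Or.inl hb
    · exact Or.inr (Subgroup.eq_of_le_of_card_ge hLN (hmin L ⟨hL, hb, hLN.trans hN.2.2⟩))
  haveI := hN
  set π := QuotientGroup.mk' N with hπdef
  have hπ : Function.Surjective π := QuotientGroup.mk'_surjective N
  have hlt : Nat.card (G ⧸ N) < n := by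
    rw [← hn, ← Subgroup.index_eq_card, ← Subgroup.index_mul_card N]
    exact lt_mul_of_one_lt_right (Nat.pos_of_ne_zero Subgroup.index_ne_zero_of_finite)
      (N.one_lt_card_iff_ne_bot.2 hne)
  have hbar := ih _ hlt (G ⧸ N) rfl (fun χ hχ hd => by
    refine hreal ⟨_, IsIrrCharacter.comp_surjective χ.2 _ hπ⟩ (fun g => hχ _) ?_
    simpa [Cfsg.charDegree] using hd) (P.mapSurjective hπ) (M.map π) (hM.map π hπ) (by
      rw [Sylow.coe_mapSurjective, ← Subgroup.map_commutator]
      exact Subgroup.map_mono hMP)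
  have hNP : N ≤ (P : Subgroup G) :=
    hNM.trans (hMP.trans (Subgroup.commutator_le_self _))
  have hNp : IsPGroup p N := P.2.to_le hNP
  have hab := DerivedSylow.comm_of_minimal hNp hne hmin
  obtain ⟨e, he⟩ := hNp.exists_card_eq
  have hodd : Odd (Nat.card N) := by rw [he]; exact (hpp.odd_of_ne_two hp).pow
  by_cases hC : pGen 2 (⊤ : Subgroup G) ≤ Subgroup.centralizer (N : Set G)
  · conv_lhs => rw [pGen]
    rw [Subgroup.closure_le]
    rintro a ⟨-, k, hk⟩
    have haK : a ∈ pGen 2 (⊤ : Subgroup G) :=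
      Subgroup.subset_closure ⟨Subgroup.mem_top _, k, hk⟩
    refine Subgroup.mem_centralizer_iff.mpr fun m hm => ?_
    set c := a * m * a⁻¹ * m⁻¹ with hc
    have hcN : c ∈ N := by
      rw [← QuotientGroup.eq_one_iff, ← QuotientGroup.mk'_apply, hc]
      simp only [map_mul, map_inv]
      have h1 := Subgroup.mem_centralizer_iff.mp (hbar (show π a ∈ pGen 2 ⊤ by
        rw [← Subgroup.map_top_of_surjective π hπ, ← map_pGen]
        exact Subgroup.mem_map_of_mem π haK)) (π m) (Subgroup.mem_map_of_mem π hm)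
      rw [hπdef] at h1
      rw [← h1]; group
    have hca : c * a = a * c := Subgroup.mem_centralizer_iff.mp (hC haK) c hcN
    have hiter : ∀ i : ℕ, a ^ i * m * (a ^ i)⁻¹ = c ^ i * m := by
      intro i
      induction i with
      | zero => simp
      | succ i ih =>
        calc a ^ (i + 1) * m * (a ^ (i + 1))⁻¹ = a * (a ^ i * m * (a ^ i)⁻¹) * a⁻¹ := by
              rw [pow_succ']; group
          _ = a * c ^ i * a⁻¹ * (a * m * a⁻¹) := by rw [ih]; group
          _ = c ^ i * (c * m) := by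
              rw [← ((show Commute c a from hca).pow_left i).eq, mul_inv_cancel_right, hc]; group
          _ = c ^ (i + 1) * m := by rw [pow_succ]; group
    have h2 := hiter (2 ^ k)
    rw [← hk, pow_orderOf_eq_one, one_mul, inv_one, mul_one, right_eq_mul] at h2
    have hc1 : c = 1 := orderOf_eq_one_iff.mp (Nat.eq_one_of_dvd_coprimes
      ((Nat.coprime_two_right.mpr hodd).pow_right k) (Subgroup.orderOf_dvd_natCard N hcN)
      (hk ▸ orderOf_dvd_of_pow_eq_one h2))
    rw [hc, mul_inv_eq_one] at hc1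
    exact (mul_inv_eq_iff_eq_mul.mp hc1).symm
  exfalso
  obtain ⟨f, s, k, hf1, hsk, hs⟩ := exists_inverted hab hC
  obtain ⟨χ, hχreal, hχf⟩ := RealOverInverted.exists_real_over f hodd hsk hs
  -- a linear constituent on `P` is trivial on `N`
  have hχP : Cfsg.IsCharacter ↥(P : Subgroup G) (fun x : ↥(P : Subgroup G) => (χ : G → ℂ) x) :=
    IsCharacter.restrict (isCharacter_irr χ) _
  obtain ⟨φ, μ, hμ, hφ⟩ := DerivedSylow.exists_linear_constituent P.2 hχP (by
    have := hreal χ hχreal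
    simpa [Cfsg.charDegree] using this)
  let j : N →* (P : Subgroup G) := Subgroup.inclusion hNP
  have htriv : μ.comp j = 1 := by
    refine MonoidHom.ext fun m => ?_
    have hmem : (m : G) ∈ (commutator (P : Subgroup G)).map (P : Subgroup G).subtype := by
      rw [Subgroup.map_subtype_commutator]
      exact hMP (hNM m.2)
    obtain ⟨y, hy, hy'⟩ := hmem
    show μ (j m) = 1
    rw [show j m = y from Subtype.ext hy'.symm]
    exact Abelianization.commutator_subset_ker μ hy
  have hone : Cfsg.classInner (fun m : N => (χ : G → ℂ) m) (fun _ => (1 : ℂ)) ≠ 0 :=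
    CharDeep.Clifford.classInner_ne_zero_trans hχP φ.2 hφ j
      (IsIrrCharacter.isCharacter (isIrrCharacter_one (G := N))) (by
        rw [hμ, show ((fun x => (μ x : ℂ)) ∘ j) = fun _ => (1 : ℂ) from funext fun m =>
          congrArg Units.val (DFunLike.congr_fun htriv m), classInner_irr_self isIrrCharacter_one]
        exact one_ne_zero)
  obtain ⟨g, hg⟩ := CharDeep.Clifford.exists_conj_of_constituent N χ.2 isIrrCharacter_one
    (isIrrCharacter_hom f) hone hχf
  exact hf1 (MonoidHom.ext fun m => Units.ext (congrFun hg m))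

end CfsgLib.DegreeTools.RealDegrees
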