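import Cfsg.Agent.Lib.DegreeTools.DerivedSylow
import Cfsg.Agent.Lib.Char.CliffordCorr
import Cfsg.Agent.Lib.Char.Induced
import Cfsg.Agent.Lib.Char.Perm
import Cfsg.Agent.Lib.CharDeep.CentralExt

/-!
# Real irreducible characters over inverted linear characters of a normal abelian subgroup
-/

set_option linter.style.haveILetI false

namespace CfsgLib.DegreeTools.RealOverInverted

open CfsgLib CfsgLib.Char
open scoped ComplexConjugate

variable {G : Type*} [Group G] [Finite G] {N : Subgroup G} [hN : N.Normal]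

theorem conj_hom {A : Type*} [Group A] [Finite A] (f : A →* ℂˣ) (a : A) :
    conj (f a : ℂ) = ((f a)⁻¹ : ℂˣ) := by
  have h1 : ‖(f a : ℂ)‖ = 1 := by
    refine Complex.norm_eq_one_of_pow_eq_one (n := Nat.card A) ?_ Nat.card_pos.ne'
    rw [← Units.val_pow_eq_pow_val, ← map_pow, pow_card_eq_one', map_one, Units.val_one]
  rw [Units.val_inv_eq_inv_val, Complex.inv_eq_conj h1]

/-- An element of two-power order normalising a subgroup fixes one of its Sylow 2-subgroups. -/
theorem exists_fixed_sylow {T : Type*} [Group T] [Finite T] (e : MulAut T) {k : ℕ}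
    (he : e ^ 2 ^ k = 1) : ∃ W : Sylow 2 T, ∀ w ∈ (W : Subgroup T), e w ∈ (W : Subgroup T) := by
  have hp : IsPGroup 2 (Subgroup.zpowers e) := by
    obtain ⟨i, -, hi⟩ := (Nat.dvd_prime_pow Nat.prime_two).1 (orderOf_dvd_of_pow_eq_one he)
    exact IsPGroup.of_card (n := i) (by rw [Nat.card_zpowers, hi])
  obtain ⟨W, hW⟩ := hp.nonempty_fixed_point_of_prime_not_dvd_card (Sylow 2 T)
    (not_dvd_card_sylow 2 T)
  refine ⟨W, fun w hw => ?_⟩
  have h1 : e • W = W := hW ⟨e, Subgroup.mem_zpowers e⟩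
  have h2 : e • w ∈ ((e • W : Sylow 2 T) : Subgroup T) := by
    rw [Sylow.pointwise_smul_def]
    exact Subgroup.smul_mem_pointwise_smul w e _ hw
  rwa [h1] at h2

/-- A linear character of odd order lying in an abelian normal subgroup and inverted by a
2-element has a real irreducible character over it. -/
theorem exists_real_over [Fintype N] (f : N →* ℂˣ) (hodd : Odd (Nat.card N)) {s : G} {k : ℕ}
    (hk : s ^ 2 ^ k = 1) (hs : ∀ n : N, f (MulAut.conjNormal s n) = (f n)⁻¹) :
    ∃ χ : Cfsg.IrrCharacter G, (∀ g, ((χ : G → ℂ) g).im = 0) ∧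
      Cfsg.classInner (fun n : N => (χ : G → ℂ) n) (fun n => (f n : ℂ)) ≠ 0 := by
  classical
  cases nonempty_fintype G
  set θ : N → ℂ := fun n => (f n : ℂ) with hθdef
  have hθ : Cfsg.IsIrrCharacter N θ := isIrrCharacter_hom f
  set T : Subgroup G := stab θ with hTdef
  have hT : IsInertia θ T := isInertia_stab _
  have hNT : N ≤ T := le_stab (IsIrrCharacter.isClassFunction hθ)
  have hsθ : ∀ (n : N) (h : s * n * s⁻¹ ∈ N), θ ⟨s * n * s⁻¹, h⟩ = conj (θ n) := by
    intro n h
    rw [hθdef, conj_hom, ← hs n]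
    rfl
  have hssT : s * s ∈ T := (hT _).mpr fun n => by
    have h1 := hsθ ⟨s * n * s⁻¹, hN.conj_mem _ n.2 s⟩ (hN.conj_mem _ (hN.conj_mem _ n.2 s) s)
    rw [hsθ n, Complex.conj_conj] at h1
    rw [← h1]
    exact congrArg θ (Subtype.ext (by simp [mul_assoc]))
  have hsT : ∀ t ∈ T, s * t * s⁻¹ ∈ T := by
    intro t ht
    refine (hT _).mpr fun n => ?_
    obtain ⟨m, rfl⟩ : ∃ m : N, n = ⟨s * m * s⁻¹, hN.conj_mem _ m.2 s⟩ :=
      ⟨⟨s⁻¹ * n * s, by simpa using hN.conj_mem _ n.2 s⁻¹⟩, Subtype.ext (by group)⟩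
    have h1 := hsθ ⟨t * m * t⁻¹, hN.conj_mem _ m.2 t⟩ (hN.conj_mem _ (hN.conj_mem _ m.2 t) s)
    rw [(hT t).mp ht m, ← hsθ m (hN.conj_mem _ m.2 s)] at h1
    rw [← h1]
    exact congrArg θ (Subtype.ext (by simp [mul_assoc]))
  -- conjugation by `s` on `T`
  have hTeq : T.map (MulAut.conj s).toMonoidHom = T := by
    refine Subgroup.eq_of_le_of_card_ge ?_ ?_
    · rintro _ ⟨t, ht, rfl⟩; exact hsT t ht
    · rw [Subgroup.card_map_of_injective (MulAut.conj s).injective]
  let e : MulAut T := ((MulAut.conj s).subgroupMap T).trans (MulEquiv.subgroupCongr hTeq)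
  have hev : ∀ t : T, ((e t : T) : G) = s * t * s⁻¹ := fun t => rfl
  have hepow : e ^ 2 ^ k = 1 := by
    have : ∀ (j : ℕ) (t : T), (((e ^ j) t : T) : G) = s ^ j * t * (s ^ j)⁻¹ := by
      intro j
      induction j with
      | zero => intro t; simp
      | succ j ih => intro t; rw [pow_succ', MulAut.mul_apply, hev, ih, pow_succ']; group
    refine MulEquiv.ext fun t => Subtype.ext ?_
    rw [this, hk]; simp
  obtain ⟨W, hW⟩ := exists_fixed_sylow e hepow
  let N' : Subgroup T := N.subgroupOf T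
  haveI : N'.Normal := hN.subgroupOf T
  let R : Subgroup T := N' ⊔ (W : Subgroup T)
  have heR : ∀ r ∈ R, e r ∈ R := by
    have h1 : R.map e.toMonoidHom ≤ R := by
      rw [Subgroup.map_sup]
      refine sup_le_sup ?_ ?_
      · rintro _ ⟨n, hn, rfl⟩
        show ((e n : T) : G) ∈ N
        rw [hev]
        exact hN.conj_mem _ hn s
      · rintro _ ⟨w, hw, rfl⟩
        exact hW w hw
    exact fun r hr => h1 (Subgroup.mem_map_of_mem _ hr)
  have heR' : ∀ r : T, e r ∈ R ↔ r ∈ R := by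
    have h1 : R.map e.toMonoidHom = R := by
      refine Subgroup.eq_of_le_of_card_ge (fun x hx => ?_) ?_
      · obtain ⟨r, hr, rfl⟩ := hx; exact heR r hr
      · rw [Subgroup.card_map_of_injective e.injective]
    intro r
    refine ⟨fun hr => ?_, heR r⟩
    rw [← h1] at hr
    obtain ⟨r', hr', he⟩ := hr
    exact e.injective he ▸ hr'
  -- the extension to `R`, trivial on `W`
  have hN'R : N' ≤ R := le_sup_left
  let N'' : Subgroup R := N'.subgroupOf R
  haveI : N''.Normal := (inferInstance : N'.Normal).subgroupOf R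
  let ι : N'' →* N :=
    { toFun := fun x => ⟨(((x : R) : T) : G), x.2⟩
      map_one' := rfl
      map_mul' := fun _ _ => rfl }
  let f₀ : N'' →* f.range := f.rangeRestrict.comp ι
  have hinv : ∀ (g : R) (n : N''),
      f₀ ⟨g * n * g⁻¹, (inferInstance : N''.Normal).conj_mem n n.2 g⟩ = f₀ n := fun g n =>
    Subtype.ext (Units.ext ((hT _).mp (g : T).2 (ι n)))
  have hrange : Nat.card f.range ∣ Nat.card N := Subgroup.card_range_dvd f
  have hRidx : N''.index ∣ Nat.card (W : Subgroup T) := by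
    show N'.relIndex R ∣ _
    rw [show R = N' ⊔ (W : Subgroup T) from rfl, Subgroup.relIndex_sup_left]
    exact Subgroup.relIndex_dvd_card _ _
  obtain ⟨F, hF⟩ := CharDeep.CentralExt.exists_extension_of_pow_eq_one f₀ hinv
    (Nat.card f.range) (fun n => pow_card_eq_one') fun q hq hqd =>
      ⟨N'', le_rfl, fun hd => by
        obtain ⟨j, hj⟩ := W.2.exists_card_eq
        have h2 : q ∣ 2 ^ j := hj ▸ hd.trans hRidx
        have hq2 := (Nat.prime_dvd_prime_iff_eq hq Nat.prime_two).mp (hq.dvd_of_dvd_pow h2)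
        obtain ⟨c, hc⟩ := hodd
        have : 2 ∣ Nat.card N := hq2 ▸ hqd.trans hrange
        omega, f₀, fun n hn => rfl⟩
  let μ : R →* ℂˣ := f.range.subtype.comp F
  have hμN : ∀ (n : N) (h : (⟨n, hNT n.2⟩ : T) ∈ R), μ ⟨⟨n, hNT n.2⟩, h⟩ = f n := fun n h =>
    congrArg Subtype.val (hF ⟨⟨⟨n, hNT n.2⟩, h⟩, n.2⟩)
  have hμW : ∀ (w : T) (hw : w ∈ (W : Subgroup T)),
      μ ⟨w, le_sup_right (a := N') hw⟩ = 1 := by
    intro w hw
    obtain ⟨j, hj⟩ := IsPGroup.iff_orderOf.1 W.2 ⟨w, hw⟩
    rw [Subgroup.orderOf_mk] at hj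
    have h1 : orderOf (F ⟨w, le_sup_right (a := N') hw⟩) ∣ 2 ^ j :=
      (orderOf_map_dvd F _).trans (by rw [Subgroup.orderOf_mk, hj])
    have h3 : (Nat.card N).Coprime (2 ^ j) :=
      ((Nat.coprime_two_right).mpr hodd).pow_right j
    have h2 := Nat.eq_one_of_dvd_coprimes h3 ((orderOf_dvd_natCard _).trans hrange) h1
    rw [orderOf_eq_one_iff] at h2
    simp [μ, h2]
  have hμe : ∀ (r : R) (h : e r ∈ R), (μ ⟨e r, h⟩ : ℂ) = conj (μ r : ℂ) := by
    let ψ : R →* R := (e.toMonoidHom.comp R.subtype).codRestrict R fun r => heR _ r.2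
    have hall : (μ.comp ψ).eqLocus μ⁻¹ = ⊤ := by
      rw [eq_top_iff]
      rintro ⟨r, hr⟩ -
      have hle : R ≤ ((μ.comp ψ).eqLocus μ⁻¹).map R.subtype := by
        refine sup_le (fun x hx => ?_) fun x hx => ?_
        · refine ⟨⟨x, le_sup_left (b := (W : Subgroup T)) hx⟩, ?_, rfl⟩
          show μ (ψ _) = (μ _)⁻¹
          have hn : (x : G) ∈ N := hx
          have e1 := hs ⟨(x : G), hn⟩
          have e2 := hμN (MulAut.conjNormal s ⟨(x : G), hn⟩)
            (le_sup_left (b := (W : Subgroup T))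
              (MulAut.conjNormal s ⟨(x : G), hn⟩ : N).2)
          have e3 := hμN ⟨(x : G), hn⟩ (le_sup_left (b := (W : Subgroup T)) hx)
          rw [show μ ⟨x, le_sup_left (b := (W : Subgroup T)) hx⟩ = f ⟨(x : G), hn⟩ from e3, ← e1,
            ← e2]
          exact congrArg μ (Subtype.ext (Subtype.ext (by
            rw [MulAut.conjNormal_apply]; rfl)))
        · refine ⟨⟨x, le_sup_right (a := N') hx⟩, ?_, rfl⟩
          show μ (ψ _) = (μ _)⁻¹
          rw [hμW x hx, inv_one]
          exact hμW _ (hW x hx)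
      obtain ⟨y, hy, he⟩ := hle hr
      exact (Subtype.ext he : y = ⟨r, hr⟩) ▸ hy
    intro r h
    have : r ∈ (μ.comp ψ).eqLocus μ⁻¹ := hall ▸ Subgroup.mem_top r
    rw [conj_hom]
    exact congrArg Units.val this
  -- the involution on characters of `T`
  let tw : (T → ℂ) → T → ℂ := fun φ t => conj (φ (e t))
  have htwirr : ∀ φ : Cfsg.IrrCharacter T, Cfsg.IsIrrCharacter T (tw φ) := fun φ =>
    IsIrrCharacter.conj' (IsIrrCharacter.comp_equiv φ.2 e)
  let τ : Cfsg.IrrCharacter T → Cfsg.IrrCharacter T := fun φ => ⟨tw φ, htwirr φ⟩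
  have hττ : ∀ φ, τ (τ φ) = φ := fun φ => Subtype.ext (funext fun t => by
    show conj (conj ((φ : T → ℂ) (e (e t)))) = _
    rw [Complex.conj_conj, show e (e t) = (⟨s * s, hssT⟩ : T) * t * (⟨s * s, hssT⟩ : T)⁻¹ from
      Subtype.ext (by rw [hev, hev]; push_cast; group)]
    exact IsIrrCharacter.isClassFunction φ.2 t _)
  have hμc : Cfsg.IsCharacter R (fun r => (μ r : ℂ)) := isCharacter_hom μ
  set I : T → ℂ := Cfsg.indFun R (fun r => (μ r : ℂ)) with hIdef
  have hI : Cfsg.IsCharacter T I := IsCharacter.indFun R hμc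
  have hIe : ∀ t, conj (I (e t)) = I t := by
    intro t
    rw [hIdef, indFun_def, indFun_def, map_mul, map_sum, map_inv₀, Complex.conj_natCast]
    congr 1
    refine (Fintype.sum_equiv e.toEquiv _ _ fun x => ?_).symm
    show _ = conj (Cfsg.extendByZero R (fun r => (μ r : ℂ)) ((e x)⁻¹ * e t * e x))
    rw [← map_inv, ← map_mul, ← map_mul]
    by_cases hm : x⁻¹ * t * x ∈ R
    · rw [extendByZero_apply_mem R _ hm, extendByZero_apply_mem R _ (heR _ hm),
        hμe ⟨_, hm⟩, Complex.conj_conj]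
    · rw [extendByZero_apply_notMem R _ hm,
        extendByZero_apply_notMem R _ (fun h => hm ((heR' _).mp h)), map_zero]
  obtain ⟨m, hm, hexp⟩ := IsCharacter.exists_multiplicity hI
  have hmτ : ∀ φ, m (τ φ) = m φ := by
    intro φ
    have h1 : Cfsg.classInner I (τ φ : T → ℂ) = conj (Cfsg.classInner I (φ : T → ℂ)) := by
      simp only [Cfsg.classInner, map_mul, map_sum, map_inv₀, Complex.conj_natCast,
        Complex.conj_conj]
      congr 1
      refine Fintype.sum_equiv e.toEquiv _ _ fun t => ?_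
      show I t * conj (conj ((φ : T → ℂ) (e t))) = conj (I (e t)) * (φ : T → ℂ) (e t)
      rw [hIe, Complex.conj_conj]
    rw [hm, hm, Complex.conj_natCast] at h1
    exact_mod_cast h1
  have hoddidx : Odd R.index := by
    rw [Nat.odd_iff, ← Nat.two_dvd_ne_zero]
    exact fun h2 => W.not_dvd_index (h2.trans (Subgroup.index_dvd_of_le le_sup_right))
  have hsum : ∑ φ : Cfsg.IrrCharacter T, m φ * Cfsg.charDegree (φ : T → ℂ) = R.index := by
    have : ((∑ φ : Cfsg.IrrCharacter T, m φ * Cfsg.charDegree (φ : T → ℂ) : ℕ) : ℂ) =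
        (R.index : ℂ) := by
      push_cast
      rw [show (R.index : ℂ) = I 1 by rw [hIdef, indFun_one]; simp, hexp 1]
      exact Finset.sum_congr rfl fun φ _ => by rw [deg_cast]
    exact_mod_cast this
  obtain ⟨η, hηm, hητ⟩ : ∃ η : Cfsg.IrrCharacter T, m η ≠ 0 ∧ τ η = η := by
    by_contra hc
    push Not at hc
    have h0 : ∑ φ : Cfsg.IrrCharacter T,
        ((m φ * Cfsg.charDegree (φ : T → ℂ) : ℕ) : ZMod 2) = 0 := by
      refine Finset.sum_involution (fun φ _ => τ φ) (fun φ _ => ?_) (fun φ _ hne => ?_)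
        (fun φ _ => Finset.mem_univ _) fun φ _ => hττ φ
      · have hd : Cfsg.charDegree (τ φ : T → ℂ) = Cfsg.charDegree (φ : T → ℂ) := by
          show Cfsg.charDegree (tw φ) = _
          simp [Cfsg.charDegree, tw, map_one]
        rw [hmτ, hd, CharTwo.add_self_eq_zero]
      · exact hc φ fun h => hne (by simp [h])
    rw [← Nat.cast_sum, hsum, ZMod.natCast_eq_zero_iff_even] at h0
    exact (Nat.not_even_iff_odd.mpr hoddidx) h0
  have hηR : Cfsg.classInner (fun r : R => (η : T → ℂ) r) (fun r => (μ r : ℂ)) ≠ 0 := by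
    rw [IsCharacter.classInner_comm (IsCharacter.restrict (isCharacter_irr η) R) hμc,
      ← classInner_indFun R _ (IsIrrCharacter.isClassFunction η.2), ← hIdef, hm]
    exact_mod_cast hηm
  let j : N →* R :=
    { toFun := fun n => ⟨⟨n, hNT n.2⟩, le_sup_left (b := (W : Subgroup T)) n.2⟩
      map_one' := rfl
      map_mul' := fun _ _ => rfl }
  have hηN : Cfsg.classInner (resLe hNT (η : T → ℂ)) θ ≠ 0 :=
    CharDeep.Clifford.classInner_ne_zero_trans (IsCharacter.restrict (isCharacter_irr η) R)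
      (isIrrCharacter_hom μ) hηR j (IsIrrCharacter.isCharacter hθ) (by
        rw [show ((fun r : R => (μ r : ℂ)) ∘ j) = θ from funext fun n =>
          congrArg Units.val (hμN n _), classInner_irr_self hθ]
        exact one_ne_zero)
  obtain ⟨hirr, hmul⟩ := indFun_inertia hNT hθ hT η.2 hηN
  refine ⟨⟨_, hirr⟩, fun g => ?_, ?_⟩
  · rw [← Complex.conj_eq_iff_im]
    show conj (Cfsg.indFun T (η : T → ℂ) g) = Cfsg.indFun T (η : T → ℂ) g
    rw [indFun_def, map_mul, map_sum, map_inv₀, Complex.conj_natCast]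
    congr 1
    refine Fintype.sum_equiv (Equiv.mulRight s) _ _ fun x => ?_
    show _ = Cfsg.extendByZero T (η : T → ℂ) ((x * s)⁻¹ * g * (x * s))
    by_cases hx : x⁻¹ * g * x ∈ T
    · set z := e.symm ⟨_, hx⟩ with hz
      have hze : s * (z : G) * s⁻¹ = x⁻¹ * g * x := by rw [← hev, hz, MulEquiv.apply_symm_apply]
      have hzx : (x * s)⁻¹ * g * (x * s) = z := by
        rw [show (x * s)⁻¹ * g * (x * s) = s⁻¹ * (x⁻¹ * g * x) * s by group, ← hze]; group
      rw [hzx, extendByZero_apply_mem T _ hx, extendByZero_coe]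
      have h1 := congrFun (congrArg Subtype.val hητ) z
      rw [← h1]
      show _ = conj ((η : T → ℂ) (e z))
      rw [hz, MulEquiv.apply_symm_apply]
    · rw [extendByZero_apply_notMem T _ hx, map_zero, extendByZero_apply_notMem]
      intro h
      have := hsT _ h
      rw [show s * ((x * s)⁻¹ * g * (x * s)) * s⁻¹ = x⁻¹ * g * x by group] at this
      exact hx this
  · rw [hmul]
    exact hηN

/-- With a complement, a sign character of an abelian normal subgroup has a real character over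
it. -/
theorem exists_real_over_complement [Fintype N] (f : N →* ℂˣ) (hsq : ∀ n : N, f n ^ 2 = 1) (H : Subgroup G)
    (hinf : N ⊓ H = ⊥) (hsup : ∀ g : G, ∃ n ∈ N, n⁻¹ * g ∈ H) :
    ∃ χ : Cfsg.IrrCharacter G, (∀ g, ((χ : G → ℂ) g).im = 0) ∧
      Cfsg.classInner (fun n : N => (χ : G → ℂ) n) (fun n => (f n : ℂ)) ≠ 0 := by
  classical
  cases nonempty_fintype G
  set θ : N → ℂ := fun n => (f n : ℂ) with hθdef
  have hθ : Cfsg.IsIrrCharacter N θ := isIrrCharacter_hom f
  set T : Subgroup G := stab θ with hTdef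
  have hT : IsInertia θ T := isInertia_stab _
  have hNT : N ≤ T := le_stab (IsIrrCharacter.isClassFunction hθ)
  choose π hπN hπH using hsup
  have huniq : ∀ g a : G, a ∈ N → a⁻¹ * g ∈ H → π g = a := by
    intro g a ha hb
    have : a⁻¹ * π g ∈ N ⊓ H := ⟨N.mul_mem (N.inv_mem ha) (hπN g), by
      have := H.mul_mem hb (H.inv_mem (hπH g))
      simpa [mul_assoc] using this⟩
    rw [hinf, Subgroup.mem_bot, inv_mul_eq_one] at this
    exact this.symm
  let F : T →* ℂˣ :=
    { toFun := fun t => f ⟨π t, hπN t⟩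
      map_one' := by
        rw [show (⟨π (1 : T), hπN _⟩ : N) = 1 from Subtype.ext
          (huniq _ 1 N.one_mem (by simp [H.one_mem])), map_one]
      map_mul' := fun a b => by
        set n := π (a : G)
        set m := π (b : G)
        set h := n⁻¹ * (a : G) with hh
        have hab : π ((a : G) * b) = n * (h * m * h⁻¹) := by
          refine huniq _ _ (N.mul_mem (hπN _) (hN.conj_mem _ (hπN _) h)) ?_
          rw [show (n * (h * m * h⁻¹))⁻¹ * ((a : G) * b) = h * (m⁻¹ * (b : G)) by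
            rw [hh]; group]
          exact H.mul_mem (hπH _) (hπH _)
        have hhT : h ∈ T := T.mul_mem (T.inv_mem (hNT (hπN _))) a.2
        rw [show (⟨π ((a * b : T) : G), hπN _⟩ : N) =
          ⟨n, hπN _⟩ * ⟨h * m * h⁻¹, hN.conj_mem _ (hπN _) h⟩ from Subtype.ext hab, map_mul]
        congr 1
        exact Units.ext ((hT h).mp hhT ⟨m, hπN _⟩) }
  have hres : resLe hNT (fun t => (F t : ℂ)) = θ := funext fun n => by
    show (f ⟨π (n : G), _⟩ : ℂ) = _
    rw [show (⟨π (n : G), hπN _⟩ : N) = n from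
      Subtype.ext (huniq _ n n.2 (by simp [H.one_mem]))]
  have hc : Cfsg.classInner (resLe hNT (fun t => (F t : ℂ))) θ ≠ 0 := by
    rw [hres, classInner_irr_self hθ]; exact one_ne_zero
  obtain ⟨hirr, hmul⟩ := indFun_inertia hNT hθ hT (isIrrCharacter_hom F) hc
  refine ⟨⟨_, hirr⟩, fun g => ?_, by rw [hmul]; exact hc⟩
  rw [← Complex.conj_eq_iff_im]
  show conj (Cfsg.indFun T _ g) = _
  rw [← congrFun (indFun_conj T _) g,
    show (fun t : T => conj (F t : ℂ)) = fun t => (F t : ℂ) from funext fun t => ?_]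
  rw [conj_hom, inv_eq_of_mul_eq_one_right]
  rw [← sq]
  exact hsq _

end CfsgLib.DegreeTools.RealOverInverted
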