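import Cfsg.Agent.Lib.KnownB.GL2.TableSLApps
import Cfsg.Agent.Lib.KnownB.GL2.TableSLTorus
import Cfsg.Agent.Lib.Char.Quotient
import Cfsg.Agent.Lib.DegreeTools.Basic
import Mathlib.LinearAlgebra.Matrix.ProjectiveSpecialLinearGroup
import Cfsg.Prelude.Def_DegreeGraph

/-!
# Degree sets of `SL₂` and `PSL₂`
-/

set_option autoImplicit false

namespace CfsgLib.DegreeTools.SL2Degrees

open CfsgLib CfsgLib.Char CfsgLib.KnownB.GL2
open scoped MatrixGroups

variable {F : Type*} [Field F] [Fintype F]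

local notation "Mat" => Matrix (Fin 2) (Fin 2) F
local notation "qN" => Fintype.card F
local notation "PSL" => Matrix.ProjectiveSpecialLinearGroup (Fin 2) F

/-- The square of a character of maximal order. -/
theorem exists_hom_sq {C : Type*} [CommGroup C] [Finite C] [IsCyclic C]
    (h : ¬ Nat.card C ∣ 4) :
    ∃ θ : C →* ℂˣ, θ ^ 2 ≠ 1 ∧ ∀ c : C, c ^ 2 = 1 → θ c = 1 := by
  obtain ⟨e⟩ := CommGroup.monoidHom_mulEquiv_of_hasEnoughRootsOfUnity C ℂ
  obtain ⟨g, hg⟩ := IsCyclic.exists_generator (α := C)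
  refine ⟨e.symm g ^ 2, fun h' => h ?_, fun c hc => ?_⟩
  · rw [← pow_mul] at h'
    have h'' : g ^ 4 = 1 := by
      have := congrArg e h'
      rwa [map_pow, MulEquiv.apply_symm_apply, map_one] at this
    rw [← orderOf_eq_card_of_forall_mem_zpowers hg]
    exact orderOf_dvd_of_pow_eq_one h''
  · rw [MonoidHom.pow_apply, ← map_pow, hc, map_one]

variable [DecidableEq F]

/-- The central elements of `SL₂` are the signs. -/
theorem center_eq_scalSL {z : SL(2, F)} (hz : z ∈ Subgroup.center SL(2, F)) :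
    ∃ r : Sg F, z = scalSL r.1 (sg_sq r) := by
  have h := scal_eq (scal_of_center hz)
  have hd : ((z : Mat) 0 0) ^ 2 = 1 := by
    have h1 := sl_det z
    rw [h, Matrix.det_smul, Matrix.det_one, mul_one, Fintype.card_fin] at h1
    exact h1
  exact ⟨⟨_, mem_signs.2 hd⟩, Subtype.ext h⟩

/-- The irreducible character of `PSL₂` below one of `SL₂` that is trivial on the centre. -/
theorem exists_psl (χ : Cfsg.IrrCharacter SL(2, F))
    (h : ∀ r : Sg F, (χ : SL(2, F) → ℂ) (scalSL r.1 (sg_sq r)) = (χ : SL(2, F) → ℂ) 1) :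
    ∃ ψ : Cfsg.IrrCharacter PSL,
      Cfsg.charDegree (ψ : PSL → ℂ) = Cfsg.charDegree (χ : SL(2, F) → ℂ) := by
  obtain ⟨ψ, hψ, he⟩ := IsIrrCharacter.exists_deflate χ.2 (Subgroup.center SL(2, F))
    fun z hz => by
      obtain ⟨r, rfl⟩ := center_eq_scalSL hz
      exact h r
  refine ⟨⟨ψ, hψ⟩, ?_⟩
  rw [he]
  simp only [Cfsg.charDegree, Function.comp_apply, map_one]

omit [DecidableEq F] in
/-- Inflation to `SL₂`. -/
theorem exists_sl (ψ : Cfsg.IrrCharacter PSL) :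
    ∃ χ : Cfsg.IrrCharacter SL(2, F),
      Cfsg.charDegree (χ : SL(2, F) → ℂ) = Cfsg.charDegree (ψ : PSL → ℂ) ∧
      ∀ g, (χ : SL(2, F) → ℂ) g =
        (ψ : PSL → ℂ) (QuotientGroup.mk' (Subgroup.center SL(2, F)) g) := by
  refine ⟨⟨_, IsIrrCharacter.comp_surjective ψ.2 (QuotientGroup.mk' (Subgroup.center SL(2, F)))
    (QuotientGroup.mk'_surjective _)⟩, ?_, fun g => rfl⟩
  simp only [Cfsg.charDegree, Function.comp_apply, map_one]

omit [DecidableEq F] in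
theorem deg_eq_of_apply_one {G : Type*} [Group G] (χ : Cfsg.IrrCharacter G) {n : ℕ}
    (h : (χ : G → ℂ) 1 = n) : Cfsg.charDegree (χ : G → ℂ) = n :=
  Nat.cast_injective (R := ℂ) ((deg_cast χ).trans h)

/-- The Steinberg character, as a character of `PSL₂`. -/
theorem exists_deg_q : ∃ ψ : Cfsg.IrrCharacter PSL, Cfsg.charDegree (ψ : PSL → ℂ) = qN := by
  obtain ⟨ψ, hψ⟩ := exists_psl (⟨stS F, isIrr_stS⟩ : Cfsg.IrrCharacter SL(2, F)) fun r => by
    show stS F _ = stS F 1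
    rw [stS_apply_one, stS, Pi.sub_apply, indS_sg, MulChar.one_apply (sg_ne r).isUnit]
    ring
  exact ⟨ψ, hψ.trans (deg_eq_of_apply_one _ stS_apply_one)⟩

/-- A principal series character of `PSL₂`. -/
theorem exists_deg_succ (h : ¬ qN - 1 ∣ 4) :
    ∃ ψ : Cfsg.IrrCharacter PSL, Cfsg.charDegree (ψ : PSL → ℂ) = qN + 1 := by
  obtain ⟨θ, hθ, hθ1⟩ := exists_hom_sq (C := Fˣ) (by
    rwa [Nat.card_units, Nat.card_eq_fintype_card])
  set α : MulChar F ℂ := MulChar.ofUnitHom θ with hα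
  have hval : ∀ u : Fˣ, α (u : F) = (θ u : ℂ) := fun u => MulChar.ofUnitHom_coe θ u
  have hα2 : α ^ 2 ≠ 1 := by
    intro e
    refine hθ (MonoidHom.ext fun u => Units.ext ?_)
    have := congrArg (fun β : MulChar F ℂ => β (u : F)) e
    rw [MulChar.one_apply u.isUnit, MulChar.pow_apply' α two_ne_zero, hval] at this
    simpa using this
  obtain ⟨ψ, hψ⟩ := exists_psl (⟨indS α, (isIrr_indS_iff α).2 hα2⟩ : Cfsg.IrrCharacter SL(2, F))
    fun r => by
      show indS α _ = indS α 1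
      rw [indS_sg, indS_apply_one, show r.1 = ((sgU r : Fˣ) : F) from rfl, hval,
        hθ1 _ (Units.ext (by rw [Units.val_pow_eq_pow_val]; exact sg_sq r)), Units.val_one, mul_one]
  exact ⟨ψ, hψ.trans (deg_eq_of_apply_one _ (by
    show indS α 1 = _
    rw [indS_apply_one]; push_cast; rfl))⟩

/-- A cuspidal character of `PSL₂`. -/
theorem exists_deg_pred (h : ¬ qN + 1 ∣ 4) :
    ∃ ψ : Cfsg.IrrCharacter PSL, Cfsg.charDegree (ψ : PSL → ℂ) = qN - 1 := by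
  obtain ⟨t₀, d₀, -, h₀⟩ := exists_irreducible (F := F)
  haveI := isCyclic_torS h₀
  letI : CommGroup (torS h₀) := IsCyclic.commGroup
  obtain ⟨θ, hθ, hθ1⟩ := exists_hom_sq (C := torS h₀) (by rwa [card_torS])
  obtain ⟨ψ, hψ⟩ := exists_psl (⟨piS h₀ θ, isIrr_piS h₀ hθ⟩ : Cfsg.IrrCharacter SL(2, F))
    fun r => by
      show piS h₀ θ _ = piS h₀ θ 1
      have h2 : sgT h₀ r ^ 2 = 1 := by
        refine Subtype.ext (Subtype.ext ?_)
        show ((scalSL r.1 (sg_sq r) ^ 2 : SL(2, F)) : Mat) = 1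
        rw [Matrix.SpecialLinearGroup.coe_pow, coe_scalSL, smul_pow, one_pow, sg_sq r, one_smul]
      rw [piS_scal, piS_apply_one, hθ1 _ h2, Units.val_one, mul_one]
  exact ⟨ψ, hψ.trans (deg_eq_of_apply_one _ (by
    show piS h₀ θ 1 = _
    rw [piS_apply_one, Nat.cast_sub Fintype.card_pos, Nat.cast_one]))⟩

/-- The possible degrees of `SL₂` in odd characteristic. -/
theorem deg_cases_odd (hodd : Odd qN) (χ : Cfsg.IrrCharacter SL(2, F)) :
    Cfsg.charDegree (χ : SL(2, F) → ℂ) = 1 ∨ Cfsg.charDegree (χ : SL(2, F) → ℂ) = qN ∨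
      Cfsg.charDegree (χ : SL(2, F) → ℂ) ∣ qN + 1 ∨
      Cfsg.charDegree (χ : SL(2, F) → ℂ) ∣ qN - 1 := by
  obtain ⟨k, hk⟩ := hodd
  rcases (degrees_SL_odd ⟨k, hk⟩).1 _ χ.2 with h | h | h | h | h | h
  · exact Or.inl (deg_eq_of_apply_one χ (h.trans Nat.cast_one.symm))
  · exact Or.inr (Or.inl (deg_eq_of_apply_one χ h))
  · exact Or.inr (Or.inr (Or.inl (by
      rw [deg_eq_of_apply_one χ (n := qN + 1) (by rw [h]; push_cast; rfl)])))
  · exact Or.inr (Or.inr (Or.inr (by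
      rw [deg_eq_of_apply_one χ (n := qN - 1)
        (by rw [h, Nat.cast_sub Fintype.card_pos, Nat.cast_one])])))
  · exact Or.inr (Or.inr (Or.inl (by
      rw [deg_eq_of_apply_one χ h]
      exact ⟨2, by omega⟩)))
  · exact Or.inr (Or.inr (Or.inr (by
      rw [deg_eq_of_apply_one χ h]
      exact ⟨2, by omega⟩)))

/-- The possible degrees of `SL₂` in characteristic two. -/
theorem deg_cases_even (hev : Even qN) (χ : Cfsg.IrrCharacter SL(2, F)) :
    Cfsg.charDegree (χ : SL(2, F) → ℂ) = 1 ∨ Cfsg.charDegree (χ : SL(2, F) → ℂ) = qN ∨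
      Cfsg.charDegree (χ : SL(2, F) → ℂ) ∣ qN + 1 ∨
      Cfsg.charDegree (χ : SL(2, F) → ℂ) ∣ qN - 1 := by
  rcases (degrees_SL_even hev).1 _ χ.2 with h | h | h | h
  · exact Or.inl (deg_eq_of_apply_one χ (h.trans Nat.cast_one.symm))
  · exact Or.inr (Or.inr (Or.inr (by
      rw [deg_eq_of_apply_one χ (n := qN - 1)
        (by rw [h, Nat.cast_sub Fintype.card_pos, Nat.cast_one])])))
  · exact Or.inr (Or.inl (deg_eq_of_apply_one χ h))
  · exact Or.inr (Or.inr (Or.inl (by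
      rw [deg_eq_of_apply_one χ (n := qN + 1) (by rw [h]; push_cast; rfl)])))

theorem deg_cases (χ : Cfsg.IrrCharacter SL(2, F)) :
    Cfsg.charDegree (χ : SL(2, F) → ℂ) = 1 ∨ Cfsg.charDegree (χ : SL(2, F) → ℂ) = qN ∨
      Cfsg.charDegree (χ : SL(2, F) → ℂ) ∣ qN + 1 ∨
      Cfsg.charDegree (χ : SL(2, F) → ℂ) ∣ qN - 1 :=
  (Nat.even_or_odd qN).elim (fun h => deg_cases_even h χ) fun h => deg_cases_odd h χ

omit [Field F] [Fintype F] [DecidableEq F] in
theorem exists_deg_equiv {S T : Type*} [Group S] [Group T] (e : S ≃* T) (χ : Cfsg.IrrCharacter T) :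
    ∃ χ' : Cfsg.IrrCharacter S,
      Cfsg.charDegree (χ' : S → ℂ) = Cfsg.charDegree (χ : T → ℂ) :=
  ⟨⟨_, IsIrrCharacter.comp_equiv χ.2 e⟩, by simp [Cfsg.charDegree]⟩

omit [DecidableEq F] in
/-- The degrees of `PSL₂` occur in both groups. -/
theorem exists_deg_of_psl {S : Type*} [Group S]
    (hS : Nonempty (S ≃* PSL) ∨ Nonempty (S ≃* SL(2, F))) (ψ : Cfsg.IrrCharacter PSL) :
    Cfsg.charDegree (ψ : PSL → ℂ) ∈ Cfsg.charDegrees S := by
  rcases hS with ⟨⟨e⟩⟩ | ⟨⟨e⟩⟩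
  · obtain ⟨χ', h⟩ := exists_deg_equiv e ψ
    exact ⟨χ', h⟩
  · obtain ⟨χ, h, -⟩ := exists_sl ψ
    obtain ⟨χ', h'⟩ := exists_deg_equiv e χ
    exact ⟨χ', h'.trans h⟩

/-- The shape of every degree. -/
theorem mem_charDegrees {S : Type*} [Group S]
    (hS : Nonempty (S ≃* PSL) ∨ Nonempty (S ≃* SL(2, F))) {d : ℕ}
    (hd : d ∈ Cfsg.charDegrees S) : d = 1 ∨ d = qN ∨ d ∣ qN + 1 ∨ d ∣ qN - 1 := by
  obtain ⟨χ, rfl⟩ := hd
  rcases hS with ⟨⟨e⟩⟩ | ⟨⟨e⟩⟩
  · obtain ⟨ψ, h⟩ := exists_deg_equiv e.symm χ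
    obtain ⟨φ, h', -⟩ := exists_sl ψ
    rw [← h, ← h']
    exact deg_cases φ
  · obtain ⟨φ, h⟩ := exists_deg_equiv e.symm χ
    rw [← h]
    exact deg_cases φ

/-- The degree graph in terms of the degrees. -/
theorem graph {S : Type*} [Group S]
    (hS : Nonempty (S ≃* PSL) ∨ Nonempty (S ≃* SL(2, F))) {p n : ℕ} (hp : p.Prime)
    (hq : qN = p ^ n) (h1 : ¬ qN - 1 ∣ 4) (h2 : ¬ qN + 1 ∣ 4) :
    Cfsg.degreePrimes S = {r : ℕ | r.Prime ∧ r ∣ qN * (qN ^ 2 - 1)} ∧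
    ∀ r s : ℕ, (Cfsg.degreeGraph S).Adj r s ↔
      (r ≠ s ∧ r.Prime ∧ s.Prime ∧ ((r ∣ qN + 1 ∧ s ∣ qN + 1) ∨ (r ∣ qN - 1 ∧ s ∣ qN - 1))) := by
  obtain ⟨a, ha⟩ := exists_deg_q (F := F)
  obtain ⟨b, hb⟩ := exists_deg_succ h1
  obtain ⟨c, hc⟩ := exists_deg_pred h2
  have ma := exists_deg_of_psl hS a
  have mb := exists_deg_of_psl hS b
  have mc := exists_deg_of_psl hS c
  rw [ha] at ma
  rw [hb] at mb
  rw [hc] at mc
  have hprod : qN ^ 2 - 1 = (qN + 1) * (qN - 1) := by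
    simpa using Nat.sq_sub_sq qN 1
  refine ⟨?_, fun r s => ?_⟩
  · ext r
    simp only [Cfsg.degreePrimes, Set.mem_ofPred_eq, hprod]
    refine and_congr_right fun hr => ⟨?_, fun h => ?_⟩
    · rintro ⟨d, hd, hrd⟩
      rcases mem_charDegrees hS hd with rfl | rfl | h | h
      · exact absurd (Nat.dvd_one.mp hrd) hr.ne_one
      · exact hrd.trans (Dvd.intro _ rfl)
      · exact (hrd.trans h).trans (dvd_mul_of_dvd_right (dvd_mul_right _ _) _)
      · exact (hrd.trans h).trans (dvd_mul_of_dvd_right (dvd_mul_left _ _) _)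
    · rcases hr.dvd_mul.mp h with h | h
      · exact ⟨_, ma, h⟩
      · rcases hr.dvd_mul.mp h with h | h
        · exact ⟨_, mb, h⟩
        · exact ⟨_, mc, h⟩
  · show (r ≠ s ∧ r.Prime ∧ s.Prime ∧ _) ↔ _
    refine and_congr_right fun hrs => and_congr_right fun hr => and_congr_right fun hs =>
      ⟨?_, fun h => ?_⟩
    · rintro ⟨d, hd, hrd⟩
      have hr' : r ∣ d := (dvd_mul_right r s).trans hrd
      have hs' : s ∣ d := (dvd_mul_left s r).trans hrd
      rcases mem_charDegrees hS hd with rfl | rfl | h | h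
      · exact absurd (Nat.dvd_one.mp hr') hr.ne_one
      · rw [hq] at hr' hs'
        exact absurd (((Nat.prime_dvd_prime_iff_eq hr hp).mp (hr.dvd_of_dvd_pow hr')).trans
          ((Nat.prime_dvd_prime_iff_eq hs hp).mp (hs.dvd_of_dvd_pow hs')).symm) hrs
      · exact Or.inl ⟨hr'.trans h, hs'.trans h⟩
      · exact Or.inr ⟨hr'.trans h, hs'.trans h⟩
    · have hcop : Nat.Coprime r s := (Nat.coprime_primes hr hs).mpr hrs
      rcases h with h | h
      · exact ⟨_, mb, Nat.Coprime.mul_dvd_of_dvd_of_dvd hcop h.1 h.2⟩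
      · exact ⟨_, mc, Nat.Coprime.mul_dvd_of_dvd_of_dvd hcop h.1 h.2⟩

/-- Only the Steinberg character of `PSL₂` has degree divisible by the characteristic. -/
theorem unique_defining {p n : ℕ} (hp : p.Prime) (hn : n ≠ 0) (hq : qN = p ^ n) :
    Nat.card {χ : Cfsg.IrrCharacter PSL // p ∣ Cfsg.charDegree (χ : PSL → ℂ)} = 1 ∧
      ∀ χ : Cfsg.IrrCharacter PSL, p ∣ Cfsg.charDegree (χ : PSL → ℂ) →
        Cfsg.charDegree (χ : PSL → ℂ) = qN := by
  have hpq : p ∣ qN := hq ▸ dvd_pow_self p hn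
  have hdeg : ∀ χ : Cfsg.IrrCharacter PSL, p ∣ Cfsg.charDegree (χ : PSL → ℂ) →
      Cfsg.charDegree (χ : PSL → ℂ) = qN := by
    intro χ hχ
    obtain ⟨φ, h, -⟩ := exists_sl χ
    rw [← h] at hχ ⊢
    rcases deg_cases φ with e | e | e | e
    · rw [e] at hχ; exact absurd (Nat.dvd_one.mp hχ) hp.ne_one
    · exact e
    · exact absurd ((Nat.dvd_add_right hpq).mp (hχ.trans e)) hp.not_dvd_one
    · have h3 : p ∣ qN - (qN - 1) := Nat.dvd_sub hpq (hχ.trans e)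
      rw [Nat.sub_sub_self Fintype.card_pos] at h3
      exact absurd h3 hp.not_dvd_one
  refine ⟨?_, hdeg⟩
  obtain ⟨a, ha⟩ := exists_deg_q (F := F)
  refine Nat.card_eq_one_iff_exists.mpr ⟨⟨a, ha ▸ hpq⟩, fun b => Subtype.ext (Subtype.ext ?_)⟩
  obtain ⟨φa, h1, h1'⟩ := exists_sl a
  obtain ⟨φb, h2, h2'⟩ := exists_sl b.1
  have e1 : (φa : SL(2, F) → ℂ) = stS F :=
    eq_stS_of_degree φa.2 (by rw [← deg_cast, h1, ha])
  have e2 : (φb : SL(2, F) → ℂ) = stS F :=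
    eq_stS_of_degree φb.2 (by rw [← deg_cast, h2, hdeg _ b.2])
  funext x
  obtain ⟨g, rfl⟩ := QuotientGroup.mk'_surjective (Subgroup.center SL(2, F)) x
  rw [← h1', ← h2', e1, e2]

end CfsgLib.DegreeTools.SL2Degrees
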