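import Mathlib.LinearAlgebra.BilinearForm.Properties
import Mathlib.LinearAlgebra.Projection
import Mathlib.LinearAlgebra.Dual.Lemmas
import Mathlib.LinearAlgebra.FiniteDimensional.Basic
import Mathlib.LinearAlgebra.FiniteDimensional.Lemmas
import Mathlib.RepresentationTheory.Basic
import Mathlib.Algebra.CharP.Basic
import Mathlib.Tactic

/-!
# Coprime self-dual modules split into a symplectic and an orthogonal part
-/

set_option autoImplicit false

namespace CfsgLib.DegreeTools.SelfDualDecomp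

open Submodule

variable {F : Type*} [Field F] {p : ℕ} {G : Type*} [Group G] {V : Type*} [AddCommGroup V]
  [Module F V] (ρ : Representation F G V)

/-- `M` is stable. -/
def Inv (M : Submodule F V) : Prop := ∀ g, ∀ x ∈ M, ρ g x ∈ M

/-- `A` is preserved on `M` and nondegenerate on it. -/
def Perfect (A : LinearMap.BilinForm F V) (M : Submodule F V) : Prop :=
  (∀ g, ∀ x ∈ M, ∀ y ∈ M, A (ρ g x) (ρ g y) = A x y) ∧ ∀ x ∈ M, (∀ y ∈ M, A x y = 0) → x = 0

/-- A symplectic plus orthogonal decomposition of `M`. -/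
def Dec (p : ℕ) (M : Submodule F V) : Prop :=
  ∃ U W : Submodule F V, U ⊓ W = ⊥ ∧ U ⊔ W = M ∧ Inv ρ U ∧ Inv ρ W ∧
    (∃ A : LinearMap.BilinForm F V, (∀ x, A x x = 0) ∧ Perfect ρ A U) ∧
    (∃ S : LinearMap.BilinForm F V, (∀ x y, S x y = S y x) ∧ Perfect ρ S W) ∧
    (p = 2 → ∀ g, ∀ w ∈ W, ρ g w = w)

theorem exists_proj (X Y : Submodule F V) (h : X ⊓ Y = ⊥) :
    ∃ π : V →ₗ[F] V, (∀ x ∈ X, π x = x) ∧ ∀ y ∈ Y, π y = 0 := by
  obtain ⟨C, hC⟩ := Submodule.exists_isCompl (X ⊔ Y)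
  have hXC : IsCompl X (Y ⊔ C) := by
    constructor
    · rw [disjoint_iff_inf_le]
      rintro x ⟨hx, hx'⟩
      obtain ⟨y, hy, c, hc, rfl⟩ := mem_sup.1 hx'
      have hc0 : c ∈ (X ⊔ Y) ⊓ C := ⟨by
        have := (X ⊔ Y).sub_mem (mem_sup_left (T := Y) hx) (mem_sup_right (S := X) hy)
        rwa [add_sub_cancel_left] at this, hc⟩
      rw [hC.inf_eq_bot, mem_bot] at hc0
      rw [hc0, add_zero] at hx ⊢
      exact h.le ⟨hx, hy⟩
    · rw [codisjoint_iff, ← sup_assoc, hC.sup_eq_top]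
  refine ⟨X.projection (Y ⊔ C) hXC, fun x hx => ?_, fun y hy => ?_⟩
  · exact Submodule.projection_apply_left hXC ⟨x, hx⟩
  · exact (Submodule.projection_apply_eq_zero_iff hXC).2 (mem_sup_left hy)

variable [Finite G]

/-- Maschke: an invariant complement inside an invariant subspace. -/
theorem exists_compl (hG : (Nat.card G : F) ≠ 0) {M W : Submodule F V} (hM : Inv ρ M)
    (hW : Inv ρ W) (hWM : W ≤ M) :
    ∃ X : Submodule F V, X ≤ M ∧ Inv ρ X ∧ W ⊓ X = ⊥ ∧ W ⊔ X = M := by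
  classical
  cases nonempty_fintype G
  obtain ⟨C, hC⟩ := Submodule.exists_isCompl W
  set π₀ := W.projection C hC
  let π : V →ₗ[F] V := (Nat.card G : F)⁻¹ • ∑ g : G, ρ g ∘ₗ π₀ ∘ₗ ρ g⁻¹
  have hπ : ∀ x, π x = (Nat.card G : F)⁻¹ • ∑ g : G, ρ g (π₀ (ρ g⁻¹ x)) := fun x => by
    simp [π]
  have hπW : ∀ x, π x ∈ W := fun x => by
    rw [hπ]
    exact W.smul_mem _ (W.sum_mem fun g _ => hW g _ (Submodule.projection_apply_mem hC _))
  have hπid : ∀ w ∈ W, π w = w := fun w hw => by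
    rw [hπ, Finset.sum_congr rfl fun g _ => show ρ g (π₀ (ρ g⁻¹ w)) = w by
      rw [show π₀ (ρ g⁻¹ w) = ρ g⁻¹ w from
        Submodule.projection_apply_left hC ⟨_, hW g⁻¹ w hw⟩]
      exact ρ.self_inv_apply g w,
      Finset.sum_const, Finset.card_univ, ← Nat.cast_smul_eq_nsmul F, smul_smul,
      ← Nat.card_eq_fintype_card, inv_mul_cancel₀ hG, one_smul]
  have hπρ : ∀ h x, π (ρ h x) = ρ h (π x) := fun h x => by
    rw [hπ, hπ, map_smul, map_sum]
    congr 1
    refine Fintype.sum_equiv (Equiv.mulLeft h⁻¹) _ _ fun g => ?_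
    simp [← Module.End.mul_apply, ← map_mul, mul_assoc]
    rw [← mul_assoc (ρ h), ← map_mul, mul_inv_cancel_left]
  refine ⟨M ⊓ LinearMap.ker π, inf_le_left, fun g x hx => ⟨hM g x hx.1, ?_⟩, ?_, ?_⟩
  · show π (ρ g x) = 0
    rw [hπρ, show π x = 0 from hx.2, map_zero]
  · rw [Submodule.eq_bot_iff]
    rintro w ⟨hw, -, hw'⟩
    rw [← hπid w hw]
    exact hw'
  · refine le_antisymm (sup_le hWM inf_le_left) fun x hx => mem_sup.2 ⟨π x, hπW x, x - π x, ⟨?_, ?_⟩, by abel⟩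
    · exact M.sub_mem hx (hWM (hπW x))
    · show π (x - π x) = 0
      rw [map_sub, hπid _ (hπW x), sub_self]

omit [Finite G] in
theorem Dec.zero : Dec ρ p (⊥ : Submodule F V) := by
  refine ⟨⊥, ⊥, inf_bot_eq _, sup_bot_eq _, ?_, ?_, ⟨0, fun x => rfl, fun g x _ y _ => rfl, ?_⟩,
    ⟨0, fun x y => rfl, fun g x _ y _ => rfl, ?_⟩, fun _ g w hw => ?_⟩
  · intro g x hx; rw [mem_bot] at hx ⊢; rw [hx, map_zero]
  · intro g x hx; rw [mem_bot] at hx ⊢; rw [hx, map_zero]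
  · intro x hx _; exact hx
  · intro x hx _; exact hx
  · rw [mem_bot] at hw; rw [hw, map_zero]

omit [Finite G] in
theorem Dec.of_alt {M : Submodule F V} (hM : Inv ρ M) (A : LinearMap.BilinForm F V)
    (hA : ∀ x, A x x = 0) (hP : Perfect ρ A M) : Dec ρ p M := by
  refine ⟨M, ⊥, inf_bot_eq _, sup_bot_eq _, hM, ?_, ⟨A, hA, hP⟩,
    ⟨0, fun x y => rfl, fun g x _ y _ => rfl, fun x hx _ => hx⟩, fun _ g w hw => ?_⟩
  · intro g x hx; rw [mem_bot] at hx ⊢; rw [hx, map_zero]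
  · rw [mem_bot] at hw; rw [hw, map_zero]

omit [Finite G] in
theorem Dec.of_symm {M : Submodule F V} (hM : Inv ρ M) (S : LinearMap.BilinForm F V)
    (hS : ∀ x y, S x y = S y x) (hP : Perfect ρ S M) (h2 : p = 2 → ∀ g, ∀ w ∈ M, ρ g w = w) :
    Dec ρ p M := by
  refine ⟨⊥, M, bot_inf_eq _, bot_sup_eq _, ?_, hM,
    ⟨0, fun x => rfl, fun g x _ y _ => rfl, fun x hx _ => hx⟩, ⟨S, hS, hP⟩, h2⟩
  intro g x hx; rw [mem_bot] at hx ⊢; rw [hx, map_zero]

omit [Finite G] in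
theorem sum_perfect {X Y : Submodule F V} (hX : Inv ρ X) (hY : Inv ρ Y) {π π' : V →ₗ[F] V}
    (h1 : ∀ x ∈ X, π x = x) (h1' : ∀ y ∈ Y, π y = 0) (h2 : ∀ y ∈ Y, π' y = y)
    (h2' : ∀ x ∈ X, π' x = 0) {A A' : LinearMap.BilinForm F V} (hA : Perfect ρ A X)
    (hA' : Perfect ρ A' Y) :
    Perfect ρ (A.compl₁₂ π π + A'.compl₁₂ π' π') (X ⊔ Y) := by
  have hval : ∀ x ∈ X, ∀ y ∈ Y, ∀ x' ∈ X, ∀ y' ∈ Y,
      (A.compl₁₂ π π + A'.compl₁₂ π' π') (x + y) (x' + y') = A x x' + A' y y' := by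
    intro x hx y hy x' hx' y' hy'
    simp [h1 x hx, h1' y hy, h2 y hy, h2' x hx, h1 x' hx', h1' y' hy', h2 y' hy', h2' x' hx']
  refine ⟨fun g u hu v hv => ?_, fun u hu h => ?_⟩
  · obtain ⟨x, hx, y, hy, rfl⟩ := mem_sup.1 hu
    obtain ⟨x', hx', y', hy', rfl⟩ := mem_sup.1 hv
    rw [map_add (ρ g) x y, map_add (ρ g) x' y', hval _ (hX g x hx) _ (hY g y hy) _ (hX g x' hx') _ (hY g y' hy'),
      hval x hx y hy x' hx' y' hy', hA.1 g x hx x' hx', hA'.1 g y hy y' hy']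
  · obtain ⟨x, hx, y, hy, rfl⟩ := mem_sup.1 hu
    have h3 : x = 0 := hA.2 x hx fun x' hx' => by
      have := hval x hx y hy x' hx' 0 Y.zero_mem
      rw [add_zero, h x' (mem_sup_left hx')] at this
      simpa using this.symm
    have h4 : y = 0 := hA'.2 y hy fun y' hy' => by
      have := hval x hx y hy 0 X.zero_mem y' hy'
      rw [zero_add, h y' (mem_sup_right hy')] at this
      simpa using this.symm
    rw [h3, h4, add_zero]

omit [Finite G] in
theorem Dec.sup {X Y : Submodule F V} (hXY : X ⊓ Y = ⊥) (hX : Dec ρ p X) (hY : Dec ρ p Y) :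
    Dec ρ p (X ⊔ Y) := by
  obtain ⟨U, W, hd, hs, hU, hW, ⟨A, hA, hAP⟩, ⟨S, hS, hSP⟩, h2⟩ := hX
  obtain ⟨U', W', hd', hs', hU', hW', ⟨A', hA', hAP'⟩, ⟨S', hS', hSP'⟩, h2'⟩ := hY
  have hUX : U ≤ X := hs ▸ le_sup_left
  have hWX : W ≤ X := hs ▸ le_sup_right
  have hUY : U' ≤ Y := hs' ▸ le_sup_left
  have hWY : W' ≤ Y := hs' ▸ le_sup_right
  have hUU : U ⊓ U' = ⊥ := le_bot_iff.1 (hXY ▸ inf_le_inf hUX hUY)
  have hWW : W ⊓ W' = ⊥ := le_bot_iff.1 (hXY ▸ inf_le_inf hWX hWY)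
  obtain ⟨π, hπ, hπ0⟩ := exists_proj U U' hUU
  obtain ⟨π', hπ', hπ'0⟩ := exists_proj U' U (inf_comm U U' ▸ hUU)
  obtain ⟨τ, hτ, hτ0⟩ := exists_proj W W' hWW
  obtain ⟨τ', hτ', hτ'0⟩ := exists_proj W' W (inf_comm W W' ▸ hWW)
  refine ⟨U ⊔ U', W ⊔ W', ?_, ?_, ?_, ?_,
    ⟨_, fun x => ?_, sum_perfect ρ hU hU' hπ hπ0 hπ' hπ'0 hAP hAP'⟩,
    ⟨_, fun x y => ?_, sum_perfect ρ hW hW' hτ hτ0 hτ' hτ'0 hSP hSP'⟩, fun hp g w hw => ?_⟩
  · rw [Submodule.eq_bot_iff]
    rintro z ⟨hz, hz'⟩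
    obtain ⟨u, hu, u', hu', rfl⟩ := mem_sup.1 hz
    obtain ⟨w, hw, w', hw', e⟩ := mem_sup.1 hz'
    have hmem : u - w ∈ X ⊓ Y := ⟨X.sub_mem (hUX hu) (hWX hw), by
      rw [show u - w = w' - u' by rw [sub_eq_sub_iff_add_eq_add, ← e]; abel]
      exact Y.sub_mem (hWY hw') (hUY hu')⟩
    rw [hXY, mem_bot, sub_eq_zero] at hmem
    subst hmem
    have e' : w' = u' := add_left_cancel e
    subst e'
    have hu0 : u ∈ U ⊓ W := ⟨hu, hw⟩
    have hu0' : w' ∈ U' ⊓ W' := ⟨hu', hw'⟩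
    rw [hd, mem_bot] at hu0
    rw [hd', mem_bot] at hu0'
    rw [hu0, hu0', add_zero]
  · rw [← hs, ← hs', sup_sup_sup_comm]
  · intro g x hx
    obtain ⟨a, ha, b, hb, rfl⟩ := mem_sup.1 hx
    rw [map_add]
    exact mem_sup.2 ⟨_, hU g a ha, _, hU' g b hb, rfl⟩
  · intro g x hx
    obtain ⟨a, ha, b, hb, rfl⟩ := mem_sup.1 hx
    rw [map_add]
    exact mem_sup.2 ⟨_, hW g a ha, _, hW' g b hb, rfl⟩
  · simp [hA, hA']
  · simp [hS (τ x) (τ y), hS' (τ' x) (τ' y)]
  · obtain ⟨a, ha, b, hb, rfl⟩ := mem_sup.1 hw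
    rw [map_add, h2 hp g a ha, h2' hp g b hb]

variable [FiniteDimensional F V] [CharP F p] [Fact p.Prime]

theorem dec_of_perfect (hG : ¬ p ∣ Nat.card G) (β : LinearMap.BilinForm F V) :
    ∀ (n : ℕ) (M : Submodule F V), Module.finrank F M ≤ n → Inv ρ M → Perfect ρ β M →
      Dec ρ p M := by
  classical
  have hG' : (Nat.card G : F) ≠ 0 := fun h => hG ((CharP.cast_eq_zero_iff F p _).1 h)
  intro n
  induction n with
  | zero =>
    intro M hn _ _
    rw [show M = ⊥ from Submodule.finrank_eq_zero.1 (Nat.le_zero.1 hn)]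
    exact Dec.zero ρ
  | succ n ih =>
    intro M hn hM hβ
    let R : Submodule F V :=
    { carrier := {x | x ∈ M ∧ ∀ y ∈ M, β x y = β y x}
      zero_mem' := ⟨M.zero_mem, fun y _ => by simp⟩
      add_mem' := fun {a b} ha hb => ⟨M.add_mem ha.1 hb.1, fun y hy => by
        simp [ha.2 y hy, hb.2 y hy]⟩
      smul_mem' := fun c a ha => ⟨M.smul_mem c ha.1, fun y hy => by simp [ha.2 y hy]⟩ }
    have hR : Inv ρ R := fun g x hx => ⟨hM g x hx.1, fun y hy => by
      rw [← ρ.self_inv_apply g y, hβ.1 g x hx.1 _ (hM g⁻¹ y hy),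
        hβ.1 g _ (hM g⁻¹ y hy) x hx.1]
      exact hx.2 _ (hM g⁻¹ y hy)⟩
    by_cases hRb : R = ⊥
    · refine Dec.of_alt ρ hM (β - β.flip) (fun x => by simp) ⟨fun g x hx y hy => ?_, fun x hx h => ?_⟩
      · simp [hβ.1 g x hx y hy, hβ.1 g y hy x hx]
      · have : x ∈ R := ⟨hx, fun y hy => sub_eq_zero.1 (by simpa using h y hy)⟩
        rw [hRb] at this
        exact this
    -- a minimal invariant subspace of `R`
    have hex : ∃ d, ∃ W : Submodule F V, W ≤ R ∧ W ≠ ⊥ ∧ Inv ρ W ∧ Module.finrank F W = d :=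
      ⟨_, R, le_rfl, hRb, hR, rfl⟩
    obtain ⟨W, hWR, hW0, hW, hWd⟩ := Nat.find_spec hex
    have hWmin : ∀ W' : Submodule F V, W' ≤ W → W' ≠ ⊥ → Inv ρ W' → W' = W := fun W' h h0 hI =>
      Submodule.eq_of_le_of_finrank_le h (hWd.le.trans (Nat.find_min' hex ⟨W', h.trans hWR, h0, hI, rfl⟩))
    have hWM : W ≤ M := fun x hx => (hWR hx).1
    have hsymW : ∀ x ∈ W, ∀ y ∈ M, β x y = β y x := fun x hx => (hWR hx).2
    let P : Submodule F V :=
    { carrier := {u | u ∈ M ∧ ∀ w ∈ W, β u w = 0}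
      zero_mem' := ⟨M.zero_mem, fun y _ => by simp⟩
      add_mem' := fun {a b} ha hb => ⟨M.add_mem ha.1 hb.1, fun w hw => by
        simp [ha.2 w hw, hb.2 w hw]⟩
      smul_mem' := fun c a ha => ⟨M.smul_mem c ha.1, fun w hw => by simp [ha.2 w hw]⟩ }
    have hPM : P ≤ M := fun x hx => hx.1
    have hP : Inv ρ P := fun g x hx => ⟨hM g x hx.1, fun w hw => by
      rw [← ρ.self_inv_apply g w, hβ.1 g x hx.1 _ (hM g⁻¹ w (hWM hw))]
      exact hx.2 _ (hW g⁻¹ w hw)⟩
    have hWPinv : Inv ρ (W ⊓ P) := fun g x hx => ⟨hW g x hx.1, hP g x hx.2⟩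
    by_cases hiso : W ⊓ P = ⊥
    · -- nondegenerate
      have hndW : ∀ x ∈ W, (∀ y ∈ W, β x y = 0) → x = 0 := fun x hx h =>
        hiso.le ⟨hx, hWM hx, h⟩
      let φ : W →ₗ[F] Module.Dual F W := β.compl₁₂ W.subtype W.subtype
      have hφ : Function.Surjective φ :=
        (LinearMap.injective_iff_surjective_of_finrank_eq_finrank Subspace.dual_finrank_eq.symm).1
          ((injective_iff_map_eq_zero φ).2 fun w hw => Subtype.ext (hndW w w.2 fun y hy =>
            LinearMap.congr_fun hw ⟨y, hy⟩))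
      have hsum : W ⊔ P = M := by
        refine le_antisymm (sup_le hWM hPM) fun u hu => ?_
        obtain ⟨w, hw⟩ := hφ ((β u).comp W.subtype)
        refine mem_sup.2 ⟨w, w.2, u - w, ⟨M.sub_mem hu (hWM w.2), fun y hy => ?_⟩, by abel⟩
        have := LinearMap.congr_fun hw ⟨y, hy⟩
        simp only [φ, LinearMap.compl₁₂_apply, LinearMap.comp_apply, Submodule.subtype_apply] at this
        rw [map_sub, LinearMap.sub_apply, this, sub_self]
      have hPn : Module.finrank F P ≤ n := by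
        have h1 := Submodule.finrank_sup_add_finrank_inf_eq W P
        rw [hsum, hiso, finrank_bot, add_zero] at h1
        have h2 : 0 < Module.finrank F W := Nat.pos_of_ne_zero fun h =>
          hW0 (Submodule.finrank_eq_zero.1 h)
        omega
      have hDP : Dec ρ p P := ih P hPn hP ⟨fun g x hx y hy => hβ.1 g x hx.1 y hy.1, fun x hx h =>
        hβ.2 x hx.1 fun y hy => by
          obtain ⟨w, hw, q, hq, rfl⟩ := mem_sup.1 (hsum ▸ hy : y ∈ W ⊔ P)
          rw [map_add, hx.2 w hw, h q hq, add_zero]⟩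
      rw [← hsum]
      refine Dec.sup ρ hiso ?_ hDP
      obtain ⟨C, hC⟩ := Submodule.exists_isCompl W
      let π := W.projection C hC
      have hπ : ∀ w ∈ W, π w = w := fun w hw => Submodule.projection_apply_left hC ⟨w, hw⟩
      have hS : ∀ x y, β.compl₁₂ π π x y = β.compl₁₂ π π y x := fun x y =>
        hsymW _ (Submodule.projection_apply_mem hC x) _ (hWM (Submodule.projection_apply_mem hC y))
      have hSP : Perfect ρ (β.compl₁₂ π π) W := ⟨fun g x hx y hy => by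
        simp only [LinearMap.compl₁₂_apply, hπ x hx, hπ y hy, hπ _ (hW g x hx), hπ _ (hW g y hy)]
        exact hβ.1 g x (hWM hx) y (hWM hy), fun x hx h => hndW x hx fun y hy => by
          simpa [hπ x hx, hπ y hy] using h y hy⟩
      by_cases hp2 : p = 2
      swap
      · exact Dec.of_symm ρ hW _ hS hSP fun h => absurd h hp2
      have h20 : (2 : F) = 0 := by
        have := CharP.cast_eq_zero F p
        rw [hp2] at this
        exact_mod_cast this
      let L : Submodule F V :=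
      { carrier := {x | x ∈ W ∧ β x x = 0}
        zero_mem' := ⟨W.zero_mem, by simp⟩
        add_mem' := fun {a b} ha hb => ⟨W.add_mem ha.1 hb.1, by
          simp only [map_add, LinearMap.add_apply, ha.2, hb.2, hsymW b hb.1 a (hWM ha.1)]
          linear_combination (β a b) * h20⟩
        smul_mem' := fun c a ha => ⟨W.smul_mem c ha.1, by simp [ha.2]⟩ }
      have hL : Inv ρ L := fun g x hx => ⟨hW g x hx.1, by
        rw [hβ.1 g x (hWM hx.1) x (hWM hx.1)]; exact hx.2⟩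
      by_cases hLb : L = ⊥
      · refine Dec.of_symm ρ hW _ hS hSP fun _ g w hw => sub_eq_zero.1 ?_
        have hm : ρ g w - w ∈ L := ⟨W.sub_mem (hW g w hw) hw, by
          have e := hsymW _ (hW g w hw) w (hWM hw)
          simp only [map_sub, LinearMap.sub_apply, hβ.1 g w (hWM hw) w (hWM hw), e]
          linear_combination (β w w - β w (ρ g w)) * h20⟩
        rw [hLb] at hm
        exact hm
      · have hLW : L = W := hWmin L (fun x hx => hx.1) hLb hL
        refine Dec.of_alt ρ hW _ (fun x => ?_) hSP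
        have : π x ∈ L := hLW ▸ Submodule.projection_apply_mem hC x
        exact this.2
    -- isotropic: a hyperbolic piece and a smaller one
    have hWP : W ≤ P := (hWmin _ inf_le_left hiso hWPinv) ▸ inf_le_right
    obtain ⟨X, hXM, hX, hPX, hPXs⟩ := exists_compl ρ hG' hM hP hPM
    obtain ⟨M₂, hM₂P, hM₂, hWM₂, hWM₂s⟩ := exists_compl ρ hG' hP hW hWP
    have hWX : W ⊓ X = ⊥ := le_bot_iff.1 ((inf_le_inf_right X hWP).trans hPX.le)
    have hXnd : ∀ x ∈ X, (∀ w ∈ W, β x w = 0) → x = 0 := fun x hx h =>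
      hPX.le ⟨⟨hXM hx, h⟩, hx⟩
    have hWnd : ∀ w ∈ W, (∀ x ∈ X, β x w = 0) → w = 0 := fun w hw h =>
      hβ.2 w (hWM hw) fun y hy => by
        obtain ⟨q, hq, x, hx, rfl⟩ := mem_sup.1 (hPXs ▸ hy : y ∈ P ⊔ X)
        rw [hsymW w hw (q + x) hy, map_add, LinearMap.add_apply, hq.2 w hw, h x hx, add_zero]
    obtain ⟨πW, hπW, hπW0⟩ := exists_proj W X hWX
    obtain ⟨πX, hπX, hπX0⟩ := exists_proj X W (inf_comm W X ▸ hWX)
    set A : LinearMap.BilinForm F V := β.compl₁₂ πX πW - (β.compl₁₂ πX πW).flip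
    have hA : ∀ w ∈ W, ∀ x ∈ X, ∀ w' ∈ W, ∀ x' ∈ X, A (w + x) (w' + x') = β x w' - β x' w := by
      intro w hw x hx w' hw' x' hx'
      simp [A, hπW w hw, hπW0 x hx, hπX x hx, hπX0 w hw, hπW w' hw', hπW0 x' hx', hπX x' hx',
        hπX0 w' hw']
    have hWXinv : Inv ρ (W ⊔ X) := fun g z hz => by
      obtain ⟨w, hw, x, hx, rfl⟩ := mem_sup.1 hz
      rw [map_add]
      exact mem_sup.2 ⟨_, hW g w hw, _, hX g x hx, rfl⟩
    have hDWX : Dec ρ p (W ⊔ X) := by
      refine Dec.of_alt ρ hWXinv A (fun x => by simp [A]) ⟨fun g u hu v hv => ?_, fun u hu h => ?_⟩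
      · obtain ⟨w, hw, x, hx, rfl⟩ := mem_sup.1 hu
        obtain ⟨w', hw', x', hx', rfl⟩ := mem_sup.1 hv
        rw [map_add (ρ g) w x, map_add (ρ g) w' x', hA _ (hW g w hw) _ (hX g x hx) _ (hW g w' hw') _ (hX g x' hx'),
          hA w hw x hx w' hw' x' hx', hβ.1 g x (hXM hx) w' (hWM hw'),
          hβ.1 g x' (hXM hx') w (hWM hw)]
      · obtain ⟨w, hw, x, hx, rfl⟩ := mem_sup.1 hu
        have hx0 : x = 0 := hXnd x hx fun w' hw' => by
          have := hA w hw x hx w' hw' 0 X.zero_mem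
          rw [add_zero, h w' (mem_sup_left hw')] at this
          simpa using this.symm
        have hw0 : w = 0 := hWnd w hw fun x' hx' => by
          have := hA w hw x hx 0 W.zero_mem x' hx'
          rw [zero_add, h x' (mem_sup_right hx')] at this
          simpa using this
        rw [hx0, hw0, add_zero]
    have hdim : M₂ ⊓ (W ⊔ X) = ⊥ := by
      rw [Submodule.eq_bot_iff]
      rintro z ⟨hz, hz'⟩
      obtain ⟨w, hw, x, hx, rfl⟩ := mem_sup.1 hz'
      have hxP : x ∈ P ⊓ X := ⟨by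
        have := P.sub_mem (hM₂P hz) (hWP hw)
        rwa [add_sub_cancel_left] at this, hx⟩
      rw [hPX, mem_bot] at hxP
      rw [hxP, add_zero] at hz ⊢
      exact hWM₂.le ⟨hw, hz⟩
    have hsum : M₂ ⊔ (W ⊔ X) = M := by
      rw [← sup_assoc, sup_comm M₂ W, hWM₂s, hPXs]
    have hn2 : Module.finrank F M₂ ≤ n := by
      have h1 := Submodule.finrank_sup_add_finrank_inf_eq M₂ (W ⊔ X)
      rw [hsum, hdim, finrank_bot, add_zero] at h1
      have h2 : 0 < Module.finrank F (W ⊔ X : Submodule F V) := Nat.pos_of_ne_zero fun h =>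
        hW0 (le_bot_iff.1 (le_sup_left.trans (Submodule.finrank_eq_zero.1 h).le))
      omega
    -- the restriction is nondegenerate
    have hφ : Function.Surjective (β.compl₁₂ W.subtype X.subtype : W →ₗ[F] Module.Dual F X) := by
      have hi : Function.Injective (β.compl₁₂ W.subtype X.subtype : W →ₗ[F] Module.Dual F X) :=
        (injective_iff_map_eq_zero _).2 fun w hw => Subtype.ext (hWnd w w.2 fun x hx => by
          rw [← hsymW w w.2 x (hXM hx)]
          exact LinearMap.congr_fun hw ⟨x, hx⟩)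
      have hi' : Function.Injective (β.compl₁₂ X.subtype W.subtype : X →ₗ[F] Module.Dual F W) :=
        (injective_iff_map_eq_zero _).2 fun x hx => Subtype.ext (hXnd x x.2 fun w hw =>
          LinearMap.congr_fun hx ⟨w, hw⟩)
      have h1 := LinearMap.finrank_le_finrank_of_injective hi
      have h2 := LinearMap.finrank_le_finrank_of_injective hi'
      rw [Subspace.dual_finrank_eq] at h1 h2
      exact (LinearMap.injective_iff_surjective_of_finrank_eq_finrank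
        ((le_antisymm h1 h2).trans Subspace.dual_finrank_eq.symm)).1 hi
    have hDM₂ : Dec ρ p M₂ := ih M₂ hn2 hM₂
      ⟨fun g x hx y hy => hβ.1 g x (hPM (hM₂P hx)) y (hPM (hM₂P hy)), fun x hx h => by
        obtain ⟨w, hw⟩ := hφ ((β x).comp X.subtype)
        have hxw : x - w = 0 := hβ.2 _ (M.sub_mem (hPM (hM₂P hx)) (hWM w.2)) fun y hy => by
          obtain ⟨q, hq, x', hx', rfl⟩ := mem_sup.1 (hPXs ▸ hy : y ∈ P ⊔ X)
          obtain ⟨w', hw', m', hm', rfl⟩ := mem_sup.1 (hWM₂s ▸ hq : q ∈ W ⊔ M₂)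
          have e1 : β (w : V) x' = β x x' := LinearMap.congr_fun hw ⟨x', hx'⟩
          have e2 : ∀ q ∈ P, β (w : V) q = 0 := fun q hq => by
            rw [hsymW w w.2 q (hPM hq)]
            exact hq.2 w w.2
          rw [map_sub, LinearMap.sub_apply, map_add, map_add (β (w : V)), e1, e2 _ hq,
            map_add, (hM₂P hx).2 w' hw', h m' hm']
          abel
        rw [sub_eq_zero] at hxw
        exact hWM₂.le ⟨hxw ▸ w.2, hx⟩⟩
    rw [← hsum]
    exact Dec.sup ρ hdim hDM₂ hDWX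

end CfsgLib.DegreeTools.SelfDualDecomp
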