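import Cfsg.Agent.Lib.Solvable.Cores
import Mathlib.GroupTheory.PGroup

/-!
# Constrained involution centralizers

An involution normalizing an elementary abelian `2`-subgroup with elementary abelian centralizer has
a centralizer with a normal `2`-subgroup containing its own centralizer.
-/

set_option autoImplicit false

namespace CfsgLib.DegreeTools.SingleBlock

open Cfsg CfsgLib
open scoped Classical

variable {G : Type*} [Group G] [Finite G]

/-- The centralizer of an involution `t` normalizing an elementary abelian `E` whose centralizer is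
elementary abelian has a constrained centralizer. -/
theorem constrained_of_elementary {t : G} (ht : t * t = 1) (E : Subgroup G)
    (hE : ∀ e ∈ E, e * e = 1) (hCE : ∀ c : G, (∀ e ∈ E, Commute c e) → c * c = 1)
    (K : Subgroup G) (hK : ∀ g : G, g ∈ K ↔ Commute g t)
    (hnorm : ∀ g ∈ K, ∀ e ∈ E, g * e * g⁻¹ ∈ E) :
    ∃ Q : Subgroup K, Q.Normal ∧ IsPGroup 2 Q ∧ Subgroup.centralizer (Q : Set K) ≤ Q := by
  haveI : Fact (Nat.Prime 2) := ⟨Nat.prime_two⟩
  have hinv : ∀ e ∈ E, e⁻¹ = e := fun e he => inv_eq_of_mul_eq_one_right (hE e he)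
  have hab : ∀ a ∈ E, ∀ b ∈ E, a * b = b * a := fun a ha b hb => by
    have h := hinv (a * b) (E.mul_mem ha hb)
    rw [mul_inv_rev, hinv a ha, hinv b hb] at h
    exact h.symm
  have htK : t ∈ K := (hK t).2 (Commute.refl t)
  have htinv : t⁻¹ = t := inv_eq_of_mul_eq_one_right ht
  have hte : ∀ e ∈ E, t * e * t ∈ E := fun e he => by
    have := hnorm t htK e he
    rwa [htinv] at this
  set D : Subgroup K := E.subgroupOf K with hDdef
  have hDn : D.Normal := ⟨fun n hn g => by
    rw [hDdef, Subgroup.mem_subgroupOf] at hn ⊢
    simpa using hnorm g g.2 n hn⟩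
  have hDp : IsPGroup 2 D := fun d => ⟨1, Subtype.ext (Subtype.ext (by
    rw [pow_one, pow_two]; exact hE _ d.2))⟩
  -- elements of odd order centralizing `D` are trivial
  have hodd : ∀ x : G, Commute x t → Odd (orderOf x) →
      (∀ d ∈ E, Commute d t → Commute x d) → x = 1 := by
    intro x hxt hox hxD
    have hxK : x ∈ K := (hK x).2 hxt
    have hxE : ∀ e ∈ E, Commute x e := by
      intro e he
      set e' := x * e * x⁻¹ with he'
      have he'E : e' ∈ E := hnorm x hxK e he
      set f := e * (t * e * t) with hf
      have hfE : f ∈ E := E.mul_mem he (hte e he)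
      have hft : Commute f t := by
        show f * t = t * f
        conv_rhs => rw [hf, hab e he _ (hte e he)]
        rw [hf, mul_assoc e, mul_assoc (t * e), ht, mul_one]
        calc e * (t * e) = t * t * (e * (t * e)) := by rw [ht, one_mul]
          _ = t * (t * e * t * e) := by simp only [mul_assoc]
      have h2 : x * f * x⁻¹ = f := by rw [(hxD f hfE hft).eq, mul_inv_cancel_right]
      have h3 : x * f * x⁻¹ = e' * (t * e' * t) := by
        rw [hf, he']
        have h4 : x * t * x⁻¹ = t := by rw [hxt.eq, mul_inv_cancel_right]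
        calc x * (e * (t * e * t)) * x⁻¹
            = x * e * x⁻¹ * ((x * t * x⁻¹) * (x * e * x⁻¹) * (x * t * x⁻¹)) := by group
          _ = _ := by rw [h4]
      set d := e' * e with hd
      have hdE : d ∈ E := E.mul_mem he'E he
      have hdt : Commute d t := by
        have h6 : e' * (t * e' * t) = e * (t * e * t) := h3.symm.trans h2
        have h7 : e * e' = t * e * t * (t * e' * t) := by
          calc e * e' = e * e' * ((t * e' * t) * (t * e' * t)) := by
                rw [hE _ (hte e' he'E), mul_one]
            _ = e * (e' * (t * e' * t)) * (t * e' * t) := by simp only [mul_assoc]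
            _ = e * e * (t * e * t) * (t * e' * t) := by rw [h6]; simp only [mul_assoc]
            _ = _ := by rw [hE e he, one_mul]
        show d * t = t * d
        rw [hd, hab e' he'E e he]
        calc e * e' * t = t * e * t * (t * e' * t) * t := by rw [h7]
          _ = t * e * (t * t) * e' * (t * t) := by simp [mul_assoc]
          _ = t * (e * e') := by rw [ht, mul_one, mul_one, mul_assoc]
      have hxd := hxD d hdE hdt
      have hxe : x * e * x⁻¹ = d * e := by
        rw [hd, mul_assoc e' e e, hE e he, mul_one]
      have hpow : ∀ n : ℕ, x ^ n * e * (x ^ n)⁻¹ = d ^ n * e := by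
        intro n
        induction n with
        | zero => simp
        | succ n ih =>
          calc x ^ (n + 1) * e * (x ^ (n + 1))⁻¹ = x * (x ^ n * e * (x ^ n)⁻¹) * x⁻¹ := by
                rw [pow_succ']; simp [mul_assoc]
            _ = x * d ^ n * x⁻¹ * (x * e * x⁻¹) := by rw [ih]; simp [mul_assoc]
            _ = d ^ n * (d * e) := by rw [(hxd.pow_right n).eq, mul_inv_cancel_right, hxe]
            _ = _ := by rw [pow_succ, ← mul_assoc (d ^ n) d e]
      obtain ⟨k, hk⟩ := hox
      have h := hpow (orderOf x)
      have hd1 : d ^ orderOf x = d := by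
        rw [hk, pow_succ, pow_mul, pow_two, hE d hdE, one_pow, one_mul]
      rw [pow_orderOf_eq_one, one_mul, inv_one, mul_one, hd1] at h
      have hd' : d = 1 := mul_eq_right.1 h.symm
      rw [hd', one_mul] at hxe
      show x * e = e * x
      calc x * e = x * e * x⁻¹ * x := by simp
        _ = e * x := by rw [hxe]
    have h2 := orderOf_dvd_of_pow_eq_one (show x ^ 2 = 1 by rw [pow_two]; exact hCE x hxE)
    rcases (Nat.dvd_prime Nat.prime_two).1 h2 with h | h
    · exact orderOf_eq_one_iff.1 h
    · rw [h] at hox; exact absurd hox (by decide)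
  have hCD : IsPGroup 2 (Subgroup.centralizer (D : Set K)) := by
    rintro ⟨c, hc⟩
    obtain ⟨k, m, hm, hcm⟩ := Nat.exists_eq_two_pow_mul_odd (orderOf_pos c).ne'
    refine ⟨k, Subtype.ext (Subtype.ext ?_)⟩
    have hord : orderOf (((c : K) : G) ^ 2 ^ k) = m := by
      rw [orderOf_pow' _ (pow_ne_zero k two_ne_zero), Subgroup.orderOf_coe, hcm,
        Nat.gcd_mul_right_left, Nat.mul_div_cancel_left _ (pow_pos two_pos k)]
    have := hodd (((c : K) : G) ^ 2 ^ k) (((hK _).1 c.2).pow_left _) (hord.symm ▸ hm)
      fun d hd hdt => by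
        have h := Subgroup.mem_centralizer_iff.1 hc ⟨d, (hK d).2 hdt⟩
          (by rw [hDdef]; exact hd)
        exact (Commute.symm (congrArg Subtype.val h : d * (c : G) = (c : G) * d)).pow_left _
    simpa using this
  haveI := hDn
  haveI : (pCore 2 K).Normal := by infer_instance
  refine ⟨pCore 2 K, inferInstance, CfsgLib.Solvable.Cores.isPGroup_pCore 2, ?_⟩
  haveI : (Subgroup.centralizer (pCore 2 K : Set K)).Normal := Subgroup.normal_centralizer
  refine CfsgLib.Solvable.Cores.le_pCore (hCD.to_le (Subgroup.centralizer_le ?_))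
  exact CfsgLib.Solvable.Cores.le_pCore hDp

end CfsgLib.DegreeTools.SingleBlock
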