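import Cfsg.Agent.Lib.DegreeTools.VanishSingular.RegularOrbit
import Cfsg.Agent.Lib.Char.TwoDegrees.Taketa
import Cfsg.Agent.Lib.CharDeep.Relative
import Cfsg.Agent.Lib.DegreeTools.Basic
import Cfsg.Agent.Lib.Coprime.Action
import Cfsg.Agent.Lib.Solvable.Basic
import Cfsg.Agent.Lib.Solvable.Cores
import Cfsg.Agent.Lib.Solvable.FrattiniFitting
import Cfsg.Prelude.Def_DegreeGraph

/-!
# Solvable groups with square-free character degrees have derived length at most four

Modulo the Fitting subgroup every `O_p` has order at most `p`, so that quotient is metabelian; the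
Fitting subgroup is metabelian as its Sylow subgroups have degrees in `{1, p}`.
-/

set_option autoImplicit false

namespace CfsgLib.DegreeTools.SquarefreeDerived

open Subgroup CfsgLib CfsgLib.Char CfsgLib.Char.LinearOverNormal
open CfsgLib.Solvable
open scoped commutatorElement

universe u

variable {G : Type u} [Group G] [Finite G]

/-- All degrees are square-free. -/
def SqFree (G : Type u) [Group G] : Prop :=
  ∀ χ : Cfsg.IrrCharacter G, Squarefree (Cfsg.charDegree (χ : G → ℂ))

theorem SqFree.of_surjective {Q : Type u} [Group Q] (h : SqFree G) (f : G →* Q)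
    (hf : Function.Surjective f) : SqFree Q := fun χ => by
  have h1 := h ⟨_, IsIrrCharacter.comp_surjective χ.2 f hf⟩
  simpa [Cfsg.charDegree] using h1

theorem SqFree.normal (h : SqFree G) (N : Subgroup G) [N.Normal] : SqFree ↥N := by
  classical
  cases nonempty_fintype G
  let : Fintype N := Fintype.ofFinite N
  intro θ
  obtain ⟨χ, hχ, hov⟩ := LinearOverNormal.exists_over (G := G) θ.2
  obtain ⟨d, hd, -⟩ := CharDeep.Relative.degree_ratio_dvd hχ N θ.2 hov
  refine (h ⟨χ, hχ⟩).squarefree_of_dvd ⟨d, ?_⟩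
  have h1 : (Cfsg.charDegree χ : ℂ) = χ 1 := DegreeTools.deg_cast ⟨χ, hχ⟩
  rw [← h1, ← DegreeTools.deg_cast θ] at hd
  rw [mul_comm]
  exact_mod_cast hd

theorem commutator_comm_of_pgroup {p : ℕ} [hp : Fact p.Prime] {Q : Type u} [Group Q] [Finite Q]
    (hQ : IsPGroup p Q) (h : SqFree Q) : ∀ a ∈ commutator Q, ∀ b ∈ commutator Q, a * b = b * a := by
  have hcd : ∀ χ : Cfsg.IrrCharacter Q,
      Cfsg.charDegree (χ : Q → ℂ) = 1 ∨ Cfsg.charDegree (χ : Q → ℂ) = p := by
    intro χ
    obtain ⟨a, ha⟩ := hQ.exists_card_eq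
    obtain ⟨i, -, hi⟩ := (Nat.dvd_prime_pow hp.out).mp (ha ▸ DegreeTools.deg_dvd_card χ)
    rcases Nat.lt_or_ge i 2 with h2 | h2
    · interval_cases i <;> simp [hi]
    · exfalso
      have h3 := h χ p (by rw [hi, ← pow_two]; exact pow_dvd_pow p h2)
      exact hp.out.ne_one (Nat.isUnit_iff.mp h3)
  by_cases hm : ∃ χ : Cfsg.IrrCharacter Q, Cfsg.charDegree (χ : Q → ℂ) = p
  · exact TwoDegrees.commutator_comm hcd hm hp.out.ne_one
  · push Not at hm
    have hc : ∀ a b : Q, a * b = b * a := comm_iff_forall_linear.mpr fun χ =>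
      (DegreeTools.deg_eq_one_iff χ).mp ((hcd χ).resolve_right (hm χ))
    exact fun a _ b _ => hc a b

/-- A group of automorphisms of `p`-power order, abelian modulo the kernel, with every stabiliser of
index at most `p`, induces a group of order at most `p`. -/
theorem card_range_le {E M : Type*} [Group E] [Finite E] [CommGroup M] (φ : E →* MulAut M) {k : ℕ}
    (hk : ∀ m : M, m ^ k = 1) (hcop : (Nat.card E).Coprime k) {p : ℕ} [hp : Fact p.Prime]
    (hE : IsPGroup p E)
    (hst : ∀ m : M, ∃ S : Subgroup E, (∀ e, e ∈ S ↔ φ e m = m) ∧ S.index ≤ p) :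
    Nat.card φ.range ≤ p := by
  classical
  have hcomm : ∀ a b : E, φ a * φ b = φ b * φ a := by
    intro a b
    refine MulEquiv.ext fun m => ?_
    obtain ⟨S, hS, hidx⟩ := hst m
    obtain ⟨i, hi⟩ := IsPGroup.index hE S
    have hi1 : i ≤ 1 := by
      refine (Nat.pow_le_pow_iff_right hp.out.one_lt).mp ?_
      rw [← hi, pow_one]; exact hidx
    have hc : (a * b)⁻¹ * (b * a) ∈ S := by
      interval_cases i
      · rw [pow_zero, Subgroup.index_eq_one] at hi
        rw [hi]; exact Subgroup.mem_top _
      · rw [pow_one] at hi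
        haveI : S.Normal := by
          apply Subgroup.normal_of_index_eq_minFac_card
          obtain ⟨j, hj⟩ := hE.exists_card_eq
          have hj1 : 1 ≤ j := by
            by_contra hj0
            have h1 := S.index_dvd_card
            rw [hj, hi, show j = 0 by omega, pow_zero, Nat.dvd_one] at h1
            exact hp.out.ne_one h1
          rw [hi, hj, Nat.pow_minFac (by omega), hp.out.minFac_eq]
        haveI : IsCyclic (E ⧸ S) :=
          isCyclic_of_prime_card (p := p) (by rw [← Subgroup.index_eq_card, hi])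
        rw [← QuotientGroup.eq, QuotientGroup.mk_mul, QuotientGroup.mk_mul]
        exact IsCyclic.commGroup.mul_comm _ _
    have h1 := (hS _).mp hc
    rw [map_mul, map_inv, map_mul, map_mul] at h1
    have h2 := congrArg (fun x => (φ a * φ b) x) h1
    simpa using h2.symm
  haveI : Finite φ.range := Finite.of_surjective φ.rangeRestrict φ.rangeRestrict_surjective
  letI : CommGroup φ.range :=
    { (inferInstance : Group φ.range) with
      mul_comm := fun x y => by
        obtain ⟨a, ha⟩ := x.2
        obtain ⟨b, hb⟩ := y.2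
        exact Subtype.ext (by simp only [Subgroup.coe_mul, ← ha, ← hb, hcomm]) }
  obtain ⟨m, hm⟩ := VanishSingular.exists_regular φ.range.subtype φ.range.subtype_injective hk
    (hcop.coprime_dvd_left (Subgroup.card_range_dvd φ))
  obtain ⟨S, hS, hidx⟩ := hst m
  refine le_trans ?_ hidx
  rw [← Subgroup.index_ker]
  refine le_of_eq (congrArg Subgroup.index ?_)
  ext e
  rw [hS, MonoidHom.mem_ker]
  exact ⟨fun h => by rw [h, MulAut.one_apply],
    fun h => congrArg Subtype.val (hm ⟨φ e, ⟨e, rfl⟩⟩ h)⟩

/-- Modulo the Fitting subgroup each `O_p` has order at most `p`. -/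
theorem card_pCore_quotient_le [Group.IsSolvable G] (h : SqFree G) (p : ℕ) [hp : Fact p.Prime] :
    Nat.card ↥(Cfsg.pCore p (G ⧸ Cfsg.fittingSubgroup G)) ≤ p := by
  classical
  cases nonempty_fintype G
  set F := Cfsg.fittingSubgroup G with hF
  set f := QuotientGroup.mk' F
  set R := Cfsg.pCore p (G ⧸ F)
  set L := R.comap f
  set W := F ⊓ Cfsg.pPrimeCore p G with hW
  have hWcop : (Nat.card W).Coprime p :=
    (Cores.coprime_card_pPrimeCore p).coprime_dvd_left (Subgroup.card_dvd_of_le inf_le_right)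
  set Op := Cfsg.pCore p G
  have hFdec : F ≤ W ⊔ Op := by
    rw [hF, Cores.fittingSubgroup_eq_iSup_pCore]
    refine iSup_le fun q => ?_
    by_cases hq : (q : ℕ) = p
    · rw [hq]; exact le_sup_right
    · haveI := Fact.mk q.2
      exact le_sup_of_le_left (le_inf (Cores.pCore_le_fittingSubgroup q)
        (Cores.pCore_le_pPrimeCore hp.out hq))
  have hRp : IsPGroup p R := Cores.isPGroup_pCore p
  -- the elements of `L` centralising `W` lie in `F`
  set C := L ⊓ Subgroup.centralizer (W : Set G)
  haveI : W.Normal := inferInstance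
  haveI : C.Normal := inferInstance
  have hCF : C ≤ F := by
    apply Cores.le_fittingSubgroup
    let g := QuotientGroup.mk' W
    have hLp : IsPGroup p (L.map g) := by
      rintro ⟨_, x, hx, rfl⟩
      obtain ⟨a, ha⟩ := hRp ⟨f x, hx⟩
      have h1 : x ^ p ^ a ∈ F := by
        rw [← QuotientGroup.eq_one_iff, QuotientGroup.mk_pow]
        exact congrArg Subtype.val ha
      obtain ⟨w, hw, o, ho, hwo⟩ := Subgroup.mem_sup_of_normal_right.mp (hFdec h1)
      obtain ⟨b, hb⟩ := Cores.isPGroup_pCore p ⟨o, ho⟩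
      refine ⟨a + b, Subtype.ext ?_⟩
      show g x ^ p ^ (a + b) = 1
      rw [pow_add, pow_mul, ← map_pow, ← hwo, map_mul,
        show g w = 1 from (QuotientGroup.eq_one_iff w).mpr hw, one_mul, ← map_pow,
        show o ^ p ^ b = 1 from congrArg Subtype.val hb, map_one]
    haveI := hLp.isNilpotent
    let gC : C →* L.map g :=
      (g.comp C.subtype).codRestrict _ fun x => Subgroup.mem_map_of_mem g x.2.1
    refine Subgroup.isNilpotent_of_ker_le_center gC fun x hx => Subgroup.mem_center_iff.mpr fun y => ?_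
    have hxW : (x : G) ∈ W := (QuotientGroup.eq_one_iff _).mp (congrArg Subtype.val hx)
    exact Subtype.ext ((Subgroup.mem_centralizer_iff.mp y.2.2 _ hxW).symm)
  -- the abelian section
  set Φ := (frattini W).map W.subtype
  haveI : Φ.Normal := ConjAct.normal_of_characteristic_of_normal
  set π := QuotientGroup.mk' Φ
  set V := W.map π
  haveI : V.Normal := Subgroup.Normal.map inferInstance _ (QuotientGroup.mk'_surjective Φ)
  haveI : Group.IsNilpotent W :=
    Subgroup.isNilpotent_of_ker_le_center (Subgroup.inclusion (inf_le_left : W ≤ F)) (by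
      rw [(MonoidHom.ker_eq_bot_iff _).mpr (Subgroup.inclusion_injective _)]; exact bot_le)
  have hWΦ : ∀ a ∈ W, ∀ b ∈ W, ⁅a, b⁆ ∈ Φ := fun a ha b hb =>
    ⟨⁅(⟨a, ha⟩ : W), ⟨b, hb⟩⁆, FrattiniFitting.commutator_le_frattini
      (Subgroup.commutator_mem_commutator (Subgroup.mem_top _) (Subgroup.mem_top _)),
      map_commutatorElement _ _ _⟩
  have hVc : ∀ a ∈ V, ∀ b ∈ V, a * b = b * a := by
    rintro _ ⟨a, ha, rfl⟩ _ ⟨b, hb, rfl⟩
    rw [← commutatorElement_eq_one_iff_mul_comm, ← map_commutatorElement]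
    exact (QuotientGroup.eq_one_iff _).mpr (hWΦ a ha b hb)
  haveI : IsMulCommutative V := CfsgLib.Solvable.Basic.isMulCommutative_subgroup_iff.mpr hVc
  letI : CommGroup V := { (inferInstance : Group V) with mul_comm := mul_comm' }
  -- `F` centralises `V`
  have hFV : ∀ x ∈ F, ∀ v ∈ V, π x * v = v * π x := by
    intro x hx v hv
    obtain ⟨w, hw, o, ho, rfl⟩ := Subgroup.mem_sup_of_normal_right.mp (hFdec hx)
    obtain ⟨y, hy, rfl⟩ := hv
    have hdis : Op ⊓ W = ⊥ := (disjoint_of_coprime_natCard (by
      obtain ⟨b, hb⟩ := Cores.card_pow_of_pCore (G := G) p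
      rw [hb]; exact Nat.Coprime.pow_left b hWcop.symm)).eq_bot
    have hoy : o * y = y * o :=
      Subgroup.commute_of_normal_of_disjoint _ _ inferInstance inferInstance
        (disjoint_iff.mpr hdis) o y ho hy
    rw [map_mul, mul_assoc, ← map_mul π o y, hoy, map_mul, ← mul_assoc,
      hVc _ (Subgroup.mem_map_of_mem π hw) _ (Subgroup.mem_map_of_mem π hy), mul_assoc]
  -- a Sylow subgroup of `L`
  let P : Sylow p L := default
  set P0 := (P : Subgroup L).map L.subtype
  have hP0 : IsPGroup p P0 := P.isPGroup'.map _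
  have hP0R : P0.map f = R := by
    let fr : L →* R := f.subgroupComap R
    have hfr : Function.Surjective fr :=
      MonoidHom.subgroupComap_surjective_of_surjective _ _ (QuotientGroup.mk'_surjective F)
    have h1 : ((P.mapSurjective hfr : Sylow p R) : Subgroup R) = ⊤ :=
      ((P.mapSurjective hfr).3 (hRp.to_subgroup ⊤) le_top).symm
    rw [Sylow.coe_mapSurjective] at h1
    apply le_antisymm
    · rintro _ ⟨_, ⟨x, -, rfl⟩, rfl⟩; exact x.2
    · intro r hr
      obtain ⟨x, hx, hxe⟩ := h1.ge (Subgroup.mem_top (⟨r, hr⟩ : R))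
      exact ⟨x, ⟨x, hx, rfl⟩, congrArg Subtype.val hxe⟩
  -- the action on the linear characters of `V`
  let act : P0 → MulAut (V →* ℂˣ) := fun e =>
    { toFun := fun μ => cj ((π (e : G))⁻¹) μ
      invFun := fun μ => cj (π (e : G)) μ
      left_inv := fun μ => by
        dsimp only
        rw [← cj_comp, inv_mul_cancel, cj_one]
      right_inv := fun μ => by
        dsimp only
        rw [← cj_comp, mul_inv_cancel, cj_one]
      map_mul' := fun μ ν => cj_mul _ μ ν }
  let φ : P0 →* MulAut (V →* ℂˣ) := MonoidHom.mk' act fun a b => MulEquiv.ext fun μ => by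
    show cj (π ((a * b : P0) : G))⁻¹ μ = cj ((π (a : G))⁻¹) (cj ((π (b : G))⁻¹) μ)
    rw [← cj_comp, Subgroup.coe_mul, map_mul, mul_inv_rev]
  have hcopP : (Nat.card P0).Coprime (Nat.card W) := by
    obtain ⟨a, ha⟩ := hP0.exists_card_eq
    rw [ha]; exact Nat.Coprime.pow_left a hWcop.symm
  have hsq : SqFree (G ⧸ Φ) := h.of_surjective π (QuotientGroup.mk'_surjective Φ)
  let : Fintype (G ⧸ Φ) := Fintype.ofFinite _
  let : Fintype V := Fintype.ofFinite _
  have hst : ∀ μ : V →* ℂˣ, ∃ S : Subgroup P0, (∀ e, e ∈ S ↔ φ e μ = μ) ∧ S.index ≤ p := by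
    intro μ
    set T := stab (G := G ⧸ Φ) (fn μ)
    refine ⟨(T.comap π).subgroupOf P0, fun e => ?_, ?_⟩
    · show π (e : G) ∈ T ↔ cj ((π (e : G))⁻¹) μ = μ
      rw [← inv_mem_iff, mem_stab_fn]
    · obtain ⟨χ, hχ, hov⟩ := LinearOverNormal.exists_over (G := G ⧸ Φ) (isIrrCharacter_hom μ)
      have h1 : T.index ∣ Cfsg.charDegree χ := by
        have h2 := index_stab_mul_dvd hχ (isIrrCharacter_hom μ) hov (d := Cfsg.charDegree χ) (k := 1)
          (DegreeTools.deg_cast ⟨χ, hχ⟩).symm (by simp)
        rwa [mul_one] at h2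
      set Tg := T.comap π
      have hTg : Tg.index = T.index :=
        Subgroup.index_comap_of_surjective _ (QuotientGroup.mk'_surjective Φ)
      have hFT : F ≤ Tg := by
        intro x hx
        show π x ∈ T
        rw [mem_stab_fn]
        refine MonoidHom.ext fun v => congrArg μ (Subtype.ext ?_)
        show π x * (v : G ⧸ Φ) * (π x)⁻¹ = v
        rw [hFV x hx v v.2, mul_inv_cancel_right]
      have h2 : Tg.relIndex L ∣ T.index := by
        rw [← hTg]
        obtain ⟨c, hc⟩ := Subgroup.relIndex_dvd_index_of_normal L Tg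
        have e1 := Subgroup.relIndex_mul_index (inf_le_right : Tg ⊓ L ≤ L)
        have e2 := Subgroup.relIndex_mul_index (inf_le_left : Tg ⊓ L ≤ Tg)
        rw [Subgroup.inf_relIndex_right] at e1
        rw [Subgroup.inf_relIndex_left, ← e1, hc, mul_left_comm] at e2
        exact ⟨c, Nat.eq_of_mul_eq_mul_left (Nat.pos_of_ne_zero Subgroup.index_ne_zero_of_finite) e2⟩
      have hsf : Squarefree (Tg.relIndex L) :=
        (hsq ⟨χ, hχ⟩).squarefree_of_dvd (h2.trans h1)
      have h3 : Tg.relIndex L ∣ Nat.card R := by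
        have h4 : Tg.relIndex L ∣ F.relIndex L := Subgroup.relIndex_dvd_of_le_left L hFT
        have h5 : F.relIndex L = Nat.card R := by
          have h6 := Subgroup.relIndex_ker (K := L) f
          rw [QuotientGroup.ker_mk'] at h6
          rw [h6, Subgroup.map_comap_eq_self_of_surjective (QuotientGroup.mk'_surjective F)]
        rwa [h5] at h4
      obtain ⟨a, ha⟩ := hRp.exists_card_eq
      obtain ⟨i, -, hi⟩ := (Nat.dvd_prime_pow hp.out).mp (ha ▸ h3)
      have hi1 : i ≤ 1 := by
        by_contra hi2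
        have h4 := hsf p (by rw [hi, ← pow_two]; exact pow_dvd_pow p (by omega))
        exact hp.out.ne_one (Nat.isUnit_iff.mp h4)
      calc (Tg.subgroupOf P0).index = Tg.relIndex P0 := rfl
        _ ≤ Tg.relIndex L := by
            refine Subgroup.relIndex_le_of_le_right (Subgroup.map_subtype_le _) ?_
            exact Subgroup.index_ne_zero_of_finite
        _ ≤ p := by
            rw [hi]
            calc p ^ i ≤ p ^ 1 := Nat.pow_le_pow_right hp.out.pos hi1
              _ = p := pow_one p
  have hr := card_range_le φ (k := Nat.card W) (fun (μ : V →* ℂˣ) => MonoidHom.ext fun x => by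
      rw [MonoidHom.pow_apply, ← map_pow, MonoidHom.one_apply]
      have hx : x ^ Nat.card W = 1 := orderOf_dvd_iff_pow_eq_one.mp
        ((orderOf_dvd_natCard x).trans (Subgroup.card_map_dvd W π))
      rw [hx, map_one]) hcopP hP0 hst
  -- the kernel lies in `F`
  have hker : φ.ker ≤ F.subgroupOf P0 := by
    intro e he
    rw [Subgroup.mem_subgroupOf]
    refine hCF ⟨Subgroup.map_subtype_le _ e.2, ?_⟩
    have hcV : ∀ v ∈ V, π (e : G) * v = v * π (e : G) := by
      intro v hv
      by_contra hne
      let w' : V := (MulAut.conjNormal (π (e : G))⁻¹) ⟨v, hv⟩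
      have hne' : w' * (⟨v, hv⟩ : V)⁻¹ ≠ 1 := by
        intro h'
        have h1 := congrArg Subtype.val (mul_inv_eq_one.mp h')
        simp only [w', MulAut.conjNormal_apply, inv_inv] at h1
        apply hne
        calc π (e : G) * v = π (e : G) * ((π (e : G))⁻¹ * v * π (e : G)) := by rw [h1]
          _ = v * π (e : G) := by group
      obtain ⟨ξ, hξ⟩ := CommGroup.exists_apply_ne_one_of_hasEnoughRootsOfUnity V ℂ hne'
      apply hξ
      have h1 : cj ((π (e : G))⁻¹) ξ = ξ := DFunLike.congr_fun he ξ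
      rw [map_mul, map_inv, mul_inv_eq_one]
      exact DFunLike.congr_fun h1 (⟨v, hv⟩ : V)
    have hz : Subgroup.zpowers (e : G) ≤ Subgroup.centralizer (W : Set G) := by
      refine CfsgLib.Coprime.le_centralizer_of_frattini
        (by rw [Subgroup.normalizer_eq_top]; exact le_top) ?_ ?_
      · exact (hcopP.coprime_dvd_left (Subgroup.card_dvd_of_le
          (Subgroup.zpowers_le.mpr e.2))).coprime_dvd_right (Subgroup.card_subgroup_dvd_card _)
      · intro a ha k hk
        obtain ⟨i, rfl⟩ := Subgroup.mem_zpowers_iff.mp ha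
        rw [show (frattini W).map W.subtype = Φ from rfl, ← QuotientGroup.eq_one_iff]
        show π ⁅(e : G) ^ i, k⁆ = 1
        rw [map_commutatorElement, map_zpow, commutatorElement_eq_one_iff_mul_comm]
        exact (Commute.zpow_left (hcV _ (Subgroup.mem_map_of_mem π hk)) i).eq
    exact hz (Subgroup.mem_zpowers _)
  calc Nat.card R = Nat.card (P0.map f) := by rw [hP0R]
    _ = F.relIndex P0 := by rw [← Subgroup.relIndex_ker, QuotientGroup.ker_mk']
    _ ≤ φ.ker.index := Nat.le_of_dvd (Nat.pos_of_ne_zero Subgroup.index_ne_zero_of_finite)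
          (Subgroup.index_dvd_of_le hker)
    _ = Nat.card φ.range := Subgroup.index_ker φ
    _ ≤ p := hr

/-- A solvable group all of whose `O_p` have order at most `p` is metabelian. -/
theorem derivedSeries_two_eq_bot {Q : Type u} [Group Q] [Finite Q] [Group.IsSolvable Q]
    (h : ∀ p : ℕ, p.Prime → Nat.card ↥(Cfsg.pCore p Q) ≤ p) : derivedSeries Q 2 = ⊥ := by
  classical
  set F := Cfsg.fittingSubgroup Q with hF
  have hcyc : ∀ q : Nat.Primes, IsCyclic ↥(Cfsg.pCore (q : ℕ) Q) := by
    intro q
    haveI := Fact.mk q.2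
    obtain ⟨a, ha⟩ := Cores.card_pow_of_pCore (G := Q) (q : ℕ)
    have h1 : (q : ℕ) ^ a ≤ (q : ℕ) ^ 1 := by rw [pow_one, ← ha]; exact h q q.2
    have ha1 := (Nat.pow_le_pow_iff_right q.2.one_lt).mp h1
    interval_cases a
    · haveI : Subsingleton ↥(Cfsg.pCore (q : ℕ) Q) :=
        (Nat.card_eq_one_iff_unique.mp (by rw [ha, pow_zero])).1
      infer_instance
    · exact isCyclic_of_prime_card (ha.trans (pow_one _))
  have hFc : F ≤ Subgroup.centralizer (F : Set Q) := by
    rw [hF, Cores.fittingSubgroup_eq_iSup_pCore]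
    refine iSup_le fun q => Subgroup.le_centralizer_iff.mp (iSup_le fun r => ?_)
    intro x hx
    rw [Subgroup.mem_centralizer_iff]
    intro y hy
    by_cases hqr : r = q
    · subst hqr
      haveI := hcyc r
      exact congrArg Subtype.val (IsCyclic.commGroup.mul_comm (⟨y, hy⟩ : Cfsg.pCore (r : ℕ) Q) ⟨x, hx⟩)
    · haveI := Fact.mk q.2
      haveI := Fact.mk r.2
      exact Subgroup.commute_of_normal_of_disjoint _ _ inferInstance inferInstance
        ((Cores.isPGroup_pCore (q : ℕ)).disjoint_of_ne _ _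
          (fun e => hqr (Subtype.ext e.symm)) _ _ (Cores.isPGroup_pCore (r : ℕ))) y x hy hx
  have hd : commutator Q ≤ F := by
    refine le_trans (fun g hg => ?_) (Cores.centralizer_fittingSubgroup_le (G := Q))
    have : F ≤ Subgroup.centralizer ({g} : Set Q) := by
      rw [hF, Cores.fittingSubgroup_eq_iSup_pCore]
      refine iSup_le fun q x hx => ?_
      let φ : Q →* MulAut ↥(Cfsg.pCore (q : ℕ) Q) := MulAut.conjNormal
      haveI := hcyc q
      have hab : ∀ a b : Q, φ a * φ b = φ b * φ a := fun a b => by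
        let e := IsCyclic.mulAutMulEquiv ↥(Cfsg.pCore (q : ℕ) Q)
        apply e.injective
        rw [map_mul, map_mul, mul_comm]
      have hk : commutator Q ≤ φ.ker := by
        rw [commutator_def, Subgroup.commutator_le]
        intro a _ b _
        rw [MonoidHom.mem_ker, map_commutatorElement, commutatorElement_eq_one_iff_mul_comm]
        exact hab a b
      have h1 : φ g ⟨x, hx⟩ = ⟨x, hx⟩ := by rw [MonoidHom.mem_ker.mp (hk hg)]; rfl
      have h2 : g * x * g⁻¹ = x := congrArg Subtype.val h1
      rw [Subgroup.mem_centralizer_singleton_iff]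
      calc x * g = (g * x * g⁻¹) * g := by rw [h2]
        _ = g * x := by group
    rw [Subgroup.mem_centralizer_iff]
    exact fun x hx => (Subgroup.mem_centralizer_singleton_iff.mp (this hx))
  rw [derivedSeries_succ, derivedSeries_one, Subgroup.commutator_eq_bot_iff_le_centralizer]
  exact hd.trans (hFc.trans (Subgroup.centralizer_le hd))

/-- **Main theorem.** -/
theorem derivedSeries_four_eq_bot [Group.IsSolvable G] (h : SqFree G) : derivedSeries G 4 = ⊥ := by
  classical
  set F := Cfsg.fittingSubgroup G with hF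
  have h2 : derivedSeries G 2 ≤ F := by
    rw [← QuotientGroup.ker_mk' F, ← Subgroup.map_eq_bot_iff,
      map_derivedSeries_eq (QuotientGroup.mk'_surjective F)]
    exact derivedSeries_two_eq_bot fun p hp => by
      haveI := Fact.mk hp
      exact card_pCore_quotient_le h p
  let D : Nat.Primes → Subgroup G := fun q =>
    (commutator ↥(Cfsg.pCore (q : ℕ) G)).map (Cfsg.pCore (q : ℕ) G).subtype
  set Y := ⨆ q, D q with hY
  haveI : Y.Normal := by
    rw [hY]
    have hD : ∀ q, (D q).Normal := fun q => ConjAct.normal_of_characteristic_of_normal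
    refine ⟨fun x hx g => ?_⟩
    have h1 : ((⨆ q, D q).map (MulAut.conj g).toMonoidHom) = ⨆ q, D q := by
      rw [Subgroup.map_iSup]
      exact iSup_congr fun q => by
        haveI := hD q
        ext y
        simp only [Subgroup.mem_map, MulEquiv.coe_toMonoidHom, MulAut.conj_apply]
        refine ⟨fun ⟨z, hz, e⟩ => e ▸ this.conj_mem z hz g, fun hy => ⟨g⁻¹ * y * g, ?_, by group⟩⟩
        simpa using this.conj_mem y hy g⁻¹
    exact h1.le ⟨x, hx, rfl⟩
  have hdisj : ∀ q r : Nat.Primes, q ≠ r → ∀ x ∈ Cfsg.pCore (q : ℕ) G,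
      ∀ y ∈ Cfsg.pCore (r : ℕ) G, x * y = y * x := by
    intro q r hqr x hx y hy
    haveI := Fact.mk q.2
    haveI := Fact.mk r.2
    exact Subgroup.commute_of_normal_of_disjoint _ _ inferInstance inferInstance
      ((Cores.isPGroup_pCore (q : ℕ)).disjoint_of_ne _ _
        (fun e => hqr (Subtype.ext e)) _ _ (Cores.isPGroup_pCore (r : ℕ))) x y hx hy
  have hYc : Y ≤ Subgroup.centralizer (Y : Set G) := by
    rw [hY]
    refine iSup_le fun q => Subgroup.le_centralizer_iff.mp (iSup_le fun r => ?_)
    rintro _ ⟨x, hx, rfl⟩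
    rw [Subgroup.mem_centralizer_iff]
    rintro _ ⟨y, hy, rfl⟩
    by_cases hqr : q = r
    · subst hqr
      haveI := Fact.mk q.2
      exact congrArg Subtype.val
        (commutator_comm_of_pgroup (Cores.isPGroup_pCore (q : ℕ)) (h.normal _) y hy x hx)
    · exact hdisj q r hqr _ y.2 _ x.2
  have hFY : ⁅F, F⁆ ≤ Y := by
    rw [← QuotientGroup.ker_mk' Y, ← Subgroup.map_eq_bot_iff, Subgroup.map_commutator,
      Subgroup.commutator_eq_bot_iff_le_centralizer, hF, Cores.fittingSubgroup_eq_iSup_pCore,
      Subgroup.map_iSup]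
    refine iSup_le fun q => Subgroup.le_centralizer_iff.mp (iSup_le fun r => ?_)
    rintro _ ⟨x, hx, rfl⟩
    rw [Subgroup.mem_centralizer_iff]
    rintro _ ⟨y, hy, rfl⟩
    by_cases hqr : q = r
    · subst hqr
      rw [← commutatorElement_eq_one_iff_mul_comm, ← map_commutatorElement]
      refine (QuotientGroup.eq_one_iff _).mpr (le_iSup D q ?_)
      exact ⟨⁅(⟨y, hy⟩ : Cfsg.pCore (q : ℕ) G), ⟨x, hx⟩⁆,
        Subgroup.commutator_mem_commutator (Subgroup.mem_top _) (Subgroup.mem_top _),
        map_commutatorElement _ _ _⟩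
    · rw [← map_mul, ← map_mul, hdisj q r hqr y hy x hx]
  have h3 : derivedSeries G 3 ≤ Y := by
    rw [derivedSeries_succ]
    exact (Subgroup.commutator_mono h2 h2).trans hFY
  rw [derivedSeries_succ, eq_bot_iff]
  exact (Subgroup.commutator_mono h3 h3).trans
    (le_of_eq ((Subgroup.commutator_eq_bot_iff_le_centralizer).mpr hYc))

end CfsgLib.DegreeTools.SquarefreeDerived
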