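import Cfsg.Agent.Lib.DegreeTools.SzFam
import Cfsg.Agent.Lib.KnownB.SuzukiStructure
import Cfsg.Agent.Lib.Blocks.Local2
import Cfsg.Prelude.Def_DegreeGraph

/-!
# The character degrees of the Suzuki groups

With `q = 8 K²` the degrees are `1`, `q²`, `q² + 1`, `(q - 1) (q ± 4 K + 1)`, `2 K (q - 1)`.
-/

set_option autoImplicit false

namespace CfsgLib.DegreeTools.SzDeg

open Cfsg CfsgLib CfsgLib.Blocks CfsgLib.DegreeTools.Torus
open scoped Classical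

variable {G : Type*} [Group G] [Fintype G]

/-- The numerical data: `k₀ = q - 1`, `k₁ = q + r + 1`, `k₂ = q - r + 1` with `q = 8 K²`, `r = 4 K`. -/
structure Num (G : Type*) [Group G] (K k₀ k₁ k₂ : ℕ) : Prop where
  pos : 1 ≤ K
  h₀ : k₀ + 1 = 8 * K ^ 2
  h₁ : k₁ = 8 * K ^ 2 + 4 * K + 1
  h₂ : k₂ + 4 * K = 8 * K ^ 2 + 1
  card : Nat.card G = 64 * K ^ 4 * (k₁ * k₂) * k₀

/-- The degree list. -/
def degList (K k₀ k₁ k₂ : ℕ) : Set ℕ :=
  {d | d = 1 ∨ d = 64 * K ^ 4 ∨ d = 64 * K ^ 4 + 1 ∨ d = k₀ * k₁ ∨ d = k₀ * k₂ ∨ d = k₀ * (2 * K)}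

variable {K k₀ k₁ k₂ : ℕ}

omit [Fintype G] in
theorem Num.prod (N : Num G K k₀ k₁ k₂) : k₁ * k₂ = 64 * K ^ 4 + 1 := by
  have h1 := N.h₁
  have h2 : (k₂ : ℤ) = 8 * (K : ℤ) ^ 2 - 4 * K + 1 := by
    have : (k₂ : ℤ) + 4 * K = 8 * (K : ℤ) ^ 2 + 1 := by exact_mod_cast N.h₂
    linarith
  zify
  rw [h1, h2]
  push_cast
  ring

omit [Fintype G] in
theorem Num.bounds (N : Num G K k₀ k₁ k₂) :
    7 ≤ k₀ ∧ 13 ≤ k₁ ∧ 4 * K ^ 2 + 1 ≤ k₂ ∧ (2 ≤ K → 25 ≤ k₂) := by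
  have h := N.pos
  have h0 := N.h₀
  have h1 := N.h₁
  have h2 := N.h₂
  refine ⟨by nlinarith, by nlinarith, by nlinarith, fun hK => by nlinarith⟩

omit [Fintype G] in
theorem Num.odd (N : Num G K k₀ k₁ k₂) : Odd k₀ ∧ Odd k₁ ∧ Odd k₂ := by
  have h0 := N.h₀
  have h1 := N.h₁
  have h2 := N.h₂
  refine ⟨⟨4 * K ^ 2 - 1, ?_⟩, ⟨4 * K ^ 2 + 2 * K, by omega⟩, ⟨4 * K ^ 2 - 2 * K, ?_⟩⟩
  · have := N.pos
    have : 1 ≤ K ^ 2 := Nat.one_le_pow _ _ this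
    omega
  · have : K ≤ K ^ 2 := Nat.le_self_pow two_ne_zero K
    omega

omit [Fintype G] in
theorem Num.coprime (N : Num G K k₀ k₁ k₂) :
    Nat.Coprime k₁ k₂ ∧ Nat.Coprime k₀ k₁ ∧ Nat.Coprime k₀ k₂ := by
  obtain ⟨o0, o1, o2⟩ := N.odd
  have hp := N.prod
  have h0' : (k₀ : ℤ) = 8 * (K : ℤ) ^ 2 - 1 := by
    have : (k₀ : ℤ) + 1 = 8 * (K : ℤ) ^ 2 := by exact_mod_cast N.h₀
    linarith
  have h1' : (k₁ : ℤ) = 8 * (K : ℤ) ^ 2 + 4 * K + 1 := by exact_mod_cast N.h₁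
  have h2' : (k₂ : ℤ) = 8 * (K : ℤ) ^ 2 - 4 * K + 1 := by
    have : (k₂ : ℤ) + 4 * K = 8 * (K : ℤ) ^ 2 + 1 := by exact_mod_cast N.h₂
    linarith
  have key : ∀ {x : ℕ}, Odd x → ∀ {p : ℕ}, p.Prime → p ∣ x → (p : ℤ) ∣ 2 → False := by
    intro x hx p hp' hpx hp2
    obtain rfl : p = 2 := (Nat.prime_dvd_prime_iff_eq hp' Nat.prime_two).1 (by exact_mod_cast hp2)
    exact (Nat.not_even_iff_odd.2 hx) (even_iff_two_dvd.2 hpx)
  have side : ∀ {x : ℕ}, x ∣ k₁ * k₂ → x ∣ k₀ → (x : ℤ) ∣ 2 := by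
    intro x hx h0
    rw [hp] at hx
    have a : (x : ℤ) ∣ 64 * (K : ℤ) ^ 4 + 1 := by exact_mod_cast hx
    have b : (x : ℤ) ∣ (8 * (K : ℤ) ^ 2 - 1) * (8 * (K : ℤ) ^ 2 + 1) := by
      rw [← h0']
      exact dvd_mul_of_dvd_left (by exact_mod_cast h0) _
    have := dvd_sub a b
    ring_nf at this
    exact this
  refine ⟨Nat.coprime_of_dvd fun p hp' ha hb => ?_, Nat.coprime_of_dvd fun p hp' ha hb =>
    key o0 hp' ha (side (hb.mul_right _) ha), Nat.coprime_of_dvd fun p hp' ha hb =>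
    key o0 hp' ha (side (hb.mul_left _) ha)⟩
  have a : (p : ℤ) ∣ k₁ := by exact_mod_cast ha
  have b : (p : ℤ) ∣ k₂ := by exact_mod_cast hb
  -- `p` divides `8 K` and `16 K² + 2`
  have h8 : (p : ℤ) ∣ 8 * K := by
    have := dvd_sub a b
    rw [h1', h2'] at this
    ring_nf at this ⊢
    exact this
  have h16 : (p : ℤ) ∣ 16 * (K : ℤ) ^ 2 + 2 := by
    have := dvd_add a b
    rw [h1', h2'] at this
    ring_nf at this ⊢
    exact this
  refine key o1 hp' ha ?_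
  have := dvd_sub h16 (h8.mul_right (2 * (K : ℤ)))
  ring_nf at this
  exact this

theorem eq_of_sq_sum : ∀ (j x y : ℕ), x ^ 2 + y ^ 2 = 2 * (2 ^ j) ^ 2 → x = 2 ^ j ∧ y = 2 ^ j := by
  intro j
  induction j with
  | zero =>
    intro x y h
    have hx : x ≤ 1 := by nlinarith
    have hy : y ≤ 1 := by nlinarith
    interval_cases x <;> interval_cases y <;> simp_all
  | succ j ih =>
    intro x y h
    rcases Nat.even_or_odd x with ⟨a, rfl⟩ | ⟨a, rfl⟩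
    · rcases Nat.even_or_odd y with ⟨b, rfl⟩ | ⟨b, rfl⟩
      · obtain ⟨h1, h2⟩ := ih a b (by rw [pow_succ 2 j] at h; nlinarith)
        rw [pow_succ]
        omega
      · exfalso
        rw [pow_succ 2 j] at h
        ring_nf at h
        omega
    · exfalso
      rcases Nat.even_or_odd y with ⟨b, rfl⟩ | ⟨b, rfl⟩ <;>
      · rw [pow_succ 2 j] at h
        ring_nf at h
        omega

/-- Facts at one torus, given the character of degree `q²`. -/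
theorem main_torus {T : Subgroup G} {a k : ℕ} (F : Fam T a) (hk : Nat.card T = k) (hk6 : 6 < k)
    (hn : 3 ≤ F.E.card) {s : IrrCharacter G} (hs : s ≠ trivChar G) {σ : ℤ}
    (hσ : (σ = 1 ∧ a = 2) ∨ (σ = -1 ∧ a = 4))
    (hdvd : (k : ℤ) ∣ (charDegree (s : G → ℂ) : ℤ) - σ) :
    s ∉ F.E ∧ F.A s = σ ∧
      ∀ S : Finset (IrrCharacter G), trivChar G ∉ S → s ∉ S → Disjoint S F.E →
        ∑ χ ∈ S, F.A χ ^ 2 ≤ (a : ℤ) - 2 - ((F.E.card : ℤ) * F.c ^ 2 - 2 * F.ε * F.c) := by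
  have hq := quad_nonneg (n := F.E.card) (by omega) F.sign (c := F.c)
  have hn' : (3 : ℤ) ≤ F.E.card := by exact_mod_cast hn
  have hk' : (6 : ℤ) < k := by exact_mod_cast hk6
  have hsE : s ∉ F.E := by
    intro hsE
    have h1 := F.budget {trivChar G} (Finset.disjoint_singleton_left.2 F.triv_notMem)
    rw [Finset.sum_singleton, F.triv] at h1
    have h2 := F.dvd_deg
    rw [hk, ← (F.of_mem s hsE).1] at h2
    have h3 := dvd_sub h2 hdvd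
    have hc : -1 ≤ F.c ∧ F.c ≤ 1 := quad_small hn F.sign
      (by rcases hσ with ⟨-, rfl⟩ | ⟨-, rfl⟩ <;> push_cast at h1 <;> linarith)
    have h4 : σ - F.c - (a : ℤ) * F.ε = 0 := by
      refine Int.eq_zero_of_abs_lt_dvd ?_ (?_ : |_| < (k : ℤ))
      · have : (σ - F.c - (a : ℤ) * F.ε) =
            ((charDegree (s : G → ℂ) : ℤ) - F.c - (a : ℤ) * F.ε) - ((charDegree (s : G → ℂ) : ℤ) - σ) := by
          ring
        rw [this]
        exact h3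
      · rw [abs_lt]
        rcases hσ with ⟨rfl, rfl⟩ | ⟨rfl, rfl⟩ <;> rcases F.sign with e | e <;> rw [e] <;>
          push_cast <;> constructor <;> linarith [hc.1, hc.2]
    rcases hσ with ⟨rfl, rfl⟩ | ⟨rfl, rfl⟩ <;> rcases F.sign with e | e <;> rw [e] at h4 h1 <;>
      push_cast at h4 h1
    · have hc' : F.c = -1 := by linarith
      rw [hc'] at h1
      linarith
    all_goals linarith [hc.1, hc.2]
  have hts : ∀ χ ∈ ({trivChar G, s} : Finset (IrrCharacter G)), χ ∉ F.E := by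
    simp only [Finset.mem_insert, Finset.mem_singleton]
    rintro χ (rfl | rfl)
    exacts [F.triv_notMem, hsE]
  have hA : F.A s = σ := by
    have h1 := F.budget _ (Finset.disjoint_left.2 hts)
    rw [Finset.sum_pair (Ne.symm hs), F.triv] at h1
    have h2 := F.dvd_off s hsE
    rw [hk] at h2
    have h3 := dvd_sub h2 hdvd
    have hAb : -2 < F.A s ∧ F.A s < 2 := by
      rcases hσ with ⟨-, rfl⟩ | ⟨-, rfl⟩ <;> push_cast at h1 <;> constructor <;> nlinarith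
    have h4 : σ - F.A s = 0 := by
      refine Int.eq_zero_of_abs_lt_dvd ?_ (?_ : |_| < (k : ℤ))
      · rw [show σ - F.A s = ((charDegree (s : G → ℂ) : ℤ) - F.A s) -
          ((charDegree (s : G → ℂ) : ℤ) - σ) by ring]
        exact h3
      · rw [abs_lt]
        rcases hσ with ⟨rfl, -⟩ | ⟨rfl, -⟩ <;> constructor <;> linarith [hAb.1, hAb.2]
    linarith
  refine ⟨hsE, hA, fun S hS1 hS2 hS => ?_⟩
  have hd : Disjoint S {trivChar G, s} := by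
    simp [Finset.disjoint_insert_right, hS1, hS2]
  have h1 := F.budget (S ∪ {trivChar G, s}) (Finset.disjoint_union_left.2 ⟨hS, Finset.disjoint_left.2 hts⟩)
  rw [Finset.sum_union hd, Finset.sum_pair (Ne.symm hs), F.triv, hA] at h1
  rcases hσ with ⟨rfl, -⟩ | ⟨rfl, -⟩ <;> linarith

/-- The members of a second family vanish on `T` when the budget is at most two. -/
theorem cross_zero {T T' : Subgroup G} {a a' k : ℕ} (F : Fam T a) (F' : Fam T' a') (ha : a ≤ 4)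
    (hk : Nat.card T = k) (hn : 2 ≤ F.E.card) (hn' : 3 ≤ F'.E.card) (hyT : ∀ y ∈ T, ¬ Char.TICover.InD T' y)
    {s : IrrCharacter G} (hs : s ∉ F'.E)
    (hb : ∀ S : Finset (IrrCharacter G), trivChar G ∉ S → s ∉ S → Disjoint S F.E →
        ∑ χ ∈ S, F.A χ ^ 2 ≤ (a : ℤ) - 2 - ((F.E.card : ℤ) * F.c ^ 2 - 2 * F.ε * F.c)) :
    k ∣ F'.D ∧ ∀ χ ∈ F'.E, χ ∉ F.E ∧ F.A χ = 0 := by
  obtain ⟨e, hd, he⟩ := F.cross F' (by omega) hyT
  have h1 := hb F'.E F'.triv_notMem hs hd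
  rw [Finset.sum_congr rfl fun χ hχ => by rw [he χ hχ], Finset.sum_const, nsmul_eq_mul] at h1
  have hq := quad_nonneg hn F.sign (c := F.c)
  have hn3 : (3 : ℤ) ≤ F'.E.card := by exact_mod_cast hn'
  have ha' : (a : ℤ) ≤ 4 := by exact_mod_cast ha
  have he0 : e = 0 := by
    by_contra hne
    have : 1 ≤ e ^ 2 := by nlinarith [mul_self_pos.2 hne]
    nlinarith
  subst he0
  refine ⟨?_, fun χ hχ => ⟨Finset.disjoint_left.1 hd hχ, he χ hχ⟩⟩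
  obtain ⟨χ, hχ⟩ : F'.E.Nonempty := Finset.card_pos.1 (by omega)
  rw [← (F'.of_mem χ hχ).1, ← hk]
  exact F.dvd_of_eq_zero (Finset.disjoint_left.1 hd hχ) (he χ hχ)

/-- Facts at the torus of order `q - 1`. -/
theorem zero_torus {T : Subgroup G} {k : ℕ} (F : Fam T 2) (hk : Nat.card T = k) (hk6 : 6 < k)
    (hn : 3 ≤ F.E.card) {s : IrrCharacter G} (hs : s ≠ trivChar G)
    (hdvd : (k : ℤ) ∣ (charDegree (s : G → ℂ) : ℤ) - 1) :
    s ∉ F.E ∧ F.c = 0 ∧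
      ∀ χ, χ ≠ trivChar G → χ ≠ s → χ ∉ F.E → k ∣ charDegree (χ : G → ℂ) := by
  obtain ⟨hsE, -, hb⟩ := main_torus F hk hk6 hn hs (Or.inl ⟨rfl, rfl⟩) hdvd
  have hq := quad_nonneg (n := F.E.card) (by omega) F.sign (c := F.c)
  have h0 := hb ∅ (Finset.notMem_empty _) (Finset.notMem_empty _) (Finset.disjoint_empty_left _)
  rw [Finset.sum_empty] at h0
  push_cast at h0
  have hn' : (3 : ℤ) ≤ F.E.card := by exact_mod_cast hn
  refine ⟨hsE, ?_, fun χ h1 h2 h3 => ?_⟩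
  · by_contra hc
    rcases F.sign with e | e <;> rw [e] at h0 <;> rcases lt_or_gt_of_ne hc with h' | h' <;> nlinarith
  · have h := hb {χ} (by simpa using Ne.symm h1) (by simpa using Ne.symm h2)
      (Finset.disjoint_singleton_left.2 h3)
    rw [Finset.sum_singleton] at h
    push_cast at h
    rw [← hk]
    exact F.dvd_of_eq_zero h3 (pow_eq_zero_iff two_ne_zero |>.1 (by nlinarith [sq_nonneg (F.A χ)]))

omit [Fintype G] in
/-- `d ∣ D`, `D ∣ q² d k` and `D` prime to `k` give `D = d u` with `u ∣ q²`. -/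
theorem exists_factor {D d k Q : ℕ} (hd : 0 < d) (h1 : d ∣ D) (h2 : D ∣ Q * d * k)
    (h3 : Nat.Coprime D k) : ∃ u, D = d * u ∧ u ∣ Q := by
  obtain ⟨u, rfl⟩ := h1
  refine ⟨u, rfl, ?_⟩
  have := h3.dvd_of_dvd_mul_right h2
  rw [mul_comm Q d] at this
  exact Nat.dvd_of_mul_dvd_mul_left hd this

/-- The congruences of the degree `q²`. -/
theorem Num.congr_sq (N : Num G K k₀ k₁ k₂) :
    (k₀ : ℤ) ∣ ((64 * K ^ 4 : ℕ) : ℤ) - 1 ∧ (k₁ : ℤ) ∣ ((64 * K ^ 4 : ℕ) : ℤ) - (-1) ∧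
      (k₂ : ℤ) ∣ ((64 * K ^ 4 : ℕ) : ℤ) - (-1) := by
  have hp : (k₁ : ℤ) * k₂ = 64 * (K : ℤ) ^ 4 + 1 := by exact_mod_cast N.prod
  have h0 : (k₀ : ℤ) + 1 = 8 * (K : ℤ) ^ 2 := by exact_mod_cast N.h₀
  refine ⟨⟨(k₀ : ℤ) + 2, ?_⟩, ⟨(k₂ : ℤ), ?_⟩, ⟨(k₁ : ℤ), ?_⟩⟩ <;> push_cast
  · rw [show (k₀ : ℤ) = 8 * (K : ℤ) ^ 2 - 1 by linarith]
    ring
  · linarith
  · linarith

set_option maxHeartbeats 1000000 in
/-- The degrees, for `q ≥ 32`. -/
theorem degrees_general (N : Num G K k₀ k₁ k₂) (hK : 2 ≤ K) {j : ℕ} (hj : K = 2 ^ j)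
    {T₀ T₁ T₂ : Subgroup G} (F₀ : Fam T₀ 2) (F₁ : Fam T₁ 4) (F₂ : Fam T₂ 4)
    (c₀ : Nat.card T₀ = k₀) (c₁ : Nat.card T₁ = k₁) (c₂ : Nat.card T₂ = k₂)
    (d₀₁ : ∀ y ∈ T₁, ¬ Char.TICover.InD T₀ y) (d₀₂ : ∀ y ∈ T₂, ¬ Char.TICover.InD T₀ y)
    (d₁₂ : ∀ y ∈ T₂, ¬ Char.TICover.InD T₁ y) (d₂₁ : ∀ y ∈ T₁, ¬ Char.TICover.InD T₂ y)
    {s : IrrCharacter G} (hs : charDegree (s : G → ℂ) = 64 * K ^ 4) :
    Cfsg.charDegrees G = degList K k₀ k₁ k₂ := by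
  obtain ⟨b0, b1, b2, b2'⟩ := N.bounds
  have b25 := b2' hK
  obtain ⟨o0, o1, o2⟩ := N.odd
  obtain ⟨cp12, cp01, cp02⟩ := N.coprime
  obtain ⟨q0, q1, q2⟩ := N.congr_sq
  have hK2 : 4 ≤ K ^ 2 := by nlinarith
  have hst : s ≠ trivChar G := fun h => by
    have h1 : charDegree ((trivChar G : IrrCharacter G) : G → ℂ) = 1 := by
      show ⌊((1 : ℂ)).re⌋₊ = 1
      simp
    rw [h, h1] at hs
    have : 1 ≤ K ^ 4 := Nat.one_le_pow _ _ N.pos
    omega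
  have ht1 : charDegree ((trivChar G : IrrCharacter G) : G → ℂ) = 1 := by
    show ⌊((1 : ℂ)).re⌋₊ = 1
    simp
  -- the sizes of the families
  have n0 : F₀.E.card + 1 = 4 * K ^ 2 := by
    have := F₀.card_eq; rw [c₀] at this; have := N.h₀; omega
  have n1 : F₁.E.card = 2 * K ^ 2 + K := by
    have := F₁.card_eq; rw [c₁] at this; have := N.h₁; omega
  have n2 : F₂.E.card + K = 2 * K ^ 2 := by
    have := F₂.card_eq; rw [c₂] at this; have := N.h₂; omega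
  have hKK : 2 * K ≤ K ^ 2 := by nlinarith
  obtain ⟨s0, hc0, hz⟩ := zero_torus F₀ c₀ (by omega) (by omega) hst (by rw [hs]; exact q0)
  obtain ⟨s1, -, hb1⟩ := main_torus F₁ c₁ (by omega) (by omega) hst (Or.inr ⟨rfl, rfl⟩)
    (by rw [hs]; exact q1)
  obtain ⟨s2, -, hb2⟩ := main_torus F₂ c₂ (by omega) (by omega) hst (Or.inr ⟨rfl, rfl⟩)
    (by rw [hs]; exact q2)
  obtain ⟨e01, f01⟩ := cross_zero F₁ F₀ (by norm_num) c₁ (by omega) (by omega) d₀₁ s0 hb1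
  obtain ⟨e02, f02⟩ := cross_zero F₂ F₀ (by norm_num) c₂ (by omega) (by omega) d₀₂ s0 hb2
  obtain ⟨e12, f12⟩ := cross_zero F₂ F₁ (by norm_num) c₂ (by omega) (by omega) d₁₂ s1 hb2
  obtain ⟨e21, f21⟩ := cross_zero F₁ F₂ (by norm_num) c₁ (by omega) (by omega) d₂₁ s2 hb1
  obtain ⟨x₁, hx₁⟩ : F₁.E.Nonempty := Finset.card_pos.1 (by omega)
  obtain ⟨x₂, hx₂⟩ : F₂.E.Nonempty := Finset.card_pos.1 (by omega)
  have e10 : k₀ ∣ F₁.D := (F₁.of_mem x₁ hx₁).1 ▸ hz x₁ (fun e => F₁.triv_notMem (e ▸ hx₁))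
    (fun e => s1 (e ▸ hx₁)) (fun e => (f01 x₁ e).1 hx₁)
  have e20 : k₀ ∣ F₂.D := (F₂.of_mem x₂ hx₂).1 ▸ hz x₂ (fun e => F₂.triv_notMem (e ▸ hx₂))
    (fun e => s2 (e ▸ hx₂)) (fun e => (f02 x₂ e).1 hx₂)
  have hc1 : F₁.c = 0 := quad_eq_zero (n := F₁.E.card) (by omega) F₁.sign (by
    have h := hb1 ∅ (Finset.notMem_empty _) (Finset.notMem_empty _) (Finset.disjoint_empty_left _)
    rw [Finset.sum_empty] at h
    push_cast at h
    linarith)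
  have hc2 : F₂.c = 0 := quad_eq_zero (n := F₂.E.card) (by omega) F₂.sign (by
    have h := hb2 ∅ (Finset.notMem_empty _) (Finset.notMem_empty _) (Finset.disjoint_empty_left _)
    rw [Finset.sum_empty] at h
    push_cast at h
    linarith)
  obtain ⟨x₀, hx₀⟩ : F₀.E.Nonempty := Finset.card_pos.1 (by omega)
  have hdG : ∀ χ : IrrCharacter G, charDegree (χ : G → ℂ) ∣ 64 * K ^ 4 * (k₁ * k₂) * k₀ := fun χ =>
    N.card ▸ charDegree_dvd χ
  have hk0 : 0 < k₀ := by omega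
  have hk12 : 0 < k₁ * k₂ := Nat.mul_pos (by omega) (by omega)
  obtain ⟨u₀, hu₀, -⟩ := exists_factor hk12 (cp12.mul_dvd_of_dvd_of_dvd e01 e02)
    ((F₀.of_mem x₀ hx₀).1 ▸ hdG x₀) (F₀.coprime_deg c₀ o0 (Or.inl rfl) hc0)
  obtain ⟨u₁, hu₁, -⟩ := exists_factor (Nat.mul_pos hk0 (by omega : 0 < k₂))
    (cp02.mul_dvd_of_dvd_of_dvd e10 e12)
    (show F₁.D ∣ 64 * K ^ 4 * (k₀ * k₂) * k₁ by
      rw [show 64 * K ^ 4 * (k₀ * k₂) * k₁ = 64 * K ^ 4 * (k₁ * k₂) * k₀ by ring]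
      exact (F₁.of_mem x₁ hx₁).1 ▸ hdG x₁) (F₁.coprime_deg c₁ o1 (Or.inr rfl) hc1)
  obtain ⟨u₂, hu₂, -⟩ := exists_factor (Nat.mul_pos hk0 (by omega : 0 < k₁))
    (cp01.mul_dvd_of_dvd_of_dvd e20 e21)
    (show F₂.D ∣ 64 * K ^ 4 * (k₀ * k₁) * k₂ by
      rw [show 64 * K ^ 4 * (k₀ * k₁) * k₂ = 64 * K ^ 4 * (k₁ * k₂) * k₀ by ring]
      exact (F₂.of_mem x₂ hx₂).1 ▸ hdG x₂) (F₂.coprime_deg c₂ o2 (Or.inr rfl) hc2)
  have pu : ∀ {d u : ℕ} (χ : IrrCharacter G), charDegree (χ : G → ℂ) = d * u → 1 ≤ u := by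
    intro d u χ h
    rcases Nat.eq_zero_or_pos u with rfl | h'
    · have := charDegree_pos χ
      omega
    · exact h'
  have p0 := pu x₀ ((F₀.of_mem x₀ hx₀).1.trans hu₀)
  have p1 := pu x₁ ((F₁.of_mem x₁ hx₁).1.trans hu₁)
  have p2 := pu x₂ ((F₂.of_mem x₂ hx₂).1.trans hu₂)
  -- the remaining characters
  have hd01 : Disjoint F₀.E F₁.E := Finset.disjoint_left.2 fun χ h => (f01 χ h).1
  have hd02 : Disjoint F₀.E F₂.E := Finset.disjoint_left.2 fun χ h => (f02 χ h).1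
  have hd12 : Disjoint F₁.E F₂.E := Finset.disjoint_left.2 fun χ h => (f12 χ h).1
  set U := insert (trivChar G) (insert s (F₀.E ∪ F₁.E ∪ F₂.E)) with hU
  set R := Finset.univ \ U with hR
  have hRmem : ∀ χ ∈ R, χ ≠ trivChar G ∧ χ ≠ s ∧ χ ∉ F₀.E ∧ χ ∉ F₁.E ∧ χ ∉ F₂.E := fun χ hχ => by
    simp only [hR, hU, Finset.mem_sdiff, Finset.mem_univ, true_and, Finset.mem_insert,
      Finset.mem_union, not_or] at hχ
    exact ⟨hχ.1, hχ.2.1, hχ.2.2.1.1, hχ.2.2.1.2, hχ.2.2.2⟩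
  set sq : IrrCharacter G → ℕ := fun χ => charDegree (χ : G → ℂ) ^ 2 with hsq
  have hfam : ∀ {T : Subgroup G} {a : ℕ} (F : Fam T a), ∑ χ ∈ F.E, sq χ = F.E.card * F.D ^ 2 :=
    fun F => by
      rw [Finset.sum_congr rfl (g := fun _ => F.D ^ 2) fun χ hχ => congrArg (· ^ 2) (F.of_mem χ hχ).1,
        Finset.sum_const, smul_eq_mul]
  have htot : 64 * K ^ 4 * (k₁ * k₂) * k₀ = 1 + (64 * K ^ 4) ^ 2 + F₀.E.card * F₀.D ^ 2 +
      F₁.E.card * F₁.D ^ 2 + F₂.E.card * F₂.D ^ 2 + ∑ χ ∈ R, sq χ := by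
    rw [← N.card, ← sum_sq_charDegree, ← Finset.sum_sdiff (Finset.subset_univ U), ← hR, hU,
      Finset.sum_insert, Finset.sum_insert, Finset.sum_union (Finset.disjoint_union_left.2 ⟨hd02, hd12⟩),
      Finset.sum_union hd01, ← hfam F₀, ← hfam F₁, ← hfam F₂]
    · simp only [hsq, ht1, hs]
      ring
    · simp [s0, s1, s2]
    · simp [F₀.triv_notMem, F₁.triv_notMem, F₂.triv_notMem, Ne.symm hst]
  clear_value R sq
  -- the expected values leave `q k₀²`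
  have hid : 64 * K ^ 4 * (k₁ * k₂) * k₀ = 1 + (64 * K ^ 4) ^ 2 + F₀.E.card * (k₁ * k₂) ^ 2 +
      F₁.E.card * (k₀ * k₂) ^ 2 + F₂.E.card * (k₀ * k₁) ^ 2 + 8 * K ^ 2 * k₀ ^ 2 := by
    have h0' : (k₀ : ℤ) = 8 * (K : ℤ) ^ 2 - 1 := by
      have : (k₀ : ℤ) + 1 = 8 * (K : ℤ) ^ 2 := by exact_mod_cast N.h₀
      linarith
    have h1' : (k₁ : ℤ) = 8 * (K : ℤ) ^ 2 + 4 * K + 1 := by exact_mod_cast N.h₁
    have h2' : (k₂ : ℤ) = 8 * (K : ℤ) ^ 2 - 4 * K + 1 := by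
      have : (k₂ : ℤ) + 4 * K = 8 * (K : ℤ) ^ 2 + 1 := by exact_mod_cast N.h₂
      linarith
    have m0 : (F₀.E.card : ℤ) = 4 * (K : ℤ) ^ 2 - 1 := by
      have : (F₀.E.card : ℤ) + 1 = 4 * (K : ℤ) ^ 2 := by exact_mod_cast n0
      linarith
    have m1 : (F₁.E.card : ℤ) = 2 * (K : ℤ) ^ 2 + K := by exact_mod_cast n1
    have m2 : (F₂.E.card : ℤ) = 2 * (K : ℤ) ^ 2 - K := by
      have : (F₂.E.card : ℤ) + K = 2 * (K : ℤ) ^ 2 := by exact_mod_cast n2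
      linarith
    zify
    rw [h0', h1', h2', m0, m1, m2]
    ring
  have hbig : ∀ {n d u : ℕ}, 1 ≤ u → 8 * K ^ 2 * k₀ ^ 2 < 3 * (n * d ^ 2) →
      n * (d * u) ^ 2 ≤ n * d ^ 2 + 8 * K ^ 2 * k₀ ^ 2 → u = 1 := by
    intro n d u hu hlt hle
    by_contra hne
    have h4 : 4 ≤ u ^ 2 := by nlinarith [show 2 ≤ u by omega]
    have : n * d ^ 2 * 4 ≤ n * (d * u) ^ 2 := by
      rw [mul_pow, ← mul_assoc]
      exact Nat.mul_le_mul_left _ h4
    linarith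
  have mono : ∀ {n d u : ℕ}, 1 ≤ u → n * d ^ 2 ≤ n * (d * u) ^ 2 := fun hu =>
    Nat.mul_le_mul_left _ (Nat.pow_le_pow_left (Nat.le_mul_of_pos_right _ hu) 2)
  rw [hu₀, hu₁, hu₂] at htot
  have m0 := mono (n := F₀.E.card) (d := k₁ * k₂) p0
  have m1 := mono (n := F₁.E.card) (d := k₀ * k₂) p1
  have m2 := mono (n := F₂.E.card) (d := k₀ * k₁) p2
  have hsq1 : ∀ x : ℕ, 4 * K ^ 2 + 1 ≤ x → 8 * K ^ 2 < x ^ 2 := fun x hx => by nlinarith
  have v1 : u₁ = 1 := hbig (n := F₁.E.card) (d := k₀ * k₂) p1 (by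
    have := hsq1 k₂ b2
    calc 8 * K ^ 2 * k₀ ^ 2 < k₂ ^ 2 * k₀ ^ 2 := Nat.mul_lt_mul_of_pos_right this (by positivity)
      _ = 1 * (k₀ * k₂) ^ 2 := by ring
      _ ≤ (3 * F₁.E.card) * (k₀ * k₂) ^ 2 := Nat.mul_le_mul_right _ (by omega)
      _ = _ := by ring) (by omega)
  have v2 : u₂ = 1 := hbig (n := F₂.E.card) (d := k₀ * k₁) p2 (by
    have := hsq1 k₁ (by have := N.h₁; omega)
    calc 8 * K ^ 2 * k₀ ^ 2 < k₁ ^ 2 * k₀ ^ 2 := Nat.mul_lt_mul_of_pos_right this (by positivity)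
      _ = 1 * (k₀ * k₁) ^ 2 := by ring
      _ ≤ (3 * F₂.E.card) * (k₀ * k₁) ^ 2 := Nat.mul_le_mul_right _ (by omega)
      _ = _ := by ring) (by omega)
  have v0 : u₀ = 1 := hbig (n := F₀.E.card) (d := k₁ * k₂) p0 (by
    have := hsq1 k₁ (by have := N.h₁; omega)
    have hle : k₀ ≤ k₂ ^ 2 := by
      have := N.h₀
      have := hsq1 k₂ b2
      omega
    have h3 : 4 ≤ k₀ := by omega
    calc 8 * K ^ 2 * k₀ ^ 2 < k₁ ^ 2 * k₀ ^ 2 := Nat.mul_lt_mul_of_pos_right this (by positivity)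
      _ ≤ k₁ ^ 2 * (3 * F₀.E.card * k₂ ^ 2) := Nat.mul_le_mul_left _ (by
          calc k₀ ^ 2 = k₀ * k₀ := pow_two k₀
            _ ≤ (3 * F₀.E.card) * k₂ ^ 2 := Nat.mul_le_mul (by have := N.h₀; omega) hle)
      _ = _ := by ring) (by omega)
  subst v0 v1 v2
  rw [mul_one] at hu₀ hu₁ hu₂
  have hRsum : ∑ χ ∈ R, sq χ = 8 * K ^ 2 * k₀ ^ 2 := by
    simp only [mul_one] at htot
    omega
  -- each remaining degree is a multiple of `k₀`
  have hRd : ∀ χ ∈ R, ∃ d, charDegree (χ : G → ℂ) = k₀ * d := fun χ hχ =>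
    hz χ (hRmem χ hχ).1 (hRmem χ hχ).2.1 (hRmem χ hχ).2.2.1
  choose! dd hdd using hRd
  have hdsum : ∑ χ ∈ R, dd χ ^ 2 = 2 * (2 * K) ^ 2 := by
    have h : k₀ ^ 2 * ∑ χ ∈ R, dd χ ^ 2 = k₀ ^ 2 * (2 * (2 * K) ^ 2) := by
      rw [Finset.mul_sum, Finset.sum_congr rfl (g := sq) fun χ hχ => by rw [hsq]; simp only [hdd χ hχ, mul_pow]]
      rw [hRsum]
      ring
    exact Nat.eq_of_mul_eq_mul_left (by positivity) h
  have hnz : ∀ χ ∈ R, F₁.A χ ≠ 0 := by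
    intro χ hχ h0
    have h1 := F₁.dvd_of_eq_zero (hRmem χ hχ).2.2.2.1 h0
    rw [c₁, hdd χ hχ] at h1
    have h2 := cp01.symm.dvd_of_dvd_mul_left h1
    have hpos : 0 < dd χ := by
      rcases Nat.eq_zero_or_pos (dd χ) with h | h
      · have := charDegree_pos χ
        rw [hdd χ hχ, h, mul_zero] at this
        omega
      · exact h
    have h3 := Nat.le_of_dvd hpos h2
    have h4 : dd χ ^ 2 ≤ ∑ χ ∈ R, dd χ ^ 2 :=
      Finset.single_le_sum (f := fun χ => dd χ ^ 2) (fun _ _ => Nat.zero_le _) hχ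
    have h5 := hsq1 (dd χ) (by have := N.h₁; omega)
    rw [hdsum] at h4
    nlinarith
  have hRcard : R.card ≤ 2 := by
    have h := hb1 R (fun h => (hRmem _ h).1 rfl) (fun h => (hRmem _ h).2.1 rfl)
      (Finset.disjoint_left.2 fun χ hχ => (hRmem χ hχ).2.2.2.1)
    have hq := quad_nonneg (n := F₁.E.card) (by omega) F₁.sign (c := F₁.c)
    have h2 : (R.card : ℤ) ≤ ∑ χ ∈ R, F₁.A χ ^ 2 := by
      rw [Finset.card_eq_sum_ones, Nat.cast_sum]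
      refine Finset.sum_le_sum fun χ hχ => ?_
      have h4 : 0 < F₁.A χ ^ 2 := lt_of_le_of_ne (sq_nonneg _) (Ne.symm (pow_ne_zero 2 (hnz χ hχ)))
      push_cast
      exact Int.add_one_le_iff.2 h4
    push_cast at h
    have h3 : (R.card : ℤ) ≤ 2 := by linarith
    exact_mod_cast h3
  have hRpair : R.card = 2 ∧ ∀ χ ∈ R, dd χ = 2 * K := by
    have hpow : 2 * K = 2 ^ (j + 1) := by rw [hj, pow_succ]; ring
    rw [hpow] at hdsum ⊢
    rcases (show R.card = 0 ∨ R.card = 1 ∨ R.card = 2 by omega) with hcard | hcard | hcard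
    · rw [Finset.card_eq_zero] at hcard
      rw [hcard, Finset.sum_empty] at hdsum
      have : 0 < (2 ^ (j + 1)) ^ 2 := by positivity
      omega
    · obtain ⟨x, hx⟩ := Finset.card_eq_one.1 hcard
      rw [hx, Finset.sum_singleton] at hdsum
      have := (eq_of_sq_sum (j + 1) (dd x) 0 (by rw [hdsum]; ring)).2
      have : 0 < 2 ^ (j + 1) := by positivity
      omega
    · obtain ⟨x, y, hxy, hx⟩ := Finset.card_eq_two.1 hcard
      rw [hx, Finset.sum_pair hxy] at hdsum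
      obtain ⟨h1, h2⟩ := eq_of_sq_sum (j + 1) _ _ hdsum
      refine ⟨hcard, fun χ hχ => ?_⟩
      rw [hx, Finset.mem_insert, Finset.mem_singleton] at hχ
      rcases hχ with rfl | rfl
      exacts [h1, h2]
  ext d
  constructor
  · rintro ⟨χ, rfl⟩
    by_cases hχU : χ ∈ U
    · simp only [hU, Finset.mem_insert, Finset.mem_union] at hχU
      rcases hχU with rfl | rfl | (h | h) | h
      · exact Or.inl ht1
      · exact Or.inr (Or.inl hs)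
      · exact Or.inr (Or.inr (Or.inl (((F₀.of_mem χ h).1.trans hu₀).trans N.prod)))
      · exact Or.inr (Or.inr (Or.inr (Or.inr (Or.inl ((F₁.of_mem χ h).1.trans hu₁)))))
      · exact Or.inr (Or.inr (Or.inr (Or.inl ((F₂.of_mem χ h).1.trans hu₂))))
    · have hχ : χ ∈ R := by simp [hR, hχU]
      exact Or.inr (Or.inr (Or.inr (Or.inr (Or.inr ((hdd χ hχ).trans (by rw [hRpair.2 χ hχ]))))))
  · rintro (rfl | rfl | rfl | rfl | rfl | rfl)
    · exact ⟨_, ht1⟩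
    · exact ⟨_, hs⟩
    · exact ⟨x₀, ((F₀.of_mem x₀ hx₀).1.trans hu₀).trans N.prod⟩
    · exact ⟨x₂, (F₂.of_mem x₂ hx₂).1.trans hu₂⟩
    · exact ⟨x₁, (F₁.of_mem x₁ hx₁).1.trans hu₁⟩
    · obtain ⟨x, hx⟩ : R.Nonempty := Finset.card_pos.1 (by omega)
      exact ⟨x, (hdd x hx).trans (by rw [hRpair.2 x hx])⟩

end CfsgLib.DegreeTools.SzDeg
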