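import Cfsg.Agent.Lib.DegreeTools.SzDegrees

/-!
# The character degrees of the Suzuki group of order 29120
-/

set_option autoImplicit false

namespace CfsgLib.DegreeTools.SzDeg

open Cfsg CfsgLib CfsgLib.Blocks CfsgLib.DegreeTools.Torus
open scoped Classical

variable {G : Type*} [Group G] [Fintype G]

theorem no_177 : ∀ x y : ℕ, x ^ 2 + y ^ 2 ≠ 177 := by
  intro x y h
  have hx : x < 14 := by nlinarith
  have hy : y < 14 := by nlinarith
  have key : ∀ a b : Fin 14, (a : ℕ) ^ 2 + (b : ℕ) ^ 2 ≠ 177 := by decide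
  exact key ⟨x, hx⟩ ⟨y, hy⟩ h

theorem sum_eq_eight {ι : Type*} (S : Finset ι) (d : ι → ℕ) (hS : S.card ≤ 2)
    (h : ∑ i ∈ S, d i ^ 2 = 8) : S.Nonempty ∧ ∀ i ∈ S, d i = 2 := by
  rcases (show S.card = 0 ∨ S.card = 1 ∨ S.card = 2 by omega) with hc | hc | hc
  · rw [Finset.card_eq_zero.1 hc, Finset.sum_empty] at h
    omega
  · obtain ⟨x, rfl⟩ := Finset.card_eq_one.1 hc
    rw [Finset.sum_singleton] at h
    have := (eq_of_sq_sum 1 (d x) 0 (by rw [h]; norm_num)).2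
    norm_num at this
  · obtain ⟨x, y, hxy, rfl⟩ := Finset.card_eq_two.1 hc
    rw [Finset.sum_pair hxy] at h
    obtain ⟨h1, h2⟩ := eq_of_sq_sum 1 (d x) (d y) (by rw [h]; norm_num)
    refine ⟨⟨x, by simp⟩, fun i hi => ?_⟩
    rw [Finset.mem_insert, Finset.mem_singleton] at hi
    rcases hi with rfl | rfl
    exacts [h1, h2]

theorem sum_ne_177 {ι : Type*} (S : Finset ι) (d : ι → ℕ) (hS : S.card ≤ 2) :
    ∑ i ∈ S, d i ^ 2 ≠ 177 := by
  rcases (show S.card = 0 ∨ S.card = 1 ∨ S.card = 2 by omega) with hc | hc | hc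
  · rw [Finset.card_eq_zero.1 hc, Finset.sum_empty]
    omega
  · obtain ⟨x, rfl⟩ := Finset.card_eq_one.1 hc
    rw [Finset.sum_singleton]
    simpa using no_177 (d x) 0
  · obtain ⟨x, y, hxy, rfl⟩ := Finset.card_eq_two.1 hc
    rw [Finset.sum_pair hxy]
    exact no_177 _ _

set_option maxHeartbeats 1000000 in
/-- The degrees, for `q = 8`. -/
theorem degrees_eight (hG : Nat.card G = 29120) {T₀ T₁ T₂ : Subgroup G} (F₀ : Fam T₀ 2)
    (F₁ : Fam T₁ 4) (c₀ : Nat.card T₀ = 7) (c₁ : Nat.card T₁ = 13) (A₂ : IrrCharacter G → ℤ)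
    (dvd₂ : ∀ χ : IrrCharacter G, (5 : ℤ) ∣ (charDegree (χ : G → ℂ) : ℤ) - A₂ χ)
    (norm₂ : ∑ χ, A₂ χ ^ 2 = 5)
    (congr₂ : ∀ χ ψ : IrrCharacter G, (∀ y ∈ T₂, (χ : G → ℂ) y = (ψ : G → ℂ) y) → A₂ χ = A₂ ψ)
    (triv₂ : A₂ (trivChar G) = 1)
    (d₀₁ : ∀ y ∈ T₁, ¬ Char.TICover.InD T₀ y) (d₀₂ : ∀ y ∈ T₂, ¬ Char.TICover.InD T₀ y)
    (d₁₂ : ∀ y ∈ T₂, ¬ Char.TICover.InD T₁ y)
    {s : IrrCharacter G} (hs : charDegree (s : G → ℂ) = 64) :
    Cfsg.charDegrees G = degList 1 7 13 5 := by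
  have ht1 : charDegree ((trivChar G : IrrCharacter G) : G → ℂ) = 1 := by
    show ⌊((1 : ℂ)).re⌋₊ = 1
    simp
  have hst : s ≠ trivChar G := fun h => by rw [h, ht1] at hs; omega
  have hdG : ∀ χ : IrrCharacter G, charDegree (χ : G → ℂ) ∣ 29120 := fun χ => hG ▸ charDegree_dvd χ
  have n0 : F₀.E.card = 3 := by have := F₀.card_eq; rw [c₀] at this; omega
  have n1 : F₁.E.card = 3 := by have := F₁.card_eq; rw [c₁] at this; omega
  obtain ⟨s0, hc0, hz⟩ := zero_torus F₀ c₀ (by omega) (by omega) hst (by rw [hs]; norm_num)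
  obtain ⟨s1, -, hb1⟩ := main_torus F₁ c₁ (by omega) (by omega) hst (Or.inr ⟨rfl, rfl⟩)
    (by rw [hs]; norm_num)
  obtain ⟨e01, f01⟩ := cross_zero F₁ F₀ (by norm_num) c₁ (by omega) (by omega) d₀₁ s0 hb1
  have hq1 : (F₁.E.card : ℤ) * F₁.c ^ 2 - 2 * F₁.ε * F₁.c ≤ 2 := by
    have h := hb1 ∅ (Finset.notMem_empty _) (Finset.notMem_empty _) (Finset.disjoint_empty_left _)
    rw [Finset.sum_empty] at h
    push_cast at h
    linarith
  have hA2s : A₂ s = -1 := by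
    have h := Finset.sum_le_sum_of_subset_of_nonneg (f := fun χ => A₂ χ ^ 2)
      (Finset.subset_univ ({trivChar G, s} : Finset (IrrCharacter G))) fun χ _ _ => sq_nonneg _
    rw [Finset.sum_pair (Ne.symm hst), triv₂, norm₂] at h
    have hd := dvd₂ s
    rw [hs] at hd
    have h1 : -3 < A₂ s ∧ A₂ s < 3 := by constructor <;> nlinarith
    omega
  have hb2 : ∀ S : Finset (IrrCharacter G), trivChar G ∉ S → s ∉ S → ∑ χ ∈ S, A₂ χ ^ 2 ≤ 3 := by
    intro S h1 h2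
    have hd : Disjoint S {trivChar G, s} := by simp [Finset.disjoint_insert_right, h1, h2]
    have h := Finset.sum_le_sum_of_subset_of_nonneg (f := fun χ => A₂ χ ^ 2)
      (Finset.subset_univ (S ∪ {trivChar G, s})) fun χ _ _ => sq_nonneg _
    rw [Finset.sum_union hd, Finset.sum_pair (Ne.symm hst), triv₂, hA2s, norm₂] at h
    linarith
  have hd01 : Disjoint F₀.E F₁.E := Finset.disjoint_left.2 fun χ h => (f01 χ h).1
  set U := insert (trivChar G) (insert s (F₀.E ∪ F₁.E)) with hU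
  set R := Finset.univ \ U with hR
  have hRmem : ∀ χ ∈ R, χ ≠ trivChar G ∧ χ ≠ s ∧ χ ∉ F₀.E ∧ χ ∉ F₁.E := fun χ hχ => by
    simp only [hR, hU, Finset.mem_sdiff, Finset.mem_univ, true_and, Finset.mem_insert,
      Finset.mem_union, not_or] at hχ
    exact ⟨hχ.1, hχ.2.1, hχ.2.2.1, hχ.2.2.2⟩
  have hcov : ∀ χ, χ = trivChar G ∨ χ = s ∨ χ ∈ F₀.E ∨ χ ∈ F₁.E ∨ χ ∈ R := fun χ => by
    by_cases h : χ ∈ R
    · exact Or.inr (Or.inr (Or.inr (Or.inr h)))
    · simp only [hR, hU, Finset.mem_sdiff, Finset.mem_univ, true_and, not_not, Finset.mem_insert,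
        Finset.mem_union] at h
      tauto
  have hfam : ∀ {T : Subgroup G} {a : ℕ} (F : Fam T a),
      ∑ χ ∈ F.E, charDegree (χ : G → ℂ) ^ 2 = F.E.card * F.D ^ 2 := fun F => by
    rw [Finset.sum_congr rfl (g := fun _ => F.D ^ 2) fun χ hχ => congrArg (· ^ 2) (F.of_mem χ hχ).1,
      Finset.sum_const, smul_eq_mul]
  have htot : 29120 = 4097 + 3 * F₀.D ^ 2 + 3 * F₁.D ^ 2 + ∑ χ ∈ R, charDegree (χ : G → ℂ) ^ 2 := by
    rw [← hG, ← sum_sq_charDegree, ← Finset.sum_sdiff (Finset.subset_univ U), ← hR, hU,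
      Finset.sum_insert, Finset.sum_insert, Finset.sum_union hd01, hfam F₀, hfam F₁, ht1, hs, n0, n1]
    · ring
    · simp [s0, s1]
    · simp [F₀.triv_notMem, F₁.triv_notMem, Ne.symm hst]
  clear_value R
  have hR7 : ∀ χ ∈ R, 7 ∣ charDegree (χ : G → ℂ) := fun χ hχ =>
    hz χ (hRmem χ hχ).1 (hRmem χ hχ).2.1 (hRmem χ hχ).2.2.1
  -- all remaining degrees multiples of `35`
  have h35 : (∀ χ ∈ R, A₂ χ = 0) → ∃ w, ∑ χ ∈ R, charDegree (χ : G → ℂ) ^ 2 = 1225 * w := by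
    intro h
    refine Finset.dvd_sum fun χ hχ => ?_
    have h5 : 5 ∣ charDegree (χ : G → ℂ) := by
      have := dvd₂ χ
      rw [h χ hχ, sub_zero] at this
      exact_mod_cast this
    exact pow_dvd_pow_of_dvd (Nat.Coprime.mul_dvd_of_dvd_of_dvd (show Nat.Coprime 7 5 by norm_num)
      (hR7 χ hχ) h5) 2
  obtain ⟨x₀, hx₀⟩ : F₀.E.Nonempty := Finset.card_pos.1 (by omega)
  obtain ⟨x₁, hx₁⟩ : F₁.E.Nonempty := Finset.card_pos.1 (by omega)
  obtain ⟨dx₀, -⟩ := F₀.of_mem x₀ hx₀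
  obtain ⟨dx₁, -⟩ := F₁.of_mem x₁ hx₁
  have he0 : ∀ χ ∈ F₀.E, A₂ χ = A₂ x₀ := fun χ hχ =>
    congr₂ χ x₀ fun y hy => F₀.agree χ hχ x₀ hx₀ y (d₀₂ y hy)
  have he1 : ∀ χ ∈ F₁.E, A₂ χ = A₂ x₁ := fun χ hχ =>
    congr₂ χ x₁ fun y hy => F₁.agree χ hχ x₁ hx₁ y (d₁₂ y hy)
  -- `D₀ = 65`
  have hD0 : F₀.D = 65 := by
    obtain ⟨u, hu⟩ := e01
    have hd := dx₀ ▸ hdG x₀
    have hdd := F₀.dvd_deg
    rw [c₀, hc0, hu] at hdd
    rw [hu] at hd htot ⊢
    have hub : u ≤ 7 := by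
      by_contra hc
      have := Nat.pow_le_pow_left (show 104 ≤ 13 * u by omega) 2
      omega
    have h2 := dvd₂ x₀
    rw [dx₀, hu] at h2
    have hε := F₀.sign
    interval_cases u <;> first
      | rfl
      | omega
      | skip
    -- `D₀ = 26`
    exfalso
    have hb : 3 * A₂ x₀ ^ 2 ≤ 3 := by
      have h := hb2 F₀.E F₀.triv_notMem s0
      rw [Finset.sum_congr rfl fun χ hχ => by rw [he0 χ hχ], Finset.sum_const, n0, nsmul_eq_mul] at h
      exact_mod_cast h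
    have he : A₂ x₀ = 1 := by
      have : -2 < A₂ x₀ ∧ A₂ x₀ < 2 := by constructor <;> nlinarith
      omega
    obtain ⟨w, hw⟩ := h35 fun χ hχ => by
      have h := hb2 (insert χ F₀.E)
        (by simp [F₀.triv_notMem, Ne.symm (hRmem χ hχ).1]) (by simp [s0, Ne.symm (hRmem χ hχ).2.1])
      rw [Finset.sum_insert (hRmem χ hχ).2.2.1,
        Finset.sum_congr rfl fun χ hχ => by rw [he0 χ hχ, he], Finset.sum_const, n0, nsmul_eq_mul] at h
      push_cast at h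
      exact pow_eq_zero_iff two_ne_zero |>.1 (le_antisymm (by linarith) (sq_nonneg _))
    have h35' : 35 ∣ F₁.D := by
      rw [← dx₁]
      refine Nat.Coprime.mul_dvd_of_dvd_of_dvd (show Nat.Coprime 7 5 by norm_num)
        (hz x₁ (fun e => F₁.triv_notMem (e ▸ hx₁)) (fun e => s1 (e ▸ hx₁))
          (fun e => Finset.disjoint_left.1 hd01 e hx₁)) ?_
      have h := hb2 (insert x₁ F₀.E)
        (by simp [F₀.triv_notMem, show trivChar G ≠ x₁ from fun e => F₁.triv_notMem (e ▸ hx₁)])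
        (by simp [s0, show s ≠ x₁ from fun e => s1 (e ▸ hx₁)])
      rw [Finset.sum_insert (fun e => Finset.disjoint_left.1 hd01 e hx₁),
        Finset.sum_congr rfl fun χ hχ => by rw [he0 χ hχ, he], Finset.sum_const, n0, nsmul_eq_mul] at h
      push_cast at h
      have h0 : A₂ x₁ = 0 := pow_eq_zero_iff two_ne_zero |>.1 (le_antisymm (by linarith) (sq_nonneg _))
      have := dvd₂ x₁
      rw [h0, sub_zero] at this
      exact_mod_cast this
    obtain ⟨v, hv⟩ := h35'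
    rw [hw, hv] at htot
    ring_nf at htot
    omega
  rw [hD0] at htot
  -- `D₁ = 35`
  have hD1 : F₁.D = 35 := by
    obtain ⟨u, hu⟩ : 7 ∣ F₁.D := dx₁ ▸ hz x₁ (fun e => F₁.triv_notMem (e ▸ hx₁))
      (fun e => s1 (e ▸ hx₁)) (fun e => Finset.disjoint_left.1 hd01 e hx₁)
    have hd := dx₁ ▸ hdG x₁
    have hdd := F₁.dvd_deg
    rw [c₁, hu] at hdd
    rw [hu] at hd htot ⊢
    have hub : u ≤ 9 := by
      by_contra hc
      have := Nat.pow_le_pow_left (show 70 ≤ 7 * u by omega) 2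
      omega
    have hcb := quad_small (n := F₁.E.card) (by omega) F₁.sign (c := F₁.c) (by linarith)
    have h2 := dvd₂ x₁
    rw [dx₁, hu] at h2
    have hR0 : A₂ x₁ ≠ 0 → ∀ χ ∈ R, A₂ χ = 0 := by
      intro hne χ hχ
      have h := hb2 (insert χ F₁.E)
        (by simp [F₁.triv_notMem, Ne.symm (hRmem χ hχ).1]) (by simp [s1, Ne.symm (hRmem χ hχ).2.1])
      rw [Finset.sum_insert (hRmem χ hχ).2.2.2,
        Finset.sum_congr rfl fun χ hχ => by rw [he1 χ hχ], Finset.sum_const, n1, nsmul_eq_mul] at h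
      have h4 : 1 ≤ A₂ x₁ ^ 2 :=
        Int.add_one_le_iff.2 (lt_of_le_of_ne (sq_nonneg _) (Ne.symm (pow_ne_zero 2 hne)))
      push_cast at h
      exact pow_eq_zero_iff two_ne_zero |>.1 (le_antisymm (by linarith) (sq_nonneg _))
    have hε := F₁.sign
    interval_cases u <;> first
      | rfl
      | omega
      | (exfalso
         obtain ⟨w, hw⟩ := h35 (hR0 (by intro h0; rw [h0] at h2; omega))
         rw [hw] at htot
         omega)
  rw [hD1] at htot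
  -- the last characters
  choose! dd hdd using hR7
  have hdsum : ∑ χ ∈ R, dd χ ^ 2 = 177 := by
    have h : 49 * ∑ χ ∈ R, dd χ ^ 2 = ∑ χ ∈ R, charDegree (χ : G → ℂ) ^ 2 := by
      rw [Finset.mul_sum]
      exact Finset.sum_congr rfl fun χ hχ => by rw [hdd χ hχ]; ring
    omega
  set R₁ := R.filter fun χ => F₁.A χ = 0 with hR₁
  set R₂ := R.filter fun χ => ¬ F₁.A χ = 0 with hR₂
  have hR2 : R₂.card ≤ 2 := by
    have h := hb1 R₂ (fun h => (hRmem _ (Finset.mem_filter.1 h).1).1 rfl)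
      (fun h => (hRmem _ (Finset.mem_filter.1 h).1).2.1 rfl)
      (Finset.disjoint_left.2 fun χ hχ => (hRmem χ (Finset.mem_filter.1 hχ).1).2.2.2)
    have hq := quad_nonneg (n := F₁.E.card) (by omega) F₁.sign (c := F₁.c)
    have h2 : (R₂.card : ℤ) ≤ ∑ χ ∈ R₂, F₁.A χ ^ 2 := by
      rw [Finset.card_eq_sum_ones, Nat.cast_sum]
      refine Finset.sum_le_sum fun χ hχ => ?_
      have h4 : 0 < F₁.A χ ^ 2 :=
        lt_of_le_of_ne (sq_nonneg _) (Ne.symm (pow_ne_zero 2 (Finset.mem_filter.1 hχ).2))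
      push_cast
      exact Int.add_one_le_iff.2 h4
    push_cast at h
    have h3 : (R₂.card : ℤ) ≤ 2 := by linarith
    exact_mod_cast h3
  have hsplit : ∑ χ ∈ R₁, dd χ ^ 2 + ∑ χ ∈ R₂, dd χ ^ 2 = 177 := by
    rw [hR₁, hR₂, Finset.sum_filter_add_sum_filter_not, hdsum]
  have h13 : ∀ χ ∈ R₁, dd χ = 13 := by
    intro χ hχ
    obtain ⟨hχR, h0⟩ := Finset.mem_filter.1 hχ
    have h1 := F₁.dvd_of_eq_zero (hRmem χ hχR).2.2.2 h0
    rw [c₁, hdd χ hχR] at h1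
    obtain ⟨v, hv⟩ := (show Nat.Coprime 13 7 by norm_num).dvd_of_dvd_mul_left h1
    have hle : dd χ ^ 2 ≤ 177 := hdsum ▸ Finset.single_le_sum (f := fun χ => dd χ ^ 2)
      (fun _ _ => Nat.zero_le _) hχR
    have hpos : 0 < dd χ := by
      rcases Nat.eq_zero_or_pos (dd χ) with h | h
      · have := charDegree_pos χ
        rw [hdd χ hχR, h] at this
        omega
      · exact h
    rw [hv] at hle hpos ⊢
    have : v < 2 := by nlinarith
    omega
  have hs1 : ∑ χ ∈ R₁, dd χ ^ 2 = R₁.card * 169 := by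
    rw [Finset.sum_congr rfl (g := fun _ => 169) fun χ hχ => by rw [h13 χ hχ]; norm_num, Finset.sum_const,
      smul_eq_mul]
  have hc1 : R₁.card = 1 := by
    rcases Nat.eq_zero_or_pos R₁.card with h | h
    · exact absurd (by rw [hs1, h] at hsplit; omega) (sum_ne_177 R₂ dd hR2)
    · omega
  obtain ⟨hne2, hd2⟩ := sum_eq_eight R₂ dd hR2 (by rw [hs1, hc1] at hsplit; omega)
  ext d
  constructor
  · rintro ⟨χ, rfl⟩
    rcases hcov χ with rfl | rfl | h | h | h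
    · exact Or.inl ht1
    · exact Or.inr (Or.inl hs)
    · exact Or.inr (Or.inr (Or.inl (((F₀.of_mem χ h).1.trans hD0).trans (by norm_num))))
    · exact Or.inr (Or.inr (Or.inr (Or.inr (Or.inl (((F₁.of_mem χ h).1.trans hD1).trans (by norm_num))))))
    · rw [hdd χ h]
      by_cases h0 : F₁.A χ = 0
      · exact Or.inr (Or.inr (Or.inr (Or.inl (by rw [h13 χ (Finset.mem_filter.2 ⟨h, h0⟩)]))))
      · exact Or.inr (Or.inr (Or.inr (Or.inr (Or.inr (by rw [hd2 χ (Finset.mem_filter.2 ⟨h, h0⟩)])))))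
  · rintro (rfl | rfl | rfl | rfl | rfl | rfl)
    · exact ⟨_, ht1⟩
    · exact ⟨_, hs⟩
    · exact ⟨x₀, (dx₀.trans hD0).trans (by norm_num)⟩
    · obtain ⟨x, hx⟩ : R₁.Nonempty := Finset.card_pos.1 (by omega)
      exact ⟨x, (hdd x (Finset.mem_filter.1 hx).1).trans (by rw [h13 x hx])⟩
    · exact ⟨x₁, (dx₁.trans hD1).trans (by norm_num)⟩
    · obtain ⟨x, hx⟩ := hne2
      exact ⟨x, (hdd x (Finset.mem_filter.1 hx).1).trans (by rw [hd2 x hx])⟩

end CfsgLib.DegreeTools.SzDeg
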