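import Cfsg.Agent.Lib.DegreeTools.TorusFamily
import Cfsg.Agent.Lib.CharDeep.GenChar

/-!
# Bookkeeping for several exceptional families, and the character of a two coset permutation action
-/

set_option autoImplicit false

namespace CfsgLib.DegreeTools.Torus

open Cfsg CfsgLib CfsgLib.Blocks CfsgLib.BrauerSuzuki
open CfsgLib.Char.TICover
open scoped Classical ComplexConjugate

variable {G : Type*} [Group G] [Fintype G]

/-- The output of `exists_family`, bundled. -/
structure Fam (T : Subgroup G) (a : ℕ) where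
  A : IrrCharacter G → ℤ
  ε : ℤ
  c : ℤ
  E : Finset (IrrCharacter G)
  D : ℕ
  sign : ε = 1 ∨ ε = -1
  card_eq : a * E.card + 1 = Nat.card T
  of_mem : ∀ χ ∈ E, charDegree (χ : G → ℂ) = D ∧ A χ = c
  dvd_off : ∀ χ : IrrCharacter G, χ ∉ E → (Nat.card T : ℤ) ∣ (charDegree (χ : G → ℂ) : ℤ) - A χ
  dvd_deg : (Nat.card T : ℤ) ∣ (D : ℤ) - c - a * ε
  norm : ∑ χ, A χ ^ 2 - 2 * ε * c = (a : ℤ)
  agree : ∀ χ ∈ E, ∀ ψ ∈ E, ∀ y : G, ¬ InD T y → (χ : G → ℂ) y = (ψ : G → ℂ) y
  congr : ∀ χ ψ : IrrCharacter G, (∀ y ∈ T, (χ : G → ℂ) y = (ψ : G → ℂ) y) →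
    A χ = A ψ ∧ (χ ∈ E → ψ = χ)
  triv_notMem : trivChar G ∉ E
  triv : A (trivChar G) = 1

theorem nonempty_fam {T : Subgroup G} {a : ℕ} (ha : 1 < a) (hk : a + 1 < Nat.card T)
    (hC : ∀ x ∈ T, x ≠ 1 → Subgroup.centralizer ({x} : Set G) = T)
    (hN : Nat.card (Subgroup.normalizer (T : Set G)) = a * Nat.card T) : Nonempty (Fam T a) := by
  have hne : T ≠ ⊥ := fun h => by rw [h, Subgroup.card_bot] at hk; omega
  have hlt : T < Subgroup.normalizer (T : Set G) := lt_of_le_of_ne Subgroup.le_normalizer fun h => by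
    rw [← h] at hN
    have := Nat.eq_of_mul_eq_mul_right Nat.card_pos ((one_mul _).trans hN)
    omega
  have : Finite (T →* ℂˣ) := Finite.of_equiv _ Char.homEquivLinear.symm
  letI : Fintype (T →* ℂˣ) := Fintype.ofFinite _
  obtain ⟨A, ε, c, E, D, h1, h2, h3, h4, h5, h6, h7, h8, h9, h10⟩ :=
    exists_family (setting_of_cent hne hlt hC) (comm_of_cent hC) (by omega) hN hk
  exact ⟨⟨A, ε, c, E, D, h1, h2, h3, h4, h5, h6, h7, h8, h9, h10⟩⟩

theorem exists_single' {T : Subgroup G} {a : ℕ} (ha : 1 < a) (hk : a + 1 = Nat.card T)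
    (hC : ∀ x ∈ T, x ≠ 1 → Subgroup.centralizer ({x} : Set G) = T)
    (hN : Nat.card (Subgroup.normalizer (T : Set G)) = a * Nat.card T) :
    ∃ A : IrrCharacter G → ℤ,
      (∀ χ : IrrCharacter G, (Nat.card T : ℤ) ∣ (charDegree (χ : G → ℂ) : ℤ) - A χ) ∧
      ∑ χ, A χ ^ 2 = (Nat.card T : ℤ) ∧
      (∀ χ ψ : IrrCharacter G, (∀ y ∈ T, (χ : G → ℂ) y = (ψ : G → ℂ) y) → A χ = A ψ) ∧
      A (trivChar G) = 1 := by
  have hne : T ≠ ⊥ := fun h => by rw [h, Subgroup.card_bot] at hk; omega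
  have hlt : T < Subgroup.normalizer (T : Set G) := lt_of_le_of_ne Subgroup.le_normalizer fun h => by
    rw [← h] at hN
    have := Nat.eq_of_mul_eq_mul_right Nat.card_pos ((one_mul _).trans hN)
    omega
  have : Finite (T →* ℂˣ) := Finite.of_equiv _ Char.homEquivLinear.symm
  letI : Fintype (T →* ℂˣ) := Fintype.ofFinite _
  exact exists_single (setting_of_cent hne hlt hC) (comm_of_cent hC) (by omega) hN hk

/-- Nonidentity elements of one torus are not conjugate into another of different order. -/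
theorem not_inD {T T' : Subgroup G}
    (hC : ∀ x ∈ T, x ≠ 1 → Subgroup.centralizer ({x} : Set G) = T)
    (hC' : ∀ x ∈ T', x ≠ 1 → Subgroup.centralizer ({x} : Set G) = T')
    (hne : Nat.card T ≠ Nat.card T') {y : G} (hy : y ∈ T') : ¬ InD T y := by
  rintro ⟨hy1, x, hx⟩
  have hz : x⁻¹ * y * x ≠ 1 := fun h => hy1 (by
    calc y = x * (x⁻¹ * y * x) * x⁻¹ := by group
      _ = 1 := by rw [h]; simp)
  have h1 := Char.card_centralizer_eq_of_isConj
    (g := y) (h := x⁻¹ * y * x) (isConj_iff.2 ⟨x⁻¹, by rw [inv_inv]⟩)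
  rw [hC' y hy hy1, hC _ hx hz] at h1
  exact hne h1.symm

theorem quad_nonneg {n : ℕ} (hn : 2 ≤ n) {ε c : ℤ} (hε : ε = 1 ∨ ε = -1) :
    0 ≤ (n : ℤ) * c ^ 2 - 2 * ε * c := by
  have hn' : (2 : ℤ) ≤ n := by exact_mod_cast hn
  have h0 : 0 ≤ c * (c - ε) := by
    rcases le_or_gt c (-1) with h | h
    · rcases hε with e | e <;> subst e <;> nlinarith
    · rcases le_or_gt 1 c with h' | h'
      · rcases hε with e | e <;> subst e <;> nlinarith
      · rw [show c = 0 by omega]; simp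
  nlinarith [sq_nonneg c]

theorem quad_eq_zero {n : ℕ} (hn : 5 ≤ n) {ε c : ℤ} (hε : ε = 1 ∨ ε = -1)
    (h : (n : ℤ) * c ^ 2 - 2 * ε * c ≤ 2) : c = 0 := by
  have hn' : (5 : ℤ) ≤ n := by exact_mod_cast hn
  by_contra hc
  rcases hε with e | e <;> subst e <;> rcases lt_or_gt_of_ne hc with h' | h' <;> nlinarith

theorem quad_small {n : ℕ} (hn : 3 ≤ n) {ε c : ℤ} (hε : ε = 1 ∨ ε = -1)
    (h : (n : ℤ) * c ^ 2 - 2 * ε * c ≤ 3) : -1 ≤ c ∧ c ≤ 1 := by
  have hn' : (3 : ℤ) ≤ n := by exact_mod_cast hn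
  rcases hε with e | e <;> subst e <;> constructor <;> by_contra hc <;> nlinarith

namespace Fam

variable {T : Subgroup G} {a : ℕ} (F : Fam T a)

theorem sum_mem : ∑ χ ∈ F.E, F.A χ ^ 2 = (F.E.card : ℤ) * F.c ^ 2 := by
  rw [Finset.sum_congr rfl fun χ hχ => by rw [(F.of_mem χ hχ).2], Finset.sum_const, nsmul_eq_mul]

/-- The budget outside the family. -/
theorem budget (S : Finset (IrrCharacter G)) (hS : Disjoint S F.E) :
    ∑ χ ∈ S, F.A χ ^ 2 ≤ (a : ℤ) - ((F.E.card : ℤ) * F.c ^ 2 - 2 * F.ε * F.c) := by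
  have h := Finset.sum_le_sum_of_subset_of_nonneg (f := fun χ => F.A χ ^ 2)
    (Finset.subset_univ (S ∪ F.E)) fun χ _ _ => sq_nonneg _
  rw [Finset.sum_union hS, F.sum_mem] at h
  have := F.norm
  linarith

/-- Values of another family on `T`: constant, and outside `F.E`. -/
theorem cross {T' : Subgroup G} {a' : ℕ} (F' : Fam T' a') (hne : 2 ≤ F'.E.card)
    (hyT : ∀ y ∈ T, ¬ InD T' y) :
    ∃ e : ℤ, Disjoint F'.E F.E ∧ ∀ χ ∈ F'.E, F.A χ = e := by
  obtain ⟨χ₀, hχ₀⟩ : F'.E.Nonempty := Finset.card_pos.1 (by omega)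
  refine ⟨F.A χ₀, Finset.disjoint_left.2 fun χ hχ' hχ => ?_, fun χ hχ =>
    (F.congr χ χ₀ fun y hy => F'.agree χ hχ χ₀ hχ₀ y (hyT y hy)).1⟩
  obtain ⟨ψ, hψ, hne'⟩ := Finset.exists_mem_ne (show 1 < F'.E.card by omega) χ
  exact hne' ((F.congr χ ψ fun y hy => F'.agree χ hχ' ψ hψ y (hyT y hy)).2 hχ)

theorem dvd_of_eq_zero {χ : IrrCharacter G} (hχ : χ ∉ F.E) (h : F.A χ = 0) :
    Nat.card T ∣ charDegree (χ : G → ℂ) := by
  have := F.dvd_off χ hχ
  rw [h, sub_zero] at this
  exact_mod_cast this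

theorem coprime_deg {k : ℕ} (hk : Nat.card T = k) (hodd : Odd k) (ha : a = 2 ∨ a = 4) (hc : F.c = 0) :
    Nat.Coprime F.D k := by
  have h := F.dvd_deg
  rw [hk, hc, sub_zero] at h
  refine Nat.coprime_of_dvd fun p hp h1 h2 => ?_
  have h3 : (p : ℤ) ∣ (a : ℤ) * F.ε := by
    have := dvd_sub (Int.natCast_dvd_natCast.2 h1) ((Int.natCast_dvd_natCast.2 h2).trans h)
    simpa using this
  have h4 : p ∣ a := by
    rcases F.sign with e | e <;> rw [e] at h3
    · exact_mod_cast (by simpa using h3 : (p : ℤ) ∣ (a : ℤ))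
    · exact_mod_cast (by simpa using h3 : (p : ℤ) ∣ (a : ℤ))
  have h5 : p ∣ 2 := by
    rcases ha with rfl | rfl
    · exact h4
    · exact hp.dvd_of_dvd_pow (show p ∣ 2 ^ 2 by simpa using h4)
  obtain rfl : p = 2 := (Nat.prime_dvd_prime_iff_eq hp Nat.prime_two).1 h5
  exact (Nat.not_even_iff_odd.2 hodd) (even_iff_two_dvd.2 h2)

end Fam

theorem sum_sq_charDegree : ∑ χ : IrrCharacter G, charDegree (χ : G → ℂ) ^ 2 = Nat.card G := by
  apply Nat.cast_injective (R := ℂ)
  rw [Nat.cast_sum, ← Char.sum_sq_apply_one (G := G)]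
  exact Finset.sum_congr rfl fun χ _ => by rw [irr_one_eq, Nat.cast_pow]

/-- With exactly two double cosets the permutation character is `1` plus an irreducible one. -/
theorem exists_irr_of_two_cosets (B : Subgroup G) (w : G) (hw : w ∉ B)
    (hcov : ∀ g : G, g ∉ B → ∃ b ∈ B, ∃ c ∈ B, g = b * w * c) :
    ∃ χ : IrrCharacter G, charDegree (χ : G → ℂ) + 1 = B.index := by
  letI : Fintype B := Fintype.ofFinite _
  letI : MulAction (B × B) G :=
    { smul := fun p g => (p.1 : G) * g * (p.2 : G)⁻¹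
      one_smul := fun g => show ((1 : B) : G) * g * ((1 : B) : G)⁻¹ = g by simp
      mul_smul := fun p p' g => show ((p.1 * p'.1 : B) : G) * g * ((p.2 * p'.2 : B) : G)⁻¹ =
        (p.1 : G) * ((p'.1 : G) * g * (p'.2 : G)⁻¹) * (p.2 : G)⁻¹ by
          simp [mul_assoc] }
  have hsmul : ∀ (p : B × B) (g : G), p • g = (p.1 : G) * g * (p.2 : G)⁻¹ := fun _ _ => rfl
  letI : Fintype (Quotient (MulAction.orbitRel (B × B) G)) := Fintype.ofFinite _
  have hΩ : Fintype.card (Quotient (MulAction.orbitRel (B × B) G)) = 2 := by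
    have hne : (Quotient.mk'' 1 : Quotient (MulAction.orbitRel (B × B) G)) ≠ Quotient.mk'' w := by
      intro h
      obtain ⟨p, hp⟩ := MulAction.orbitRel_apply.1 (Quotient.eq''.1 h)
      refine hw ?_
      have hp' : (p.1 : G) * w * (p.2 : G)⁻¹ = 1 := hp
      have : w = (p.1 : G)⁻¹ * (p.2 : G) := by
        calc w = (p.1 : G)⁻¹ * ((p.1 : G) * w * (p.2 : G)⁻¹) * (p.2 : G) := by group
          _ = _ := by rw [hp']; group
      rw [this]
      exact mul_mem (inv_mem p.1.2) p.2.2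
    refine le_antisymm ?_ ?_
    · refine (Finset.card_le_card (t := {Quotient.mk'' 1, Quotient.mk'' w}) fun x _ => ?_).trans
        Finset.card_le_two
      obtain ⟨g, rfl⟩ := Quotient.exists_rep x
      rw [Finset.mem_insert, Finset.mem_singleton]
      by_cases hg : g ∈ B
      · exact Or.inl (Quotient.sound (MulAction.orbitRel_apply.2 ⟨(⟨g, hg⟩, 1), by simp [hsmul]⟩))
      · obtain ⟨b, hb, c, hc, rfl⟩ := hcov g hg
        exact Or.inr (Quotient.sound (MulAction.orbitRel_apply.2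
          ⟨(⟨b, hb⟩, ⟨c⁻¹, inv_mem hc⟩), by simp [hsmul]⟩))
    · exact Fintype.one_lt_card_iff.2 ⟨_, _, hne⟩
  set π : G → ℂ := Cfsg.indFun B fun _ => 1 with hπ
  have hπg : IsGeneralizedCharacter G π :=
    Char.IsGeneralizedCharacter.indFun B (Char.IsCharacter.isGeneralizedCharacter Char.isCharacter_one)
  have hπc : IsClassFunction G π := Char.indFun_isClassFunction B _
  have h1 : classInner π (fun _ => 1) = 1 := by
    rw [hπ, Char.classInner_indFun B _ (fun _ _ => rfl), Char.classInner_irr_self Char.isIrrCharacter_one]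
  have hππ : classInner π π = 2 := by
    have hb := MulAction.sum_card_fixedBy_eq_card_orbits_mul_card_group (B × B) G
    rw [hΩ, Fintype.card_prod] at hb
    rw [hπ, Char.classInner_indFun B _ hπc, Cfsg.classInner]
    have hval : ∀ b : B, conj (Cfsg.indFun B (fun _ => (1 : ℂ)) (b : G)) =
        (Nat.card B : ℂ)⁻¹ * (∑ c : B, (Fintype.card (MulAction.fixedBy G (b, c)) : ℕ) : ℕ) := by
      intro b
      have hfix : ∀ c : B, Fintype.card (MulAction.fixedBy G (b, c)) =
          (Finset.univ.filter fun x : G => (b : G) * x = x * (c : G)).card := fun c => by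
        rw [← Set.toFinset_card]
        congr 1
        ext x
        simp [hsmul, mul_inv_eq_iff_eq_mul]
      have hext : ∀ x : G, Cfsg.extendByZero B (fun _ => (1 : ℂ)) (x⁻¹ * (b : G) * x) =
          ∑ c : B, if (b : G) * x = x * (c : G) then 1 else 0 := by
        intro x
        by_cases hx : x⁻¹ * (b : G) * x ∈ B
        · rw [Char.extendByZero_apply_mem B _ hx,
            Finset.sum_eq_single (⟨_, hx⟩ : B) (fun c _ hne => if_neg fun e => hne (Subtype.ext ?_))
              (fun h => absurd (Finset.mem_univ _) h), if_pos (by group)]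
          show (c : G) = x⁻¹ * (b : G) * x
          rw [mul_assoc, e, inv_mul_cancel_left]
        · rw [Char.extendByZero_apply_notMem B _ hx, Finset.sum_eq_zero fun c _ => if_neg fun e => hx ?_]
          rw [mul_assoc, e, inv_mul_cancel_left]
          exact c.2
      rw [Char.indFun_def, Finset.sum_congr rfl fun x _ => hext x, Finset.sum_comm, map_mul, map_inv₀,
        map_natCast, map_sum, Nat.cast_sum]
      congr 1
      refine Finset.sum_congr rfl fun c _ => ?_
      rw [hfix c, ← Finset.sum_boole, map_sum]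
      exact Finset.sum_congr rfl fun x _ => by split_ifs <;> simp
    rw [Finset.sum_congr rfl fun b _ => by rw [one_mul, hval b], ← Finset.mul_sum, ← Nat.cast_sum,
      ← Fintype.sum_prod_type' (f := fun b c => Fintype.card (MulAction.fixedBy G (b, c))), hb,
      Nat.card_eq_fintype_card]
    have : (Fintype.card B : ℂ) ≠ 0 := Nat.cast_ne_zero.2 Fintype.card_ne_zero
    push_cast
    field_simp
  have hθg : IsGeneralizedCharacter G (π - fun _ => 1) :=
    BrauerSuzuki.gc_sub hπg (Char.IsCharacter.isGeneralizedCharacter Char.isCharacter_one)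
  have hnorm : classInner (π - fun _ => 1) (π - fun _ => 1) = 1 := by
    have h1' : classInner (fun _ => 1 : G → ℂ) π = 1 := by
      rw [← Char.classInner_conj_symm, h1, map_one]
    rw [Char.classInner_sub_left, Char.classInner_sub_right, Char.classInner_sub_right, hππ, h1, h1',
      Char.classInner_irr_self Char.isIrrCharacter_one]
    ring
  have hidx : 1 < B.index :=
    lt_of_le_of_ne (Nat.one_le_iff_ne_zero.2 Subgroup.index_ne_zero_of_finite) fun h =>
      hw (Subgroup.index_eq_one.1 h.symm ▸ Subgroup.mem_top w)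
  have hθ1 : (π - fun _ => 1 : G → ℂ) 1 = ((B.index - 1 : ℕ) : ℂ) := by
    rw [Pi.sub_apply, hπ, Char.indFun_one, mul_one, Nat.cast_sub hidx.le, Nat.cast_one]
  refine ⟨⟨_, CharDeep.GenChar.isIrrCharacter_of_norm_one hθg hnorm ?_⟩, ?_⟩
  · rw [hθ1, Complex.natCast_re]
    exact_mod_cast (by omega : 0 < B.index - 1)
  · show charDegree (π - fun _ => 1 : G → ℂ) + 1 = B.index
    rw [charDegree, hθ1, Complex.natCast_re, Nat.floor_natCast]
    omega

end CfsgLib.DegreeTools.Torus
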