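import Cfsg.Agent.Lib.DegreeTools.SzEight

/-!
# The character degree graph of the Suzuki groups
-/

set_option autoImplicit false

namespace CfsgLib.DegreeTools.SzDeg

open Cfsg CfsgLib CfsgLib.Blocks CfsgLib.DegreeTools.Torus CfsgLib.KnownB.Suzuki CfsgLib.KnownB.SzElem
open scoped Classical

/-- The degrees of `Sz F (4 K)` where `|F| = 8 K²`, `K = 2 ^ j`. -/
theorem degrees_sz {F : Type*} [Field F] [Fintype F] (j : ℕ)
    (hF : Fintype.card F = 2 ^ (2 * (j + 1) + 1)) :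
    ∃ k₀ k₁ k₂ : ℕ, k₀ + 1 = Fintype.card F ∧ k₁ * k₂ = Fintype.card F ^ 2 + 1 ∧
      Cfsg.charDegrees ↥(Cfsg.Lie.Sz F (2 ^ (j + 1 + 1))) = degList (2 ^ j) k₀ k₁ k₂ := by
  classical
  have hp := params_of_card (by omega : 1 ≤ j + 1) hF
  have he := hp.twist
  have hqK : Fintype.card F = 8 * (2 ^ j) ^ 2 := by rw [hF, ← pow_mul]; ring
  have heK : 2 ^ (j + 1 + 1) = 4 * 2 ^ j := by ring
  have hK1 : 1 ≤ 2 ^ j := Nat.one_le_two_pow
  have hKsq : 2 ^ j ≤ (2 ^ j) ^ 2 := Nat.le_self_pow two_ne_zero _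
  set K := 2 ^ j with hK
  set G := ↥(Cfsg.Lie.Sz F (2 ^ (j + 1 + 1)))
  obtain ⟨-, -, htori⟩ := szPartition hp
  obtain ⟨T₁, -, hc₁, hC₁, hN₁⟩ := htori _ (Or.inl rfl)
  obtain ⟨T₂, -, hc₂, hC₂, hN₂⟩ := htori _ (Or.inr rfl)
  set T₀ := hGroup he
  have hc₀ : Nat.card T₀ = Fintype.card F - 1 := card_hGroup he
  have hC₀ : ∀ a ∈ T₀, a ≠ 1 → Subgroup.centralizer ({a} : Set G) = T₀ := by
    rintro _ ⟨t, rfl⟩ ht
    exact centralizer_H he fun h => ht (by rw [h, map_one])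
  have hN₀ : Nat.card (Subgroup.normalizer (T₀ : Set G)) = 2 * Nat.card T₀ := by
    rw [hc₀]
    exact card_normalizer_hGroup he (Fintype.exists_ne_of_one_lt_card (by
      rw [Fintype.card_units]; omega) 1)
  have hcard : Nat.card G = 64 * K ^ 4 * ((Fintype.card F) ^ 2 + 1) * (Fintype.card F - 1) := by
    rw [card_eq hp, hqK]; ring
  have N : Num G K (Nat.card T₀) (Nat.card T₁) (Nat.card T₂) := by
    have h1 : Nat.card T₁ = 8 * K ^ 2 + 4 * K + 1 := by rw [hc₁, hqK, heK]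
    have h2 : Nat.card T₂ + 4 * K = 8 * K ^ 2 + 1 := by rw [hc₂, hqK, heK]; omega
    refine ⟨hK1, by rw [hc₀]; omega, h1, h2, ?_⟩
    rw [hcard, hc₀]
    congr 2
    have h2' : (Nat.card T₂ : ℤ) = 8 * (K : ℤ) ^ 2 - 4 * K + 1 := by
      have : (Nat.card T₂ : ℤ) + 4 * K = 8 * (K : ℤ) ^ 2 + 1 := by exact_mod_cast h2
      linarith
    zify
    rw [hqK, h1, h2']
    push_cast
    ring
  obtain ⟨b0, b1, b2, b2'⟩ := N.bounds
  obtain ⟨s, hs⟩ := exists_irr_of_two_cosets (borel F (2 ^ (j + 1 + 1))) (W he)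
    (W_notMem_borel he) fun g hg => by
      obtain ⟨a, b, c, d, t, rfl⟩ := exists_bruhat' he g hg
      exact ⟨_, P_mem_borel he a b, _, mul_mem (P_mem_borel he c d) (H_mem_borel he t),
        by simp [mul_assoc]⟩
  have hs' : charDegree (s : G → ℂ) = 64 * K ^ 4 := by
    have hi := (borel F (2 ^ (j + 1 + 1))).card_mul_index
    rw [card_borel he, ← hs, card_eq hp] at hi
    have h4 : (charDegree (s : G → ℂ) + 1) = Fintype.card F ^ 2 + 1 :=
      Nat.eq_of_mul_eq_mul_left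
        (Nat.mul_pos (pow_pos Fintype.card_pos 2) (by omega : 0 < Fintype.card F - 1)) (by rw [hi]; ring)
    rw [hqK] at h4
    rw [show 64 * K ^ 4 = (8 * K ^ 2) ^ 2 by ring]
    omega
  have hne01 : Nat.card T₀ ≠ Nat.card T₁ := by have := N.h₀; have := N.h₁; omega
  have hne02 : Nat.card T₀ ≠ Nat.card T₂ := fun h => by
    have := N.coprime.2.2
    rw [h, Nat.coprime_self] at this
    omega
  have hne12 : Nat.card T₁ ≠ Nat.card T₂ := by have := N.h₁; have := N.h₂; omega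
  refine ⟨Nat.card T₀, Nat.card T₁, Nat.card T₂, by rw [hc₀]; omega, by rw [N.prod, hqK]; ring,
    ?_⟩
  obtain ⟨F₀⟩ := nonempty_fam one_lt_two (by omega) hC₀ hN₀
  obtain ⟨F₁⟩ := nonempty_fam (a := 4) (by omega) (by omega) hC₁ (by rw [hN₁, hc₁])
  rcases eq_or_lt_of_le hK1 with hKone | hKtwo
  · -- `q = 8`
    have e0 : Nat.card T₀ = 7 := by have := N.h₀; rw [← hKone] at this; omega
    have e1 : Nat.card T₁ = 13 := by have := N.h₁; rw [← hKone] at this; omega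
    have e2 : Nat.card T₂ = 5 := by have := N.h₂; rw [← hKone] at this; omega
    obtain ⟨A₂, ha, hb, hc, hd⟩ :=
      exists_single' (a := 4) (by omega) (by omega) hC₂ (by rw [hN₂, hc₂])
    rw [e2] at ha hb
    rw [e0, e1, e2, ← hKone]
    refine degrees_eight ?_ F₀ F₁ e0 e1 A₂ ha hb hc hd (fun y hy => not_inD hC₀ hC₁ hne01 hy)
      (fun y hy => not_inD hC₀ hC₂ hne02 hy) (fun y hy => not_inD hC₁ hC₂ hne12 hy)
      (s := s) (by rw [hs', ← hKone]; norm_num)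
    rw [N.card, e0, e1, e2, ← hKone]
    norm_num
  · have := b2' hKtwo
    obtain ⟨F₂⟩ := nonempty_fam (a := 4) (by omega) (by omega) hC₂ (by rw [hN₂, hc₂])
    exact degrees_general N hKtwo (j := j) rfl F₀ F₁ F₂ rfl rfl rfl
      (fun y hy => not_inD hC₀ hC₁ hne01 hy) (fun y hy => not_inD hC₀ hC₂ hne02 hy)
      (fun y hy => not_inD hC₁ hC₂ hne12 hy) (fun y hy => not_inD hC₂ hC₁ hne12.symm hy) hs'

theorem charDegrees_of_equiv {S T : Type*} [Group S] [Group T] [Finite S] [Finite T] (e : S ≃* T) :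
    Cfsg.charDegrees S = Cfsg.charDegrees T := by
  ext d
  constructor
  · rintro ⟨χ, rfl⟩
    exact ⟨irrRelabel e.symm χ, by rw [charDegree, charDegree, irrRelabel_apply, map_one]⟩
  · rintro ⟨χ, rfl⟩
    exact ⟨irrRelabel e χ, by rw [charDegree, charDegree, irrRelabel_apply, map_one]⟩

/-- The degree graph read off from the degree list. -/
theorem graph_of_degList {S : Type*} [Group S] {j k₀ k₁ k₂ q : ℕ} (hk : k₁ * k₂ = q ^ 2 + 1)
    (hq : 64 * (2 ^ j) ^ 4 = q ^ 2) (h : Cfsg.charDegrees S = degList (2 ^ j) k₀ k₁ k₂) :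
    Cfsg.degreePrimes S = {r : ℕ | r.Prime ∧ (r = 2 ∨ r ∣ k₀ * (q ^ 2 + 1))} ∧
    ∀ r s : ℕ, (Cfsg.degreeGraph S).Adj r s ↔ (r ≠ s ∧ r.Prime ∧ s.Prime ∧
      ((r ∣ k₀ * (q ^ 2 + 1) ∧ s ∣ k₀ * (q ^ 2 + 1)) ∨ (r = 2 ∧ s ∣ k₀) ∨ (s = 2 ∧ r ∣ k₀))) := by
  have htwo : ∀ {r : ℕ}, r.Prime → r ∣ 64 * (2 ^ j) ^ 4 → r = 2 := fun {r} hr hd => by
    have : r ∣ 2 ^ (6 + j * 4) := by
      rw [pow_add, pow_mul]
      exact hd
    exact (Nat.prime_dvd_prime_iff_eq hr Nat.prime_two).1 (hr.dvd_of_dvd_pow this)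
  have h2K : ∀ {r : ℕ}, r.Prime → r ∣ k₀ * (2 * 2 ^ j) → r = 2 ∨ r ∣ k₀ := fun {r} hr hd => by
    rcases hr.dvd_mul.1 hd with h | h
    · exact Or.inr h
    · exact Or.inl ((Nat.prime_dvd_prime_iff_eq hr Nat.prime_two).1
        (hr.dvd_of_dvd_pow (show r ∣ 2 ^ (j + 1) by rw [pow_succ']; exact h)))
  have hsub : k₀ * k₁ ∣ k₀ * (q ^ 2 + 1) ∧ k₀ * k₂ ∣ k₀ * (q ^ 2 + 1) ∧ q ^ 2 + 1 ∣ k₀ * (q ^ 2 + 1) :=
    ⟨mul_dvd_mul_left _ ⟨k₂, hk.symm⟩, mul_dvd_mul_left _ ⟨k₁, by rw [← hk]; ring⟩, dvd_mul_left _ _⟩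
  have hsplit : ∀ {r : ℕ}, r.Prime → r ∣ k₀ * (q ^ 2 + 1) → r ∣ k₀ ∨ r ∣ k₁ ∨ r ∣ k₂ := fun {r} hr hd => by
    rcases hr.dvd_mul.1 hd with h | h
    · exact Or.inl h
    · rw [← hk] at h
      exact Or.inr (hr.dvd_mul.1 h)
  have m1 : 64 * (2 ^ j) ^ 4 + 1 ∈ Cfsg.charDegrees S := h ▸ Or.inr (Or.inr (Or.inl rfl))
  have m01 : k₀ * k₁ ∈ Cfsg.charDegrees S := h ▸ Or.inr (Or.inr (Or.inr (Or.inl rfl)))
  have m02 : k₀ * k₂ ∈ Cfsg.charDegrees S := h ▸ Or.inr (Or.inr (Or.inr (Or.inr (Or.inl rfl))))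
  have m03 : k₀ * (2 * 2 ^ j) ∈ Cfsg.charDegrees S :=
    h ▸ Or.inr (Or.inr (Or.inr (Or.inr (Or.inr rfl))))
  rw [hq] at m1
  constructor
  · ext r
    constructor
    · rintro ⟨hr, d, hd, hrd⟩
      refine ⟨hr, ?_⟩
      rw [h] at hd
      rcases hd with rfl | rfl | rfl | rfl | rfl | rfl
      · exact absurd (Nat.dvd_one.1 hrd) hr.one_lt.ne'
      · exact Or.inl (htwo hr hrd)
      · exact Or.inr ((hq ▸ hrd).trans hsub.2.2)
      · exact Or.inr (hrd.trans hsub.1)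
      · exact Or.inr (hrd.trans hsub.2.1)
      · exact (h2K hr hrd).imp id fun h => h.mul_right _
    · rintro ⟨hr, hr'⟩
      refine ⟨hr, ?_⟩
      rcases hr' with rfl | hr'
      · exact ⟨_, m03, dvd_mul_of_dvd_right (dvd_mul_right _ _) _⟩
      · rcases hsplit hr hr' with h' | h' | h'
        · exact ⟨_, m01, h'.mul_right _⟩
        · exact ⟨_, m01, h'.mul_left _⟩
        · exact ⟨_, m02, h'.mul_left _⟩
  · intro r s
    constructor
    · rintro ⟨hne, hr, hs, d, hd, hrs⟩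
      refine ⟨hne, hr, hs, ?_⟩
      have hr' := (dvd_mul_right r s).trans hrs
      have hs' := (dvd_mul_left s r).trans hrs
      rw [h] at hd
      rcases hd with rfl | rfl | rfl | rfl | rfl | rfl
      · exact absurd (Nat.dvd_one.1 hr') hr.one_lt.ne'
      · exact absurd ((htwo hr hr').trans (htwo hs hs').symm) hne
      · exact Or.inl ⟨(hq ▸ hr').trans hsub.2.2, (hq ▸ hs').trans hsub.2.2⟩
      · exact Or.inl ⟨hr'.trans hsub.1, hs'.trans hsub.1⟩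
      · exact Or.inl ⟨hr'.trans hsub.2.1, hs'.trans hsub.2.1⟩
      · rcases h2K hr hr' with h1 | h1 <;> rcases h2K hs hs' with h2 | h2
        · exact absurd (h1.trans h2.symm) hne
        · exact Or.inr (Or.inl ⟨h1, h2⟩)
        · exact Or.inr (Or.inr ⟨h2, h1⟩)
        · exact Or.inl ⟨h1.mul_right _, h2.mul_right _⟩
    · rintro ⟨hne, hr, hs, hcase⟩
      refine ⟨hne, hr, hs, ?_⟩
      have key : ∀ {d : ℕ}, d ∈ Cfsg.charDegrees S → r ∣ d → s ∣ d →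
          ∃ d ∈ Cfsg.charDegrees S, r * s ∣ d := fun hd h1 h2 =>
        ⟨_, hd, ((Nat.coprime_primes hr hs).2 hne).mul_dvd_of_dvd_of_dvd h1 h2⟩
      rcases hcase with ⟨h1, h2⟩ | ⟨rfl, h2⟩ | ⟨rfl, h1⟩
      · have e1 : k₁ ∣ q ^ 2 + 1 := ⟨k₂, hk.symm⟩
        have e2 : k₂ ∣ q ^ 2 + 1 := ⟨k₁, by rw [← hk]; ring⟩
        rcases hsplit hr h1 with a | a | a <;> rcases hsplit hs h2 with b | b | b
        · exact key m01 (a.mul_right _) (b.mul_right _)
        · exact key m01 (a.mul_right _) (b.mul_left _)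
        · exact key m02 (a.mul_right _) (b.mul_left _)
        · exact key m01 (a.mul_left _) (b.mul_right _)
        · exact key m1 (a.trans e1) (b.trans e1)
        · exact key m1 (a.trans e1) (b.trans e2)
        · exact key m02 (a.mul_left _) (b.mul_right _)
        · exact key m1 (a.trans e2) (b.trans e1)
        · exact key m1 (a.trans e2) (b.trans e2)
      · exact key m03 (dvd_mul_of_dvd_right (dvd_mul_right _ _) _) (h2.mul_right _)
      · exact key m03 (h1.mul_right _) (dvd_mul_of_dvd_right (dvd_mul_right _ _) _)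

end CfsgLib.DegreeTools.SzDeg
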