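import Cfsg.Agent.Lib.Char.TICover.Family
import Cfsg.Agent.Lib.Blocks.TIAbelianExceptional

/-!
# The characters attached to an abelian subgroup which is the centralizer of its nonidentity elements

For such a subgroup `T` of order `k` with automizer of order `a` there is an integer `A χ` for each
irreducible character (the constant value on `T` away from one family `E`), satisfying the
congruence `χ 1 ≡ A χ (mod k)` off `E` and a norm equation.
-/

set_option autoImplicit false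

namespace CfsgLib.DegreeTools.Torus

open Cfsg CfsgLib CfsgLib.Blocks CfsgLib.BrauerSuzuki
open CfsgLib.Char.TICover
open scoped Classical ComplexConjugate

variable {G : Type*} [Group G]

theorem comm_of_cent {T : Subgroup G}
    (hC : ∀ x ∈ T, x ≠ 1 → Subgroup.centralizer ({x} : Set G) = T) (a b : T) : a * b = b * a := by
  by_cases ha : (a : G) = 1
  · rw [show a = 1 from Subtype.ext ha, one_mul, mul_one]
  · have hb : (b : G) ∈ Subgroup.centralizer ({(a : G)} : Set G) := by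
      rw [hC a a.2 ha]
      exact b.2
    exact Subtype.ext (Subgroup.mem_centralizer_singleton_iff.1 hb).symm

theorem setting_of_cent [Fintype G] {T : Subgroup G} (hne : T ≠ ⊥)
    (hlt : T < Subgroup.normalizer (T : Set G))
    (hC : ∀ x ∈ T, x ≠ 1 → Subgroup.centralizer ({x} : Set G) = T) :
    Setting T (Subgroup.normalizer (T : Set G)) := by
  refine ⟨hlt, hne, fun x hx a ha => ?_, fun a ha ha1 x _ hxa => ?_, fun x a ha ha1 hxa => ?_⟩
  · have h := (Subgroup.mem_normalizer_iff.1 (inv_mem hx) a).1 ha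
    rwa [inv_inv] at h
  · rw [← hC a ha ha1, Subgroup.mem_centralizer_singleton_iff]
    exact hxa
  · have ha' : x⁻¹ * a * x ≠ 1 := fun h => ha1 (by
      calc a = x * (x⁻¹ * a * x) * x⁻¹ := by group
        _ = 1 := by rw [h]; simp)
    refine Subgroup.mem_normalizer_iff.2 fun h => ?_
    rw [← hC a ha ha1]
    constructor
    · intro hh
      rw [hC a ha ha1, ← hC _ hxa ha', Subgroup.mem_centralizer_singleton_iff] at hh
      rw [Subgroup.mem_centralizer_singleton_iff]
      calc x * h * x⁻¹ * a = x * (h * (x⁻¹ * a * x)) * x⁻¹ := by group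
        _ = x * ((x⁻¹ * a * x) * h) * x⁻¹ := by rw [hh]
        _ = a * (x * h * x⁻¹) := by group
    · intro hh
      rw [Subgroup.mem_centralizer_singleton_iff] at hh
      rw [hC a ha ha1, ← hC _ hxa ha', Subgroup.mem_centralizer_singleton_iff]
      calc h * (x⁻¹ * a * x) = x⁻¹ * ((x * h * x⁻¹) * a) * x := by group
        _ = x⁻¹ * (a * (x * h * x⁻¹)) * x := by rw [hh]
        _ = x⁻¹ * a * x * h := by group

variable [Fintype G] {T L : Subgroup G}

/-- The coefficient of `χ` in the virtual character attached to `l`. -/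
noncomputable def vec (S : Setting T L) (l : T →* ℂˣ) (χ : IrrCharacter G) : ℤ :=
  coeff (S.beta l) χ

variable [Fintype T]

theorem gc_beta (S : Setting T L) (l : T →* ℂˣ) : IsGeneralizedCharacter G (S.beta l) :=
  Char.IsGeneralizedCharacter.indFun T (Setting.isGen_one_sub l)

theorem vec_eq (S : Setting T L) (l : T →* ℂˣ) (χ : IrrCharacter G) :
    (vec S l χ : ℂ) = classInner (fun a : T => 1 - (l a : ℂ)) fun a : T => (χ : G → ℂ) a := by
  rw [vec, cast_coeff (gc_beta S l), Setting.beta,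
    Char.classInner_indFun T _ (Char.IsIrrCharacter.isClassFunction χ.2)]

theorem vec_congr (S : Setting T L) (l : T →* ℂˣ) {χ ψ : IrrCharacter G}
    (h : ∀ y ∈ T, (χ : G → ℂ) y = (ψ : G → ℂ) y) : vec S l χ = vec S l ψ := by
  apply Int.cast_injective (α := ℂ)
  rw [vec_eq, vec_eq]
  congr 1
  funext a
  exact h a a.2

theorem vec_trivial (S : Setting T L) {l : T →* ℂˣ} (hl : l ≠ 1) :
    vec S l (trivChar G) = 1 := by
  apply Int.cast_injective (α := ℂ)
  have hne : (fun a : T => (l a : ℂ)) ≠ fun _ => 1 := fun h =>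
    hl (Char.coe_hom_injective (h.trans (by ext; simp)))
  rw [vec_eq, show (fun a : T => 1 - (l a : ℂ)) = (fun _ => 1) - fun a : T => (l a : ℂ) from rfl,
    show (fun a : T => ((trivChar G : IrrCharacter G) : G → ℂ) a) = fun _ => 1 from rfl,
    Char.classInner_sub_left, Char.classInner_irr_self Char.isIrrCharacter_one,
    Char.classInner_irr_ne (Char.isIrrCharacter_hom l) Char.isIrrCharacter_one hne]
  simp

theorem eq_of_vec (S : Setting T L) {l l' : T →* ℂˣ} (h : ∀ χ, vec S l χ = vec S l' χ) :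
    S.beta l = S.beta l' := by
  funext g
  rw [eq_sum_coeff (gc_beta S l), eq_sum_coeff (gc_beta S l')]
  exact Finset.sum_congr rfl fun χ _ => by rw [show coeff (S.beta l) χ = vec S l χ from rfl, h]; rfl

theorem sum_vec_deg (S : Setting T L) (l : T →* ℂˣ) :
    ∑ χ : IrrCharacter G, vec S l χ * (charDegree (χ : G → ℂ) : ℤ) = 0 := by
  apply Int.cast_injective (α := ℂ)
  push_cast
  have h := eq_sum_coeff (gc_beta S l) 1
  rw [S.beta_one] at h
  rw [h]
  exact Finset.sum_congr rfl fun χ _ => by rw [irr_one_eq]; rfl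

variable [Fintype L] [Fintype (T →* ℂˣ)]

theorem sum_vec_mul (S : Setting T L) {a : ℕ} (hL : Nat.card L = a * Nat.card T)
    {l l' : T →* ℂˣ} (hl : l ≠ 1) (hl' : l' ≠ 1) :
    ∑ χ : IrrCharacter G, vec S l χ * vec S l' χ =
      (a : ℤ) + if ∃ x : L, l'.comp (S.conjH x) = l then 1 else 0 := by
  apply Int.cast_injective (α := ℂ)
  rw [show (∑ χ : IrrCharacter G, vec S l χ * vec S l' χ) =
    ∑ χ : IrrCharacter G, coeff (S.beta l) χ * coeff (S.beta l') χ from rfl,
    ← classInner_eq_sum_coeff (gc_beta S l) (gc_beta S l'), S.classInner_beta hl hl', hL]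
  push_cast
  rw [mul_div_cancel_right₀ _ (Nat.cast_ne_zero.2 Nat.card_pos.ne')]

theorem beta_eq_iff (S : Setting T L) {a : ℕ} (hL : Nat.card L = a * Nat.card T)
    {l l' : T →* ℂˣ} (hl : l ≠ 1) (hl' : l' ≠ 1) :
    S.beta l = S.beta l' ↔ ∃ x : L, l'.comp (S.conjH x) = l := by
  have hs : ∀ m : T →* ℂˣ, ∃ x : L, m.comp (S.conjH x) = m := fun m =>
    ⟨1, by rw [S.conjH_one, MonoidHom.comp_id]⟩
  constructor
  · intro h
    by_contra hc
    have h1 := sum_vec_mul S hL hl hl'
    have h2 := sum_vec_mul S hL hl hl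
    rw [if_neg hc] at h1
    rw [if_pos (hs l)] at h2
    simp only [vec, ← h] at h1
    simp only [vec] at h2
    omega
  · intro h
    have h' : ∃ x : L, l.comp (S.conjH x) = l' := by
      obtain ⟨x, rfl⟩ := h
      exact ⟨x⁻¹, by rw [MonoidHom.comp_assoc, ← S.conjH_mul, inv_mul_cancel, S.conjH_one,
        MonoidHom.comp_id]⟩
    have h1 := sum_vec_mul S hL hl hl'
    have h2 := sum_vec_mul S hL hl hl
    have h3 := sum_vec_mul S hL hl' hl'
    rw [if_pos h] at h1
    rw [if_pos (hs l)] at h2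
    rw [if_pos (hs l')] at h3
    refine eq_of_vec S fun χ => ?_
    have h4 : ∑ χ : IrrCharacter G, (vec S l χ - vec S l' χ) ^ 2 = 0 := by
      simp only [sub_sq, Finset.sum_add_distrib, Finset.sum_sub_distrib, mul_assoc, ← Finset.mul_sum]
      simp only [sq]
      rw [h1, h2, h3]
      ring
    have h5 := (Finset.sum_eq_zero_iff_of_nonneg fun χ _ => sq_nonneg _).1 h4 χ (Finset.mem_univ _)
    exact sub_eq_zero.1 (pow_eq_zero_iff (two_ne_zero) |>.1 h5)

theorem card_fibre_beta (S : Setting T L) {a : ℕ} (hL : Nat.card L = a * Nat.card T)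
    {l : T →* ℂˣ} (hl : l ≠ 1) :
    ((Finset.univ.erase (1 : T →* ℂˣ)).filter fun l' => S.beta l' = S.beta l).card = a := by
  set C := (Finset.univ.erase (1 : T →* ℂˣ)).filter fun l' => S.beta l' = S.beta l with hC
  have hmem : ∀ l', l' ∈ C ↔ l' ≠ 1 ∧ ∃ x : L, l.comp (S.conjH x) = l' := by
    intro l'
    rw [hC, Finset.mem_filter, Finset.mem_erase]
    constructor
    · rintro ⟨⟨h1, -⟩, h2⟩
      exact ⟨h1, (beta_eq_iff S hL h1 hl).1 h2⟩
    · rintro ⟨h1, h2⟩
      exact ⟨⟨h1, Finset.mem_univ _⟩, (beta_eq_iff S hL h1 hl).2 h2⟩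
  have hmaps : ∀ x ∈ (Finset.univ : Finset L), l.comp (S.conjH x) ∈ C := fun x _ => by
    refine (hmem _).2 ⟨fun h => hl (MonoidHom.ext fun b => ?_), x, rfl⟩
    have hbx : S.conjH x (S.conjH x⁻¹ b) = b :=
      Subtype.ext (by simp [Setting.conjH_apply, mul_assoc])
    rw [← hbx]
    exact DFunLike.congr_fun h _
  have hcard := Finset.card_eq_sum_card_fiberwise (f := fun x : L => l.comp (S.conjH x)) hmaps
  rw [Finset.sum_congr rfl fun l' hl' => ?_, Finset.sum_const, smul_eq_mul, Finset.card_univ,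
    ← Nat.card_eq_fintype_card, hL] at hcard
  · exact (Nat.eq_of_mul_eq_mul_right Nat.card_pos hcard).symm
  · obtain ⟨-, x₀, hx₀⟩ := (hmem l').1 hl'
    exact S.card_fibre hl hx₀

theorem card_dual (hab : ∀ a b : T, a * b = b * a) :
    Fintype.card (T →* ℂˣ) = Nat.card T := by
  letI : CommGroup T := { (inferInstance : Group T) with mul_comm := hab }
  rw [Fintype.card_eq_nat_card, CommGroup.card_monoidHom_of_hasEnoughRootsOfUnity]

omit [Fintype L] in
theorem sum_vec_all (S : Setting T L) (hab : ∀ a b : T, a * b = b * a) (χ : IrrCharacter G) :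
    (Nat.card T : ℤ) ∣ (charDegree (χ : G → ℂ) : ℤ) +
      ∑ l ∈ Finset.univ.erase (1 : T →* ℂˣ), vec S l χ := by
  obtain ⟨m, hm⟩ := Char.IsCharacter.classInner_nat (G := T) Char.isCharacter_one
    (Char.IsCharacter.restrict (Char.isCharacter_irr χ) T)
  refine ⟨(m : ℤ), ?_⟩
  have h1 : vec S (1 : T →* ℂˣ) χ = 0 := by
    apply Int.cast_injective (α := ℂ)
    rw [vec_eq, Cfsg.classInner]
    simp
  rw [← add_zero (∑ l ∈ Finset.univ.erase (1 : T →* ℂˣ), vec S l χ), ← h1,
    Finset.sum_erase_add _ _ (Finset.mem_univ _)]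
  letI : CommGroup T := { (inferInstance : Group T) with mul_comm := hab }
  apply Int.cast_injective (α := ℂ)
  push_cast
  simp only [vec_eq, Cfsg.classInner]
  rw [← Finset.mul_sum, Finset.sum_comm]
  have hk : (Nat.card T : ℂ) ≠ 0 := Nat.cast_ne_zero.2 Nat.card_pos.ne'
  have hs : ∀ y : T, ∑ l : T →* ℂˣ, (1 - (l y : ℂ)) * conj ((χ : G → ℂ) y) =
      (Nat.card T : ℂ) * conj ((χ : G → ℂ) y) -
        if y = 1 then (Nat.card T : ℂ) * (charDegree (χ : G → ℂ) : ℂ) else 0 := by
    intro y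
    rw [← Finset.sum_mul, Finset.sum_sub_distrib, Finset.sum_const, Finset.card_univ, card_dual hab,
      nsmul_eq_mul, mul_one, Homocyclic.sum_dual, sub_mul, Nat.card_eq_fintype_card]
    split_ifs with h
    · subst h
      rw [OneMemClass.coe_one, irr_one_eq, map_natCast]
    · simp
  have hm' : ∑ y : T, conj ((χ : G → ℂ) y) = (Nat.card T : ℂ) * (m : ℂ) := by
    rw [← hm, Cfsg.classInner, mul_inv_cancel_left₀ hk]
    simp
  rw [Finset.sum_congr rfl fun y _ => hs y, Finset.sum_sub_distrib, ← Finset.mul_sum, hm',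
    Finset.sum_ite_eq' Finset.univ (1 : T), if_pos (Finset.mem_univ _), mul_sub,
    inv_mul_cancel_left₀ hk, inv_mul_cancel_left₀ hk]
  ring

omit [Fintype L] in
theorem exists_ne_one_hom (hab : ∀ a b : T, a * b = b * a) (hk : 1 < Nat.card T) :
    ∃ l : T →* ℂˣ, l ≠ 1 := by
  obtain ⟨l, hl⟩ := Fintype.exists_ne_of_one_lt_card (by rwa [card_dual hab]) (1 : T →* ℂˣ)
  exact ⟨l, hl⟩

/-- The case where all nontrivial linear characters of `T` are conjugate. -/
theorem exists_single (S : Setting T L) (hab : ∀ a b : T, a * b = b * a) {a : ℕ} (ha : 0 < a)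
    (hL : Nat.card L = a * Nat.card T) (hk : a + 1 = Nat.card T) :
    ∃ A : IrrCharacter G → ℤ,
      (∀ χ : IrrCharacter G, (Nat.card T : ℤ) ∣ (charDegree (χ : G → ℂ) : ℤ) - A χ) ∧
      ∑ χ, A χ ^ 2 = (Nat.card T : ℤ) ∧
      (∀ χ ψ : IrrCharacter G, (∀ y ∈ T, (χ : G → ℂ) y = (ψ : G → ℂ) y) → A χ = A ψ) ∧
      A (trivChar G) = 1 := by
  obtain ⟨l, hl⟩ := exists_ne_one_hom hab (show 1 < Nat.card T by omega)
  have hall : ∀ l' ∈ Finset.univ.erase (1 : T →* ℂˣ), S.beta l' = S.beta l := by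
    have h := card_fibre_beta S hL hl
    have h' : (Finset.univ.erase (1 : T →* ℂˣ)).card = a := by
      rw [Finset.card_erase_of_mem (Finset.mem_univ _), Finset.card_univ, card_dual hab]
      omega
    rw [← h'] at h
    exact Finset.filter_eq_self.1 (Finset.eq_of_subset_of_card_le (Finset.filter_subset _ _) h.ge)
  refine ⟨vec S l, fun χ => ?_, ?_, fun χ ψ h => vec_congr S l h, vec_trivial S hl⟩
  · have h := sum_vec_all S hab χ
    rw [Finset.sum_congr rfl (g := fun _ => vec S l χ) (fun l' hl' => by rw [vec, hall l' hl']; rfl),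
      Finset.sum_const, Finset.card_erase_of_mem (Finset.mem_univ _), Finset.card_univ, card_dual hab,
      nsmul_eq_mul] at h
    obtain ⟨w, hw⟩ := h
    refine ⟨w - vec S l χ, ?_⟩
    rw [← hk] at hw ⊢
    push_cast at hw ⊢
    linear_combination hw
  · have h := sum_vec_mul S hL hl hl
    rw [if_pos ⟨1, by rw [S.conjH_one, MonoidHom.comp_id]⟩] at h
    simp only [sq]
    rw [h, ← hk]
    push_cast
    ring

/-- The exceptional family of `T`. -/
theorem exists_family (S : Setting T L) (hab : ∀ a b : T, a * b = b * a) {a : ℕ} (ha : 0 < a)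
    (hL : Nat.card L = a * Nat.card T) (hk : a + 1 < Nat.card T) :
    ∃ (A : IrrCharacter G → ℤ) (ε c : ℤ) (E : Finset (IrrCharacter G)) (D : ℕ),
      (ε = 1 ∨ ε = -1) ∧ a * E.card + 1 = Nat.card T ∧
      (∀ χ ∈ E, charDegree (χ : G → ℂ) = D ∧ A χ = c) ∧
      (∀ χ : IrrCharacter G, χ ∉ E → (Nat.card T : ℤ) ∣ (charDegree (χ : G → ℂ) : ℤ) - A χ) ∧
      (Nat.card T : ℤ) ∣ (D : ℤ) - c - a * ε ∧
      ∑ χ, A χ ^ 2 - 2 * ε * c = (a : ℤ) ∧
      (∀ χ ∈ E, ∀ ψ ∈ E, ∀ y : G, ¬ InD T y → (χ : G → ℂ) y = (ψ : G → ℂ) y) ∧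
      (∀ χ ψ : IrrCharacter G, (∀ y ∈ T, (χ : G → ℂ) y = (ψ : G → ℂ) y) →
        A χ = A ψ ∧ (χ ∈ E → ψ = χ)) ∧
      trivChar G ∉ E ∧ A (trivChar G) = 1 := by
  obtain ⟨l₀, hl₀⟩ := exists_ne_one_hom hab (show 1 < Nat.card T by omega)
  let κ := {l : T →* ℂˣ // l ≠ 1 ∧ S.beta l ≠ S.beta l₀}
  have hself : ∀ m : T →* ℂˣ, ∃ x : L, m.comp (S.conjH x) = m := fun m =>
    ⟨1, by rw [S.conjH_one, MonoidHom.comp_id]⟩
  have hip : ∀ l l' : T →* ℂˣ, l ≠ 1 → l' ≠ 1 → ∑ χ : IrrCharacter G, vec S l χ * vec S l' χ =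
      (a : ℤ) + if S.beta l = S.beta l' then 1 else 0 := by
    intro l l' hl hl'
    rw [sum_vec_mul S hL hl hl']
    simp only [beta_eq_iff S hL hl hl']
  obtain ⟨i₀⟩ : Nonempty κ := by
    by_contra hcon
    rw [not_nonempty_iff] at hcon
    have h := card_fibre_beta S hL hl₀
    rw [Finset.filter_true_of_mem fun l hl => by_contra fun hne =>
        hcon.false ⟨l, (Finset.mem_erase.1 hl).1, hne⟩,
      Finset.card_erase_of_mem (Finset.mem_univ _), Finset.card_univ, card_dual hab] at h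
    omega
  have he : ∀ i : κ, ∃ u v : IrrCharacter G, u ≠ v ∧ ∀ χ,
      vec S l₀ χ - vec S i.1 χ = (if χ = u then 1 else 0) - (if χ = v then 1 else 0) := by
    intro i
    refine Blocks.TIAbelian.pair_of_norm_two _ ?_ ?_
    · simp only [sub_mul, mul_sub, Finset.sum_sub_distrib]
      rw [hip _ _ hl₀ hl₀, hip _ _ i.2.1 i.2.1, hip _ _ hl₀ i.2.1, hip _ _ i.2.1 hl₀, if_pos rfl,
        if_pos rfl, if_neg (Ne.symm i.2.2), if_neg i.2.2]
      ring
    · have h1 := sum_vec_deg S l₀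
      have h2 := sum_vec_deg S i.1
      have h3 : ∑ χ : IrrCharacter G, (vec S l₀ χ - vec S i.1 χ) * (charDegree (χ : G → ℂ) : ℤ) = 0 := by
        simp only [sub_mul, Finset.sum_sub_distrib, h1, h2, sub_zero]
      calc _ = ((∑ χ : IrrCharacter G,
            (vec S l₀ χ - vec S i.1 χ) * (charDegree (χ : G → ℂ) : ℤ) : ℤ) : ℂ) := by
            push_cast
            exact Finset.sum_congr rfl fun χ _ => by rw [irr_one_eq]
        _ = 0 := by rw [h3, Int.cast_zero]
  choose u v huv hev using he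
  have hfun : ∀ i j : κ, S.beta i.1 = S.beta j.1 → u i = u j ∧ v i = v j := by
    intro i j hij
    have hf : ∀ χ, ((if χ = u i then (1 : ℤ) else 0) - (if χ = v i then 1 else 0))
        = (if χ = u j then 1 else 0) - (if χ = v j then 1 else 0) := fun χ => by
      rw [← hev, ← hev, vec, vec, vec, hij]
    refine ⟨?_, ?_⟩
    · have := hf (u i)
      by_contra hne
      rw [if_pos rfl, if_neg (huv i), if_neg hne] at this
      split_ifs at this <;> omega
    · have := hf (v i)
      by_contra hne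
      rw [if_pos rfl, if_neg (huv i).symm, if_neg hne] at this
      split_ifs at this <;> omega
  have hn' : ∀ i j : κ, ¬ S.beta i.1 = S.beta j.1 →
      (u i = u j ∧ v i ≠ v j) ∨ (v i = v j ∧ u i ≠ u j) := by
    intro i j hij
    have hsum : ∑ χ, (vec S l₀ χ - vec S i.1 χ) * (vec S l₀ χ - vec S j.1 χ) = 1 := by
      simp only [sub_mul, mul_sub, Finset.sum_sub_distrib]
      rw [hip _ _ hl₀ hl₀, hip _ _ hl₀ j.2.1, hip _ _ i.2.1 hl₀, hip _ _ i.2.1 j.2.1, if_pos rfl,
        if_neg (Ne.symm j.2.2), if_neg i.2.2, if_neg hij]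
      ring
    simp only [hev, sub_mul, mul_sub, Finset.sum_sub_distrib, ite_mul, one_mul, zero_mul,
      Finset.sum_ite_eq', Finset.mem_univ, if_true] at hsum
    by_cases e1 : u i = u j <;> by_cases e2 : v i = v j
    · have h1 : u i ≠ v j := fun e => huv i (e.trans e2.symm)
      have h3 : v i ≠ u j := fun e => huv i (e1.trans e.symm)
      rw [if_pos e1, if_pos e2, if_neg h1, if_neg h3] at hsum
      omega
    · exact Or.inl ⟨e1, e2⟩
    · exact Or.inr ⟨e2, e1⟩
    · rw [if_neg e1, if_neg e2] at hsum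
      split_ifs at hsum <;> omega
  -- one formula for all the vectors
  obtain ⟨A, ε, hε, ζ, hζ⟩ : ∃ (A : IrrCharacter G → ℤ) (ε : ℤ), (ε = 1 ∨ ε = -1) ∧
      ∃ ζ : (T →* ℂˣ) → IrrCharacter G, ∀ l, l ≠ 1 → ∀ χ,
        vec S l χ = A χ - ε * (if χ = ζ l then 1 else 0) := by
    rcases Blocks.TIAbelian.star u v (fun i j => S.beta i.1 = S.beta j.1) huv hfun hn' i₀ with h | h
    · refine ⟨fun χ => vec S l₀ χ - (if χ = u i₀ then 1 else 0), -1, Or.inr rfl,
        fun l => if hl : l ≠ 1 ∧ S.beta l ≠ S.beta l₀ then v ⟨l, hl⟩ else u i₀, fun l hl χ => ?_⟩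
      simp only
      by_cases hb : S.beta l = S.beta l₀
      · simp only [dif_neg fun h : l ≠ 1 ∧ S.beta l ≠ S.beta l₀ => h.2 hb]
        simp only [vec, hb]
        split_ifs <;> ring
      · simp only [dif_pos (show l ≠ 1 ∧ S.beta l ≠ S.beta l₀ from ⟨hl, hb⟩)]
        have h1 := hev ⟨l, hl, hb⟩ χ
        rw [h] at h1
        simp only at h1
        linarith
    · refine ⟨fun χ => vec S l₀ χ + (if χ = v i₀ then 1 else 0), 1, Or.inl rfl,
        fun l => if hl : l ≠ 1 ∧ S.beta l ≠ S.beta l₀ then u ⟨l, hl⟩ else v i₀, fun l hl χ => ?_⟩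
      simp only
      by_cases hb : S.beta l = S.beta l₀
      · simp only [dif_neg fun h : l ≠ 1 ∧ S.beta l ≠ S.beta l₀ => h.2 hb]
        simp only [vec, hb]
        split_ifs <;> ring
      · simp only [dif_pos (show l ≠ 1 ∧ S.beta l ≠ S.beta l₀ from ⟨hl, hb⟩)]
        have h1 := hev ⟨l, hl, hb⟩ χ
        rw [h] at h1
        simp only at h1
        linarith
  have hε0 : ε ≠ 0 := by rcases hε with h | h <;> rw [h] <;> norm_num
  have hζiff : ∀ l l', l ≠ 1 → l' ≠ 1 → (ζ l = ζ l' ↔ S.beta l = S.beta l') := by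
    intro l l' hl hl'
    refine ⟨fun h => eq_of_vec S fun χ => by rw [hζ l hl, hζ l' hl', h], fun h => ?_⟩
    have h1 : vec S l (ζ l) = vec S l' (ζ l) := by rw [vec, vec, h]
    rw [hζ l hl, hζ l' hl', if_pos rfl] at h1
    by_contra hne
    rw [if_neg hne] at h1
    exact hε0 (by linarith)
  set Λ := Finset.univ.erase (1 : T →* ℂˣ) with hΛ
  have hΛmem : ∀ l, l ∈ Λ ↔ l ≠ 1 := fun l => by simp [hΛ]
  set E := Λ.image ζ with hE
  have hfib : ∀ χ ∈ E, (Λ.filter fun l => ζ l = χ).card = a := by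
    intro χ hχ
    obtain ⟨l, hl, rfl⟩ := Finset.mem_image.1 hχ
    rw [← card_fibre_beta S hL ((hΛmem l).1 hl)]
    refine congrArg Finset.card (Finset.filter_congr fun l' hl' => ?_)
    exact hζiff l' l ((hΛmem _).1 hl') ((hΛmem l).1 hl)
  have hΛcard : Λ.card + 1 = Nat.card T := by
    rw [hΛ, Finset.card_erase_of_mem (Finset.mem_univ _), Finset.card_univ, card_dual hab]
    omega
  have hEcard : a * E.card + 1 = Nat.card T := by
    rw [← hΛcard, Finset.card_eq_sum_card_image ζ Λ, Finset.sum_congr rfl hfib, Finset.sum_const,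
      smul_eq_mul, mul_comm]
  have hE2 : ∀ χ, ∃ l, l ≠ 1 ∧ ζ l ≠ χ := by
    intro χ
    by_contra hall
    push Not at hall
    have : E.card ≤ 1 := Finset.card_le_one.2 fun x hx y hy => by
      obtain ⟨l, hl, rfl⟩ := Finset.mem_image.1 hx
      obtain ⟨l', hl', rfl⟩ := Finset.mem_image.1 hy
      rw [hall l ((hΛmem l).1 hl), hall l' ((hΛmem l').1 hl')]
    have := Nat.mul_le_mul_left a this
    omega
  have hnorm : ∀ l, l ≠ 1 → ∑ χ, A χ ^ 2 - 2 * ε * A (ζ l) = (a : ℤ) := by
    intro l hl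
    have h := hip l l hl hl
    rw [if_pos rfl] at h
    have h1 : ∀ χ, vec S l χ * vec S l χ =
        A χ ^ 2 + (if χ = ζ l then ε ^ 2 - 2 * ε * A (ζ l) else 0) := fun χ => by
      rw [hζ l hl]
      split_ifs with e
      · subst e; ring
      · ring
    rw [Finset.sum_congr rfl fun χ _ => h1 χ, Finset.sum_add_distrib, Finset.sum_ite_eq',
      if_pos (Finset.mem_univ _)] at h
    have hsq : ε ^ 2 = 1 := by rcases hε with e | e <;> rw [e] <;> norm_num
    linarith
  have hdeg : ∀ l, l ≠ 1 →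
      ε * (charDegree ((ζ l : IrrCharacter G) : G → ℂ) : ℤ) =
        ∑ χ, A χ * (charDegree (χ : G → ℂ) : ℤ) := by
    intro l hl
    have h := sum_vec_deg S l
    simp only [hζ l hl, sub_mul, Finset.sum_sub_distrib, mul_ite, mul_one, mul_zero, ite_mul,
      zero_mul, Finset.sum_ite_eq', Finset.mem_univ, if_true] at h
    linarith
  obtain ⟨l₁, hl₁⟩ : ∃ l : T →* ℂˣ, l ≠ 1 := ⟨l₀, hl₀⟩
  have hsum : ∀ χ, ∑ l ∈ Λ, vec S l χ =
      ((Nat.card T : ℤ) - 1) * A χ - (if χ ∈ E then (a : ℤ) * ε else 0) := by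
    intro χ
    rw [Finset.sum_congr rfl fun l hl => hζ l ((hΛmem l).1 hl) χ, Finset.sum_sub_distrib,
      Finset.sum_const, nsmul_eq_mul, ← hΛcard, ← Finset.mul_sum, Finset.sum_boole,
      show Λ.filter (fun l => χ = ζ l) = Λ.filter (fun l => ζ l = χ) from
        Finset.filter_congr fun l _ => eq_comm]
    split_ifs with h
    · rw [hfib χ h]
      push_cast
      ring
    · rw [Finset.filter_false_of_mem fun l hl (e : ζ l = χ) => h (e ▸ Finset.mem_image_of_mem ζ hl)]
      simp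
  have hcong : ∀ χ : IrrCharacter G, (Nat.card T : ℤ) ∣ (charDegree (χ : G → ℂ) : ℤ) - A χ -
      (if χ ∈ E then (a : ℤ) * ε else 0) := by
    intro χ
    obtain ⟨w, hw⟩ := sum_vec_all S hab χ
    rw [hsum χ] at hw
    exact ⟨w - A χ, by linarith⟩
  refine ⟨A, ε, A (ζ l₁), E, charDegree ((ζ l₁ : IrrCharacter G) : G → ℂ), hε, hEcard,
    fun χ hχ => ?_, fun χ hχ => ?_, ?_, hnorm l₁ hl₁, fun χ hχ ψ hψ y hy => ?_,
    fun χ ψ h => ?_, fun hmem => ?_, ?_⟩
  · obtain ⟨l, hl, rfl⟩ := Finset.mem_image.1 hχ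
    rw [hΛmem] at hl
    refine ⟨?_, ?_⟩
    · have h1 := (hdeg l hl).trans (hdeg l₁ hl₁).symm
      exact_mod_cast mul_left_cancel₀ hε0 h1
    · have h1 := (hnorm l hl).trans (hnorm l₁ hl₁).symm
      exact mul_left_cancel₀ (mul_ne_zero two_ne_zero hε0) (by linarith)
  · have h := hcong χ
    rwa [if_neg hχ, sub_zero] at h
  · have h := hcong (ζ l₁)
    rwa [if_pos (Finset.mem_image_of_mem ζ ((hΛmem _).2 hl₁))] at h
  · obtain ⟨l, hl, rfl⟩ := Finset.mem_image.1 hχ
    obtain ⟨l', hl', rfl⟩ := Finset.mem_image.1 hψ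
    rw [hΛmem] at hl hl'
    have hb : ∀ m, m ≠ 1 → S.beta m y =
        (∑ θ, (A θ : ℂ) * (θ : G → ℂ) y) - (ε : ℂ) * ((ζ m : IrrCharacter G) : G → ℂ) y := by
      intro m hm
      rw [eq_sum_coeff (gc_beta S m) y]
      simp only [show ∀ θ, coeff (S.beta m) θ = vec S m θ from fun θ => rfl, hζ m hm]
      push_cast
      simp only [sub_mul, Finset.sum_sub_distrib, mul_ite, mul_one, mul_zero, ite_mul, zero_mul,
        Finset.sum_ite_eq', Finset.mem_univ, if_true]
    have h0 : ∀ m, S.beta m y = 0 := fun m => by_contra fun hne => hy (S.beta_supp hne)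
    have h1 := (hb l hl).symm.trans (h0 l)
    have h2 := (hb l' hl').symm.trans (h0 l')
    exact mul_left_cancel₀ (Int.cast_ne_zero.2 hε0) (by linear_combination h2 - h1)
  · have hv : ∀ l, l ≠ 1 → A χ - ε * (if χ = ζ l then 1 else 0) =
        A ψ - ε * (if ψ = ζ l then 1 else 0) := fun l hl => by
      rw [← hζ l hl, ← hζ l hl, vec_congr S l h]
    by_cases hne : χ = ψ
    · subst hne
      exact ⟨rfl, fun _ => rfl⟩
    have hno : ∀ l, l ≠ 1 → ζ l ≠ χ ∧ ζ l ≠ ψ := by
      intro l hl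
      refine ⟨fun e => ?_, fun e => ?_⟩
      · obtain ⟨l', hl', hne'⟩ := hE2 χ
        have h1 := hv l hl
        have h2 := hv l' hl'
        rw [if_pos e.symm, if_neg fun e' => hne (e.symm.trans e'.symm)] at h1
        rw [if_neg (Ne.symm hne')] at h2
        split_ifs at h2 <;> rcases hε with e' | e' <;> rw [e'] at h1 h2 <;> omega
      · obtain ⟨l', hl', hne'⟩ := hE2 ψ
        have h1 := hv l hl
        have h2 := hv l' hl'
        rw [if_pos e.symm, if_neg fun e' => hne (e'.trans e)] at h1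
        rw [if_neg (Ne.symm hne')] at h2
        split_ifs at h2 <;> rcases hε with e' | e' <;> rw [e'] at h1 h2 <;> omega
    refine ⟨?_, fun hχ => ?_⟩
    · have h1 := hv l₁ hl₁
      rw [if_neg (Ne.symm (hno l₁ hl₁).1), if_neg (Ne.symm (hno l₁ hl₁).2)] at h1
      simpa using h1
    · obtain ⟨l, hl, e⟩ := Finset.mem_image.1 hχ
      exact absurd e (hno l ((hΛmem l).1 hl)).1
  · obtain ⟨l, hl, e⟩ := Finset.mem_image.1 hmem
    rw [hΛmem] at hl
    obtain ⟨l', hl', hne⟩ := hE2 (trivChar G)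
    have h1 := hζ l hl (trivChar G)
    have h2 := hζ l' hl' (trivChar G)
    rw [vec_trivial S hl, if_pos e.symm] at h1
    rw [vec_trivial S hl', if_neg (Ne.symm hne)] at h2
    exact hε0 (by linarith)
  · obtain ⟨l, hl, hne⟩ := hE2 (trivChar G)
    have h2 := hζ l hl (trivChar G)
    rw [vec_trivial S hl, if_neg (Ne.symm hne)] at h2
    linarith

end CfsgLib.DegreeTools.Torus
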