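import Cfsg.Agent.Lib.DegreeTools.KerTools
import Cfsg.Agent.Lib.Blocks.RegularSum

/-!
# An irreducible character that is nonzero on exactly two conjugacy classes
-/

namespace CfsgLib.DegreeTools

open CfsgLib.Char
open scoped ComplexConjugate

variable {G : Type*} [Group G] [Finite G]

/-- The data of a character supported on `1` and one further class, the class of `x`. -/
structure TwoClass (χ : Cfsg.IrrCharacter G) (x : G) : Prop where
  ne_one : x ≠ 1
  ne_principal : χ ≠ oneChar G
  apply_ne : (χ : G → ℂ) x ≠ 0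
  supp : ∀ g : G, (χ : G → ℂ) g ≠ 0 → g = 1 ∨ IsConj x g

theorem exists_twoClass (hG : 2 < Nat.card G) (χ : Cfsg.IrrCharacter G)
    (hχ : Nat.card {C : ConjClasses G // ∃ g ∈ C.carrier, (χ : G → ℂ) g ≠ 0} = 2) :
    ∃ x, TwoClass χ x := by
  classical
  cases nonempty_fintype G
  set T := {C : ConjClasses G // ∃ g ∈ C.carrier, (χ : G → ℂ) g ≠ 0}
  let C₁ : T := ⟨ConjClasses.mk 1, 1, ConjClasses.mem_carrier_mk,
    IsIrrCharacter.apply_one_ne_zero χ.2⟩
  have hval : ∀ C : ConjClasses G, ∀ a ∈ C.carrier, ∀ b ∈ C.carrier,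
      (χ : G → ℂ) a = (χ : G → ℂ) b := by
    intro C a ha b hb
    rw [ConjClasses.mem_carrier_iff_mk_eq] at ha hb
    exact IsClassFunction.apply_eq_of_isConj (IsIrrCharacter.isClassFunction χ.2)
      (ConjClasses.mk_eq_mk_iff_isConj.mp (ha.trans hb.symm))
  have hex : ∃ C : T, C ≠ C₁ := by
    by_contra hcon
    push Not at hcon
    haveI : Subsingleton T := ⟨fun a b => (hcon a).trans (hcon b).symm⟩
    have := Finite.card_le_one_iff_subsingleton.mpr ‹Subsingleton T›
    omega
  obtain ⟨⟨C, x, hxC, hx0⟩, hne⟩ := hex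
  have hCx : C = ConjClasses.mk x := (ConjClasses.mem_carrier_iff_mk_eq.mp hxC).symm
  have hx1 : x ≠ 1 := fun h => hne (Subtype.ext (hCx.trans (congrArg ConjClasses.mk h)))
  have hsupp : ∀ g : G, (χ : G → ℂ) g ≠ 0 → g = 1 ∨ IsConj x g := by
    intro g hg
    let Cg : T := ⟨ConjClasses.mk g, g, ConjClasses.mem_carrier_mk, hg⟩
    by_contra hcon
    push Not at hcon
    have h1 : Cg ≠ C₁ := fun h => hcon.1
      (isConj_one_left.mp (ConjClasses.mk_eq_mk_iff_isConj.mp (congrArg Subtype.val h)))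
    have h2 : Cg ≠ ⟨C, x, hxC, hx0⟩ := fun h => hcon.2
      (ConjClasses.mk_eq_mk_iff_isConj.mp ((congrArg Subtype.val h).trans hCx)).symm
    have : ({Cg, C₁, ⟨C, x, hxC, hx0⟩} : Finset T).card = 3 := by
      rw [Finset.card_insert_of_notMem (by simp [h1, h2]),
        Finset.card_insert_of_notMem (by simpa using Ne.symm hne), Finset.card_singleton]
    have := Finset.card_le_univ ({Cg, C₁, ⟨C, x, hxC, hx0⟩} : Finset T)
    rw [← Nat.card_eq_fintype_card] at this
    omega
  refine ⟨x, hx1, fun h => ?_, hx0, hsupp⟩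
  -- the principal character is nonzero everywhere, so there would be two classes only
  subst h
  have hall : ∀ g : G, g = 1 ∨ IsConj x g := fun g => hsupp g (by simp)
  have hcard : Nat.card (ConjClasses G) = 2 := by
    rw [← hχ]
    refine (Nat.card_congr (Equiv.subtypeUnivEquiv fun C => ?_)).symm
    obtain ⟨g, rfl⟩ := C.exists_rep
    exact ⟨g, ConjClasses.mem_carrier_mk, by simp⟩
  have hsum := sum_deg_sq (G := G)
  rw [← card_irrCharacter, Nat.card_eq_fintype_card, ← Finset.card_univ,
    Finset.card_eq_two] at hcard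
  obtain ⟨a, b, hab, huniv⟩ := hcard
  rw [huniv, Finset.sum_pair hab] at hsum
  have hda := deg_dvd_card a
  have hdb := deg_dvd_card b
  rcases (show a = oneChar G ∨ b = oneChar G by
    have := Finset.mem_univ (oneChar G); rw [huniv] at this; simpa [eq_comm] using this) with h | h
  · rw [h, deg_oneChar, one_pow] at hsum
    rw [← hsum, Nat.dvd_add_left (dvd_pow_self _ two_ne_zero), Nat.dvd_one] at hdb
    rw [hdb] at hsum
    omega
  · rw [h, deg_oneChar, one_pow] at hsum
    rw [← hsum, Nat.dvd_add_right (dvd_pow_self _ two_ne_zero), Nat.dvd_one] at hda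
    rw [hda] at hsum
    omega

namespace TwoClass

variable {χ : Cfsg.IrrCharacter G} {x : G}

/-- The size of the class of `x`. -/
noncomputable abbrev size (_h : TwoClass χ x) : ℕ := (Subgroup.centralizer ({x} : Set G)).index

theorem apply_eq (h : TwoClass χ x) {g : G} (hg : IsConj x g) :
    (χ : G → ℂ) g = (χ : G → ℂ) x :=
  (IsClassFunction.apply_eq_of_isConj (IsIrrCharacter.isClassFunction χ.2) hg).symm

/-- Sums against `χ` only see `1` and the class of `x`. -/
theorem sum_mul (h : TwoClass χ x) [Fintype G] {F : G → ℂ} (hF : Cfsg.IsClassFunction G F) :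
    ∑ g, (χ : G → ℂ) g * F g =
      (χ : G → ℂ) 1 * F 1 + (h.size : ℂ) * ((χ : G → ℂ) x * F x) := by
  classical
  rw [← Finset.sum_filter_add_sum_filter_not Finset.univ (fun g => IsConj g x)]
  have h1 : ∀ g ∈ Finset.univ.filter (fun g : G => IsConj g x),
      (χ : G → ℂ) g * F g = (χ : G → ℂ) x * F x := by
    intro g hg
    have hg' : IsConj g x := (Finset.mem_filter.mp hg).2
    rw [h.apply_eq hg'.symm, IsClassFunction.apply_eq_of_isConj hF hg']
  rw [Finset.sum_congr rfl h1, Finset.sum_const, nsmul_eq_mul, Finset.sum_eq_single (1 : G)]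
  · rw [add_comm]
    congr 3
    rw [← Fintype.card_subtype, ← Nat.card_eq_fintype_card, card_isConj_eq_index]
  · intro g hg hg1
    by_cases hz : (χ : G → ℂ) g = 0
    · simp [hz]
    · exact absurd ((h.supp g hz).resolve_left hg1).symm (Finset.mem_filter.mp hg).2
  · intro hn
    exact absurd (Finset.mem_filter.mpr
      ⟨Finset.mem_univ _, fun hc => h.ne_one (isConj_one_left.mp hc.symm)⟩) hn

theorem size_pos (h : TwoClass χ x) : 0 < h.size :=
  Nat.pos_of_ne_zero Subgroup.index_ne_zero_of_finite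

theorem deg_add (h : TwoClass χ x) :
    (χ : G → ℂ) 1 + (h.size : ℂ) * (χ : G → ℂ) x = 0 := by
  cases nonempty_fintype G
  have := h.sum_mul (F := fun _ => 1) (fun _ _ => rfl)
  simp only [mul_one] at this
  rw [← this, sum_eq_zero χ h.ne_principal]

theorem apply_x (h : TwoClass χ x) :
    (χ : G → ℂ) x = -(Cfsg.charDegree (χ : G → ℂ) : ℂ) / h.size := by
  have := h.deg_add
  rw [deg_cast, eq_div_iff (Nat.cast_ne_zero.mpr h.size_pos.ne')]
  linear_combination this

theorem norm_eq (h : TwoClass χ x) :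
    Cfsg.charDegree (χ : G → ℂ) ^ 2 * (h.size + 1) = Nat.card G * h.size := by
  cases nonempty_fintype G
  have hc : Cfsg.IsClassFunction G (fun g => conj ((χ : G → ℂ) g)) := fun g y =>
    congrArg conj (IsIrrCharacter.isClassFunction χ.2 g y)
  have h1 := h.sum_mul hc
  have h2 : ∑ g, (χ : G → ℂ) g * conj ((χ : G → ℂ) g) = (Nat.card G : ℂ) := by
    simp only [Complex.mul_conj, Complex.normSq_eq_norm_sq]
    exact_mod_cast sum_norm_sq χ
  rw [h2, ← deg_cast, h.apply_x] at h1
  simp only [map_neg, map_div₀, Complex.conj_natCast] at h1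
  have hs : (h.size : ℂ) ≠ 0 := Nat.cast_ne_zero.mpr h.size_pos.ne'
  field_simp at h1
  apply Nat.cast_injective (R := ℂ)
  push_cast
  linear_combination -h1

/-- All other irreducible characters contain the class of `x` in their kernel. -/
theorem other_apply (h : TwoClass χ x) (ψ : Cfsg.IrrCharacter G) (hψ : ψ ≠ χ) :
    (ψ : G → ℂ) x = (ψ : G → ℂ) 1 := by
  cases nonempty_fintype G
  have hc : Cfsg.IsClassFunction G (fun g => conj ((ψ : G → ℂ) g)) := fun g y =>
    congrArg conj (IsIrrCharacter.isClassFunction ψ.2 g y)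
  have h1 := h.sum_mul hc
  rw [sum_mul_conj χ ψ (Ne.symm hψ)] at h1
  have h2 : (χ : G → ℂ) 1 * (conj ((ψ : G → ℂ) 1) - conj ((ψ : G → ℂ) x)) = 0 := by
    linear_combination -h1 - conj ((ψ : G → ℂ) x) * h.deg_add
  have h3 := sub_eq_zero.mp ((mul_eq_zero.mp h2).resolve_left
    (IsIrrCharacter.apply_one_ne_zero χ.2))
  exact ((starRingEnd ℂ).injective h3).symm

theorem isConj_of_forall (h : TwoClass χ x) {y : G} (hy1 : y ≠ 1)
    (hy : ∀ ψ : Cfsg.IrrCharacter G, ψ ≠ χ → (ψ : G → ℂ) y = (ψ : G → ℂ) 1) : IsConj x y := by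
  classical
  cases nonempty_fintype G
  rw [isConj_iff_forall_irr]
  intro ψ
  by_cases hψ : ψ = χ
  · subst hψ
    have hx := sum_deg_mul x h.ne_one
    have hy' := sum_deg_mul y hy1
    rw [← Finset.add_sum_erase _ _ (Finset.mem_univ ψ)] at hx hy'
    rw [Finset.sum_congr rfl (fun φ hφ => by rw [h.other_apply φ (Finset.ne_of_mem_erase hφ)])]
      at hx
    rw [Finset.sum_congr rfl (fun φ hφ => by rw [hy φ (Finset.ne_of_mem_erase hφ)])] at hy'
    have := hx.trans hy'.symm
    exact mul_left_cancel₀ (Nat.cast_ne_zero.mpr (deg_pos ψ).ne') (add_right_cancel this)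
  · rw [h.other_apply ψ hψ, hy ψ hψ]

/-- The normal subgroup `N`, the common kernel of the other characters. -/
noncomputable def normalSubgroup (_h : TwoClass χ x) : Subgroup G :=
  ⨅ ψ : {ψ : Cfsg.IrrCharacter G // ψ ≠ χ}, charKer (isCharacter_irr ψ.1)

theorem normalSubgroup_normal (h : TwoClass χ x) : h.normalSubgroup.Normal :=
  Subgroup.normal_iInf_normal fun ψ => charKer_normal _

theorem mem_normalSubgroup_iff (h : TwoClass χ x) {g : G} :
    g ∈ h.normalSubgroup ↔ g = 1 ∨ IsConj x g := by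
  constructor
  · intro hg
    by_cases hg1 : g = 1
    · exact Or.inl hg1
    refine Or.inr (h.isConj_of_forall hg1 fun ψ hψ => ?_)
    exact (mem_charKer _).mp (Subgroup.mem_iInf.mp hg ⟨ψ, hψ⟩)
  · rintro (rfl | hg)
    · exact one_mem _
    · refine Subgroup.mem_iInf.mpr fun ψ => (mem_charKer _).mpr ?_
      rw [← IsClassFunction.apply_eq_of_isConj (IsIrrCharacter.isClassFunction ψ.1.2) hg]
      exact h.other_apply ψ.1 ψ.2

theorem apply_ne_zero_iff (h : TwoClass χ x) {g : G} :
    (χ : G → ℂ) g ≠ 0 ↔ g ∈ h.normalSubgroup := by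
  rw [h.mem_normalSubgroup_iff]
  constructor
  · exact h.supp g
  · rintro (rfl | hg)
    · exact IsIrrCharacter.apply_one_ne_zero χ.2
    · rw [h.apply_eq hg]; exact h.apply_ne

theorem x_mem (h : TwoClass χ x) : x ∈ h.normalSubgroup :=
  h.mem_normalSubgroup_iff.mpr (Or.inr (IsConj.refl x))

theorem normalSubgroup_ne_bot (h : TwoClass χ x) : h.normalSubgroup ≠ ⊥ := fun hb =>
  h.ne_one (Subgroup.mem_bot.mp (hb ▸ h.x_mem))

/-- `χ` is faithful. -/
theorem faithful (h : TwoClass χ x) (g : G) (hg : (χ : G → ℂ) g = (χ : G → ℂ) 1) : g = 1 := by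
  have hne : (χ : G → ℂ) g ≠ 0 := hg ▸ IsIrrCharacter.apply_one_ne_zero χ.2
  rcases h.supp g hne with h1 | hc
  · exact h1
  exfalso
  rw [h.apply_eq hc] at hg
  have hd := h.deg_add
  rw [hg] at hd
  have : ((h.size : ℂ) + 1) * (χ : G → ℂ) 1 = 0 := by linear_combination hd
  rcases mul_eq_zero.mp this with h0 | h0
  · have : ((h.size + 1 : ℕ) : ℂ) = 0 := by exact_mod_cast h0
    exact absurd (Nat.cast_eq_zero.mp this) (Nat.succ_ne_zero _)
  · exact IsIrrCharacter.apply_one_ne_zero χ.2 h0

theorem unique_minimal (h : TwoClass χ x) (K : Subgroup G) (hK : K.Normal) (hK1 : K ≠ ⊥) :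
    h.normalSubgroup ≤ K := by
  classical
  cases nonempty_fintype G
  haveI := hK
  by_contra hcon
  apply hK1
  refine eq_bot_of_sum_ne_zero χ h.faithful K ?_
  rw [Finset.sum_eq_single (1 : K)]
  · simpa using IsIrrCharacter.apply_one_ne_zero χ.2
  · intro k _ hk1
    by_contra hk
    have hk' : IsConj x (k : G) :=
      (h.supp _ hk).resolve_left fun e => hk1 (Subtype.ext e)
    apply hcon
    intro g hg
    rcases h.mem_normalSubgroup_iff.mp hg with rfl | hgx
    · exact one_mem _
    obtain ⟨c, hc⟩ := isConj_iff.mp (hk'.symm.trans hgx)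
    exact hc ▸ hK.conj_mem _ k.2 c
  · intro hn; exact absurd (Finset.mem_univ _) hn

theorem eq_of_faithful (h : TwoClass χ x) (ψ : Cfsg.IrrCharacter G)
    (hψ : ∀ g : G, (ψ : G → ℂ) g = (ψ : G → ℂ) 1 → g = 1) : ψ = χ := by
  by_contra hne
  exact h.ne_one (hψ x (h.other_apply ψ hne))

theorem card_normalSubgroup (h : TwoClass χ x) : Nat.card h.normalSubgroup = h.size + 1 := by
  classical
  cases nonempty_fintype G
  have h1 : Nat.card h.normalSubgroup = (Finset.univ.filter fun g : G => g = 1 ∨ IsConj g x).card := by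
    rw [← Fintype.card_subtype, ← Nat.card_eq_fintype_card]
    refine Nat.card_congr (Equiv.subtypeEquivRight fun g => ?_)
    rw [h.mem_normalSubgroup_iff, isConj_comm]
  rw [h1, Finset.filter_or, Finset.card_union_of_disjoint, add_comm]
  · congr 1
    · rw [← Fintype.card_subtype, ← Nat.card_eq_fintype_card, card_isConj_eq_index]
    · rw [Finset.card_eq_one]
      exact ⟨1, by ext; simp⟩
  · rw [Finset.disjoint_filter]
    rintro g - rfl hg
    exact h.ne_one (isConj_one_left.mp hg.symm)

theorem exists_prime (h : TwoClass χ x) :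
    ∃ p : ℕ, p.Prime ∧ IsPGroup p h.normalSubgroup ∧ IsMulCommutative h.normalSubgroup ∧
      ∀ y ∈ h.normalSubgroup, y ^ p = 1 := by
  set p := (orderOf x).minFac with hp
  have hox : orderOf x ≠ 1 := fun h1 => h.ne_one (orderOf_eq_one_iff.mp h1)
  have hpp : p.Prime := Nat.minFac_prime hox
  haveI : Fact p.Prime := ⟨hpp⟩
  have hy : orderOf (x ^ (orderOf x / p)) = p :=
    orderOf_pow_orderOf_div (orderOf_pos x).ne' (Nat.minFac_dvd _)
  have hconj_pow : ∀ a b : G, IsConj a b → a ^ p = 1 → b ^ p = 1 := by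
    intro a b hab ha
    obtain ⟨c, rfl⟩ := isConj_iff.mp hab
    rw [conj_pow, ha, mul_one, mul_inv_cancel]
  have hxp : x ^ p = 1 := by
    rcases h.mem_normalSubgroup_iff.mp (pow_mem h.x_mem (orderOf x / p)) with h1 | h1
    · rw [h1, orderOf_one] at hy
      exact absurd hy.symm hpp.ne_one
    · refine hconj_pow _ _ h1.symm ?_
      have := pow_orderOf_eq_one (x ^ (orderOf x / p))
      rwa [hy] at this
  have hexp : ∀ y ∈ h.normalSubgroup, y ^ p = 1 := by
    intro y hy
    rcases h.mem_normalSubgroup_iff.mp hy with rfl | hc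
    · exact one_pow _
    · exact hconj_pow x y hc hxp
  have hpg : IsPGroup p h.normalSubgroup := fun y => ⟨1, Subtype.ext (by
    rw [pow_one, SubgroupClass.coe_pow]; exact hexp y y.2)⟩
  refine ⟨p, hpp, hpg, ?_, hexp⟩
  haveI := h.normalSubgroup_normal
  haveI : Nontrivial h.normalSubgroup :=
    (Subgroup.nontrivial_iff_ne_bot _).mpr h.normalSubgroup_ne_bot
  haveI := hpg.center_nontrivial
  obtain ⟨⟨z, hz⟩, hz1⟩ := exists_ne (1 : Subgroup.center h.normalSubgroup)
  have hzx : IsConj x (z : G) := (h.mem_normalSubgroup_iff.mp z.2).resolve_left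
    fun e => hz1 (Subtype.ext (Subtype.ext e))
  refine ⟨⟨fun a b => ?_⟩⟩
  rcases h.mem_normalSubgroup_iff.mp a.2 with ha | ha
  · have ha' : a = 1 := Subtype.ext ha
    simp [ha']
  · obtain ⟨c, hc⟩ := isConj_iff.mp (hzx.symm.trans ha)
    -- `a` is the image of a central element under conjugation by `c`
    have ha' : a = MulAut.conjNormal c z := Subtype.ext (by simp [hc])
    have key := congrArg (MulAut.conjNormal c)
      (Subgroup.mem_center_iff.mp hz ((MulAut.conjNormal c).symm b))
    rw [map_mul, map_mul, MulEquiv.apply_symm_apply, ← ha'] at key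
    exact key.symm

end TwoClass

end CfsgLib.DegreeTools
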