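import Cfsg.Agent.Lib.DegreeTools.TwoClass
import Mathlib.GroupTheory.Sylow

/-!
# Two-class characters: centralisers and stabilisers are Sylow subgroups
-/

namespace CfsgLib.DegreeTools

open CfsgLib.Char
open scoped ComplexConjugate

variable {G : Type*} [Group G] [Finite G] {χ : Cfsg.IrrCharacter G} {x : G}

namespace TwoClass

variable {p : ℕ}

theorem exists_size (h : TwoClass χ x) [Fact p.Prime] (hp : IsPGroup p h.normalSubgroup) :
    ∃ f : ℕ, 0 < f ∧ h.size + 1 = p ^ f := by
  obtain ⟨f, hf⟩ := IsPGroup.iff_card.mp hp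
  rw [h.card_normalSubgroup] at hf
  refine ⟨f, Nat.pos_of_ne_zero fun h0 => ?_, hf⟩
  subst h0
  rw [pow_zero] at hf
  have := h.size_pos
  omega

theorem not_dvd_size (h : TwoClass χ x) [Fact p.Prime] (hp : IsPGroup p h.normalSubgroup) :
    ¬ p ∣ h.size := by
  obtain ⟨f, hf0, hf⟩ := h.exists_size hp
  intro hd
  have h1 : p ∣ h.size + 1 := hf ▸ dvd_pow_self p hf0.ne'
  exact (Fact.out : p.Prime).not_dvd_one ((Nat.dvd_add_right hd).mp h1)

/-- The centraliser of `x` is a `p`-group. -/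
theorem isPGroup_centralizer (h : TwoClass χ x) [Fact p.Prime]
    (hp : IsPGroup p h.normalSubgroup) : IsPGroup p (Subgroup.centralizer ({x} : Set G)) := by
  classical
  cases nonempty_fintype G
  set C := Subgroup.centralizer ({x} : Set G) with hC
  have hpp : p.Prime := Fact.out
  rw [IsPGroup.iff_card]
  suffices hs : ∀ {l : ℕ}, l.Prime → l ∣ Nat.card C → l = p from
    ⟨_, Nat.eq_prime_pow_of_unique_prime_dvd Nat.card_pos.ne' hs⟩
  intro l hl hldvd
  by_contra hlp
  haveI : Fact l.Prime := ⟨hl⟩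
  let L : Sylow l C := default
  set b := (Nat.card C).factorization l with hb
  have hLcard : Nat.card (L : Subgroup C) = l ^ b := L.card_eq_multiplicity
  obtain ⟨n, ρ, hirr, hρ⟩ := χ.2
  let σ : Representation ℂ (L : Subgroup C) (Fin n → ℂ) :=
    ρ.comp (C.subtype.comp (L : Subgroup C).subtype)
  have hint := Blocks.isIntegral_average_mul σ (ρ x) (orderOf_pos x)
    (by rw [← map_pow, pow_orderOf_eq_one, map_one]) (fun g => by
      show ρ x * ρ ((g : C) : G) = ρ ((g : C) : G) * ρ x
      rw [← map_mul, ← map_mul, Subgroup.mem_centralizer_singleton_iff.mp (g : C).2])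
  have hsum : ∑ g : (L : Subgroup C), LinearMap.trace ℂ (Fin n → ℂ) (ρ x * σ g) = (χ : G → ℂ) x := by
    rw [Finset.sum_eq_single (1 : (L : Subgroup C))]
    · rw [← hρ, map_one, mul_one]; rfl
    · intro g _ hg1
      show LinearMap.trace ℂ (Fin n → ℂ) (ρ x * ρ ((g : C) : G)) = 0
      rw [← map_mul]
      change ρ.character _ = 0
      rw [hρ]
      by_contra hne
      rw [← ne_eq, h.apply_ne_zero_iff] at hne
      have hgN : ((g : C) : G) ∈ h.normalSubgroup := by
        simpa [← mul_assoc] using h.normalSubgroup.mul_mem (h.normalSubgroup.inv_mem h.x_mem) hne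
      apply hg1
      have h1 : IsPGroup l (L : Subgroup C) := L.isPGroup'
      obtain ⟨i, hi⟩ := hp ⟨_, hgN⟩
      obtain ⟨j, hj⟩ := h1 g
      have hi' : ((g : C) : G) ^ p ^ i = 1 := by simpa using congrArg Subtype.val hi
      have hj' : ((g : C) : G) ^ l ^ j = 1 := by
        simpa using congrArg (fun y : C => (y : G)) (congrArg Subtype.val hj)
      have hgcd : ((g : C) : G) ^ (Nat.gcd (p ^ i) (l ^ j)) = 1 := pow_gcd_eq_one.mpr ⟨hi', hj'⟩
      rw [Nat.Coprime.gcd_eq_one (Nat.Coprime.pow _ _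
        ((Nat.coprime_primes hpp hl).mpr (Ne.symm hlp))), pow_one] at hgcd
      exact Subtype.ext (Subtype.ext hgcd)
    · intro hn; exact absurd (Finset.mem_univ _) hn
  rw [hsum, hLcard, h.apply_x] at hint
  have hint' : IsIntegral ℤ ((Cfsg.charDegree (χ : G → ℂ) : ℂ) / ((h.size * l ^ b : ℕ) : ℂ)) := by
    have := hint.neg
    convert this using 1
    push_cast
    rw [div_eq_mul_inv, div_eq_mul_inv, mul_inv]
    ring
  obtain ⟨t, ht⟩ := dvd_of_isIntegral_div
    (Nat.mul_ne_zero h.size_pos.ne' (pow_ne_zero _ hl.ne_zero)) hint'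
  have hGk : Nat.card G = h.size * Nat.card C :=
    (Subgroup.index_mul_card C).symm
  have heq := h.norm_eq
  rw [ht, hGk] at heq
  have hk : l ^ (2 * b) * (t ^ 2 * (h.size + 1)) = Nat.card C := by
    apply Nat.eq_of_mul_eq_mul_left (Nat.pos_of_ne_zero
      (pow_ne_zero 2 h.size_pos.ne'))
    linear_combination heq
  have hb0 : 0 < b := hl.factorization_pos_of_dvd Nat.card_pos.ne' hldvd
  have hle := (hl.pow_dvd_iff_le_factorization Nat.card_pos.ne').mp
    (Dvd.intro _ hk : l ^ (2 * b) ∣ Nat.card C)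
  omega

theorem exists_sylow_eq_centralizer (h : TwoClass χ x) [Fact p.Prime]
    (hp : IsPGroup p h.normalSubgroup) :
    ∃ P : Sylow p G, Subgroup.centralizer ({x} : Set G) = P :=
  ⟨(h.isPGroup_centralizer hp).toSylow (h.not_dvd_size hp), rfl⟩

/-- Every other nonidentity element of `N` may serve as `x`. -/
theorem of_mem (h : TwoClass χ x) {y : G} (hy : y ∈ h.normalSubgroup) (hy1 : y ≠ 1) :
    TwoClass χ y := by
  have hc := (h.mem_normalSubgroup_iff.mp hy).resolve_left hy1
  exact ⟨hy1, h.ne_principal, h.apply_ne_zero_iff.mpr hy,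
    fun g hg => (h.supp g hg).imp id fun hxg => hc.symm.trans hxg⟩

theorem normalSubgroup_eq (h : TwoClass χ x) (N : Subgroup G)
    (hN : ∀ g : G, g ∈ N ↔ (χ : G → ℂ) g ≠ 0) : h.normalSubgroup = N := by
  ext g; rw [hN, h.apply_ne_zero_iff]

/-- The stabiliser of a nonprincipal character of `N` is a Sylow subgroup. -/
theorem exists_sylow_stabilizer [Fact p.Prime] (N : Subgroup G) [hNn : N.Normal]
    (h : TwoClass χ x) (hN : ∀ g : G, g ∈ N ↔ (χ : G → ℂ) g ≠ 0) (hp : IsPGroup p N)
    (μ : Cfsg.IrrCharacter N) (hμ : (μ : N → ℂ) ≠ fun _ => 1) :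
    ∃ P : Sylow p G, ∀ g : G, g ∈ (P : Subgroup G) ↔
      ∀ n n' : N, (n' : G) = g * n * g⁻¹ → (μ : N → ℂ) n' = (μ : N → ℂ) n := by
  classical
  cases nonempty_fintype G
  have hNeq := h.normalSubgroup_eq N hN
  have hp' : IsPGroup p h.normalSubgroup := hNeq ▸ hp
  have habel : ∀ a b : N, a * b = b * a := by
    obtain ⟨q, -, -, hab, -⟩ := h.exists_prime
    rw [hNeq] at hab
    exact fun a b => hab.is_comm.comm a b
  let act : MulAction G (N → ℂ) :=
    { smul := fun g f n => f (MulAut.conjNormal g⁻¹ n)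
      one_smul := fun f => funext fun n => by show f _ = f n; simp
      mul_smul := fun g g' f => funext fun n => by
        show f _ = f _
        rw [mul_inv_rev, map_mul, MulAut.mul_apply] }
  have smul_def : ∀ (g : G) (f : N → ℂ) (n : N), (g • f) n = f (MulAut.conjNormal g⁻¹ n) :=
    fun _ _ _ => rfl
  set O : Finset (N → ℂ) := Finset.univ.image (fun g : G => g • (μ : N → ℂ)) with hO
  have hOirr : ∀ f ∈ O, Cfsg.IsIrrCharacter N f := by
    intro f hf
    obtain ⟨g, -, rfl⟩ := Finset.mem_image.mp hf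
    exact IsIrrCharacter.comp_surjective μ.2 (MulAut.conjNormal g⁻¹ : N ≃* N).toMonoidHom
      (MulAut.conjNormal g⁻¹ : N ≃* N).surjective
  have hOne : ∀ f ∈ O, f ≠ fun _ => 1 := by
    intro f hf
    obtain ⟨g, -, rfl⟩ := Finset.mem_image.mp hf
    intro he
    apply hμ
    rw [← inv_smul_smul g (μ : N → ℂ), he]
    rfl
  have hμO : (μ : N → ℂ) ∈ O :=
    Finset.mem_image.mpr ⟨1, Finset.mem_univ _, one_smul G (μ : N → ℂ)⟩
  set F : N → ℂ := ∑ f ∈ O, f with hF
  have hFinv : ∀ (g : G) (n : N), F (MulAut.conjNormal g n) = F n := by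
    intro g n
    simp only [hF, Finset.sum_apply]
    refine Finset.sum_bij (fun f _ => g⁻¹ • f) ?_ ?_ ?_ ?_
    · intro f hf
      obtain ⟨k, -, rfl⟩ := Finset.mem_image.mp hf
      exact Finset.mem_image.mpr ⟨g⁻¹ * k, Finset.mem_univ _, mul_smul _ _ _⟩
    · intro a _ b _ hab
      exact MulAction.injective g⁻¹ hab
    · intro f hf
      obtain ⟨k, -, rfl⟩ := Finset.mem_image.mp hf
      exact ⟨g • (k • (μ : N → ℂ)),
        Finset.mem_image.mpr ⟨g * k, Finset.mem_univ _, mul_smul _ _ _⟩, inv_smul_smul _ _⟩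
    · intro f _
      rw [smul_def, inv_inv]
  have hxN : x ∈ N := hNeq ▸ h.x_mem
  have hFconst : ∀ n : N, n ≠ 1 → F n = F ⟨x, hxN⟩ := by
    intro n hn
    obtain ⟨g, hg⟩ := isConj_iff.mp ((h.mem_normalSubgroup_iff.mp
      (by rw [hNeq]; exact n.2)).resolve_left fun e => hn (Subtype.ext e))
    rw [← hFinv g ⟨x, hxN⟩]
    exact congrArg F (Subtype.ext (by simp [hg]))
  set a := F ⟨x, hxN⟩
  have hinner : ∀ ν : Cfsg.IrrCharacter N, (ν : N → ℂ) ≠ (fun _ => 1) →
      Cfsg.classInner F (ν : N → ℂ) = (Nat.card N : ℂ)⁻¹ * (F 1 - a) := by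
    intro ν hν
    have hν1 : (ν : N → ℂ) 1 = 1 := apply_one_eq_one_of_comm habel ν.2
    have h0 := sum_eq_zero ν (ne_oneChar_iff ν |>.mpr hν)
    rw [← Finset.add_sum_erase _ _ (Finset.mem_univ (1 : N)), hν1] at h0
    rw [Cfsg.classInner, ← Finset.add_sum_erase _ _ (Finset.mem_univ (1 : N)),
      Finset.sum_congr rfl (fun n hn => by rw [hFconst n (Finset.ne_of_mem_erase hn)]),
      ← Finset.mul_sum, hν1, map_one, mul_one, ← map_sum, eq_neg_of_add_eq_zero_right h0,
      map_neg, map_one]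
    ring
  have hOsum : ∀ ν : Cfsg.IrrCharacter N, Cfsg.classInner F (ν : N → ℂ) =
      if (ν : N → ℂ) ∈ O then 1 else 0 := by
    intro ν
    rw [hF, classInner_sum_left,
      Finset.sum_congr rfl (fun f hf => classInner_irr (hOirr f hf) ν.2), Finset.sum_ite_eq']
  have hall : ∀ ν : Cfsg.IrrCharacter N, (ν : N → ℂ) ≠ (fun _ => 1) → (ν : N → ℂ) ∈ O := by
    intro ν hν
    by_contra hcon
    have h1 := hOsum ν
    rw [if_neg hcon, hinner ν hν] at h1
    have h2 := hOsum μ
    rw [if_pos hμO, hinner μ hμ, h1] at h2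
    exact zero_ne_one h2
  have hOcard : O.card = h.size := by
    have h1 : O.card = (Finset.univ.filter
        fun ν : Cfsg.IrrCharacter N => ν ≠ oneChar N).card := by
      symm
      refine Finset.card_bij (fun ν _ => (ν : N → ℂ)) ?_ ?_ ?_
      · intro ν hν
        exact hall ν ((ne_oneChar_iff ν).mp (Finset.mem_filter.mp hν).2)
      · intro a _ b _ hab; exact Subtype.ext hab
      · intro f hf
        exact ⟨⟨f, hOirr f hf⟩, Finset.mem_filter.mpr ⟨Finset.mem_univ _,
          (ne_oneChar_iff _).mpr (hOne f hf)⟩, rfl⟩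
    rw [h1, Finset.filter_ne', Finset.card_erase_of_mem (Finset.mem_univ _), Finset.card_univ,
      ← Nat.card_eq_fintype_card, card_irrCharacter]
    have h2 : Nat.card (ConjClasses N) = Nat.card N := by
      refine (Nat.card_congr (Equiv.ofBijective ConjClasses.mk ⟨fun a b hab => ?_,
        ConjClasses.mk_surjective⟩)).symm
      obtain ⟨c, hc⟩ := isConj_iff.mp (ConjClasses.mk_eq_mk_iff_isConj.mp hab)
      rw [← hc, habel c a, mul_inv_cancel_right]
    rw [h2, ← hNeq, h.card_normalSubgroup, Nat.add_sub_cancel]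
  set S := MulAction.stabilizer G (μ : N → ℂ) with hS
  have hidx : S.index = h.size := by
    rw [← hOcard, hS, MulAction.index_stabilizer, ← Set.ncard_coe_finset, hO, Finset.coe_image,
      Finset.coe_univ, Set.image_univ]
    rfl
  obtain ⟨k, hk⟩ := IsPGroup.iff_card.mp (h.isPGroup_centralizer hp')
  have hScard : Nat.card S = p ^ k := by
    have e1 := Subgroup.index_mul_card S
    rw [← Subgroup.index_mul_card (Subgroup.centralizer ({x} : Set G)), hidx] at e1
    rw [← hk]
    exact Nat.eq_of_mul_eq_mul_left h.size_pos e1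
  refine ⟨(IsPGroup.of_card hScard).toSylow (hidx ▸ h.not_dvd_size hp'), fun g => ?_⟩
  rw [IsPGroup.toSylow_coe, ← inv_mem_iff, hS, MulAction.mem_stabilizer_iff]
  constructor
  · intro hfix n n' hn
    have h1 := congrFun hfix n
    rw [smul_def, inv_inv] at h1
    rwa [show MulAut.conjNormal g n = n' from Subtype.ext (by simp [hn])] at h1
  · intro hfix
    funext n
    rw [smul_def, inv_inv]
    exact hfix n _ (by simp)

end TwoClass

end CfsgLib.DegreeTools
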