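import Cfsg.Agent.Lib.Blocks.DefectBound
import Cfsg.Agent.Lib.Blocks.Landau
import Cfsg.Agent.Lib.Blocks.DefectGroup
import Cfsg.Agent.Lib.Involution.BrauerFowler
import Cfsg.Agent.Lib.Involution.ZStar.PrincipalBlock
import Cfsg.Agent.Lib.Solvable.FrattiniFitting
import Cfsg.Agent.S0936

/-!
# Groups of small `2`-deficiency have bounded order

If every non-principal `2`-block has defect less than `r` and a Sylow `2`-subgroup of order `2 ^ a`
contains an elementary abelian subgroup of order `2 ^ (r + 1)`, the order of the group is bounded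
in terms of `a`.
-/

set_option autoImplicit false
set_option linter.style.haveILetI false

namespace CfsgLib.DegreeTools.TwoDeficiency

open Cfsg CfsgLib CfsgLib.Blocks
open scoped Classical

universe u

/-- All non-principal `p`-blocks have defect less than `r`. -/
def Small (p : ℕ) (M : Ideal AlgInt) (G : Type u) [Group G] (r : ℕ) : Prop :=
  ∀ B : Set (IrrCharacter G), IsPBlock M B → B ≠ principalBlock M G → blockDefect p B < r

section

variable {p : ℕ} {M : Ideal AlgInt} {G : Type u} [Group G] [Fintype G]

theorem sum_blockCoeff (hM : IsPModular p M) (c : G) :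
    ∑ b ∈ blockFinset M G, blockCoeff b c = if c = 1 then 1 else 0 := by
  have h := sum_eq_sum_blocks (M := M) hM (fun _ : Set (IrrCharacter G) => (1 : ℂ))
    fun ψ : IrrCharacter G => (ψ : G → ℂ) 1 * (ψ : G → ℂ) c⁻¹
  simp only [one_mul, Char.regular_eq_sum_irr, inv_eq_one] at h
  simp only [blockCoeff_eq_fourierInv, fourierInv, ← Finset.mul_sum, ← h]
  split_ifs
  · exact inv_mul_cancel₀ Char.card_ne_zero
  · exact mul_zero _

/-- A `p`-subgroup centralizing a nontrivial element of a normal `p'`-subgroup lies in the defect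
group of a non-principal block. -/
theorem exists_block_of_centralizes (hM : IsPModular p M) {O F : Subgroup G} [O.Normal]
    (hO : ¬ p ∣ Nat.card O) (hF : IsPGroup p F) {n : G} (hnO : n ∈ O) (hn : n ≠ 1)
    (hnF : n ∈ Subgroup.centralizer (F : Set G)) :
    ∃ B : Set (IrrCharacter G), IsPBlock M B ∧ B ≠ principalBlock M G ∧
      Nat.card F ≤ p ^ blockDefect p B := by
  by_contra hcon
  push Not at hcon
  have hsmall : ∀ c ∈ Subgroup.centralizer (F : Set G), ∀ B : Set (IrrCharacter G),
      IsPBlock M B → B ≠ principalBlock M G → MemLocalIdeal M (blockCoeff B c) := by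
    intro c hc B hB hne
    by_contra hI
    obtain ⟨D, hD, hle⟩ := exists_isDefectGroup_ge hM hB hF hc hI
    exact (hcon B hB hne).not_ge (card_defectGroup hM hB hD ▸ Subgroup.card_le_of_le hle)
  have hcongr : ∀ c ∈ Subgroup.centralizer (F : Set G),
      MemLocalIdeal M ((if c = 1 then (1 : ℂ) else 0) - blockCoeff (principalBlock M G) c) := by
    intro c hc
    rw [← sum_blockCoeff hM c, ← Finset.add_sum_erase _ _
      (mem_blockFinset.2 (isPBlock_principalBlock (G := G) (M := M))), add_sub_cancel_left]
    exact LI.sum hM fun B hB => hsmall c hc B (mem_blockFinset.1 (Finset.mem_of_mem_erase hB))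
      (Finset.ne_of_mem_erase hB)
  have heq : blockCoeff (principalBlock M G) n = blockCoeff (principalBlock M G) 1 := by
    simp only [blockCoeff_eq_fourierInv, fourierInv]
    congr 1
    refine Finset.sum_congr rfl fun ψ _ => ?_
    by_cases hψ : ψ ∈ principalBlock M G
    · rw [inv_one, Involution.ZStar.apply_eq_one_of_mem hM hψ inferInstance hO (inv_mem hnO)]
    · rw [blockInd_of_notMem hψ, zero_mul, zero_mul]
  have h1 := hcongr 1 (one_mem _)
  have h2 := hcongr n hnF
  rw [if_pos rfl] at h1
  rw [if_neg hn, heq] at h2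
  have h3 := LI.sub hM h1 h2
  rw [sub_sub_sub_cancel_right, sub_zero] at h3
  exact LI.not_one hM h3

end

section

variable {G : Type u} [Group G] [Finite G]

/-- A fixed-point-free involution of a group inverts it. -/
theorem inverts {N : Subgroup G} {a : G} (ha : a * a = 1)
    (hnorm : ∀ n ∈ N, a * n * a ∈ N) (hfix : ∀ n ∈ N, a * n * a = n → n = 1)
    {n : G} (hn : n ∈ N) : a * n * a = n⁻¹ := by
  have haa : ∀ x : G, a * (a * x) = x := fun x => by rw [← mul_assoc, ha, one_mul]
  let f : N → N := fun x => ⟨(x : G)⁻¹ * (a * x * a), N.mul_mem (N.inv_mem x.2) (hnorm _ x.2)⟩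
  have hf : Function.Injective f := by
    intro x y hxy
    have h : (x : G)⁻¹ * (a * x * a) = (y : G)⁻¹ * (a * y * a) := congrArg Subtype.val hxy
    have h1 := hfix ((y : G) * (x : G)⁻¹) (N.mul_mem y.2 (N.inv_mem x.2)) ?_
    · exact Subtype.ext (mul_inv_eq_one.1 h1).symm
    · calc a * ((y : G) * (x : G)⁻¹) * a
          = a * y * a * (a * x * a)⁻¹ := by
            rw [mul_inv_rev, mul_inv_rev, inv_eq_of_mul_eq_one_right ha]
            simp [mul_assoc, haa]
        _ = y * ((y : G)⁻¹ * (a * y * a)) * (a * x * a)⁻¹ := by rw [mul_inv_cancel_left]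
        _ = y * ((x : G)⁻¹ * (a * x * a)) * (a * x * a)⁻¹ := by rw [h]
        _ = y * (x : G)⁻¹ := by group
  obtain ⟨x, hx⟩ := (Finite.injective_iff_surjective.1 hf) ⟨n, hn⟩
  have hx' : (x : G)⁻¹ * (a * x * a) = n := congrArg Subtype.val hx
  rw [← hx', mul_inv_rev, mul_inv_rev, mul_inv_rev, inv_inv, inv_eq_of_mul_eq_one_right ha]
  simp [mul_assoc, haa, ha]

/-- Adjoining an element to a subgroup of an elementary abelian group doubles it. -/
theorem exists_adjoin (F : Subgroup G) {e : G} (he : e * e = 1) (hcomm : ∀ x ∈ F, e * x = x * e)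
    (heF : e ∉ F) :
    ∃ F' : Subgroup G, (∀ x, x ∈ F' ↔ x ∈ F ∨ e * x ∈ F) ∧ Nat.card F' = 2 * Nat.card F := by
  have hee : ∀ x : G, e * (e * x) = x := fun x => by rw [← mul_assoc, he, one_mul]
  let F' : Subgroup G :=
    { carrier := {x | x ∈ F ∨ e * x ∈ F}
      one_mem' := Or.inl F.one_mem
      mul_mem' := by
        rintro x y (hx | hx) (hy | hy)
        · exact Or.inl (F.mul_mem hx hy)
        · exact Or.inr (by rw [← mul_assoc, hcomm x hx, mul_assoc]; exact F.mul_mem hx hy)
        · exact Or.inr (by rw [← mul_assoc]; exact F.mul_mem hx hy)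
        · refine Or.inl ?_
          have h := F.mul_mem hx hy
          rwa [← mul_assoc, ← hcomm _ hx, hee] at h
      inv_mem' := by
        rintro x (hx | hx)
        · exact Or.inl (F.inv_mem hx)
        · refine Or.inr ?_
          have h := F.inv_mem hx
          rw [mul_inv_rev, inv_eq_of_mul_eq_one_right he] at h
          have h' := hcomm _ h
          rw [mul_assoc, he, mul_one] at h'
          rw [← h', hee]
          exact h }
  refine ⟨F', fun x => Iff.rfl, ?_⟩
  let φ : Bool × F → F' := fun bx =>
    if bx.1 then ⟨e * bx.2, Or.inr (by rw [hee]; exact bx.2.2)⟩ else ⟨bx.2, Or.inl bx.2.2⟩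
  have hφ : Function.Bijective φ := by
    constructor
    · rintro ⟨b, x⟩ ⟨c, y⟩ h
      have h' := congrArg Subtype.val h
      cases b <;> cases c <;> simp only [φ, if_true, if_false, Bool.false_eq_true] at h'
      · rw [Subtype.ext h']
      · exact absurd (by simpa [h'] using F.mul_mem x.2 (F.inv_mem y.2)) heF
      · exact absurd (by simpa [← h'] using F.mul_mem y.2 (F.inv_mem x.2)) heF
      · rw [Subtype.ext (mul_left_cancel h')]
    · rintro ⟨x, hx⟩
      by_cases h : x ∈ F
      · exact ⟨(false, ⟨x, h⟩), rfl⟩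
      · exact ⟨(true, ⟨e * x, hx.resolve_left h⟩), Subtype.ext (hee x)⟩
  rw [← Nat.card_eq_of_bijective φ hφ, Nat.card_prod, Nat.card_eq_fintype_card (α := Bool),
    Fintype.card_bool]

/-- If all subgroups of index two of an elementary abelian `2`-group act without fixed points on a
normal subgroup, so does every smaller subgroup. -/
theorem fixedFree {O E : Subgroup G} [O.Normal] (hE : ∀ e ∈ E, e * e = 1) {r : ℕ}
    (hcard : Nat.card E = 2 ^ (r + 1))
    (hmax : ∀ F : Subgroup G, F ≤ E → Nat.card F = 2 ^ r →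
      ∀ n ∈ O, n ∈ Subgroup.centralizer (F : Set G) → n = 1) :
    ∀ i j, i + j = r → ∀ F : Subgroup G, F ≤ E → Nat.card F = 2 ^ j →
      ∀ n ∈ O, n ∈ Subgroup.centralizer (F : Set G) → n = 1 := by
  intro i
  induction i with
  | zero => intro j hj; rw [show j = r by omega]; exact hmax
  | succ i ih =>
    intro j hj F hFE hF n hn hnF
    have hab : ∀ a ∈ E, ∀ b ∈ E, a * b = b * a := fun a ha b hb => by
      have hinv : ∀ e ∈ E, e⁻¹ = e := fun e he => inv_eq_of_mul_eq_one_right (hE e he)
      have h := hinv (a * b) (E.mul_mem ha hb)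
      rw [mul_inv_rev, hinv a ha, hinv b hb] at h
      exact h.symm
    have hlt : ∀ F' : Subgroup G, Nat.card F' ≤ 2 ^ r → ∃ e ∈ E, e ∉ F' := fun F' h' => by
      by_contra hh
      push Not at hh
      have := Subgroup.card_le_of_le (show E ≤ F' from hh)
      rw [hcard, pow_succ] at this
      have : 0 < 2 ^ r := pow_pos two_pos r
      omega
    obtain ⟨a, haE, haF⟩ := hlt F (hF ▸ Nat.pow_le_pow_right two_pos (by omega))
    obtain ⟨Fa, hFa, hFac⟩ :=
      exists_adjoin F (hE a haE) (fun x hx => hab a haE x (hFE hx)) haF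
    rw [hF, ← pow_succ'] at hFac
    obtain ⟨b, hbE, hbF⟩ := hlt Fa (hFac ▸ Nat.pow_le_pow_right two_pos (by omega))
    rw [hFa] at hbF
    push Not at hbF
    have key : ∀ e ∈ E, e ∉ F → ∀ m ∈ O, m ∈ Subgroup.centralizer (F : Set G) →
        e * m * e = m → m = 1 := by
      intro e heE heF m hm hmF hfix
      obtain ⟨Fe, hFe, hFec⟩ :=
        exists_adjoin F (hE e heE) (fun x hx => hab e heE x (hFE hx)) heF
      rw [hF, ← pow_succ'] at hFec
      refine ih (j + 1) (by omega) Fe (fun x hx => ?_) hFec m hm ?_
      · rcases (hFe x).1 hx with h | h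
        · exact hFE h
        · have h' := E.mul_mem heE (hFE h)
          rwa [← mul_assoc, hE e heE, one_mul] at h'
      · rw [Subgroup.mem_centralizer_iff]
        intro x hx
        have hem : e * m = m * e := by
          calc e * m = e * m * (e * e) := by rw [hE e heE, mul_one]
            _ = (e * m * e) * e := by simp [mul_assoc]
            _ = m * e := by rw [hfix]
        rcases (hFe x).1 hx with h | h
        · exact Subgroup.mem_centralizer_iff.1 hmF x h
        · have h1 := Subgroup.mem_centralizer_iff.1 hmF _ h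
          rw [show x = e * (e * x) by rw [← mul_assoc, hE e heE, one_mul], mul_assoc, h1,
            ← mul_assoc, hem, mul_assoc]
    set N := O ⊓ Subgroup.centralizer (F : Set G)
    have hinv : ∀ e ∈ E, e ∉ F → ∀ m ∈ N, e * m * e = m⁻¹ := by
      intro e heE heF m hm
      have hnorm : ∀ m ∈ N, e * m * e ∈ N := by
        intro m hm
        refine ⟨?_, Subgroup.mem_centralizer_iff.2 fun x hx => ?_⟩
        · have := ‹O.Normal›.conj_mem m hm.1 e
          rwa [inv_eq_of_mul_eq_one_right (hE e heE)] at this
        · have h1 := Subgroup.mem_centralizer_iff.1 hm.2 x hx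
          have h2 := hab e heE x (hFE hx)
          calc x * (e * m * e) = (x * e) * m * e := by simp [mul_assoc]
            _ = (e * x) * m * e := by rw [h2]
            _ = e * (x * m) * e := by simp [mul_assoc]
            _ = e * (m * x) * e := by rw [h1]
            _ = e * m * (x * e) := by simp [mul_assoc]
            _ = e * m * (e * x) := by rw [h2]
            _ = e * m * e * x := by simp [mul_assoc]
      exact inverts (hE e heE) hnorm (fun m' hm' => key e heE heF m' hm'.1 hm'.2) hm
    have hbaF : a * b ∉ F := hbF.2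
    refine key (a * b) (E.mul_mem haE hbE) hbaF n hn hnF ?_
    have h1 := hinv b hbE hbF.1 n ⟨hn, hnF⟩
    have h2 := hinv a haE haF n⁻¹ (Subgroup.inv_mem N ⟨hn, hnF⟩)
    rw [inv_inv] at h2
    calc a * b * n * (a * b) = a * b * n * (b * a) := by rw [hab a haE b hbE]
      _ = a * (b * n * b) * a := by simp [mul_assoc]
      _ = n := by rw [h1, h2]

/-- Under the hypothesis the odd core is trivial. -/
theorem odd_normal_eq_bot [Fintype G] {M : Ideal AlgInt} (hM : IsPModular 2 M) {r : ℕ}
    (hsmall : Small 2 M G r) {E : Subgroup G} (hE : ∀ e ∈ E, e * e = 1)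
    (hcard : Nat.card E = 2 ^ (r + 1)) (O : Subgroup G) [O.Normal] (hO : ¬ 2 ∣ Nat.card O) :
    O = ⊥ := by
  rw [Subgroup.eq_bot_iff_forall]
  intro n hn
  refine fixedFree hE hcard (fun F _ hF m hm hmF => ?_) r 0 (add_zero r) ⊥ bot_le (by simp) n hn ?_
  · by_contra hne
    obtain ⟨B, hB, hne', hle⟩ :=
      exists_block_of_centralizes hM hO (IsPGroup.of_card hF) hm hne hmF
    rw [hF] at hle
    exact (hsmall B hB hne').not_ge ((Nat.pow_le_pow_iff_right Nat.one_lt_two).1 hle)
  · exact Subgroup.mem_centralizer_iff.2 fun x hx => by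
      rw [Subgroup.mem_bot.1 hx, one_mul, mul_one]

end

/-- The hypothesis passes to `C(z) ⧸ ⟨z⟩`. -/
theorem small_quot {p : ℕ} {M : Ideal AlgInt} {G : Type u} [Group G] [Fintype G]
    (hM : IsPModular p M) {r : ℕ} (hsmall : Small p M G r) {z : G} (hz : orderOf z = p)
    {K : Subgroup G} (hK : K = Subgroup.centralizer ({z} : Set G)) (z' : K) (hz' : (z' : G) = z)
    (Z : Subgroup K) [Z.Normal] (hZ : Z = Subgroup.zpowers z') :
    Small p M (K ⧸ Z) (r - 1) := by
  haveI := Fact.mk hM.1
  letI : Fintype (K ⧸ Z) := Fintype.ofFinite _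
  intro bb hbb hne
  have hZc : Nat.card Z = p := by
    rw [hZ, Nat.card_zpowers, ← Subgroup.orderOf_coe, hz', hz]
  have hZp : IsPGroup p Z := IsPGroup.of_card (n := 1) (by rw [pow_one, hZc])
  have hZle : Z ≤ Subgroup.center K := by
    rw [hZ]
    refine Subgroup.zpowers_le.2 (Subgroup.mem_center_iff.2 fun c => Subtype.ext ?_)
    have hc : (c : G) ∈ Subgroup.centralizer ({z} : Set G) := hK ▸ c.2
    rw [Subgroup.coe_mul, Subgroup.coe_mul, hz']
    exact Subgroup.mem_centralizer_singleton_iff.1 hc
  have hC := DefectTwo.index_centralizer (p := p) hZle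
  obtain ⟨ψ, hψ⟩ := IsPBlock.nonempty hM hbb
  set b := blockOf M (inflate Z ψ : K → ℂ) with hbdef
  have hb : IsPBlock M b := isPBlock_blockOf _
  have hbne : b ≠ principalBlock M K := by
    intro e
    refine hne ?_
    have h1 : SameBlock M (inflate Z (trivChar (K ⧸ Z)) : K → ℂ) (inflate Z ψ : K → ℂ) := by
      have h2 : inflate Z ψ ∈ principalBlock M K := e ▸ SameBlock_refl hM _
      exact mem_blockOf.1 h2
    rw [IsPBlock.eq_blockOf hM hbb hψ]
    exact (IsPBlock.eq_blockOf hM (isPBlock_principalBlock)
      (mem_blockOf.2 ((sameBlock_inflate_iff hM hZp hC _ _).2 h1))).symm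
  have hdef : blockDefect p bb + 1 ≤ blockDefect p b := by
    have h1 := blockDefect_add_min (p := p) (B := bb) ⟨ψ, hψ⟩
    have h2 := blockDefect_add_min (p := p) (B := b) ⟨_, SameBlock_refl hM _⟩
    obtain ⟨φ, hφ, hφe⟩ := exists_degVal_eq_min (p := p) (B := bb) ⟨ψ, hψ⟩
    have h3 : minDegVal p b ≤ degVal p (inflate Z φ) := minDegVal_le
      (mem_blockOf.2 ((sameBlock_inflate_iff hM hZp hC ψ φ).1 (IsPBlock.sameBlock hM hbb hψ hφ)))
    rw [degVal_inflate, hφe] at h3
    have h4 : (Nat.card K).factorization p = (Nat.card (K ⧸ Z)).factorization p + 1 := by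
      rw [Subgroup.card_eq_card_quotient_mul_card_subgroup Z, hZc,
        Nat.factorization_mul Nat.card_pos.ne' hM.1.ne_zero, Finsupp.add_apply,
        hM.1.factorization_self]
    omega
  subst hK
  obtain ⟨B, hind⟩ := exists_isInducedBlock_centralizer_singleton hM
    (x := z) ⟨1, by rw [hz, pow_one]⟩ hb
  have hBne : B ≠ principalBlock M G := by
    intro e
    subst e
    exact hbne ((Cfsg.Agent.S0936.result p M hM _ b ⟨_, hind⟩).1 hind)
  have h5 := hsmall B hind.2.1 hBne
  have h6 := blockDefect_le_of_induced hM hind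
  omega

/-- The bound. -/
theorem exists_bound (a : ℕ) : ∃ N : ℕ, ∀ (G : Type u) [Group G] [Finite G] (M : Ideal AlgInt)
    (r : ℕ) (P : Sylow 2 G), IsPModular 2 M → Nat.card P = 2 ^ a → Small 2 M G r →
    (∃ E : Subgroup G, E ≤ (P : Subgroup G) ∧ (∀ x ∈ E, x * x = 1) ∧
      Nat.card E = 2 ^ (r + 1)) → Nat.card G ≤ N := by
  haveI : Fact (Nat.Prime 2) := ⟨Nat.prime_two⟩
  induction a with
  | zero =>
    refine ⟨0, fun G _ _ M r P _ hP _ ⟨E, hEP, _, hE⟩ => absurd (Subgroup.card_le_of_le hEP) ?_⟩
    rw [hE, hP, pow_zero, not_le, pow_succ]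
    have : 0 < 2 ^ r := pow_pos two_pos r
    omega
  | succ a ih =>
    obtain ⟨N1, hN1⟩ := ih
    obtain ⟨N0, hN0⟩ := exists_card_le_of_card_conjClasses.{u} (2 ^ (2 * (a + 1)))
    refine ⟨N0 + (2 * (2 * N1) ^ 2).factorial * (2 * N1) + 2 * N1, ?_⟩
    intro G _ _ M r P hM hP hsmall ⟨E, hEP, hE, hEc⟩
    letI : Fintype G := Fintype.ofFinite G
    have hv : (Nat.card G).factorization 2 = a + 1 := by
      have h := P.card_eq_multiplicity
      rw [hP] at h
      exact (Nat.pow_right_injective le_rfl h).symm
    rcases Nat.eq_zero_or_pos r with rfl | hr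
    · -- a single block
      have hall : ∀ ψ : IrrCharacter G, ψ ∈ principalBlock M G := fun ψ => by
        by_contra h
        have hne : blockOf M (ψ : G → ℂ) ≠ principalBlock M G := fun e =>
          h (e ▸ SameBlock_refl hM _)
        have := hsmall _ (isPBlock_blockOf ψ) hne
        omega
      have hk := DefectBound.card_le_bound hM _ G (principalBlock M G) isPBlock_principalBlock rfl
      have hd : blockDefect 2 (principalBlock M G) ≤ a + 1 := by rw [blockDefect_eq, hv]; omega
      rw [Nat.card_congr (Equiv.subtypeUnivEquiv hall), Char.card_irrCharacter] at hk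
      refine (hN0 G (hk.trans (Nat.pow_le_pow_right two_pos ?_))).trans (by omega)
      split_ifs <;> omega
    -- centralizers of central involutions of `P`
    have hc : ∀ z : G, orderOf z = 2 → z ∈ (P : Subgroup G) →
        (∀ y ∈ (P : Subgroup G), y * z = z * y) →
        Nat.card (Subgroup.centralizer ({z} : Set G)) ≤ 2 * N1 := by
      intro z hz hzP hzc
      obtain ⟨E2, hE2P, hE2, hE2c, hzE2⟩ : ∃ E2 : Subgroup G, E2 ≤ (P : Subgroup G) ∧
          (∀ x ∈ E2, x * x = 1) ∧ Nat.card E2 = 2 ^ (r + 1) ∧ z ∈ E2 := by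
        by_cases hzE : z ∈ E
        · exact ⟨E, hEP, hE, hEc, hzE⟩
        obtain ⟨F0, hF0⟩ := Sylow.exists_subgroup_card_pow_prime 2 (G := E) (n := r)
          (by rw [hEc]; exact pow_dvd_pow 2 (Nat.le_succ r))
        set F := F0.map E.subtype
        have hFE : F ≤ E := Subgroup.map_subtype_le _
        have hzz : z * z = 1 := by rw [← pow_two, ← hz]; exact pow_orderOf_eq_one z
        obtain ⟨E2, hm, hc2⟩ := exists_adjoin F hzz
          (fun x hx => (hzc x (hEP (hFE hx))).symm) (fun h => hzE (hFE h))
        refine ⟨E2, fun x hx => ?_, fun x hx => ?_, ?_, (hm z).2 (Or.inr (by rw [hzz]; exact one_mem _))⟩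
        · rcases (hm x).1 hx with h | h
          · exact hEP (hFE h)
          · have h' := (P : Subgroup G).mul_mem hzP (hEP (hFE h))
            rwa [← mul_assoc, hzz, one_mul] at h'
        · rcases (hm x).1 hx with h | h
          · exact hE x (hFE h)
          · have h1 := hE _ (hFE h)
            have hxP : x ∈ (P : Subgroup G) := by
              have h' := (P : Subgroup G).mul_mem hzP (hEP (hFE h))
              rwa [← mul_assoc, hzz, one_mul] at h'
            calc x * x = z * z * (x * x) := by rw [hzz, one_mul]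
              _ = z * (z * x) * x := by simp [mul_assoc]
              _ = z * (x * z) * x := by rw [hzc x hxP]
              _ = z * x * (z * x) := by simp [mul_assoc]
              _ = 1 := h1
        · rw [hc2, Subgroup.card_map_of_injective E.subtype_injective, hF0, pow_succ']
      set K := Subgroup.centralizer ({z} : Set G)
      set z' : K := ⟨z, Subgroup.mem_centralizer_singleton_iff.2 rfl⟩
      set Z := Subgroup.zpowers z' with hZ
      haveI : Z.Normal := ⟨fun n hn g => by
        have : n ∈ Subgroup.center K := Subgroup.zpowers_le.2 (Subgroup.mem_center_iff.2 fun c =>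
          Subtype.ext (Subgroup.mem_centralizer_singleton_iff.1 c.2)) hn
        rwa [Subgroup.mem_center_iff.1 this g, mul_inv_cancel_right]⟩
      letI : Fintype (K ⧸ Z) := Fintype.ofFinite _
      have hPK : (P : Subgroup G) ≤ K := fun y hy =>
        Subgroup.mem_centralizer_singleton_iff.2 (hzc y hy)
      have hvK : (Nat.card K).factorization 2 = a + 1 := by
        refine le_antisymm (hv ▸ (Nat.factorization_le_iff_dvd Nat.card_pos.ne' Nat.card_pos.ne').2
          (Subgroup.card_subgroup_dvd_card K) 2) ?_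
        refine (Nat.prime_two.pow_dvd_iff_le_factorization Nat.card_pos.ne').1 ?_
        rw [← hP]
        exact Subgroup.card_dvd_of_le hPK
      have hZc : Nat.card Z = 2 := by rw [hZ, Nat.card_zpowers, Subgroup.orderOf_mk, hz]
      have hKmul := Subgroup.card_eq_card_quotient_mul_card_subgroup Z
      rw [hZc] at hKmul
      have hvq : (Nat.card (K ⧸ Z)).factorization 2 = a := by
        rw [hKmul, Nat.factorization_mul Nat.card_pos.ne' two_ne_zero, Finsupp.add_apply,
          Nat.prime_two.factorization_self] at hvK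
        omega
      set π := QuotientGroup.mk' Z
      have hP2 : IsPGroup 2 (((P : Subgroup G).subgroupOf K).map π) :=
        (P.isPGroup'.comap_subtype (K := K)).map π
      obtain ⟨S, hS⟩ := hP2.exists_le_sylow
      have hS2 : Nat.card S = 2 ^ a := by rw [S.card_eq_multiplicity, hvq]
      have hq := hN1 (K ⧸ Z) M (r - 1) S hM hS2 (small_quot hM hsmall hz (K := K) rfl z' rfl Z hZ) ?_
      · rw [hKmul]; omega
      refine ⟨(E2.subgroupOf K).map π,
        (Subgroup.map_mono (show E2.subgroupOf K ≤ (P : Subgroup G).subgroupOf K from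
          fun y hy => hE2P hy)).trans hS, ?_, ?_⟩
      · rintro _ ⟨x, hx, rfl⟩
        rw [← map_mul, show x * x = 1 from Subtype.ext (hE2 _ hx), map_one]
      · have hZE : Z ≤ E2.subgroupOf K := Subgroup.zpowers_le.2 hzE2
        have h := (π.comp (E2.subgroupOf K).subtype).ker.card_mul_index
        rw [Subgroup.index_ker, ← MonoidHom.comap_ker, QuotientGroup.ker_mk',
          MonoidHom.range_comp, Subgroup.range_subtype] at h
        rw [show Nat.card (Z.comap (E2.subgroupOf K).subtype) = 2 from
            (Nat.card_congr (Subgroup.subgroupOfEquivOfLe hZE).toEquiv).trans hZc,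
          Nat.card_congr (Subgroup.subgroupOfEquivOfLe (hE2P.trans hPK)).toEquiv, hE2c] at h
        rw [Nat.sub_add_cancel hr]
        rw [pow_succ] at h
        omega
    have hPne : (P : Subgroup G) ≠ ⊥ := by
      intro h
      have h' : Nat.card P = 1 := Subgroup.card_eq_one.2 h
      rw [hP] at h'
      simp at h'
    haveI : Group.IsNilpotent P := P.isPGroup'.isNilpotent
    -- nontrivial normal subgroups of `P` contain central involutions
    have hcentral : ∀ Q : Subgroup P, Q.Normal → Q ≠ ⊥ →
        ∃ z : G, orderOf z = 2 ∧ z ∈ (P : Subgroup G) ∧ z ∈ Q.map (P : Subgroup G).subtype ∧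
          ∀ y ∈ (P : Subgroup G), y * z = z * y := by
      intro Q hQn hQ
      haveI := hQn
      have hne := Solvable.FrattiniFitting.inf_center_ne_bot Q hQ
      obtain ⟨k, hk⟩ := IsPGroup.iff_card.1
        ((P.isPGroup').to_subgroup (Q ⊓ Subgroup.center P))
      have hk0 : k ≠ 0 := by
        rintro rfl
        exact hne (Subgroup.card_eq_one.1 (by rw [hk, pow_zero]))
      obtain ⟨⟨w, hw⟩, hw2⟩ := exists_prime_orderOf_dvd_card'
        (G := ↥(Q ⊓ Subgroup.center P)) 2 (by rw [hk]; exact dvd_pow_self 2 hk0)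
      rw [Subgroup.orderOf_mk] at hw2
      exact ⟨w, by rw [Subgroup.orderOf_coe, hw2], w.2, ⟨w, hw.1, rfl⟩, fun y hy =>
        congrArg Subtype.val (Subgroup.mem_center_iff.1 hw.2 ⟨y, hy⟩)⟩
    obtain ⟨t, ht, htP, -, htc⟩ := hcentral ⊤ inferInstance (by
      intro h
      exact hPne (by
        have h2 := congrArg (fun Q : Subgroup P => Q.map (P : Subgroup G).subtype) h
        simpa [← MonoidHom.range_eq_map] using h2))
    have hct := hc t ht htP htc
    -- an element with a class of bounded size
    set c := Nat.card (Subgroup.centralizer ({t} : Set G))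
    set g := Nat.card G
    by_cases hgc : g ≤ c
    · omega
    set n := Nat.card {u : G // orderOf u = 2}
    have hnc : g ≤ n * c := Involution.BrauerFowler.card_involutions_mul t ht
    have hn2 : 2 ≤ n := by
      by_contra h
      have : n * c ≤ 1 * c := Nat.mul_le_mul_right c (by omega)
      omega
    obtain ⟨x, hx1, hxC⟩ : ∃ x : G, x ≠ 1 ∧
        n * n ≤ n + g * Nat.card (Subgroup.centralizer ({x} : Set G)) := by
      obtain ⟨x, hx, hmax⟩ := Finset.exists_max_image ((Finset.univ : Finset G).erase 1)
        (fun x => Nat.card {q : G × G // orderOf q.1 = 2 ∧ orderOf q.2 = 2 ∧ q.1 * q.2 = x})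
        ⟨t, Finset.mem_erase.2 ⟨fun h => by rw [h, orderOf_one] at ht; omega, Finset.mem_univ _⟩⟩
      refine ⟨x, Finset.ne_of_mem_erase hx, ?_⟩
      rw [show n * n = _ from Involution.BrauerFowler.sum_pairs (G := G)]
      refine Nat.add_le_add_left ((Finset.sum_le_card_nsmul _ _ _ hmax).trans ?_) _
      rw [smul_eq_mul]
      exact Nat.mul_le_mul ((Finset.card_erase_le).trans (by rw [Finset.card_univ, ← Nat.card_eq_fintype_card]))
        (Involution.Count.card_pairs_le x)
    set H := Subgroup.centralizer ({x} : Set G)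
    have hidx : H.index ≤ 2 * (2 * N1) ^ 2 := by
      have hh := H.index_mul_card
      have h1 : g * g ≤ (n * n) * (c * c) := by
        calc g * g ≤ (n * c) * (n * c) := Nat.mul_le_mul hnc hnc
          _ = _ := by ring
      have h2 : n * n ≤ 2 * (g * Nat.card H) := by
        have : 2 * n ≤ n * n := Nat.mul_le_mul_right n hn2
        omega
      have h3 : (g * Nat.card H) * H.index ≤ (g * Nat.card H) * (2 * (c * c)) := by
        calc (g * Nat.card H) * H.index = g * g := by
              rw [mul_assoc, mul_comm (Nat.card H), hh]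
          _ ≤ (n * n) * (c * c) := h1
          _ ≤ (2 * (g * Nat.card H)) * (c * c) := Nat.mul_le_mul_right _ h2
          _ = _ := by ring
      refine (Nat.le_of_mul_le_mul_left h3 (Nat.mul_pos Nat.card_pos Nat.card_pos)).trans ?_
      rw [pow_two]
      exact Nat.mul_le_mul_left 2 (Nat.mul_le_mul hct hct)
    set C := H.normalCore
    set L := Subgroup.normalClosure ({x} : Set G)
    have hCL : ∀ w ∈ L, ∀ k ∈ C, k * w = w * k := by
      haveI : (Subgroup.centralizer (C : Set G)).Normal := Subgroup.normal_centralizer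
      have hL : L ≤ Subgroup.centralizer (C : Set G) :=
        Subgroup.normalClosure_le_normal (Set.singleton_subset_iff.2 (Subgroup.mem_centralizer_iff.2
          fun k hk => Subgroup.mem_centralizer_singleton_iff.1 (Subgroup.normalCore_le H hk)))
      exact fun w hw k hk => Subgroup.mem_centralizer_iff.1 (hL hw) k hk
    have hxL : x ∈ L := Subgroup.subset_normalClosure rfl
    have hL2 : 2 ∣ Nat.card L := by
      by_contra h
      have hbot := odd_normal_eq_bot hM hsmall hE hEc L h
      rw [hbot, Subgroup.mem_bot] at hxL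
      exact hx1 hxL
    obtain ⟨⟨u, huL⟩, hu⟩ := exists_prime_orderOf_dvd_card' (G := L) 2 hL2
    rw [Subgroup.orderOf_mk] at hu
    obtain ⟨S, hS⟩ := (IsPGroup.of_card (p := 2) (n := 1)
      (show Nat.card (Subgroup.zpowers u) = 2 ^ 1 by rw [Nat.card_zpowers, hu, pow_one])).exists_le_sylow
    obtain ⟨w, hw⟩ := MulAction.exists_smul_eq G S P
    have hwu : w * u * w⁻¹ ∈ (P : Subgroup G) := by
      rw [← hw, Sylow.coe_subgroup_smul]
      exact Subgroup.smul_mem_pointwise_smul u _ _ (hS (Subgroup.mem_zpowers u))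
    obtain ⟨z, hz, hzP, hzL, hzc⟩ := hcentral (L.subgroupOf (P : Subgroup G)) inferInstance (by
      intro h
      have h1 : (⟨w * u * w⁻¹, hwu⟩ : P) ∈ L.subgroupOf (P : Subgroup G) :=
        Subgroup.normalClosure_normal.conj_mem u huL w
      rw [h, Subgroup.mem_bot] at h1
      have h2 : w * u * w⁻¹ = 1 := congrArg Subtype.val h1
      rw [conj_eq_one_iff] at h2
      rw [h2, orderOf_one] at hu
      omega)
    have hzL' : z ∈ L := by
      obtain ⟨v, hv', rfl⟩ := hzL
      exact hv'
    have hCle : Nat.card C ≤ 2 * N1 := (Subgroup.card_le_of_le (show C ≤ _ from fun k hk =>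
      Subgroup.mem_centralizer_singleton_iff.2 (hCL z hzL' k hk))).trans (hc z hz hzP hzc)
    have hCidx : C.index ≤ (2 * (2 * N1) ^ 2).factorial := by
      refine le_trans ?_ (Nat.factorial_le hidx)
      rw [show C = (MulAction.toPermHom G (G ⧸ H)).ker from Subgroup.normalCore_eq_ker H,
        Subgroup.index_ker]
      refine (Subgroup.card_le_card_group _).trans_eq ?_
      rw [Nat.card_perm, Subgroup.index_eq_card]
    have hG : g ≤ (2 * (2 * N1) ^ 2).factorial * (2 * N1) := by
      rw [show g = C.index * Nat.card C from C.index_mul_card.symm]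
      exact Nat.mul_le_mul hCidx hCle
    omega

end CfsgLib.DegreeTools.TwoDeficiency
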