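import Cfsg.Agent.Lib.BrouePuig.Algebra
import Cfsg.Agent.Lib.Char.Realize
import Mathlib.FieldTheory.AlgebraicClosure
import Mathlib.RingTheory.Valuation.ValuationSubring
import Mathlib.RingTheory.Flat.TorsionFree
import Mathlib.RingTheory.LocalRing.Module
import Mathlib.GroupTheory.PGroup

/-!
# The local ring at `M` on algebraic numbers, and free lattices over it

The local ring at `M` cuts out a valuation ring in the field of algebraic numbers.  A finitely
generated lattice over it is free, and a `p`-group larger than the rank acts on it with norm map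
into the maximal ideal.
-/

set_option autoImplicit false

namespace CfsgLib.DegreeTools.ValLattice

open Cfsg CfsgLib CfsgLib.Blocks
open Polynomial hiding funext

variable {p : ℕ} {M : Ideal AlgInt}

theorem LR_or_inv_aux (hM : IsPModular p M) {z : ℂ} : ∀ (n : ℕ) (a : ℕ → ℂ),
    (∀ i ≤ n, MemLocalRing M (a i)) → (∃ i ≤ n, ¬ MemLocalIdeal M (a i)) →
    ∑ i ∈ Finset.range (n + 1), a i * z ^ i = 0 → MemLocalRing M z ∨ MemLocalRing M z⁻¹ := by
  intro n
  induction n with
  | zero =>
    rintro a - ⟨i, hi, hu⟩ h
    obtain rfl : i = 0 := by omega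
    simp only [Finset.sum_range_one, zero_add, pow_zero, mul_one] at h
    exact absurd (h ▸ LI.zero hM) hu
  | succ n ih =>
    intro a ha hex h
    -- a root of a monic polynomial with local coefficients is a local integer
    have root : ∀ (c : ℕ → ℂ) (w : ℂ), (∀ i ≤ n, MemLocalRing M (c i)) →
        w ^ (n + 1) + ∑ i ∈ Finset.range (n + 1), c i * w ^ i = 0 → MemLocalRing M w := by
      intro c w hc hw
      let cc : Fin (n + 1) → localSubring hM := fun i => ⟨c i, hc i (Nat.le_of_lt_succ i.2)⟩
      refine BrouePuig.LR_of_root hM (f := X ^ (n + 1) + ∑ i : Fin (n + 1), C (cc i) * X ^ (i : ℕ))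
        (monic_X_pow_add ?_) ?_
      · exact lt_of_le_of_lt (degree_sum_le _ _) ((Finset.sup_lt_iff (by simp)).2 fun i _ =>
          lt_of_le_of_lt (degree_C_mul_X_pow_le _ _) (by exact_mod_cast i.2))
      · simp only [map_add, map_sum, map_mul, map_pow, aeval_X, aeval_C]
        rw [← hw, Finset.sum_range]
        rfl
    rw [Finset.sum_range_succ] at h
    have htop := ha (n + 1) le_rfl
    by_cases hu : MemLocalIdeal M (a (n + 1))
    · set b := a (n + 1) * z with hb
      have hbR : MemLocalRing M b := by
        refine root (fun i => a i * a (n + 1) ^ (n - i)) b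
          (fun i hi => LR.mul hM (ha i (by omega)) (LR.pow hM htop _)) ?_
        have : a (n + 1) ^ n * (∑ i ∈ Finset.range (n + 1), a i * z ^ i + a (n + 1) * z ^ (n + 1))
            = b ^ (n + 1) + ∑ i ∈ Finset.range (n + 1), a i * a (n + 1) ^ (n - i) * b ^ i := by
          rw [mul_add, Finset.mul_sum, add_comm, hb, mul_pow, ← mul_assoc, ← pow_succ]
          congr 1
          refine Finset.sum_congr rfl fun i hi => ?_
          have hi' : i ≤ n := Nat.le_of_lt_succ (Finset.mem_range.1 hi)
          rw [mul_pow]
          conv_lhs => rw [show a (n + 1) ^ n = a (n + 1) ^ (n - i) * a (n + 1) ^ i by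
            rw [← pow_add, Nat.sub_add_cancel hi']]
          ring
        rw [h, mul_zero] at this
        exact this.symm
      by_cases hbI : MemLocalIdeal M b
      · refine ih (Function.update a n (a n + b)) (fun i hi => ?_) ?_ ?_
        · rcases eq_or_ne i n with rfl | hne
          · rw [Function.update_self]; exact LR.add hM (ha _ (by omega)) hbR
          · rw [Function.update_of_ne hne]; exact ha i (by omega)
        · obtain ⟨i, hi, hui⟩ := hex
          have hin : i ≠ n + 1 := fun e => hui (e ▸ hu)
          refine ⟨i, by omega, ?_⟩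
          rcases eq_or_ne i n with rfl | hne
          · rw [Function.update_self]
            intro hI
            exact hui (by simpa using LI.sub hM hI hbI)
          · rwa [Function.update_of_ne hne]
        · rw [← h, Finset.sum_range_succ, Finset.sum_range_succ _ n, Function.update_self,
            Finset.sum_congr rfl fun i hi => by
              rw [Function.update_of_ne (Finset.mem_range.1 hi).ne],
            hb, pow_succ]
          ring
      · refine Or.inr ?_
        have hb0 := ne_zero_of_not_LI hM hbI
        have hz0 : z ≠ 0 := fun e => hb0 (by simp [hb, e])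
        rw [show z⁻¹ = a (n + 1) * b⁻¹ by
          have ha0 : a (n + 1) ≠ 0 := fun e => hb0 (by simp [hb, e])
          rw [hb, mul_inv_rev, mul_comm z⁻¹, ← mul_assoc, mul_inv_cancel₀ ha0, one_mul]]
        exact LR.mul hM htop (LR.inv hM hbR hbI)
    · refine Or.inl (root (fun i => a i * (a (n + 1))⁻¹) z
        (fun i hi => LR.mul hM (ha i (by omega)) (LR.inv hM htop hu)) ?_)
      have h0 := ne_zero_of_not_LI hM hu
      calc _ = (a (n + 1))⁻¹ * (∑ i ∈ Finset.range (n + 1), a i * z ^ i + a (n + 1) * z ^ (n + 1)) := by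
            rw [mul_add, Finset.mul_sum, add_comm (∑ i ∈ Finset.range (n + 1), _) ((a (n + 1))⁻¹ * _),
              inv_mul_cancel_left₀ h0]
            congr 1
            exact Finset.sum_congr rfl fun i _ => by ring
        _ = 0 := by rw [h, mul_zero]

/-- An algebraic number or its inverse is a local integer. -/
theorem LR_or_inv (hM : IsPModular p M) {z : ℂ} (hz : IsAlgebraic ℤ z) :
    MemLocalRing M z ∨ MemLocalRing M z⁻¹ := by
  obtain ⟨f, hf, hfz⟩ := hz
  set g := f.primPart
  have hgz : aeval z g = 0 := Polynomial.aeval_primPart_eq_zero hf hfz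
  refine LR_or_inv_aux hM g.natDegree (fun i => ((g.coeff i : ℤ) : ℂ))
    (fun i _ => LR.intCast hM _) ?_ ?_
  · by_contra hall
    push Not at hall
    have hdvd : C (p : ℤ) ∣ g := C_dvd_iff_dvd_coeff _ _ |>.2 fun i => by
      rcases le_or_gt i g.natDegree with hi | hi
      · exact (LI.intCast_iff hM _).1 (hall i hi)
      · rw [coeff_eq_zero_of_natDegree_lt hi]; exact dvd_zero _
    exact hM.1.not_isUnit (by
      have := f.isPrimitive_primPart _ hdvd
      exact Int.ofNat_isUnit.1 this)
  · rw [aeval_eq_sum_range] at hgz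
    rw [← hgz]
    exact Finset.sum_congr rfl fun i _ => by rw [zsmul_eq_mul]

/-- The algebraic numbers. -/
abbrev QBar : Type := algebraicClosure ℚ ℂ

/-- The local ring at `M` inside the algebraic numbers. -/
noncomputable def valSub (hM : IsPModular p M) : ValuationSubring QBar :=
  { (localSubring hM).comap (algebraMap QBar ℂ) with
    mem_or_inv_mem' := fun x => by
      have hx : IsAlgebraic ℤ (x : ℂ) :=
        (IsFractionRing.isAlgebraic_iff ℤ ℚ ℂ).2 ((mem_algebraicClosure_iff).1 x.2)
      rcases LR_or_inv hM hx with h | h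
      · exact Or.inl h
      · exact Or.inr (by
          show MemLocalRing M (algebraMap QBar ℂ x⁻¹)
          rw [map_inv₀]; exact h) }

theorem mem_valSub {hM : IsPModular p M} {x : QBar} :
    x ∈ valSub hM ↔ MemLocalRing M (x : ℂ) := Iff.rfl

theorem natCast_mem_maximal (hM : IsPModular p M) :
    (p : valSub hM) ∈ IsLocalRing.maximalIdeal (valSub hM) := by
  rw [IsLocalRing.mem_maximalIdeal, mem_nonunits_iff]
  intro hu
  obtain ⟨y, hy⟩ := isUnit_iff_exists_inv.1 hu
  have h1 := congrArg (fun w : valSub hM => ((w : QBar) : ℂ)) hy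
  simp only [MulMemClass.coe_mul] at h1
  push_cast at h1
  exact LI.not_one hM (h1 ▸ LI.mul_right hM (LI.natCast_prime hM) (mem_valSub.1 y.2))

/-- A `p`-group larger than the dimension has zero norm in characteristic `p`. -/
theorem norm_eq_zero_of_finrank_lt {P k V : Type*} [Group P] [Fintype P] [Field k] [AddCommGroup V]
    [Module k V] [FiniteDimensional k V] [Fact p.Prime] [CharP k p] (hP : IsPGroup p P)
    (ρ : Representation k P V) (hd : Module.finrank k V < Nat.card P) (v : V) :
    ∑ u : P, ρ u v = 0 := by
  classical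
  by_contra hne
  have hdep : ¬ LinearIndependent k fun u : P => ρ u v := fun h => by
    have := h.fintype_card_le_finrank
    rw [← Nat.card_eq_fintype_card] at this
    omega
  obtain ⟨c, hc, u₀, hu₀⟩ := Fintype.not_linearIndependent_iff.1 hdep
  letI act : MulAction P (P → k) :=
    { smul := fun t f u => f (t⁻¹ * u)
      one_smul := fun f => funext fun u => show f ((1 : P)⁻¹ * u) = f u by simp
      mul_smul := fun s t f => funext fun u => show f ((s * t)⁻¹ * u) = f (t⁻¹ * (s⁻¹ * u)) by
        simp [mul_assoc] }
  have hker : ∀ t : P, ∑ u, c (t⁻¹ * u) • ρ u v = 0 := fun t => by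
    rw [← Fintype.sum_equiv (Equiv.mulLeft t) (fun u => c u • ρ (t * u) v)
      (fun u => c (t⁻¹ * u) • ρ u v) (fun u => by simp [Equiv.coe_mulLeft])]
    calc ∑ u, c u • ρ (t * u) v = ρ t (∑ u, c u • ρ u v) := by
          rw [map_sum]; exact Finset.sum_congr rfl fun u _ => by rw [map_smul, map_mul]; rfl
      _ = 0 := by rw [hc, map_zero]
  let Φ : (P → ZMod p) →+ (P → k) :=
    { toFun := fun a u => ∑ t, ZMod.castHom dvd_rfl k (a t) * c (t⁻¹ * u)
      map_zero' := funext fun u => by simp
      map_add' := fun a b => funext fun u => by simp [add_mul, Finset.sum_add_distrib] }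
  set S := Φ.range
  haveI : Finite S := (Set.finite_range Φ).to_subtype
  have hΦ : ∀ (t : P) (a : P → ZMod p), t • Φ a = Φ fun s => a (t⁻¹ * s) := fun t a => funext fun u => by
    show ∑ s, ZMod.castHom dvd_rfl k (a s) * c (s⁻¹ * (t⁻¹ * u))
      = ∑ s, ZMod.castHom dvd_rfl k (a (t⁻¹ * s)) * c (s⁻¹ * u)
    exact Fintype.sum_equiv (Equiv.mulLeft t) _ _ fun s => by simp [mul_assoc]
  letI actS : MulAction P S :=
    { smul := fun t f => ⟨t • (f : P → k), by
        obtain ⟨a, ha⟩ := f.2
        exact ⟨_, by rw [← ha]; exact (hΦ t a).symm⟩⟩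
      one_smul := fun f => Subtype.ext (one_smul P (f : P → k))
      mul_smul := fun s t f => Subtype.ext (mul_smul s t (f : P → k)) }
  have hcS : c ∈ S := ⟨Pi.single 1 1, funext fun u => by
    show ∑ t, ZMod.castHom dvd_rfl k ((Pi.single 1 1 : P → ZMod p) t) * c (t⁻¹ * u) = c u
    rw [Finset.sum_eq_single (1 : P)] <;> simp +contextual [Pi.single_apply]⟩
  have hcard : p ∣ Nat.card S := by
    have h1 : addOrderOf (⟨c, hcS⟩ : S) = p := by
      refine addOrderOf_eq_prime (Subtype.ext (funext fun u => ?_)) fun h => hu₀ ?_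
      · show (p • c) u = 0
        rw [Pi.smul_apply, nsmul_eq_mul, CharP.cast_eq_zero, zero_mul]
      · exact congrFun (congrArg Subtype.val h) u₀
    exact h1 ▸ addOrderOf_dvd_natCard (⟨c, hcS⟩ : S)
  have hzero : (0 : S) ∈ MulAction.fixedPoints P S := fun t => Subtype.ext (funext fun u => rfl)
  obtain ⟨f, hf, hf0⟩ := hP.exists_fixed_point_of_prime_dvd_card_of_fixed_point S hcard hzero
  have hconst : ∀ u, (f : P → k) u = (f : P → k) 1 := fun u => by
    have := congrFun (congrArg Subtype.val (hf u)) u
    show (f : P → k) u = _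
    rw [← this]
    show (f : P → k) (u⁻¹ * u) = _
    rw [inv_mul_cancel]
  obtain ⟨a, ha⟩ := f.2
  have hzeroSum : ∑ u, (f : P → k) u • ρ u v = 0 := by
    rw [← ha]
    show ∑ u, (∑ t, ZMod.castHom dvd_rfl k (a t) * c (t⁻¹ * u)) • ρ u v = 0
    simp only [Finset.sum_smul, mul_smul]
    rw [Finset.sum_comm]
    exact Finset.sum_eq_zero fun t _ => by rw [← Finset.smul_sum, hker, smul_zero]
  simp only [hconst, ← Finset.smul_sum, smul_eq_zero] at hzeroSum
  exact hf0 (Subtype.ext (funext fun u => by
    rw [hconst u, hzeroSum.resolve_right hne]; rfl)).symm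

end CfsgLib.DegreeTools.ValLattice
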